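import Cfsg.Agent.Cit.Nil.RTwo.Def

/-!
# Frames of quaternion groups of order 8: further elementary calculations
-/

set_option autoImplicit false
set_option linter.style.haveILetI false
set_option linter.unusedSectionVars false
set_option maxHeartbeats 400000

namespace Cfsg.Agent.Cit.Nil.RTwo

open Subgroup Cfsg Cit

variable {G : Type*} [Group G]

namespace Q3

variable {K : Subgroup G} {z g h : G} {x : Fin 3 → G}

theorem zcomm (q : Q3 K z x) {k : G} (hk : k ∈ K) : z * k = k * z := by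
  rcases q.cov k hk with rfl | rfl | ⟨i, rfl | rfl⟩
  · simp
  · rfl
  · exact q.zc i
  · rw [mul_assoc, q.zc]

theorem zne (q : Q3 K z x) (k : G) : z * k ≠ k := fun h => q.z1 (mul_eq_right.1 h)

theorem sw (q : Q3 K z x) {i j : Fin 3} (h : i ≠ j) : x i * x j = z * (x j * x i) := by
  rw [q.anti h, mul_assoc]

theorem ne_z_mul (q : Q3 K z x) (i j : Fin 3) : x i ≠ z * x j := by
  intro h1
  have h2 := q.inj (Or.inr h1)
  subst h2
  exact q.zne _ h1.symm

/-- the elements of `K` commuting with `K` -/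
theorem center (q : Q3 K z x) {k : G} (hk : k ∈ K) (h0 : k * x 0 = x 0 * k) (h1 : k * x 1 = x 1 * k) :
    k = 1 ∨ k = z := by
  rcases q.cov k hk with h | h | ⟨i, h⟩
  · exact Or.inl h
  · exact Or.inr h
  exfalso
  have h3 : x i * x 0 = x 0 * x i ∧ x i * x 1 = x 1 * x i := by
    rcases h with rfl | rfl
    · exact ⟨h0, h1⟩
    · constructor
      · rw [← mul_assoc, ← q.zc, mul_assoc, mul_assoc] at h0
        exact mul_left_cancel h0
      · rw [← mul_assoc, ← q.zc, mul_assoc, mul_assoc] at h1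
        exact mul_left_cancel h1
  by_cases hi : i = 0
  · subst hi
    have h4 := q.sw (show (0 : Fin 3) ≠ 1 by decide)
    rw [h3.2] at h4
    exact q.zne _ h4.symm
  · have h4 := q.sw hi
    rw [h3.1] at h4
    exact q.zne _ h4.symm

/-- two elements of `K` which act on `K` in the same way -/
theorem eq_or_of_act (q : Q3 K z x) {k l : G} (hk : k ∈ K) (hl : l ∈ K)
    (h0 : k * x 0 * k⁻¹ = l * x 0 * l⁻¹) (h1 : k * x 1 * k⁻¹ = l * x 1 * l⁻¹) : k = l ∨ k = z * l := by
  have h2 : l⁻¹ * k * x 0 = x 0 * (l⁻¹ * k) := by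
    calc l⁻¹ * k * x 0 = l⁻¹ * (k * x 0 * k⁻¹) * k := by group
      _ = l⁻¹ * (l * x 0 * l⁻¹) * k := by rw [h0]
      _ = _ := by group
  have h3 : l⁻¹ * k * x 1 = x 1 * (l⁻¹ * k) := by
    calc l⁻¹ * k * x 1 = l⁻¹ * (k * x 1 * k⁻¹) * k := by group
      _ = l⁻¹ * (l * x 1 * l⁻¹) * k := by rw [h1]
      _ = _ := by group
  rcases q.center (K.mul_mem (K.inv_mem hl) hk) h2 h3 with h4 | h4
  · left; rw [inv_mul_eq_one] at h4; exact h4.symm
  · right; rw [inv_mul_eq_iff_eq_mul] at h4; rw [h4, q.zcomm hl]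

/-- commuting with `x 0` and `x 1` is commuting with `K` -/
theorem comm_of (q : Q3 K z x) (h0 : g * x 0 = x 0 * g) (h1 : g * x 1 = x 1 * g) {k : G} (hk : k ∈ K) :
    g * k = k * g := by
  have hz : g * z = z * g := by
    rw [← q.sq 0, ← mul_assoc, h0, mul_assoc, h0, mul_assoc]
  have h2 : g * x 2 = x 2 * g := by
    have h3 := q.mul 0
    rw [zero_add, zero_add] at h3
    rw [← h3, ← mul_assoc, h0, mul_assoc, h1, mul_assoc]
  have hx : ∀ i, g * x i = x i * g := by
    intro i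
    fin_cases i
    · exact h0
    · exact h1
    · exact h2
  rcases q.cov k hk with rfl | rfl | ⟨i, rfl | rfl⟩
  · simp
  · exact hz
  · exact hx i
  · rw [← mul_assoc, hz, mul_assoc, hx, mul_assoc]

theorem flip (q : Q3 K z x) : Q3 K z (fun i => if i = 1 then x 1 else z * x i) where
  mem i := by
    split_ifs
    · exact q.mem _
    · exact K.mul_mem q.zmem (q.mem _)
  sq i := by
    split_ifs
    · exact q.sq _
    · rw [mul_assoc, ← mul_assoc (x i), ← q.zc, mul_assoc, q.sq, q.zzx]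
  mul i := by
    fin_cases i
    · have h := q.mul 0
      simp only [Fin.isValue, Fin.zero_eta, zero_add, zero_ne_one, if_false, if_true] at h ⊢
      rw [mul_assoc, h]; rfl
    · have h := q.mul 1
      simp only [Fin.isValue, Fin.mk_one, if_true] at h ⊢
      have e1 : (1 : Fin 3) + 1 = 2 := rfl
      have e2 : (1 : Fin 3) + 2 = 0 := rfl
      rw [e1, e2] at h ⊢
      simp only [Fin.isValue, zero_ne_one, if_false]
      rw [if_neg (by decide), ← mul_assoc, ← q.zc, mul_assoc, h]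
    · have h := q.mul 2
      have e1 : (2 : Fin 3) + 1 = 0 := rfl
      have e2 : (2 : Fin 3) + 2 = 1 := rfl
      change (if (2 : Fin 3) = 1 then x 1 else z * x 2) * (if (2 : Fin 3) + 1 = 1 then x 1 else z * x (2 + 1)) =
        (if (2 : Fin 3) + 2 = 1 then x 1 else z * x (2 + 2))
      rw [e1, e2] at h ⊢
      rw [if_neg (by decide), if_neg (by decide), if_pos rfl, mul_assoc, ← mul_assoc (x 2), ← q.zc, mul_assoc, h,
        q.zzx]
  z2 := q.z2
  z1 := q.z1
  cov k hk := by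
    rcases q.cov k hk with h | h | ⟨i, h⟩
    · exact Or.inl h
    · exact Or.inr (Or.inl h)
    · refine Or.inr (Or.inr ⟨i, ?_⟩)
      by_cases hi : i = 1
      · subst hi; simpa using h
      · rw [if_neg hi, q.zzx]
        exact h.symm

/-! ### Rotations by a quarter -/

/-- `g` normalises `K` and `g²` acts on `K` as `x 0` -/
theorem quarter (q : Q3 K z x) (hg : ∀ k ∈ K, g * k * g⁻¹ ∈ K)
    (h2 : ∀ k ∈ K, g * (g * k * g⁻¹) * g⁻¹ = x 0 * k * (x 0)⁻¹) :
    g * x 0 * g⁻¹ = x 0 ∧ (g * x 1 * g⁻¹ = x 2 ∨ g * x 1 * g⁻¹ = z * x 2) := by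
  have hz : g * z * g⁻¹ = z := by
    -- `z` is the only involution of `K`
    have h3 := hg z q.zmem
    have h4 : (g * z * g⁻¹) * (g * z * g⁻¹) = 1 := by
      have : (g * z * g⁻¹) * (g * z * g⁻¹) = g * (z * z) * g⁻¹ := by group
      rw [this, q.z2]; group
    have h5 : g * z * g⁻¹ ≠ 1 := by
      intro h6
      rw [mul_inv_eq_one, mul_eq_left] at h6
      exact q.z1 h6
    rcases q.cov _ h3 with h | h | ⟨i, h | h⟩
    · exact absurd h h5
    · exact h
    · rw [h, q.sq] at h4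
      exact absurd h4 q.z1
    · rw [h, mul_assoc, ← mul_assoc (x i), ← q.zc, mul_assoc, q.sq, q.zzx] at h4
      exact absurd h4 q.z1
  have hmul : ∀ k l : G, g * (k * l) * g⁻¹ = (g * k * g⁻¹) * (g * l * g⁻¹) := fun k l => by group
  have h01 : x 0 * x 1 = x 2 := by simpa using q.mul 0
  have h02 : x 0 * x 2 = z * x 1 := by simpa using q.mul2' 0
  have hsq : g * (g * x 1 * g⁻¹) * g⁻¹ = z * x 1 := by
    rw [h2 _ (q.mem 1)]
    exact q.conj_ne (by decide)
  -- `g` and `g²` commute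
  have hy : g * x 0 * g⁻¹ = x 0 ∨ g * x 0 * g⁻¹ = z * x 0 := by
    have key : ∀ k ∈ K, (g * x 0 * g⁻¹) * (g * k * g⁻¹) * (g * x 0 * g⁻¹)⁻¹ = x 0 * (g * k * g⁻¹) * (x 0)⁻¹ := by
      intro k hk
      rw [← h2 _ (hg k hk), h2 k hk]
      group
    have hall : ∀ k ∈ K, (g * x 0 * g⁻¹) * k * (g * x 0 * g⁻¹)⁻¹ = x 0 * k * (x 0)⁻¹ := by
      intro k hk
      -- `k = g k' g⁻¹`
      have h5 : x 0 * (g * (g * k * g⁻¹) * g⁻¹) * (x 0)⁻¹ ∈ K := by
        exact K.mul_mem (K.mul_mem (q.mem 0) (hg _ (hg _ hk))) (K.inv_mem (q.mem 0))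
      have h6 : g⁻¹ * k * g ∈ K := by
        have h7 : ∀ k ∈ K, k = g * (g * ((x 0)⁻¹ * k * x 0) * g⁻¹) * g⁻¹ := by
          intro k hk
          rw [h2 _ (K.mul_mem (K.mul_mem (K.inv_mem (q.mem 0)) hk) (q.mem 0))]
          group
        rw [h7 k hk]
        have h8 := hg _ (K.mul_mem (K.mul_mem (K.inv_mem (q.mem 0)) hk) (q.mem 0))
        have h9 : g⁻¹ * (g * (g * ((x 0)⁻¹ * k * x 0) * g⁻¹) * g⁻¹) * g = g * ((x 0)⁻¹ * k * x 0) * g⁻¹ := by group
        rwa [h9]
      have h7 := key _ h6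
      have h8 : g * (g⁻¹ * k * g) * g⁻¹ = k := by group
      rwa [h8] at h7
    exact q.eq_or_of_act (hg _ (q.mem 0)) (q.mem 0) (hall _ (q.mem 0)) (hall _ (q.mem 1))
  have hu := q.cov _ (hg _ (q.mem 1))
  have hne : ¬ (g * x 1 * g⁻¹ = x 1) ∧ ¬ (g * x 1 * g⁻¹ = z * x 1) := by
    constructor
    · intro h
      rw [h, h] at hsq
      exact q.zne _ hsq.symm
    · intro h
      rw [h, hmul, hz, h, q.zzx] at hsq
      exact q.zne _ hsq.symm
  have hsq1 : (g * x 1 * g⁻¹) * (g * x 1 * g⁻¹) = z := by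
    rw [← hmul, q.sq, hz]
  have hx0 : g * x 1 * g⁻¹ ≠ x 0 ∧ g * x 1 * g⁻¹ ≠ z * x 0 := by
    -- otherwise `g x 1 g⁻¹ = ± g x 0 g⁻¹`
    constructor
    · intro h
      rcases hy with hy | hy
      · rw [← hy] at h
        have := mul_left_cancel (mul_right_cancel h)
        exact q.ne_of_ne (by decide) this
      · rw [← q.zzx (x 0), ← hy] at h
        rw [show z * (g * x 0 * g⁻¹) = (g * z * g⁻¹) * (g * x 0 * g⁻¹) by rw [hz], ← hmul] at h
        have := mul_left_cancel (mul_right_cancel h)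
        exact q.ne_z_mul 1 0 this
    · intro h
      rcases hy with hy | hy
      · rw [← hy] at h
        rw [show z * (g * x 0 * g⁻¹) = (g * z * g⁻¹) * (g * x 0 * g⁻¹) by rw [hz], ← hmul] at h
        have := mul_left_cancel (mul_right_cancel h)
        exact q.ne_z_mul 1 0 this
      · rw [← hy] at h
        have := mul_left_cancel (mul_right_cancel h)
        exact q.ne_of_ne (by decide) this
  have hu2 : g * x 1 * g⁻¹ = x 2 ∨ g * x 1 * g⁻¹ = z * x 2 := by
    rcases hu with h | h | ⟨i, h⟩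
    · rw [h, mul_one] at hsq1
      exact absurd hsq1.symm q.z1
    · rw [h, q.z2] at hsq1
      exact absurd hsq1.symm q.z1
    · fin_cases i
      · rcases h with h | h
        · exact absurd h hx0.1
        · exact absurd h hx0.2
      · rcases h with h | h
        · exact absurd h hne.1
        · exact absurd h hne.2
      · exact h
  refine ⟨?_, hu2⟩
  rcases hy with hy | hy
  · exact hy
  exfalso
  have h2' : g * x 2 * g⁻¹ = (g * x 0 * g⁻¹) * (g * x 1 * g⁻¹) := by rw [← hmul, h01]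
  rcases hu2 with h | h
  · rw [h, h2', hy, h, mul_assoc, h02, q.zzx] at hsq
    exact q.zne _ hsq.symm
  · rw [h, hmul, hz, h2', hy, h, mul_assoc, ← mul_assoc (x 0), ← q.zc, mul_assoc, h02, q.zzx, q.zzx] at hsq
    exact q.zne _ hsq.symm

end Q3

end Cfsg.Agent.Cit.Nil.RTwo
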