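import Cfsg.Agent.Cit.Nil.RTwo.TLine

/-!
# The case (A), `k = 1` (section 9 of the blueprint): all lines in `R_z`, three directions

`AW Om` : the type I neighbours of `z` are `± a i b i` (`i : Fin 3`) in a suitable frame.
-/

set_option autoImplicit false
set_option linter.style.haveILetI false
set_option linter.unusedSectionVars false
set_option maxHeartbeats 400000

namespace Cfsg.Agent.Cit.Nil.RTwo

open Subgroup Cfsg Cit

variable {G : Type*} [Group G]

/-- diagonal frames -/
structure Dg (Om : Set (Subgroup G)) (z : G) (K1 K2 : Subgroup G) (a b : Fin 3 → G) : Prop where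
  fr : Frame Om z K1 K2 a b
  ti : ∀ t, TI Om z t ↔ ∃ i, t = a i * b i ∨ t = z * (a i * b i)

/-- the world (A), `k = 1` -/
structure AW (Om : Set (Subgroup G)) : Prop where
  w : W2 Om
  line : HasLine Om
  cls : ∀ z t, InZ Om z → InZ Om t → ∃ g, g * z * g⁻¹ = t
  dg : ∀ z, InZ Om z → ∃ K1 K2 a b, Dg Om z K1 K2 a b
  d3 : ∀ z, InZ Om z → ∃ d : G, d * z = z * d ∧ (∃ m, Odd m ∧ d ^ m = 1) ∧ (∀ x ∈ CX Om z, d * x = x * d) ∧
    ∀ s, TI Om z s → d * s * d⁻¹ ≠ s ∧ d * s * d⁻¹ ≠ z * s

/-- `A_z` -/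
def AS (Om : Set (Subgroup G)) (z : G) : Subgroup G := closure {x | x = z ∨ TI Om z x}

section

variable [Finite G] {Om : Set (Subgroup G)} {K K1 K2 L M L1 L2 : Subgroup G} {z t u v g r s s' x y w c c' : G}
  {a b p q : Fin 3 → G}

theorem AS_conj (h : W2 Om) (g : G) : cj g (AS Om z) = AS Om (g * z * g⁻¹) := by
  have key : ∀ (g z : G), cj g (AS Om z) ≤ AS Om (g * z * g⁻¹) := by
    intro g z
    have h1 : AS Om z ≤ (AS Om (g * z * g⁻¹)).comap (MulAut.conj g).toMonoidHom := by
      rw [AS, closure_le]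
      rintro x (rfl | hx)
      · exact subset_closure (Or.inl rfl)
      · exact subset_closure (Or.inr (hx.conj h g))
    rintro _ ⟨x, hx, rfl⟩
    exact h1 hx
  refine le_antisymm (key g z) ?_
  have h1 := cj_mono g (key g⁻¹ (g * z * g⁻¹))
  rw [cj_cj_inv] at h1
  have h2 : g⁻¹ * (g * z * g⁻¹) * g⁻¹⁻¹ = z := by group
  rwa [h2] at h1

theorem AS_conj_comm (h : W2 Om) (hg : g * z = z * g) : cj g (AS Om z) = AS Om z := by
  rw [AS_conj h, hg, mul_inv_cancel_right]

theorem z_mem_AS : z ∈ AS Om z := subset_closure (Or.inl rfl)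

theorem TI.mem_AS (hti : TI Om z s) : s ∈ AS Om z := subset_closure (Or.inr hti)

/-- elements `k l` of `R_z` (`k ∈ K1`, `l ∈ K2`) such that `s` inverts `k` and `l` -/
theorem Cf.sw_iff_of_inv (C : Cf Om z s K1 K2 L1 L2 a b p q) (h : W2 Om) {k l : G} (hk : k ∈ K1) (hl : l ∈ K2)
    (h1 : s * k * s⁻¹ = z * k) (h2 : s * l * s⁻¹ = z * l) : Sw Om s (k * l) ↔ PTwo Om z s := by
  have key : ∀ {K : Subgroup G} {x : Fin 3 → G}, Q3 K z x → s * x 1 * s⁻¹ = z * x 1 → ∀ k ∈ K, s * k * s⁻¹ = z * k →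
      (x 1)⁻¹ * k * s = s * ((x 1)⁻¹ * k) := by
    intro K x Q hx k hk h1
    have h2 : s * (x 1)⁻¹ * s⁻¹ = z * (x 1)⁻¹ := by
      have : s * (x 1)⁻¹ * s⁻¹ = (s * x 1 * s⁻¹)⁻¹ := by group
      rw [this, hx, mul_inv_rev, Q.zinv, Q.zcomm (inv_mem (Q.mem 1))]
    have : s * ((x 1)⁻¹ * k) * s⁻¹ = (x 1)⁻¹ * k := by
      calc s * ((x 1)⁻¹ * k) * s⁻¹ = (s * (x 1)⁻¹ * s⁻¹) * (s * k * s⁻¹) := by group
        _ = z * (x 1)⁻¹ * (z * k) := by rw [h2, h1]
        _ = z * ((x 1)⁻¹ * z) * k := by group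
        _ = z * (z * (x 1)⁻¹) * k := by rw [Q.zcomm (inv_mem (Q.mem 1))]
        _ = (z * z) * ((x 1)⁻¹ * k) := by group
        _ = _ := by rw [Q.z2, one_mul]
    rw [mul_inv_eq_iff_eq_mul] at this
    exact this.symm
  have f1 := (C.fx_of_pow h (mul_mem (inv_mem (C.qa.mem 1)) hk) (key C.qa C.ta1 k hk h1)).1
  have f2 := (C.swk.fx_of_pow h (mul_mem (inv_mem (C.qb.mem 1)) hl) (key C.qb C.swk.ta1 l hl h2)).1
  have e : k * l = (a 1 * b 1) * (((a 1)⁻¹ * k) * ((b 1)⁻¹ * l)) := by
    have e1 := C.k1.comm C.k2 h C.kne (mul_mem (inv_mem (C.qa.mem 1)) hk) (C.qb.mem 1)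
    calc k * l = a 1 * (((a 1)⁻¹ * k) * b 1) * ((b 1)⁻¹ * l) := by group
      _ = a 1 * (b 1 * ((a 1)⁻¹ * k)) * ((b 1)⁻¹ * l) := by rw [e1]
      _ = _ := by group
  rw [C.pTwo_iff h, e]
  constructor
  · intro hs M hM h3
    apply hs M hM
    rw [cj_mul, (f1.mul f2) M hM, h3]
  · intro hs
    exact hs.mul_fx (f1.mul f2)

namespace Dg

variable (D : Dg Om z K1 K2 a b) (h : W2 Om)

include D

theorem rot (m : Fin 3) : Dg Om z K1 K2 (fun i => a (i + m)) (fun i => b (i + m)) where
  fr := ⟨D.fr.k1, D.fr.k2, D.fr.ne, D.fr.qa.rot m, D.fr.qb.rot m⟩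
  ti t := by
    rw [D.ti]
    constructor
    · rintro ⟨i, hi⟩
      exact ⟨i - m, by rwa [sub_add_cancel]⟩
    · rintro ⟨i, hi⟩
      exact ⟨i + m, hi⟩

theorem zz (y : G) : z * (z * y) = y := D.fr.qa.zzx y

include h

theorem ab (i j : Fin 3) : a i * b j = b j * a i := D.fr.ab h i j

theorem w_sq (i : Fin 3) : a i * b i * (a i * b i) = 1 := by
  calc a i * b i * (a i * b i) = a i * (b i * a i) * b i := by group
    _ = (a i * a i) * (b i * b i) := by rw [← D.ab h]; group
    _ = 1 := by rw [D.fr.qa.sq, D.fr.qb.sq, D.fr.qa.z2]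

theorem w_mul (i : Fin 3) : a i * b i * (a (i + 1) * b (i + 1)) = a (i + 2) * b (i + 2) := by
  calc a i * b i * (a (i + 1) * b (i + 1)) = a i * (b i * a (i + 1)) * b (i + 1) := by group
    _ = (a i * a (i + 1)) * (b i * b (i + 1)) := by rw [← D.ab h]; group
    _ = _ := by rw [D.fr.qa.mul, D.fr.qb.mul]

theorem w_mul' (i : Fin 3) : a (i + 1) * b (i + 1) * (a i * b i) = a (i + 2) * b (i + 2) := by
  calc a (i + 1) * b (i + 1) * (a i * b i) = a (i + 1) * (b (i + 1) * a i) * b i := by group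
    _ = (a (i + 1) * a i) * (b (i + 1) * b i) := by rw [← D.ab h]; group
    _ = z * a (i + 2) * (z * b (i + 2)) := by rw [D.fr.qa.mul', D.fr.qb.mul']
    _ = z * (a (i + 2) * z) * b (i + 2) := by group
    _ = z * (z * (a (i + 2) * b (i + 2))) := by rw [← D.fr.qa.zc]; group
    _ = _ := D.zz _

theorem w_z (i : Fin 3) : a i * b i * z = z * (a i * b i) := by
  rw [mul_assoc, ← D.fr.qb.zc, ← mul_assoc, ← D.fr.qa.zc, mul_assoc]

omit h in
/-- `x ∈ A_z` in coordinates -/
theorem wmem (x : G) : (x = 1 ∨ x = z ∨ TI Om z x) ↔ (x = 1 ∨ x = z ∨ ∃ i, x = a i * b i ∨ x = z * (a i * b i)) := by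
  rw [D.ti]

/-- the members of `A_z` -/
theorem mem_AS {x : G} : x ∈ AS Om z ↔ x = 1 ∨ x = z ∨ TI Om z x := by
  have hz2 := D.fr.qa.z2
  constructor
  · intro hx
    rw [D.wmem]
    -- the set is a subgroup
    let E : Subgroup G :=
      { carrier := {x | x = 1 ∨ x = z ∨ ∃ i, x = a i * b i ∨ x = z * (a i * b i)}
        one_mem' := Or.inl rfl
        mul_mem' := by
          have key : ∀ i j, (a i * b i * (a j * b j) = 1) ∨ ∃ m, a i * b i * (a j * b j) = a m * b m := by
            intro i j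
            rcases i_cases3 i j with rfl | rfl | rfl
            · left; exact D.w_sq h _
            · right; exact ⟨_, D.w_mul h i⟩
            · right
              refine ⟨i + 1, ?_⟩
              have h1 := D.w_mul' h (i + 2)
              rw [i21, i22] at h1
              exact h1
          have kz : ∀ i, a i * b i * z = z * (a i * b i) := D.w_z h
          rintro x y (hx | hx | ⟨i, hx | hx⟩) (hy | hy | ⟨j, hy | hy⟩) <;> rw [hx, hy]
          · left; simp
          · right; left; simp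
          · right; right; exact ⟨j, Or.inl (by simp)⟩
          · right; right; exact ⟨j, Or.inr (by simp)⟩
          · right; left; simp
          · left; exact hz2
          · right; right; exact ⟨j, Or.inr rfl⟩
          · right; right; exact ⟨j, Or.inl (D.zz _)⟩
          · right; right; exact ⟨i, Or.inl (by simp)⟩
          · right; right; exact ⟨i, Or.inr (kz i)⟩
          · rcases key i j with h1 | ⟨m, h1⟩
            · left; exact h1
            · right; right; exact ⟨m, Or.inl h1⟩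
          · have e : a i * b i * (z * (a j * b j)) = z * (a i * b i * (a j * b j)) := by
              rw [← mul_assoc, kz, mul_assoc]
            rcases key i j with h1 | ⟨m, h1⟩
            · right; left; show _ = _; rw [e, h1, mul_one]
            · right; right; exact ⟨m, Or.inr (by rw [e, h1])⟩
          · right; right; exact ⟨i, Or.inr (by simp)⟩
          · right; right
            refine ⟨i, Or.inl ?_⟩
            rw [mul_assoc, kz, D.zz]
          · rcases key i j with h1 | ⟨m, h1⟩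
            · right; left; show _ = _; rw [mul_assoc, h1, mul_one]
            · right; right; exact ⟨m, Or.inr (by rw [mul_assoc, h1])⟩
          · have e : z * (a i * b i) * (z * (a j * b j)) = a i * b i * (a j * b j) := by
              calc z * (a i * b i) * (z * (a j * b j)) = z * (a i * b i * z) * (a j * b j) := by group
                _ = z * (z * (a i * b i)) * (a j * b j) := by rw [kz]
                _ = _ := by rw [D.zz]
            rcases key i j with h1 | ⟨m, h1⟩
            · left; show _ = _; rw [e, h1]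
            · right; right; exact ⟨m, Or.inl (by rw [e, h1])⟩
        inv_mem' := by
          rintro x (rfl | rfl | ⟨i, rfl | rfl⟩)
          · left; simp
          · right; left; exact D.fr.qa.zinv
          · right; right; exact ⟨i, Or.inl (inv_eq_of_mul_eq_one_right (D.w_sq h i))⟩
          · right; right
            refine ⟨i, Or.inr (inv_eq_of_mul_eq_one_right ?_)⟩
            calc z * (a i * b i) * (z * (a i * b i)) = z * (a i * b i * z) * (a i * b i) := by group
              _ = z * (z * (a i * b i)) * (a i * b i) := by rw [D.w_z h]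
              _ = 1 := by rw [D.zz, D.w_sq h] }
    have h1 : AS Om z ≤ E := by
      rw [AS, closure_le]
      rintro y (rfl | hy)
      · exact Or.inr (Or.inl rfl)
      · exact Or.inr (Or.inr ((D.ti y).1 hy))
    exact h1 hx
  · rintro (rfl | rfl | h1)
    · exact one_mem _
    · exact z_mem_AS
    · exact h1.mem_AS

/-- `A_z` is commutative -/
theorem AS_comm {x y : G} (hx : x ∈ AS Om z) (hy : y ∈ AS Om z) : x * y = y * x := by
  have key : ∀ i j, a i * b i * (a j * b j) = a j * b j * (a i * b i) := by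
    intro i j
    rcases i_cases3 i j with rfl | rfl | rfl
    · rfl
    · rw [D.w_mul h, D.w_mul' h]
    · have h1 := D.w_mul h (i + 2)
      have h2 := D.w_mul' h (i + 2)
      rw [i21, i22] at h1 h2
      rw [h1, h2]
  rw [D.mem_AS h, D.wmem] at hx hy
  have kz := D.w_z h
  rcases hx with hx | hx | ⟨i, hx | hx⟩ <;> rcases hy with hy | hy | ⟨j, hy | hy⟩ <;> rw [hx, hy]
  · simp
  · simp
  · simp
  · simp
  · exact (kz j).symm
  · calc z * (z * (a j * b j)) = z * (a j * b j * z) := by rw [kz]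
      _ = _ := by group
  · simp
  · exact kz i
  · exact key i j
  · calc a i * b i * (z * (a j * b j)) = a i * b i * z * (a j * b j) := by group
      _ = z * (a i * b i) * (a j * b j) := by rw [kz]
      _ = z * (a i * b i * (a j * b j)) := by group
      _ = z * (a j * b j * (a i * b i)) := by rw [key]
      _ = _ := by group
  · simp
  · calc z * (a i * b i) * z = z * (a i * b i * z) := by group
      _ = _ := by rw [kz]
  · calc z * (a i * b i) * (a j * b j) = z * (a i * b i * (a j * b j)) := by group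
      _ = z * (a j * b j * (a i * b i)) := by rw [key]
      _ = (z * (a j * b j)) * (a i * b i) := by group
      _ = a j * b j * z * (a i * b i) := by rw [kz]
      _ = _ := by group
  · calc z * (a i * b i) * (z * (a j * b j)) = z * (a i * b i * z) * (a j * b j) := by group
      _ = z * (z * (a i * b i)) * (a j * b j) := by rw [kz]
      _ = a i * b i * (a j * b j) := by rw [D.zz]
      _ = a j * b j * (a i * b i) := key i j
      _ = z * (z * (a j * b j)) * (a i * b i) := by rw [D.zz]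
      _ = z * (a j * b j * z) * (a i * b i) := by rw [kz]
      _ = _ := by group

theorem swap : Dg Om z K2 K1 b a where
  fr := D.fr.swap
  ti t := by
    rw [D.ti]
    constructor <;> rintro ⟨i, hi⟩ <;> exact ⟨i, by rwa [D.ab h] at *⟩

/-- the action of `a i b i` on `a j` -/
theorem conj_ne {i j : Fin 3} (hij : i ≠ j) : a i * b i * a j * (a i * b i)⁻¹ = z * a j := by
  calc a i * b i * a j * (a i * b i)⁻¹ = a i * (b i * a j) * (b i)⁻¹ * (a i)⁻¹ := by group
    _ = a i * (a j * b i) * (b i)⁻¹ * (a i)⁻¹ := by rw [D.ab h]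
    _ = a i * a j * (a i)⁻¹ := by group
    _ = _ := D.fr.qa.conj_ne hij

theorem conj_ne' {i j : Fin 3} (hij : i ≠ j) (hs : s = a i * b i ∨ s = z * (a i * b i)) :
    s * a j * s⁻¹ = z * a j ∧ s * b j * s⁻¹ = z * b j := by
  have h1 : a i * b i * a j * (a i * b i)⁻¹ = z * a j := D.conj_ne h hij
  have h2 : a i * b i * b j * (a i * b i)⁻¹ = z * b j := by rw [D.ab h]; exact (D.swap h).conj_ne h hij
  have hz1 : z * (z * a j) * z⁻¹ = z * a j := by
    rw [D.zz, D.fr.qa.zinv, D.fr.qa.zc]
  have hz2 : z * (z * b j) * z⁻¹ = z * b j := by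
    rw [D.zz, D.fr.qa.zinv, D.fr.qb.zc]
  rcases hs with rfl | rfl
  · exact ⟨h1, h2⟩
  · constructor
    · calc z * (a i * b i) * a j * (z * (a i * b i))⁻¹ = z * (a i * b i * a j * (a i * b i)⁻¹) * z⁻¹ := by group
        _ = _ := by rw [h1, hz1]
    · calc z * (a i * b i) * b j * (z * (a i * b i))⁻¹ = z * (a i * b i * b j * (a i * b i)⁻¹) * z⁻¹ := by group
        _ = _ := by rw [h2, hz2]

end Dg

namespace AW

variable (W : AW Om)

include W

theorem mem_AS (hz : InZ Om z) {x : G} : x ∈ AS Om z ↔ x = 1 ∨ x = z ∨ TI Om z x := by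
  obtain ⟨K1, K2, a, b, D⟩ := W.dg z hz
  exact D.mem_AS W.w

theorem AS_comm (hz : InZ Om z) {x y : G} (hx : x ∈ AS Om z) (hy : y ∈ AS Om z) : x * y = y * x := by
  obtain ⟨K1, K2, a, b, D⟩ := W.dg z hz
  exact D.AS_comm W.w hx hy

theorem inZ_of_AS (hz : InZ Om z) {x : G} (hx : x ∈ AS Om z) (h1 : x ≠ 1) : InZ Om x := by
  rcases (W.mem_AS hz).1 hx with h2 | h2 | h2
  · exact absurd h2 h1
  · rw [h2]; exact hz
  · exact h2.2.1

theorem sq_of_AS (hz : InZ Om z) {x : G} (hx : x ∈ AS Om z) : x * x = 1 := by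
  by_cases h1 : x = 1
  · rw [h1, one_mul]
  · exact (W.inZ_of_AS hz hx h1).z2 W.w

theorem ti_comm (h1 : TI Om z s) (h2 : TI Om z s') : s * s' = s' * s := W.AS_comm h1.1 h1.mem_AS h2.mem_AS

/-- a diagonal frame for given members -/
theorem exists_dg (hK1 : Mem Om z K1) (hK2 : Mem Om z K2) (hne : K1 ≠ K2) : ∃ a b, Dg Om z K1 K2 a b := by
  obtain ⟨M1, M2, a, b, D⟩ := W.dg z hK1.inZ
  rcases D.fr.k1.cases D.fr.k2 W.w D.fr.ne hK1 with e1 | e1 <;> rcases D.fr.k1.cases D.fr.k2 W.w D.fr.ne hK2 with e2 | e2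
  · exact absurd (e1.trans e2.symm) hne
  · subst e1; subst e2; exact ⟨a, b, D⟩
  · subst e1; subst e2; exact ⟨b, a, D.swap W.w⟩
  · exact absurd (e1.trans e2.symm) hne

/-- (A.5): points on different lines of `z` -/
theorem sw_iff (h1 : TI Om z s) (h2 : TI Om z s') (hne : s' ≠ s) (hne' : s' ≠ z * s) : Sw Om s s' ↔ PTwo Om z s := by
  have h := W.w
  obtain ⟨K1, K2, L1, L2, a', b', p, q, C⟩ := h1.exists_cf h
  obtain ⟨a, b, D⟩ := W.exists_dg C.k1 C.k2 C.kne
  obtain ⟨i, hi⟩ := (D.ti s).1 h1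
  obtain ⟨j, hj⟩ := (D.ti s').1 h2
  have hij : i ≠ j := by
    rintro rfl
    rcases hi with hi | hi <;> rcases hj with hj | hj
    · exact hne (hj.trans hi.symm)
    · exact hne' (by rw [hj, hi])
    · exact hne' (by rw [hj, hi, D.zz])
    · exact hne (hj.trans hi.symm)
  obtain ⟨e1, e2⟩ := D.conj_ne' h hij hi
  have e3 := C.sw_iff_of_inv h (D.fr.qa.mem j) (D.fr.qb.mem j) e1 e2
  rcases hj with hj | hj
  · rw [hj, e3]
  · rw [hj, C.sw_iff_of_fx h (C.fx_z h), e3]

end AW

end

end Cfsg.Agent.Cit.Nil.RTwo
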