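import Cfsg.Agent.Cit.Nil.RTwo.TPair
import Cfsg.Agent.Cit.CorTwo

/-!
# The transfer lemma (9.0) of `blueprints/CIT-6b-r2m1-helper274.md`

`transfer_stable` : the transfer of a homomorphism `φ : S → A` which is constant on the sets of conjugate elements
of `S` is `φ ^ |G : S|` on `S`.

`W2.exists_central` : every Sylow 2-subgroup centralises some `z ∈ Z`.

`exists_eps` : if commuting involutions `z, t ∈ Z` give the same sign (`Sw`) to the 2-elements of `C(z, t)`, then this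
sign is a homomorphism `G → {±1}`.

uses: `W2` only.
-/

set_option autoImplicit false
set_option linter.style.haveILetI false
set_option linter.unusedSectionVars false

namespace Cfsg.Agent.Cit.Nil.RTwo

open Subgroup Cfsg Cit

variable {G : Type*} [Group G]

section general

open MulAction

theorem transfer_stable [Finite G] {S : Subgroup G} {A : Type*} [CommGroup A] (φ : S →* A)
    (hst : ∀ (x g : G) (hx : x ∈ S) (hg : g⁻¹ * x * g ∈ S), φ ⟨_, hg⟩ = φ ⟨x, hx⟩) {x : G} (hx : x ∈ S) :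
    MonoidHom.transfer φ x = φ ⟨x, hx⟩ ^ S.index := by
  classical
  have : Fintype (G ⧸ S) := Fintype.ofFinite _
  have : Fintype (Quotient (orbitRel (zpowers x) (G ⧸ S))) := Fintype.ofFinite _
  rw [MonoidHom.transfer_eq_prod_quotient_orbitRel_zpowers_quot]
  have aux : ∀ (m : ℕ) (g : G) (h : g⁻¹ * x ^ m * g ∈ S), φ ⟨_, h⟩ = φ ⟨x, hx⟩ ^ m := by
    intro m g h
    rw [hst (x ^ m) g (S.pow_mem hx m) h, ← map_pow]
    rfl
  rw [Finset.prod_congr rfl (fun q _ => aux _ _ _), Finset.prod_pow_eq_pow_sum, ← index_eq_sum_minimalPeriod S x]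

/-- an odd power of `g` is a 2-element -/
theorem exists_odd_pow [Finite G] (g : G) : ∃ m, Odd m ∧ IsPGroup 2 (zpowers (g ^ m)) := by
  obtain ⟨k, m, hm, hk⟩ := Nat.exists_eq_two_pow_mul_odd (orderOf_pos g).ne'
  refine ⟨m, hm, ?_⟩
  have h1 : (g ^ m) ^ 2 ^ k = 1 := by
    rw [← pow_mul, mul_comm, ← hk, pow_orderOf_eq_one]
  intro ⟨y, hy⟩
  obtain ⟨i, rfl⟩ := mem_zpowers_iff.1 hy
  refine ⟨k, Subtype.ext ?_⟩
  change ((g ^ m) ^ i) ^ 2 ^ k = 1
  rw [← zpow_natCast, ← zpow_mul, mul_comm, zpow_mul, zpow_natCast, h1, one_zpow]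

theorem isPGroup_closure_pair [Finite G] {s t : G} (hs : IsPGroup 2 (zpowers s)) (ht : IsPGroup 2 (zpowers t))
    (hst : s * t = t * s) : IsPGroup 2 (zpowers s ⊔ zpowers t : Subgroup G) := by
  haveI : Fact (Nat.Prime 2) := ⟨Nat.prime_two⟩
  refine IsPGroup.to_sup_of_normal_right' hs ht ?_
  rw [zpowers_le, mem_normalizer_iff]
  intro x
  have key : ∀ x ∈ zpowers t, s * x * s⁻¹ = x := by
    intro x hx
    obtain ⟨i, rfl⟩ := mem_zpowers_iff.1 hx
    have h1 : Commute s (t ^ i) := (show Commute s t from hst).zpow_right i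
    rw [h1.eq, mul_inv_cancel_right]
  constructor
  · intro hx
    rw [key x hx]; exact hx
  · intro hx
    have h1 : s⁻¹ * (s * x * s⁻¹) * s = x := by group
    have h2 := key _ hx
    have h3 : s * x * s⁻¹ = x := by
      have h4 : s * (s * x * s⁻¹) * s⁻¹ = s * x * s⁻¹ := h2
      calc s * x * s⁻¹ = s⁻¹ * (s * (s * x * s⁻¹) * s⁻¹) * s := by group
        _ = s⁻¹ * (s * x * s⁻¹) * s := by rw [h4]
        _ = x := h1
    rw [h3] at hx; exact hx

end general

section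

variable [Finite G] {Om : Set (Subgroup G)} {z t s g : G} {K : Subgroup G}

theorem InZ.isPGroup (hz : InZ Om z) (h : W2 Om) : IsPGroup 2 (zpowers z) := by
  intro ⟨y, hy⟩
  obtain ⟨i, rfl⟩ := mem_zpowers_iff.1 hy
  refine ⟨1, Subtype.ext ?_⟩
  change (z ^ i) ^ 2 ^ 1 = 1
  rw [pow_one, ← zpow_natCast, ← zpow_mul, mul_comm, zpow_mul, zpow_natCast, pow_two, hz.z2 h, one_zpow]

/-- every Sylow 2-subgroup centralises some `z ∈ Z` -/
theorem W2.exists_central (h : W2 Om) (hne : Om.Nonempty) (S : Sylow 2 G) :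
    ∃ z, InZ Om z ∧ ∀ s ∈ (S : Subgroup G), s * z = z * s := by
  obtain ⟨K, hK⟩ := h.hyp.OmS_nonempty S hne
  have hp := h.isPGroup hK.1
  have hKS : K ≤ S := by
    have h1 := syl_inf S.isPGroup' hK
    have h3 : K ⊓ (S : Subgroup G) = K := h1.eq_of_le inf_le_left le_rfl hp
    rw [← h3]; exact inf_le_right
  refine ⟨zz K, ⟨K, hK.1, rfl⟩, fun s hs => ?_⟩
  have hsK : cj s K ∈ OmS Om (S : Subgroup G) := cj_mem_OmS' h.hyp.conj (le_normalizer hs) hK
  have h2 : zz (cj s K) = zz K := by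
    by_cases h3 : cj s K = K
    · rw [h3]
    · refine h.one _ hsK.1 _ hK.1 fun k hk l hl => ?_
      refine h.hyp.comm S.isPGroup' hsK hK h3 ⟨hk, ?_⟩ ⟨hl, hKS hl⟩
      have h5 : k ∈ cj s (S : Subgroup G) := cj_mono s hKS hk
      have h6 : cj s (S : Subgroup G) = S := mem_normalizer_iff_cj.1 (le_normalizer hs)
      rwa [h6] at h5
  rw [h.hyp.zz_cj hK.1] at h2
  rw [← mul_inv_eq_iff_eq_mul]; exact h2

/-- a 2-subgroup centralises some `z ∈ Z`, and this `z` lies in a Sylow group over it -/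
theorem W2.exists_central' (h : W2 Om) (hne : Om.Nonempty) {P : Subgroup G} (hP : IsPGroup 2 P) :
    ∃ z, InZ Om z ∧ ∀ s ∈ P, s * z = z * s := by
  haveI : Fact (Nat.Prime 2) := ⟨Nat.prime_two⟩
  obtain ⟨S, hS⟩ := hP.exists_le_sylow
  obtain ⟨z, hz, h1⟩ := h.exists_central hne S
  exact ⟨z, hz, fun s hs => h1 s (hS hs)⟩

theorem sw_iff_conj (h : W2 Om) (k : G) : Sw Om (k * z * k⁻¹) (k * g * k⁻¹) ↔ Sw Om z g := by
  refine ⟨fun h1 => ?_, fun h1 => h1.conj h k⟩
  have h2 := h1.conj h k⁻¹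
  have e1 : k⁻¹ * (k * z * k⁻¹) * k⁻¹⁻¹ = z := by group
  have e2 : k⁻¹ * (k * g * k⁻¹) * k⁻¹⁻¹ = g := by group
  rwa [e1, e2] at h2

theorem sw_pow_odd (h : W2 Om) (hz : InZ Om z) (hg : g * z = z * g) (hs : Sw Om z g) {m : ℕ} (hm : Odd m) :
    Sw Om z (g ^ m) := by
  obtain ⟨k, rfl⟩ := hm
  have hc : ∀ n : ℕ, g ^ n * z = z * g ^ n := fun n => (show Commute g z from hg).pow_left n
  have h1 : Fx Om z (g ^ (2 * k)) := by
    rw [pow_mul, pow_two]
    have h2 : Fx Om z (g * g) := Sw.mul h hs hs hg hg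
    intro M hM
    have h3 : ∀ n : ℕ, cj ((g * g) ^ n) M = M := by
      intro n
      induction n with
      | zero => rw [pow_zero, cj_one]
      | succ n ih => rw [pow_succ, cj_mul, h2 M hM, ih]
    exact h3 k
  rw [pow_succ]
  exact Fx.mul_sw h1 hs

/-- the condition of (9.0) -/
def EqEps (Om : Set (Subgroup G)) : Prop :=
  ∀ z t s, InZ Om z → InZ Om t → z * t = t * z → s * z = z * s → s * t = t * s → IsPGroup 2 (zpowers s) →
    (Sw Om z s ↔ Sw Om t s)

/-- fusion -/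
theorem eps_fusion (h : W2 Om) (he : EqEps Om) (hz : InZ Om z) (ht : InZ Om t) (hsz : s * z = z * s)
    (hst : s * t = t * s) (hs : IsPGroup 2 (zpowers s)) : Sw Om z s ↔ Sw Om t s := by
  haveI : Fact (Nat.Prime 2) := ⟨Nat.prime_two⟩
  have hne : Om.Nonempty := by obtain ⟨K, hK⟩ := hz; exact ⟨K, hK.1⟩
  have p1 := isPGroup_closure_pair (hz.isPGroup h) hs hsz.symm
  have p2 := isPGroup_closure_pair (ht.isPGroup h) hs hst.symm
  have l1 : zpowers z ⊔ zpowers s ≤ centralizer {s} := by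
    refine sup_le ?_ ?_ <;> rw [zpowers_le, mem_centralizer_singleton_iff]
    exact hsz.symm
  have l2 : zpowers t ⊔ zpowers s ≤ centralizer {s} := by
    refine sup_le ?_ ?_ <;> rw [zpowers_le, mem_centralizer_singleton_iff]
    exact hst.symm
  obtain ⟨P, hP, hP1⟩ := exists_syl_ge p1 l1
  obtain ⟨Q, hQ, hQ1⟩ := exists_syl_ge p2 l2
  obtain ⟨k, hk, hkQ⟩ := hQ.exists_conj hP
  obtain ⟨y, hy, hyP⟩ := h.exists_central' hne hP.2.1
  have hks : k * s = s * k := mem_centralizer_singleton_iff.1 hk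
  have hkt : k * t * k⁻¹ ∈ P := by
    rw [← hkQ]
    exact conj_mem_cj (hQ1 (mem_sup_left (mem_zpowers t)))
  have hzP : z ∈ P := hP1 (mem_sup_left (mem_zpowers z))
  have hsP : s ∈ P := hP1 (mem_sup_right (mem_zpowers s))
  have e1 := he z y s hz hy (hyP z hzP) hsz (hyP s hsP) hs
  have hs' : s * (k * t * k⁻¹) = (k * t * k⁻¹) * s := by
    have h1 : k⁻¹ * s = s * k⁻¹ := by
      rw [inv_mul_eq_iff_eq_mul, ← mul_assoc, hks, mul_inv_cancel_right]
    calc s * (k * t * k⁻¹) = (s * k) * t * k⁻¹ := by group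
      _ = k * (s * t) * k⁻¹ := by rw [← hks]; group
      _ = k * t * (s * k⁻¹) := by rw [hst]; group
      _ = (k * t * k⁻¹) * s := by rw [← h1]; group
  have e2 := he (k * t * k⁻¹) y s (ht.conj h k) hy (hyP _ hkt) hs' (hyP s hsP) hs
  have e3 : Sw Om (k * t * k⁻¹) s ↔ Sw Om t s := by
    have h1 : k * s * k⁻¹ = s := by rw [hks, mul_inv_cancel_right]
    have h2 := sw_iff_conj (z := t) (g := s) h k
    rwa [h1] at h2
  rw [e1, ← e2, e3]

/-- **(9.0)** -/
theorem exists_eps (h : W2 Om) (hne : Om.Nonempty) (he : EqEps Om) :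
    ∃ f : G →* ℤˣ, ∀ z s, InZ Om z → s * z = z * s → IsPGroup 2 (zpowers s) → (f s = -1 ↔ Sw Om z s) := by
  classical
  haveI : Fact (Nat.Prime 2) := ⟨Nat.prime_two⟩
  obtain ⟨S⟩ := (inferInstance : Nonempty (Sylow 2 G))
  obtain ⟨z, hz, hzS⟩ := h.exists_central hne S
  have hm1 : (-1 : ℤˣ) ≠ 1 := by decide
  let φ : (S : Subgroup G) →* ℤˣ :=
    { toFun := fun s => if Sw Om z s then -1 else 1
      map_one' := by
        rw [if_neg]
        intro h1
        obtain ⟨K, hK⟩ := hz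
        exact h1 K hK (cj_one K)
      map_mul' := by
        intro a b
        have ha := hzS a a.2
        have hb := hzS b b.2
        rcases fx_or_sw h hz ha with fa | fa <;> rcases fx_or_sw h hz hb with fb | fb
        · have h1 : ¬ Sw Om z ((a * b : (S : Subgroup G)) : G) := fun h1 => fx_sw_false hz (fa.mul fb) h1
          rw [if_neg h1, if_neg (fun h1 => fx_sw_false hz fa h1), if_neg (fun h1 => fx_sw_false hz fb h1)]; rfl
        · have h1 : Sw Om z ((a * b : (S : Subgroup G)) : G) := Fx.mul_sw fa fb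
          rw [if_pos h1, if_neg (fun h1 => fx_sw_false hz fa h1), if_pos fb]; rfl
        · have h1 : Sw Om z ((a * b : (S : Subgroup G)) : G) := Sw.mul_fx fa fb
          rw [if_pos h1, if_neg (fun h1 => fx_sw_false hz fb h1), if_pos fa]; rfl
        · have h1 : ¬ Sw Om z ((a * b : (S : Subgroup G)) : G) :=
            fun h1 => fx_sw_false hz (Sw.mul h fa fb ha hb) h1
          rw [if_neg h1, if_pos fa, if_pos fb]; rfl }
  have hφ : ∀ (s : G) (hs : s ∈ (S : Subgroup G)), φ ⟨s, hs⟩ = -1 ↔ Sw Om z s := by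
    intro s hs
    change (if Sw Om z s then (-1 : ℤˣ) else 1) = -1 ↔ _
    by_cases h1 : Sw Om z s
    · simp [h1]
    · simp [h1, hm1.symm]
  have hφ' : ∀ (s t : (S : Subgroup G)), (Sw Om z (s : G) ↔ Sw Om z (t : G)) → φ s = φ t := by
    intro s t hst
    change (if Sw Om z s then (-1 : ℤˣ) else 1) = if Sw Om z t then (-1 : ℤˣ) else 1
    simp [hst]
  have hS2 : ∀ s ∈ (S : Subgroup G), IsPGroup 2 (zpowers s) := fun s hs => isPGroup_zpowers S.isPGroup' hs
  have hst : ∀ (x g : G) (hx : x ∈ (S : Subgroup G)) (hg : g⁻¹ * x * g ∈ (S : Subgroup G)),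
      φ ⟨_, hg⟩ = φ ⟨x, hx⟩ := by
    intro x g hx hg
    apply hφ'
    change Sw Om z (g⁻¹ * x * g) ↔ Sw Om z x
    have h1 := sw_iff_conj (z := z) (g := g⁻¹ * x * g) h g
    have e1 : g * (g⁻¹ * x * g) * g⁻¹ = x := by group
    rw [e1] at h1
    rw [← h1]
    refine eps_fusion h he (hz.conj h g) hz ?_ (hzS x hx) (hS2 x hx)
    have h3 := hzS _ hg
    calc x * (g * z * g⁻¹) = g * (g⁻¹ * x * g * z) * g⁻¹ := by group
      _ = g * (z * (g⁻¹ * x * g)) * g⁻¹ := by rw [h3]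
      _ = _ := by group
  have hodd : Odd (S : Subgroup G).index := by
    rw [← Nat.not_even_iff_odd, even_iff_two_dvd]
    exact S.not_dvd_index
  have hf : ∀ (x : G) (hx : x ∈ (S : Subgroup G)), MonoidHom.transfer φ x = φ ⟨x, hx⟩ := by
    intro x hx
    rw [transfer_stable φ hst hx]
    obtain ⟨k, hk⟩ := hodd
    rw [hk, pow_succ, pow_mul, Int.units_sq, one_pow, one_mul]
  refine ⟨MonoidHom.transfer φ, fun t s ht hs hs2 => ?_⟩
  have p1 := isPGroup_closure_pair (ht.isPGroup h) hs2 hs.symm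
  obtain ⟨g, hg⟩ := exists_le_cj S p1
  have ht' : g⁻¹ * t * g ∈ (S : Subgroup G) := mem_cj.1 (hg (mem_sup_left (mem_zpowers t)))
  have hs' : g⁻¹ * s * g ∈ (S : Subgroup G) := mem_cj.1 (hg (mem_sup_right (mem_zpowers s)))
  have e1 : MonoidHom.transfer φ s = MonoidHom.transfer φ (g⁻¹ * s * g) := by
    rw [map_mul, map_mul, map_inv, mul_comm, mul_inv_cancel_left]
  rw [e1, hf _ hs', hφ]
  have h1 := sw_iff_conj (z := t) (g := s) h g⁻¹
  rw [inv_inv] at h1
  rw [← h1]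
  refine eps_fusion h he hz ?_ (hzS _ hs') ?_ (hS2 _ hs')
  · have := ht.conj h g⁻¹
    rwa [inv_inv] at this
  · calc g⁻¹ * s * g * (g⁻¹ * t * g) = g⁻¹ * (s * t) * g := by group
      _ = g⁻¹ * (t * s) * g := by rw [hs]
      _ = _ := by group

end

end Cfsg.Agent.Cit.Nil.RTwo
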