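import Cfsg.Agent.Cit.Nil.RTwo.TenTwo
import Cfsg.Agent.Cit.LemmaB

/-!
# (10.3) of the blueprint: `M_c` and FACT P

* `MC h c z` : the stabiliser in `C(c)` of `Δ_c(z)`;
* `exists_sylC` : a Sylow 2-subgroup of `C(c, z)` is a Sylow 2-subgroup of `C(c)` (`c` a label on `z`);
* `U10.mem_MC_of_conj` : `g ∈ C(c)`, `b ∈ Δ_c(z)`, `b^g ∈ M_c` implies `g ∈ M_c`;
* `U10.factP` : `z ≠ b` commuting in `Z_c`: `C(c) ∩ C(z b) ≤ M_c`.
-/

set_option autoImplicit false
set_option linter.style.haveILetI false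
set_option linter.unusedSectionVars false
set_option maxHeartbeats 400000

namespace Cfsg.Agent.Cit.Nil.RTwo

open Subgroup Cfsg Cit

variable {G : Type*} [Group G]

/-! ### Products of directions -/

theorem Q3.mul_ne {K : Subgroup G} {z : G} {x : Fin 3 → G} (q : Q3 K z x) {i j : Fin 3} (hij : i ≠ j) :
    x i * x j = x (-i - j) ∨ x i * x j = z * x (-i - j) := by
  have e1 : ∀ i : Fin 3, -i - (i + 1) = i + 2 := by decide
  have e2 : ∀ i : Fin 3, -i - (i + 2) = i + 1 := by decide
  rcases i_cases hij with rfl | rfl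
  · left; rw [e1]; exact q.mul i
  · right; rw [e2]; exact q.mul2' i

section

variable [Finite G] {Om : Set (Subgroup G)} {K K1 K2 L M L1 L2 : Subgroup G} {z t u v g r s y w w' c c' : G}
  {a b : Fin 3 → G}

/-- the product of two commuting elements with different directions -/
theorem Frame.dir_mul (F : Frame Om z K1 K2 a b) (h : W2 Om) {p q : Fin 3 × Fin 3}
    (hw : Dir z a b w p.1 p.2) (hw' : Dir z a b w' q.1 q.2) (hc : w * w' = w' * w) (hne : p ≠ q) :
    Dir z a b (w * w') (-p - q).1 (-p - q).2 := by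
  have hza : ∀ i, z * a i = a i * z := F.qa.zc
  have hzb : ∀ i, z * b i = b i * z := F.qb.zc
  have hz2 : z * z = 1 := F.qa.z2
  have hab : ∀ i j, a i * b j = b j * a i := F.ab h
  have hzz : ∀ u : G, z * (z * u) = u := F.qa.zzx
  -- write `w = e (a b)`
  have key : ∀ {w : G} {i j : Fin 3}, Dir z a b w i j → ∃ e, (e = 1 ∨ e = z) ∧ w = e * (a i * b j) := by
    rintro w i j (h1 | h1)
    · exact ⟨1, Or.inl rfl, by rw [one_mul, h1]⟩
    · exact ⟨z, Or.inr rfl, h1⟩
  obtain ⟨e, he, rfl⟩ := key hw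
  obtain ⟨f, hf, rfl⟩ := key hw'
  have hze : z * e = e * z := by rcases he with rfl | rfl <;> simp
  have hef : e * f = f * e := by rcases he with rfl | rfl <;> rcases hf with rfl | rfl <;> simp
  have hea : ∀ i, e * a i = a i * e := by intro i; rcases he with rfl | rfl <;> simp [hza]
  have heb : ∀ i, e * b i = b i * e := by intro i; rcases he with rfl | rfl <;> simp [hzb]
  have hfa : ∀ i, f * a i = a i * f := by intro i; rcases hf with rfl | rfl <;> simp [hza]
  have hfb : ∀ i, f * b i = b i * f := by intro i; rcases hf with rfl | rfl <;> simp [hzb]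
  obtain ⟨i, j⟩ := p
  obtain ⟨i', j'⟩ := q
  have m1 : e * (a i * b j) * (f * (a i' * b j')) = e * f * ((a i * a i') * (b j * b j')) := by
    calc e * (a i * b j) * (f * (a i' * b j')) = e * a i * (b j * f) * a i' * b j' := by group
      _ = e * (a i * f) * (b j * a i') * b j' := by rw [← hfb]; group
      _ = e * (f * a i) * (a i' * b j) * b j' := by rw [← hfa, ← hab]
      _ = _ := by group
  have m2 : f * (a i' * b j') * (e * (a i * b j)) = e * f * ((a i' * a i) * (b j' * b j)) := by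
    calc f * (a i' * b j') * (e * (a i * b j)) = f * a i' * (b j' * e) * a i * b j := by group
      _ = f * (a i' * e) * (b j' * a i) * b j := by rw [← heb]; group
      _ = f * (e * a i') * (a i * b j') * b j := by rw [← hea, ← hab]
      _ = (f * e) * ((a i' * a i) * (b j' * b j)) := by group
      _ = _ := by rw [← hef]
  simp only at hc ⊢
  rw [m1, m2] at hc
  have hc' := mul_left_cancel hc
  have hz1 := F.qa.z1
  by_cases hi : i = i'
  · subst hi
    have hj : j ≠ j' := fun e => hne (by rw [e])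
    exfalso
    have h2 := mul_left_cancel hc'
    have h3 := F.qb.anti hj
    rw [h2] at h3
    apply hz1
    have h4 : 1 * (b j' * b j) = z * (b j' * b j) := by rw [one_mul, ← mul_assoc]; exact h3
    exact (mul_right_cancel h4).symm
  · by_cases hj : j = j'
    · subst hj
      exfalso
      have h2 := mul_right_cancel hc'
      have h3 := F.qa.anti hi
      rw [h2] at h3
      apply hz1
      have h4 : 1 * (a i' * a i) = z * (a i' * a i) := by rw [one_mul, ← mul_assoc]; exact h3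
      exact (mul_right_cancel h4).symm
    · rw [m1]
      have hd : Dir z a b ((a i * a i') * (b j * b j')) (-i - i') (-j - j') := by
        rcases F.qa.mul_ne hi with h2 | h2 <;> rcases F.qb.mul_ne hj with h3 | h3
        · left; rw [h2, h3]
        · right; rw [h2, h3, ← mul_assoc, ← hza, mul_assoc]
        · right; rw [h2, h3, mul_assoc]
        · left; rw [h2, h3, mul_assoc, ← mul_assoc (a _), ← hza, mul_assoc, hzz]
      show Dir z a b (e * f * ((a i * a i') * (b j * b j'))) (-i - i') (-j - j')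
      have hef' : e * f = 1 ∨ e * f = z := by
        rcases he with rfl | rfl <;> rcases hf with rfl | rfl <;> simp [hz2]
      rcases hef' with h4 | h4
      · rw [h4, one_mul]; exact hd
      · rw [h4]
        rcases hd with h5 | h5
        · right; rw [h5]
        · left; rw [h5, hzz]

/-! ### `M_c` -/

/-- the stabiliser of `Δ_c(z)` in `C(c)` -/
def MC (h : W2 Om) (c z : G) : Subgroup G where
  carrier := {g | g * c = c * g ∧ DelC Om c z (g * z * g⁻¹)}
  one_mem' := ⟨by group, by simpa using DelC.refl c z⟩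
  mul_mem' := by
    rintro g k ⟨h1, h2⟩ ⟨h3, h4⟩
    refine ⟨by rw [mul_assoc, h3, ← mul_assoc, h1, mul_assoc], ?_⟩
    have h5 := h4.conj h h1
    have e : g * k * z * (g * k)⁻¹ = g * (k * z * k⁻¹) * g⁻¹ := by group
    rw [e]
    exact h2.trans h5
  inv_mem' := by
    rintro g ⟨h1, h2⟩
    have h3 : g⁻¹ * c = c * g⁻¹ := by
      rw [inv_mul_eq_iff_eq_mul, ← mul_assoc, h1, mul_inv_cancel_right]
    refine ⟨h3, ?_⟩
    have h4 := h2.conj h h3
    have e : g⁻¹ * (g * z * g⁻¹) * g⁻¹⁻¹ = z := by group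
    rw [e] at h4
    exact h4.symm h

theorem mem_MC {h : W2 Om} : g ∈ MC h c z ↔ g * c = c * g ∧ DelC Om c z (g * z * g⁻¹) := Iff.rfl

theorem MC_le (h : W2 Om) : MC h c z ≤ centralizer {c} := by
  intro g hg
  rw [mem_centralizer_singleton_iff]
  exact (mem_MC.1 hg).1

theorem mem_MC_of_comm (h : W2 Om) (hgc : g * c = c * g) (hgz : g * z = z * g) : g ∈ MC h c z :=
  mem_MC.2 ⟨hgc, by rw [hgz, mul_inv_cancel_right]; exact DelC.refl _ _⟩

theorem mem_MC_iff_of_del (h : W2 Om) (hd : DelC Om c z t) : g ∈ MC h c z ↔ g ∈ MC h c t := by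
  rw [mem_MC, mem_MC]
  constructor
  · rintro ⟨h1, h2⟩
    exact ⟨h1, (hd.symm h).trans (h2.trans (hd.conj h h1))⟩
  · rintro ⟨h1, h2⟩
    exact ⟨h1, hd.trans (h2.trans ((hd.symm h).conj h h1))⟩

theorem MC_eq_of_del (h : W2 Om) (hd : DelC Om c z t) : MC h c z = MC h c t := by
  ext g; exact mem_MC_iff_of_del h hd

/-- elements of `Δ_c` are in `M_c` -/
theorem del_mem_MC (h : W2 Om) (hc : c ∈ CC Om z) (hd : DelC Om c z t) : t ∈ MC h c z := by
  rw [mem_MC_iff_of_del h hd]
  exact mem_MC_of_comm h (CC.comm_z h (hd.mem_CC h hc)).symm rfl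

theorem RZ_le_MC (h : W2 Om) (hc : c ∈ CC Om z) (hd : DelC Om c z t) : RZ Om t ≤ MC h c z := by
  intro r hr
  rw [mem_MC_iff_of_del h hd]
  exact mem_MC_of_comm h (CX_comm hr (CC.mem_CX (hd.mem_CC h hc))).symm (RZ_le_centralizer h hr)

/-- `R_z` is a 2-group -/
theorem isPGroup_RZ (h : W2 Om) (hz : InZ Om z) : IsPGroup 2 (RZ Om z) := by
  obtain ⟨K1, K2, a, b, F⟩ := hz.exists_frame h
  have h1 : RZ Om z ≤ K1 ⊔ K2 := RZ_le fun K hK => by
    rcases F.k1.cases F.k2 h F.ne hK with rfl | rfl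
    · exact le_sup_left
    · exact le_sup_right
  refine (IsPGroup.to_sup_of_normal_right' (h.isPGroup F.k1.1) (h.isPGroup F.k2.1) ?_).to_le h1
  intro g hg
  rw [mem_normalizer_iff]
  have h2 : ∀ x ∈ K2, g * x * g⁻¹ = x := by
    intro x hx
    rw [F.k1.comm F.k2 h F.ne hg hx, mul_inv_cancel_right]
  intro x
  constructor
  · intro hx; rw [h2 x hx]; exact hx
  · intro hx
    have h3 := F.k1.comm F.k2 h F.ne (inv_mem hg) hx
    have h4 : g⁻¹ * (g * x * g⁻¹) * g = g * x * g⁻¹ := by rw [h3]; group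
    have h5 : g⁻¹ * (g * x * g⁻¹) * g = x := by group
    rw [h5] at h4
    rwa [h4]

/-- a Sylow 2-subgroup of `C(c)` in `C(z)` -/
theorem exists_sylC (h : W2 Om) (hz : InZ Om z) (hc : c ∈ CX Om z) :
    ∃ P, Syl P (centralizer {c}) ∧ (∀ g ∈ P, g * z = z * g) ∧ RZ Om z ≤ P := by
  have hzc : z * c = c * z := (CX_le hz h hc).symm
  set C := centralizer ({c} : Set G) ⊓ centralizer {z} with hC
  have hmem : ∀ g, g ∈ C ↔ g * c = c * g ∧ g * z = z * g := by
    intro g
    rw [hC, mem_inf, mem_centralizer_singleton_iff, mem_centralizer_singleton_iff]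
  have hRC : RZ Om z ≤ C := by
    intro r hr
    rw [hmem]
    exact ⟨(CX_comm hr hc).symm, RZ_le_centralizer h hr⟩
  have hR2 := isPGroup_RZ h hz
  obtain ⟨P, hP, hRP⟩ := LB.exists_syl_ge hR2 hRC
  refine ⟨P, ?_, fun g hg => ((hmem g).1 (hP.1 hg)).2, hRP⟩
  obtain ⟨T, hT, hPT⟩ := LB.exists_syl_ge hP.2.1 (hP.1.trans inf_le_left)
  by_cases hne : P = T
  · rw [hne]; exact hT
  exfalso
  obtain ⟨g, hgT, hgP, hcj⟩ := LB.exists_normalizing hT.2.1 hPT hne
  have hgc : g * c = c * g := mem_centralizer_singleton_iff.1 (hT.1 hgT)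
  -- `g z g⁻¹` centralises `P`
  have h1 : g * z * g⁻¹ = z := by
    obtain ⟨K, hK⟩ := hz
    have hz' : InZ Om z := ⟨K, hK⟩
    refine (hz'.conj h g).eq_of_cent hK h fun k hk => ?_
    have hkP : k ∈ P := hRP (hK.le_RZ hk)
    have h2 : g⁻¹ * k * g ∈ P := by rw [← hcj, mem_cj] at hkP; exact hkP
    have h3 := ((hmem _).1 (hP.1 h2)).2
    calc g * z * g⁻¹ * k = g * (z * (g⁻¹ * k * g)) * g⁻¹ := by group
      _ = g * ((g⁻¹ * k * g) * z) * g⁻¹ := by rw [h3]
      _ = _ := by group
  have hgz : g * z = z * g := by rw [mul_inv_eq_iff_eq_mul] at h1; exact h1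
  have hgC : g ∈ C := (hmem g).2 ⟨hgc, hgz⟩
  have h2 : P ⊔ zpowers g ≤ T := sup_le hPT (zpowers_le.2 hgT)
  have h3 : P = P ⊔ zpowers g :=
    LB.syl_eq_of_le hP (hT.2.1.to_le h2) (sup_le hP.1 (zpowers_le.2 hgC)) le_sup_left
  apply hgP
  rw [h3]
  exact mem_sup_right (mem_zpowers g)

/-- (10.2), last line -/
theorem U10.mem_MC_of_conj (U : U10 Om) (hc : c ∈ CC Om z) (hd : DelC Om c z v) (hgc : g * c = c * g)
    (hg : g * v * g⁻¹ ∈ MC U.w c z) : g ∈ MC U.w c z := by
  have h := U.w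
  have hv := hd.mem_CC h hc
  obtain ⟨P, hP, hPz, -⟩ := exists_sylC h (CC.inZ hc) (CC.mem_CX hc)
  have hPM : P ≤ MC h c z := fun x hx => mem_MC_of_comm h (mem_centralizer_singleton_iff.1 (hP.1 hx)) (hPz x hx)
  have hPM' : Syl P (MC h c z) := LB.syl_of_le hP hPM (MC_le h)
  have h2 : IsPGroup 2 (zpowers (g * v * g⁻¹)) := isPGroup_zp ((CC.inZ hv).conj h g) h
  obtain ⟨m, hm, hm2⟩ := LB.exists_conj_mem hPM' hg h2
  have hmc := (mem_MC.1 hm).1
  have hmg : m * g * c = c * (m * g) := by rw [mul_assoc, hgc, ← mul_assoc, hmc, mul_assoc]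
  have h3 : c ∈ CC Om (m * (g * v * g⁻¹) * m⁻¹) := by
    have h4 := CC.conj h hv (m * g)
    rw [hmg, mul_inv_cancel_right] at h4
    have e : m * g * v * (m * g)⁻¹ = m * (g * v * g⁻¹) * m⁻¹ := by group
    rwa [e] at h4
  have h4 := U.conn hc h3 (hPz _ hm2).symm
  have h5 : m * g ∈ MC h c z := by
    rw [mem_MC]
    refine ⟨hmg, ?_⟩
    have h6 := hd.conj h hmg
    have e : m * g * v * (m * g)⁻¹ = m * (g * v * g⁻¹) * m⁻¹ := by group
    rw [e] at h6
    exact h4.trans (h6.symm h)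
  have h6 := mul_mem (inv_mem hm) h5
  rwa [inv_mul_cancel_left] at h6

theorem U10.mem_MC_of_comm_del (U : U10 Om) (hd : DelC Om c z t) (hgc : g * c = c * g)
    (hgt : g * t = t * g) : g ∈ MC U.w c z := by
  rw [mem_MC_iff_of_del U.w hd]; exact mem_MC_of_comm U.w hgc hgt

/-- a line over `c` centralised by `t` of type p -/
theorem PR.exists_line (h : W2 Om) (hp : PR Om z t) (hc : c ∈ CC Om z) (htc : t * c = c * t) :
    ∃ s, Lab Om z s c ∧ s * t = t * s := by
  obtain ⟨K, x, P⟩ := hp.exists_hp h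
  have F := P.frame h
  have htz : t * z = z * t := hp.comm.symm
  obtain ⟨p, ⟨s0, l0, hs0⟩, hfix⟩ := DC.exists_fixed h F hc (isPGroup_zp hp.ht h)
    (by
      intro g hg
      obtain ⟨n, rfl⟩ := mem_zpowers_iff.1 hg
      exact (Commute.zpow_left htz n))
    (by
      intro g hg
      obtain ⟨n, rfl⟩ := mem_zpowers_iff.1 hg
      exact (Commute.zpow_left htc n))
  have hpp : p.1 = p.2 := by
    have h2 := hfix t (mem_zpowers t) _ (Or.inl rfl)
    have e : t * (x p.1 * (t * x p.2 * t⁻¹)) * t⁻¹ = x p.2 * (t * x p.1 * t⁻¹) := by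
      calc t * (x p.1 * (t * x p.2 * t⁻¹)) * t⁻¹ = (t * x p.1 * t⁻¹) * (t * (t * x p.2 * t⁻¹) * t⁻¹) := by group
        _ = (t * x p.1 * t⁻¹) * x p.2 := by rw [P.tt h]
        _ = _ := (P.xx' h p.2 p.1).symm
    rw [e] at h2
    exact (F.dir_unique h h2 (Or.inl rfl : Dir z x (fun i => t * x i * t⁻¹) (x p.2 * (t * x p.1 * t⁻¹)) p.2 p.1)).1
  obtain ⟨i0, j0⟩ := p
  simp only at hpp
  subst hpp
  refine ⟨s0, l0, ?_⟩
  have h2 : s0 * c * t = t * (s0 * c) := by
    rcases P.dir_iff.1 hs0 with h3 | h3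
    · rw [h3, P.e_t h]
    · rw [h3, mul_assoc, P.e_t h, ← mul_assoc, ← mul_assoc, htz]
  have h3 : s0 * t * c = t * s0 * c := by
    rw [mul_assoc, htc, ← mul_assoc, h2, mul_assoc]
  exact mul_right_cancel h3

/-- two members of `Z_c` of type I with respect to `v`: `z b` is in `{1, v}` or `z b c ∈ Z_c` -/
theorem U10.mul_label (U : U10 Om) (l1 : Lab Om v z c) (l2 : Lab Om v t c) (hzt : z * t = t * z) (hne : z ≠ t)
    (hn : ¬ TI Om z t) : c ∈ CC Om (z * t * c) := by
  have h := U.w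
  obtain ⟨K1, K2, a, b, F⟩ := l1.ti.1.exists_frame h
  obtain ⟨-, i, j, -, -, -, -, hd1, -⟩ := l1.theta h F
  obtain ⟨-, i', j', -, -, -, -, hd2, -⟩ := l2.theta h F
  have hcz : c * z = z * c := l1.comm_t h
  have hct : c * t = t * c := l2.comm_t h
  have hcc : c * c = 1 := l1.sq
  have hw : (z * c) * (t * c) = z * t := by
    calc (z * c) * (t * c) = z * (c * t) * c := by group
      _ = z * t * (c * c) := by rw [hct]; group
      _ = z * t := by rw [hcc, mul_one]
  have hw' : (t * c) * (z * c) = z * t := by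
    calc (t * c) * (z * c) = t * (c * z) * c := by group
      _ = t * z * (c * c) := by rw [hcz]; group
      _ = z * t := by rw [hcc, mul_one, hzt]
  by_cases hpq : ((i, j) : Fin 3 × Fin 3) = (i', j')
  · exfalso
    obtain ⟨rfl, rfl⟩ := Prod.mk.inj hpq
    rcases F.eq_of_dir (p := (i, j)) hd1 hd2 with h1 | h1
    · exact hne h1.symm
    · apply hn
      have h2 := (l1.symm h).mul h
      rw [← l1.zt, ← h1] at h2
      exact h2.ti
  · have hd3 := F.dir_mul h (p := (i, j)) (q := (i', j')) hd1 hd2 (hw.trans hw'.symm) hpq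
    rw [hw] at hd3
    have hD : (-(i, j) - (i', j') : Fin 3 × Fin 3) ∈ DC Om v a b c :=
      DC.line h F ⟨z, l1, hd1⟩ ⟨t, l2, hd2⟩
    obtain ⟨s, l, hs⟩ := hD
    have h4 : Dir v a b (z * t * c * c) (-(i, j) - (i', j') : Fin 3 × Fin 3).1 (-(i, j) - (i', j') : Fin 3 × Fin 3).2 := by
      rw [mul_assoc (z * t), hcc, mul_one]; exact hd3
    rcases F.eq_of_dir hs h4 with h5 | h5
    · rw [h5]; exact (l.symm h).mem_CC
    · rw [h5]; exact ((l.mul h).symm h).mem_CC

/-- FACT P: the product of two commuting elements of `Z_c`, or its product with `c`, is in `Δ_c` -/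
theorem U10.prod_del (U : U10 Om) (hc : c ∈ CC Om z) (ht : c ∈ CC Om t) (hne : z ≠ t) (hzt : z * t = t * z) :
    DelC Om c z (z * t) ∨ DelC Om c z (z * t * c) := by
  have h := U.w
  have hcz : c * z = z * c := CC.comm_z h hc
  have hct : c * t = t * c := CC.comm_z h ht
  have hz2 : z * z = 1 := (CC.inZ hc).z2 h
  have hzzt : z * (z * t) = z * t * z := by
    rw [← mul_assoc, hz2, one_mul, mul_assoc, ← hzt, ← mul_assoc, hz2, one_mul]
  rcases tcases h (CC.inZ hc) (CC.inZ ht) hne hzt with hp | hp | hp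
  · -- type p: `z t c ∈ Z_c`
    right
    have key : c ∈ CC Om (z * t * c) := by
      obtain ⟨s, l, hst⟩ := hp.exists_line h hc hct.symm
      have lm := l.mul h
      have hn : ¬ TI Om z t := fun h1 => by
        exact fx_sw_false hp.hz (h1.fr h).fx' hp.sw'
      by_cases n2 : TI Om s t
      · exact U.mul_label (l.symm h) (n2.lab h (l.symm h).mem_CC ht) hzt hne hn
      by_cases n3 : TI Om (z * s) t
      · exact U.mul_label (lm.symm h) (n3.lab h (lm.symm h).mem_CC ht) hzt hne hn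
      have m2 : s ≠ t := by rintro rfl; exact hn l.ti
      have m3 : z * s ≠ t := by rintro rfl; exact hn lm.ti
      have hfin : ∀ {s : G}, Lab Om z s c → FT Om s t → c ∈ CC Om (z * t * c) := by
        intro s l hf
        obtain ⟨r, hr, hrt⟩ := l.conj_f h hf hzt.symm
        have hrc : r * c = c * r := (CX_comm hr l.ct).symm
        have h5 := CC.conj h ht r
        rw [hrc, mul_inv_cancel_right, hrt] at h5
        have e : z * t * c = t * (z * c) := by rw [hzt, mul_assoc]
        rw [e]; exact h5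
      rcases l.status h U.ne (CC.inZ ht) hzt hst hn n2 n3 hne m2 m3 with h3 | h3 | h3 | h3
      · exact (hp.not_fr h3.1.fr).elim
      · exact hfin lm h3.2.2
      · exact hfin l h3.2.1
      · exact (hp.not_fr h3.1.fr).elim
    have h1 : z * (z * t * c) = z * t * c * z := by
      calc z * (z * t * c) = z * (z * t) * c := by group
        _ = z * t * z * c := by rw [hzzt]
        _ = z * t * (z * c) := by group
        _ = z * t * (c * z) := by rw [hcz]
        _ = _ := by group
    exact U.conn hc key h1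
  · left
    obtain ⟨r, hr, hrt⟩ := hp.conj_z h
    have hrc : r * c = c * r := (CX_comm hr (CC.mem_CX hc)).symm
    have h5 := CC.conj h ht r
    rw [hrc, mul_inv_cancel_right, hrt] at h5
    exact U.conn hc h5 hzzt
  · left
    exact ((hp.lab h hc ht).mul h).del

/-- **FACT P** -/
theorem U10.factP (U : U10 Om) (hc : c ∈ CC Om z) (ht : c ∈ CC Om t) (hne : z ≠ t) (hzt : z * t = t * z)
    (hgc : g * c = c * g) (hg : g * (z * t) = z * t * g) : g ∈ MC U.w c z := by
  rcases U.prod_del hc ht hne hzt with h1 | h1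
  · exact U.mem_MC_of_comm_del h1 hgc hg
  · refine U.mem_MC_of_comm_del h1 hgc ?_
    rw [← mul_assoc, hg, mul_assoc, hgc, mul_assoc]
    group

end

end Cfsg.Agent.Cit.Nil.RTwo
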