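import Cfsg.Agent.Cit.Nil.RTwo.Def

/-!
# S1309, `r = 2`, `m = 1`: pairs of `Z` of type p and f

* `PR Om z t` : `z ≠ t` commute, `t` interchanges the two members over `z`;
* `FR Om z t` : `z ≠ t` commute, `t` fixes the two members over `z`;
* `ee z t x i = z x_i x_i^t`; `HP Om z t K x` : `PR` with coordinates;
* `RZ_comm` : `C_{R_z}(t) = {1, z, e_i, z e_i}`.
-/

set_option autoImplicit false
set_option linter.unusedSectionVars false

namespace Cfsg.Agent.Cit.Nil.RTwo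

open Subgroup Cfsg Cfsg.Agent.Cit

variable {G : Type*} [Group G]

/-- `t` interchanges the members over `z` -/
structure PR (Om : Set (Subgroup G)) (z t : G) : Prop where
  hz : InZ Om z
  ht : InZ Om t
  ne : z ≠ t
  comm : z * t = t * z
  sw : ∀ K, Mem Om z K → cj t K ≠ K

/-- `t` fixes the members over `z` -/
structure FR (Om : Set (Subgroup G)) (z t : G) : Prop where
  hz : InZ Om z
  ht : InZ Om t
  ne : z ≠ t
  comm : z * t = t * z
  fx : ∀ K, Mem Om z K → cj t K = K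

/-- no pairs of type I -/
def TO (Om : Set (Subgroup G)) : Prop := ∀ z t : G, InZ Om z → InZ Om t → Inn Om z t → t = z

/-- `z x_i x_i^t` -/
def ee (z t : G) (x : Fin 3 → G) (i : Fin 3) : G := z * x i * (t * x i * t⁻¹)

/-! ### Two commuting quaternion groups over the same `z` -/

section QQ

variable {K K' : Subgroup G} {z : G} {a b : Fin 3 → G}

theorem qq_sq (ha : Q3 K z a) (hb : Q3 K' z b) (hc : ∀ i j, a i * b j = b j * a i) (i : Fin 3) :
    z * a i * b i * (z * a i * b i) = 1 := by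
  calc z * a i * b i * (z * a i * b i) = z * a i * (b i * z) * (a i * b i) := by group
    _ = z * a i * (z * b i) * (a i * b i) := by rw [hb.zc]
    _ = z * (a i * z) * (b i * a i) * b i := by group
    _ = z * (z * a i) * (a i * b i) * b i := by rw [ha.zc, hc]
    _ = z * z * (a i * a i) * (b i * b i) := by group
    _ = 1 := by rw [ha.sq, hb.sq, ha.z2, one_mul, ha.z2]

theorem qq_mul (ha : Q3 K z a) (hb : Q3 K' z b) (hc : ∀ i j, a i * b j = b j * a i) (i : Fin 3) :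
    z * a i * b i * (z * a (i + 1) * b (i + 1)) = a (i + 2) * b (i + 2) := by
  calc z * a i * b i * (z * a (i + 1) * b (i + 1)) = z * a i * (b i * z) * (a (i + 1) * b (i + 1)) := by group
    _ = z * a i * (z * b i) * (a (i + 1) * b (i + 1)) := by rw [hb.zc]
    _ = z * (a i * z) * (b i * a (i + 1)) * b (i + 1) := by group
    _ = z * (z * a i) * (a (i + 1) * b i) * b (i + 1) := by rw [ha.zc, hc]
    _ = z * z * (a i * a (i + 1)) * (b i * b (i + 1)) := by group
    _ = _ := by rw [ha.mul, hb.mul, ha.z2, one_mul]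

theorem qq_mul' (ha : Q3 K z a) (hb : Q3 K' z b) (hc : ∀ i j, a i * b j = b j * a i) (i : Fin 3) :
    z * a (i + 1) * b (i + 1) * (z * a i * b i) = a (i + 2) * b (i + 2) := by
  calc z * a (i + 1) * b (i + 1) * (z * a i * b i) = z * a (i + 1) * (b (i + 1) * z) * (a i * b i) := by group
    _ = z * a (i + 1) * (z * b (i + 1)) * (a i * b i) := by rw [hb.zc]
    _ = z * (a (i + 1) * z) * (b (i + 1) * a i) * b i := by group
    _ = z * (z * a (i + 1)) * (a i * b (i + 1)) * b i := by rw [ha.zc, hc]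
    _ = z * z * (a (i + 1) * a i) * (b (i + 1) * b i) := by group
    _ = z * a (i + 2) * (z * b (i + 2)) := by rw [ha.mul', hb.mul', ha.z2, one_mul]
    _ = z * (a (i + 2) * z) * b (i + 2) := by group
    _ = _ := by rw [← ha.zc, ← mul_assoc, ha.z2, one_mul]

end QQ

section Fin

variable [Finite G] {Om : Set (Subgroup G)} {K L M : Subgroup G} {g t x y z : G}

theorem pr_or_fr (h : W2 Om) (hz : InZ Om z) (ht : InZ Om t) (hne : z ≠ t) (hc : z * t = t * z) :
    PR Om z t ∨ FR Om z t := by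
  obtain ⟨K, hK⟩ := hz
  obtain ⟨L, hL, hKL, hall⟩ := hK.other h
  have htK := hK.cj_comm h hc.symm
  have htL := hL.cj_comm h hc.symm
  by_cases hf : cj t K = K
  · right
    refine ⟨hK.inZ, ht, hne, hc, fun M hM => ?_⟩
    rcases hall M hM with rfl | rfl
    · exact hf
    · rcases hall _ htL with h1 | h1
      · exact absurd (cj_inj.1 (h1.trans hf.symm)).symm hKL
      · exact h1
  · left
    refine ⟨hK.inZ, ht, hne, hc, fun M hM => ?_⟩
    rcases hall M hM with rfl | rfl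
    · exact hf
    · intro h1
      rcases hall _ htK with h2 | h2
      · exact hf h2
      · exact hKL (cj_inj.1 (h2.trans h1.symm))

theorem PR.not_fr (hp : PR Om z t) (hf : FR Om z t) : False := by
  obtain ⟨K, hK⟩ := hp.hz
  exact hp.sw K hK (hf.fx K hK)

theorem PR.tinv (hp : PR Om z t) (h : W2 Om) : t⁻¹ = t := hp.ht.inv h

theorem PR.t2 (hp : PR Om z t) (h : W2 Om) : t * t = 1 := hp.ht.z2 h

theorem PR.conj (hp : PR Om z t) (h : W2 Om) (g : G) : PR Om (g * z * g⁻¹) (g * t * g⁻¹) where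
  hz := hp.hz.conj h g
  ht := hp.ht.conj h g
  ne h1 := hp.ne (mul_left_cancel (mul_right_cancel h1))
  comm := by
    calc g * z * g⁻¹ * (g * t * g⁻¹) = g * (z * t) * g⁻¹ := by group
      _ = g * (t * z) * g⁻¹ := by rw [hp.comm]
      _ = _ := by group
  sw K hK h1 := by
    have h2 := hK.cj h g⁻¹
    have h3 : g⁻¹ * (g * z * g⁻¹) * g⁻¹⁻¹ = z := by group
    rw [h3] at h2
    apply hp.sw _ h2
    rw [← cj_mul]
    have h4 : t * g⁻¹ = g⁻¹ * (g * t * g⁻¹) := by group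
    rw [h4, cj_mul, h1]

theorem PR.conj_comm (hp : PR Om z t) (h : W2 Om) (hg : g * z = z * g) : PR Om z (g * t * g⁻¹) := by
  have := hp.conj h g
  rwa [hg, mul_inv_cancel_right] at this

theorem FR.conj (hp : FR Om z t) (h : W2 Om) (g : G) : FR Om (g * z * g⁻¹) (g * t * g⁻¹) where
  hz := hp.hz.conj h g
  ht := hp.ht.conj h g
  ne h1 := hp.ne (mul_left_cancel (mul_right_cancel h1))
  comm := by
    calc g * z * g⁻¹ * (g * t * g⁻¹) = g * (z * t) * g⁻¹ := by group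
      _ = g * (t * z) * g⁻¹ := by rw [hp.comm]
      _ = _ := by group
  fx K hK := by
    have h2 := hK.cj h g⁻¹
    have h3 : g⁻¹ * (g * z * g⁻¹) * g⁻¹⁻¹ = z := by group
    rw [h3] at h2
    have h4 := hp.fx _ h2
    have h5 : cj (g * t * g⁻¹) K = cj g (cj t (cj g⁻¹ K)) := by
      rw [← cj_mul, ← cj_mul, mul_assoc]
    rw [h5, h4, cj_cj_inv]

/-- two elements interchanging the members: the product fixes them -/
theorem sw_mul (h : W2 Om) (hM : Mem Om z M) {a b : G} (ha : ∀ K, Mem Om z K → cj a K ≠ K)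
    (hb : ∀ K, Mem Om z K → cj b K ≠ K) (haz : a * z = z * a) (hbz : b * z = z * b) : cj (a * b) M = M := by
  obtain ⟨L, hL, hne, hall⟩ := hM.other h
  have h1 : cj b M = L := by
    rcases hall _ (hM.cj_comm h hbz) with h1 | h1
    · exact absurd h1 (hb M hM)
    · exact h1
  have h2 : cj a L = M := by
    rcases hall _ (hL.cj_comm h haz) with h2 | h2
    · exact h2
    · exact absurd h2 (ha L hL)
  rw [cj_mul, h1, h2]

/-! ### Type f -/

/-- coordinates adapted to an outer involution -/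
theorem FR.coord (hp : FR Om z t) (h : W2 Om) (hT : TO Om) (hK : Mem Om z K) :
    ∃ x, Q3 K z x ∧ t * x 0 * t⁻¹ = x 1 ∧ t * x 1 * t⁻¹ = x 0 ∧ t * x 2 * t⁻¹ = z * x 2 := by
  obtain ⟨x, hx⟩ := h.exists_q3 hK
  have h1 : ∃ k ∈ K, ¬ (t * k * t⁻¹ = k ∨ t * k * t⁻¹ = z * k) := by
    by_contra hcon
    push Not at hcon
    have h2 := (h.inn_both hK hp.ht hp.ne.symm hcon).1
    exact hp.ne (hT z t hp.hz hp.ht h2).symm
  obtain ⟨k, hk, hk1⟩ := h1
  rw [not_or] at hk1
  obtain ⟨hk1, hk2⟩ := hk1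
  have ht1 : t⁻¹ = t := hp.ht.inv h
  have ht2 : t * t = 1 := hp.ht.z2 h
  have hkk : k * k = z := by
    rcases hx.cov k hk with rfl | rfl | ⟨i, rfl | rfl⟩
    · exact absurd (by group) hk1
    · exact absurd (by rw [← hp.comm, mul_inv_cancel_right]) hk1
    · exact hx.sq i
    · calc z * x i * (z * x i) = z * (x i * z) * x i := by group
        _ = z * (z * x i) * x i := by rw [hx.zc]
        _ = z := by rw [hx.zzx, hx.sq]
  have hbK : t * k * t⁻¹ ∈ K := by
    rw [← hp.fx K hK]; exact conj_mem_cj hk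
  have hbb : t * k * t⁻¹ * (t * k * t⁻¹) = z := by
    calc t * k * t⁻¹ * (t * k * t⁻¹) = t * (k * k) * t⁻¹ := by group
      _ = z := by rw [hkk, ← hp.comm, mul_inv_cancel_right]
  obtain ⟨i, hi⟩ := hx.of_sq hk hkk
  obtain ⟨j, hj⟩ := hx.of_sq hbK hbb
  have hij : i ≠ j := by
    rintro rfl
    rcases hi with hi | hi <;> rcases hj with hj | hj
    · exact hk1 (hj.trans hi.symm)
    · exact hk2 (by rw [hj, hi])
    · exact hk2 (by rw [hj, hi, hx.zzx])
    · exact hk1 (hj.trans hi.symm)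
  have hzk : z * k = k * z := by rw [← hkk, mul_assoc]
  have hanti : k * (t * k * t⁻¹) = z * ((t * k * t⁻¹) * k) := by
    rw [← hkk]
    have h3 := hx.anti hij
    rcases hi with hi | hi <;> rcases hj with hj | hj
    · rw [hj, hkk, hi, h3, mul_assoc]
    · rw [hj, hkk, hi]
      calc x i * (z * x j) = (x i * z) * x j := by group
        _ = (z * x i) * x j := by rw [hx.zc]
        _ = z * (x i * x j) := by group
        _ = z * (z * x j * x i) := by rw [h3]
    · rw [hj, hkk, hi]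
      calc z * x i * x j = z * (x i * x j) := by group
        _ = z * (z * x j * x i) := by rw [h3]
        _ = z * ((x j * z) * x i) := by rw [hx.zc j]
        _ = _ := by group
    · rw [hj, hkk, hi]
      calc z * x i * (z * x j) = z * (x i * z) * x j := by group
        _ = z * (z * x i) * x j := by rw [hx.zc]
        _ = z * z * (x i * x j) := by group
        _ = z * z * (z * x j * x i) := by rw [h3]
        _ = z * (z * (z * x j) * x i) := by group
        _ = z * (z * (x j * z) * x i) := by rw [hx.zc j]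
        _ = _ := by group
  have hnc : k * (t * k * t⁻¹) ≠ (t * k * t⁻¹) * k := by
    intro h3
    rw [h3] at hanti
    exact hx.z1 (mul_eq_right.1 hanti.symm)
  refine ⟨_, hx.of_pair hk hbK hkk hbb hnc, rfl, ?_, ?_⟩
  · show t * (t * k * t⁻¹) * t⁻¹ = k
    rw [ht1]
    calc t * (t * k * t) * t = (t * t) * k * (t * t) := by group
      _ = k := by rw [ht2]; group
  · show t * (k * (t * k * t⁻¹)) * t⁻¹ = z * (k * (t * k * t⁻¹))
    have h3 : t * (k * (t * k * t⁻¹)) * t⁻¹ = (t * k * t⁻¹) * (t * t * k * (t * t)⁻¹) := by group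
    rw [h3, ht2, hanti, hx.zzx]
    group

/-- `z t ∈ Z`, and `t` is conjugate under `R_z` to `t w` with `w ∈ R_z - ⟨z⟩` commuting with `t` -/
theorem FR.exists_w (hp : FR Om z t) (h : W2 Om) (hT : TO Om) :
    InZ Om (z * t) ∧ ∃ w ∈ RZ Om z, ∃ r ∈ RZ Om z, w ≠ 1 ∧ w ≠ z ∧ w * t = t * w ∧ r * t * r⁻¹ = t * w := by
  obtain ⟨K, hK⟩ := hp.hz
  obtain ⟨L, hL, hne, -⟩ := hK.other h
  obtain ⟨x, hx, h0, h1, h2⟩ := hp.coord h hT hK
  obtain ⟨y, hy, k0, k1, k2⟩ := hp.coord h hT hL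
  have ht1 : t⁻¹ = t := hp.ht.inv h
  have ht2 : t * t = 1 := hp.ht.z2 h
  have hxy : ∀ i j, x i * y j = y j * x i := fun i j => hK.comm hL h hne (hx.mem i) (hy.mem j)
  have m2 : x 0 * x 1 = x 2 := hx.mul 0
  have n2 : y 0 * y 1 = y 2 := hy.mul 0
  -- `x 2 t (x 2)⁻¹ = z t`
  have e1 : x 2 * t * (x 2)⁻¹ = z * t := by
    have : t * (x 2)⁻¹ * t⁻¹ = x 2 := by
      have h3 : t * (x 2)⁻¹ * t⁻¹ = (t * x 2 * t⁻¹)⁻¹ := by group
      rw [h3, h2, mul_inv_rev, hx.zinv, hx.inv, hx.zc 2, mul_assoc, hx.z2, mul_one]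
    calc x 2 * t * (x 2)⁻¹ = x 2 * (t * (x 2)⁻¹ * t⁻¹) * t := by group
      _ = z * t := by rw [this, hx.sq]
  -- `x 0 t (x 0)⁻¹ = t (x 2)`
  have conj0 : ∀ (a : Fin 3 → G) (N : Subgroup G), Q3 N z a → t * a 0 * t⁻¹ = a 1 → t * a 2 * t⁻¹ = z * a 2 →
      a 0 * t * (a 0)⁻¹ = t * a 2 := by
    intro a N ha q0 q2
    have m2 : a 0 * a 1 = a 2 := ha.mul 0
    have r0 : t * (a 0)⁻¹ * t⁻¹ = z * a 1 := by
      have h3 : t * (a 0)⁻¹ * t⁻¹ = (t * a 0 * t⁻¹)⁻¹ := by group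
      rw [h3, q0, ha.inv]
    calc a 0 * t * (a 0)⁻¹ = a 0 * (t * (a 0)⁻¹ * t⁻¹) * t := by group
      _ = a 0 * (z * a 1) * t := by rw [r0]
      _ = (a 0 * z) * a 1 * t := by group
      _ = (z * a 0) * a 1 * t := by rw [ha.zc]
      _ = (z * (a 0 * a 1)) * t := by group
      _ = (t * a 2 * t⁻¹) * t := by rw [m2, q2]
      _ = _ := by group
  have e2 := conj0 x K hx h0 h2
  have e3 := conj0 y L hy k0 k2
  refine ⟨?_, x 2 * y 2, mul_mem (hK.le_RZ (hx.mem 2)) (hL.le_RZ (hy.mem 2)), x 0 * y 0,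
    mul_mem (hK.le_RZ (hx.mem 0)) (hL.le_RZ (hy.mem 0)), ?_, ?_, ?_, ?_⟩
  · rw [← e1]; exact hp.ht.conj h (x 2)
  · intro h3
    have h4 : x 2 = (y 2)⁻¹ := eq_inv_of_mul_eq_one_left h3
    rcases hK.inf hL h hne (hx.mem 2) (by rw [h4]; exact inv_mem (hy.mem 2)) with h5 | h5
    · exact hx.ne_one 2 h5
    · exact hx.ne_z 2 h5
  · intro h3
    have h4 : x 2 = z * (y 2)⁻¹ := by rw [← h3]; group
    rcases hK.inf hL h hne (hx.mem 2) (by rw [h4]; exact mul_mem hy.zmem (inv_mem (hy.mem 2))) with h5 | h5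
    · exact hx.ne_one 2 h5
    · exact hx.ne_z 2 h5
  · have h3 : t * (x 2 * y 2) * t⁻¹ = x 2 * y 2 := by
      calc t * (x 2 * y 2) * t⁻¹ = (t * x 2 * t⁻¹) * (t * y 2 * t⁻¹) := by group
        _ = z * x 2 * (z * y 2) := by rw [h2, k2]
        _ = z * (x 2 * z) * y 2 := by group
        _ = _ := by rw [← hx.zc, hx.zzx]
    rw [mul_inv_eq_iff_eq_mul] at h3
    exact h3.symm
  · calc x 0 * y 0 * t * (x 0 * y 0)⁻¹ = x 0 * (y 0 * t * (y 0)⁻¹) * (x 0)⁻¹ := by group
      _ = x 0 * (t * y 2) * (x 0)⁻¹ := by rw [e3]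
      _ = (x 0 * t * (x 0)⁻¹) * (x 0 * y 2) * (x 0)⁻¹ := by group
      _ = (t * x 2) * (y 2 * x 0) * (x 0)⁻¹ := by rw [e2, hxy]
      _ = _ := by group

/-- (8.1) -/
theorem FR.symm (hp : FR Om z t) (h : W2 Om) (hT : TO Om) : FR Om t z := by
  rcases pr_or_fr h hp.ht hp.hz hp.ne.symm hp.comm.symm with h1 | h1
  swap
  · exact h1
  exfalso
  obtain ⟨hzt, w, hw, r, hr, hw1, hwz, hwt, hrt⟩ := hp.exists_w h hT
  have hrz := RZ_le_centralizer h hr
  have hwz' := RZ_le_centralizer h hw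
  -- `s = t w`
  have hs : InZ Om (t * w) := by rw [← hrt]; exact hp.ht.conj h r
  have hsz : PR Om (t * w) z := by
    have := h1.conj h r
    rwa [hrt, hrz, mul_inv_cancel_right] at this
  have t2 : t * t = 1 := hp.ht.z2 h
  have hst : t * w ≠ t := fun h2 => hw1 (mul_eq_left.1 h2)
  have hInw : ∀ v ∈ RZ Om z, InZ Om v → v = z := fun v hv hv' => hT z v hp.hz hv' (Inn.of_RZ hp.hz h hv)
  rcases pr_or_fr h hs hp.ht hst (by rw [mul_assoc, hwt, ← mul_assoc]) with h2 | h2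
  · -- `z t` fixes the members over `s`
    have h3 : FR Om (t * w) (z * t) := by
      refine ⟨hs, hzt, ?_, ?_, fun M hM => ?_⟩
      · intro h4
        apply hwz
        rw [hp.comm] at h4
        exact mul_left_cancel h4
      · calc t * w * (z * t) = t * (w * z) * t := by group
          _ = t * (z * w) * t := by rw [hwz']
          _ = (t * z) * (w * t) := by group
          _ = (z * t) * (t * w) := by rw [hwt, hp.comm]
          _ = _ := by group
      · exact sw_mul h hM hsz.sw h2.sw hsz.comm.symm h2.comm.symm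
    have h4 := (h3.exists_w h hT).1
    have h5 : t * w * (z * t) = w * z := by
      calc t * w * (z * t) = t * w * (t * z) := by rw [hp.comm]
        _ = t * (w * t) * z := by group
        _ = t * (t * w) * z := by rw [hwt]
        _ = (t * t) * (w * z) := by group
        _ = w * z := by rw [t2, one_mul]
    rw [h5] at h4
    have h6 := hInw _ (mul_mem hw (z_mem_RZ hp.hz h)) h4
    exact hw1 (mul_eq_right.1 h6)
  · have h4 := (h2.exists_w h hT).1
    have h5 : t * w * t = w := by rw [mul_assoc, hwt, ← mul_assoc, t2, one_mul]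
    rw [h5] at h4
    exact hwz (hInw w hw h4)

theorem PR.symm (hp : PR Om z t) (h : W2 Om) (hT : TO Om) : PR Om t z := by
  rcases pr_or_fr h hp.ht hp.hz hp.ne.symm hp.comm.symm with h1 | h1
  · exact h1
  · exact (hp.not_fr (h1.symm h hT)).elim

/-! ### Type p: coordinates -/

/-- a pair of type p with coordinates -/
structure HP (Om : Set (Subgroup G)) (z t : G) (K : Subgroup G) (x : Fin 3 → G) : Prop where
  pr : PR Om z t
  hK : Mem Om z K
  q : Q3 K z x

theorem PR.exists_hp (hp : PR Om z t) (h : W2 Om) : ∃ K x, HP Om z t K x := by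
  obtain ⟨K, hK⟩ := hp.hz
  obtain ⟨x, hx⟩ := h.exists_q3 hK
  exact ⟨K, x, hp, hK, hx⟩

namespace HP

variable {x : Fin 3 → G} {i j : Fin 3}

theorem hK' (P : HP Om z t K x) (h : W2 Om) : Mem Om z (cj t K) := P.hK.cj_comm h P.pr.comm.symm

theorem ne' (P : HP Om z t K x) : K ≠ cj t K := (P.pr.sw K P.hK).symm

theorem q' (P : HP Om z t K x) : Q3 (cj t K) z (fun i => t * x i * t⁻¹) := P.q.conj_comm P.pr.comm.symm

theorem cases (P : HP Om z t K x) (h : W2 Om) (hM : Mem Om z M) : M = K ∨ M = cj t K :=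
  P.hK.cases (P.hK' h) h P.ne' hM

theorem xx' (P : HP Om z t K x) (h : W2 Om) (i j : Fin 3) : x i * (t * x j * t⁻¹) = t * x j * t⁻¹ * x i :=
  P.hK.comm (P.hK' h) h P.ne' (P.q.mem i) (P.q'.mem j)

theorem tinv (P : HP Om z t K x) (h : W2 Om) : t⁻¹ = t := P.pr.tinv h

theorem t2 (P : HP Om z t K x) (h : W2 Om) : t * t = 1 := P.pr.t2 h

theorem tt (P : HP Om z t K x) (h : W2 Om) (g : G) : t * (t * g * t⁻¹) * t⁻¹ = g := by
  have h1 : t * (t * g * t⁻¹) * t⁻¹ = (t * t) * g * (t * t)⁻¹ := by group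
  rw [h1, P.t2 h]; group

theorem rot (P : HP Om z t K x) (m : Fin 3) : HP Om z t K (fun i => x (i + m)) := ⟨P.pr, P.hK, P.q.rot m⟩

theorem e_mem (P : HP Om z t K x) (h : W2 Om) (i : Fin 3) : ee z t x i ∈ RZ Om z :=
  mul_mem (mul_mem (z_mem_RZ P.pr.hz h) (P.hK.le_RZ (P.q.mem i))) ((P.hK' h).le_RZ (P.q'.mem i))

theorem e_sq (P : HP Om z t K x) (h : W2 Om) (i : Fin 3) : ee z t x i * ee z t x i = 1 :=
  qq_sq P.q P.q' (P.xx' h) i

theorem e_inv (P : HP Om z t K x) (h : W2 Om) (i : Fin 3) : (ee z t x i)⁻¹ = ee z t x i :=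
  inv_eq_of_mul_eq_one_right (P.e_sq h i)

theorem xx_eq (P : HP Om z t K x) (i : Fin 3) : x i * (t * x i * t⁻¹) = z * ee z t x i := by
  rw [ee, mul_assoc z, P.q.zzx]

theorem e_mul (P : HP Om z t K x) (h : W2 Om) (i : Fin 3) :
    ee z t x i * ee z t x (i + 1) = z * ee z t x (i + 2) := by
  rw [← P.xx_eq]; exact qq_mul P.q P.q' (P.xx' h) i

theorem e_mul' (P : HP Om z t K x) (h : W2 Om) (i : Fin 3) :
    ee z t x (i + 1) * ee z t x i = z * ee z t x (i + 2) := by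
  rw [← P.xx_eq]; exact qq_mul' P.q P.q' (P.xx' h) i

theorem e_z (P : HP Om z t K x) (h : W2 Om) (i : Fin 3) : ee z t x i * z = z * ee z t x i :=
  RZ_le_centralizer h (P.e_mem h i)

theorem e_t (P : HP Om z t K x) (h : W2 Om) (i : Fin 3) : ee z t x i * t = t * ee z t x i := by
  have h1 : t * ee z t x i * t⁻¹ = ee z t x i := by
    calc t * ee z t x i * t⁻¹ = (t * z) * x i * t⁻¹ * (t * (t * x i * t⁻¹) * t⁻¹) := by rw [ee]; group
      _ = (z * t) * x i * t⁻¹ * x i := by rw [P.tt h, P.pr.comm]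
      _ = z * ((t * x i * t⁻¹) * x i) := by group
      _ = _ := by rw [← P.xx' h, ee]; simp only [mul_assoc]
  rw [mul_inv_eq_iff_eq_mul] at h1
  exact h1.symm

theorem e_comm (P : HP Om z t K x) (h : W2 Om) (i j : Fin 3) :
    ee z t x i * ee z t x j = ee z t x j * ee z t x i := by
  rcases i_cases3 i j with rfl | rfl | rfl
  · rfl
  · rw [P.e_mul h, P.e_mul' h]
  · have h1 := P.e_mul h (i + 2)
    have h2 := P.e_mul' h (i + 2)
    rw [i21, i22] at h1 h2
    rw [h1, h2]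

/-- `t^{x_i} = t e_i` -/
theorem conj_t (P : HP Om z t K x) (h : W2 Om) (i : Fin 3) : x i * t * (x i)⁻¹ = t * ee z t x i := by
  have h2 : t * (x i)⁻¹ * t⁻¹ = z * (t * x i * t⁻¹) := by
    calc t * (x i)⁻¹ * t⁻¹ = t * (z * x i) * t⁻¹ := by rw [P.q.inv]
      _ = (t * z) * x i * t⁻¹ := by group
      _ = (z * t) * x i * t⁻¹ := by rw [P.pr.comm]
      _ = _ := by group
  calc x i * t * (x i)⁻¹ = x i * (t * (x i)⁻¹ * t⁻¹) * t := by group
    _ = x i * (z * (t * x i * t⁻¹)) * t := by rw [h2]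
    _ = (x i * z) * (t * x i * t⁻¹) * t := by group
    _ = (z * x i) * (t * x i * t⁻¹) * t := by rw [P.q.zc]
    _ = _ := P.e_t h i

theorem x_e_self (P : HP Om z t K x) (h : W2 Om) (i : Fin 3) : x i * ee z t x i * (x i)⁻¹ = ee z t x i := by
  calc x i * ee z t x i * (x i)⁻¹ = (x i * z) * x i * (t * x i * t⁻¹) * (x i)⁻¹ := by rw [ee]; group
    _ = (z * x i) * (x i * (t * x i * t⁻¹)) * (x i)⁻¹ := by rw [P.q.zc]; group
    _ = (z * x i) * ((t * x i * t⁻¹) * x i) * (x i)⁻¹ := by rw [P.xx' h]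
    _ = _ := by rw [ee]; group

theorem x_e_ne (P : HP Om z t K x) (h : W2 Om) (hij : i ≠ j) : x i * ee z t x j * (x i)⁻¹ = z * ee z t x j := by
  calc x i * ee z t x j * (x i)⁻¹ = (x i * z) * x j * ((t * x j * t⁻¹) * (x i)⁻¹) := by rw [ee]; group
    _ = (z * x i) * x j * ((x i)⁻¹ * (t * x j * t⁻¹)) := by
      rw [P.q.zc]
      congr 1
      have h1 := P.xx' h i j
      rw [eq_inv_mul_iff_mul_eq, ← mul_assoc, h1, mul_inv_cancel_right]
    _ = z * (x i * x j * (x i)⁻¹) * (t * x j * t⁻¹) := by group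
    _ = z * (z * x j) * (t * x j * t⁻¹) := by rw [P.q.conj_ne hij]
    _ = _ := by rw [ee]; group

theorem e_ne_one (P : HP Om z t K x) (h : W2 Om) (i : Fin 3) : ee z t x i ≠ 1 := by
  intro h1
  have h2 := P.x_e_ne h (i_ne1 (i + 2))
  rw [i21, h1] at h2
  apply P.q.z1
  rw [mul_one, mul_one, mul_inv_cancel] at h2
  exact h2.symm

theorem e_ne_z (P : HP Om z t K x) (h : W2 Om) (i : Fin 3) : ee z t x i ≠ z := by
  intro h1
  have h2 := P.x_e_ne h (i_ne1 (i + 2))
  rw [i21, h1, ← P.q.zc, mul_inv_cancel_right, P.q.z2] at h2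
  exact P.q.z1 h2

theorem e_not_CX (P : HP Om z t K x) (h : W2 Om) (i : Fin 3) : ee z t x i ∉ CX Om z := by
  intro h1
  have h2 := mem_CX.1 h1 K P.hK (x (i + 2)) (P.q.mem _)
  have h3 := P.x_e_ne h (i_ne1 (i + 2))
  rw [i21, ← h2, mul_inv_cancel_right] at h3
  exact P.q.z1 (mul_eq_right.1 h3.symm)

theorem c_not_CX (P : HP Om z t K x) (h : W2 Om) (i : Fin 3) : z * ee z t x i ∉ CX Om z := by
  intro h1
  apply P.e_not_CX h i
  have := mul_mem (z_mem_CX (Om := Om) (z := z) h) h1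
  rwa [P.q.zzx] at this

/-- `C_{R_z}(t)` -/
theorem RZ_comm (P : HP Om z t K x) (h : W2 Om) {r : G} (hr : r ∈ RZ Om z) (hrt : r * t = t * r) :
    r = 1 ∨ r = z ∨ ∃ i, r = ee z t x i ∨ r = z * ee z t x i := by
  obtain ⟨k, hk, l, hl, rfl⟩ := (mem_RZ P.hK (P.hK' h) h P.ne').1 hr
  obtain ⟨m, hm, rfl⟩ : ∃ m ∈ K, t * m * t⁻¹ = l := by
    obtain ⟨m, hm, rfl⟩ := hl; exact ⟨m, hm, rfl⟩
  have hmt : ∀ a ∈ K, ∀ b ∈ K, a * (t * b * t⁻¹) = t * b * t⁻¹ * a := fun a ha b hb =>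
    P.hK.comm (P.hK' h) h P.ne' ha (conj_mem_cj hb)
  have h1 : t * (k * (t * m * t⁻¹)) * t⁻¹ = m * (t * k * t⁻¹) := by
    calc t * (k * (t * m * t⁻¹)) * t⁻¹ = (t * k * t⁻¹) * (t * (t * m * t⁻¹) * t⁻¹) := by group
      _ = (t * k * t⁻¹) * m := by rw [P.tt h]
      _ = _ := (hmt m hm k hk).symm
  rw [← hrt, mul_inv_cancel_right] at h1
  have h2 : m⁻¹ * k = (t * k * t⁻¹) * (t * m * t⁻¹)⁻¹ := by
    rw [eq_mul_inv_iff_mul_eq, mul_assoc, h1, inv_mul_cancel_left]
  have h3 : m⁻¹ * k = 1 ∨ m⁻¹ * k = z :=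
    P.hK.inf (P.hK' h) h P.ne' (mul_mem (inv_mem hm) hk)
      (by rw [h2]; exact mul_mem (conj_mem_cj hk) (inv_mem (conj_mem_cj hm)))
  have hzK : ∀ a ∈ K, a * z = z * a := fun a ha => P.hK.comm_z h ha
  have h4 : k * (t * m * t⁻¹) = m * (t * m * t⁻¹) ∨ k * (t * m * t⁻¹) = z * (m * (t * m * t⁻¹)) := by
    rcases h3 with h3 | h3
    · left; rw [inv_mul_eq_one.1 h3]
    · right
      rw [inv_mul_eq_iff_eq_mul, hzK m hm] at h3
      rw [h3]; group
  have h5 : m * (t * m * t⁻¹) = 1 ∨ ∃ i, m * (t * m * t⁻¹) = z * ee z t x i := by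
    rcases P.q.cov m hm with rfl | rfl | ⟨i, rfl | rfl⟩
    · left; group
    · left; rw [← P.pr.comm, mul_inv_cancel_right, P.q.z2]
    · right; exact ⟨i, P.xx_eq i⟩
    · right
      refine ⟨i, ?_⟩
      rw [← P.xx_eq]
      calc z * x i * (t * (z * x i) * t⁻¹) = z * x i * ((t * z) * x i * t⁻¹) := by group
        _ = z * x i * ((z * t) * x i * t⁻¹) := by rw [P.pr.comm]
        _ = z * (x i * z) * (t * x i * t⁻¹) := by group
        _ = _ := by rw [← P.q.zc, P.q.zzx]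
  rcases h4 with h4 | h4 <;> rcases h5 with h5 | ⟨i, h5⟩
  · left; rw [h4, h5]
  · right; right; exact ⟨i, Or.inr (by rw [h4, h5])⟩
  · right; left; rw [h4, h5, mul_one]
  · right; right; exact ⟨i, Or.inl (by rw [h4, h5, P.q.zzx])⟩

/-- an element commuting with `t`, acting on `K` as `x j`: times `e j` it centralises `R_z` -/
theorem mul_e_mem (P : HP Om z t K x) (h : W2 Om) {y : G} (hyt : y * t = t * y)
    (hy : ∀ k ∈ K, y * k * y⁻¹ = x j * k * (x j)⁻¹) : y * ee z t x j ∈ CX Om z := by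
  have key : ∀ k ∈ K, y * ee z t x j * k = k * (y * ee z t x j) := by
    intro k hk
    have h1 : ee z t x j * k * (ee z t x j)⁻¹ = x j * k * (x j)⁻¹ := by
      have h2 : (t * x j * t⁻¹) * k = k * (t * x j * t⁻¹) :=
        (P.hK.comm (P.hK' h) h P.ne' hk (P.q'.mem j)).symm
      calc ee z t x j * k * (ee z t x j)⁻¹
          = z * x j * ((t * x j * t⁻¹) * k) * (t * x j * t⁻¹)⁻¹ * (x j)⁻¹ * z⁻¹ := by rw [ee]; group
        _ = z * x j * (k * (t * x j * t⁻¹)) * (t * x j * t⁻¹)⁻¹ * (x j)⁻¹ * z⁻¹ := by rw [h2]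
        _ = z * (x j * k * (x j)⁻¹) * z⁻¹ := by group
        _ = _ := by
          rw [← P.hK.comm_z h (mul_mem (mul_mem (P.q.mem j) hk) (inv_mem (P.q.mem j))), mul_inv_cancel_right]
    have hxk : x j * k * (x j)⁻¹ ∈ K := mul_mem (mul_mem (P.q.mem j) hk) (inv_mem (P.q.mem j))
    have h3 : y * ee z t x j * k = (y * (x j * k * (x j)⁻¹) * y⁻¹) * (y * ee z t x j) := by
      rw [← h1]; group
    rw [h3, hy _ hxk]
    have h4 : x j * (x j * k * (x j)⁻¹) * (x j)⁻¹ = (x j * x j) * k * (x j * x j)⁻¹ := by group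
    rw [h4, P.q.sq, ← P.hK.comm_z h hk, mul_inv_cancel_right]
  rw [mem_CX]
  intro M hM k hk
  rcases P.cases h hM with rfl | rfl
  · exact key k hk
  · obtain ⟨m, hm, rfl⟩ : ∃ m ∈ K, t * m * t⁻¹ = k := by
      obtain ⟨m, hm, rfl⟩ := hk; exact ⟨m, hm, rfl⟩
    have h1 := key m hm
    have h2 : y * ee z t x j * t = t * (y * ee z t x j) := by
      rw [mul_assoc, P.e_t h, ← mul_assoc, hyt, mul_assoc]
    have h3 : t⁻¹ * (y * ee z t x j) = y * ee z t x j * t⁻¹ := by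
      rw [inv_mul_eq_iff_eq_mul, ← mul_assoc, ← h2, mul_inv_cancel_right]
    calc y * ee z t x j * (t * m * t⁻¹) = (y * ee z t x j * t) * m * t⁻¹ := by group
      _ = t * (y * ee z t x j * m) * t⁻¹ := by rw [h2]; group
      _ = t * m * ((y * ee z t x j) * t⁻¹) := by rw [h1]; group
      _ = _ := by rw [← h3]; group

/-- an element commuting with `t` and with `K` centralises `R_z` -/
theorem mem_CX_of (P : HP Om z t K x) (h : W2 Om) {y : G} (hyt : y * t = t * y)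
    (hy : ∀ k ∈ K, y * k * y⁻¹ = k) : y ∈ CX Om z := by
  rw [mem_CX]
  intro M hM k hk
  rcases P.cases h hM with rfl | rfl
  · have := hy k hk
    rwa [mul_inv_eq_iff_eq_mul] at this
  · obtain ⟨m, hm, rfl⟩ : ∃ m ∈ K, t * m * t⁻¹ = k := by
      obtain ⟨m, hm, rfl⟩ := hk; exact ⟨m, hm, rfl⟩
    have h1 := hy m hm
    rw [mul_inv_eq_iff_eq_mul] at h1
    have h3 : t⁻¹ * y = y * t⁻¹ := by
      rw [inv_mul_eq_iff_eq_mul, ← mul_assoc, ← hyt, mul_inv_cancel_right]
    calc y * (t * m * t⁻¹) = (y * t) * m * t⁻¹ := by group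
      _ = t * (y * m) * t⁻¹ := by rw [hyt]; group
      _ = t * m * (y * t⁻¹) := by rw [h1]; group
      _ = _ := by rw [← h3]; group

/-- `Inn z y` for `y` commuting with `t` can be tested on `K` -/
theorem inn_of (P : HP Om z t K x) (h : W2 Om) {y : G} (hyt : y * t = t * y)
    (hy : ∀ k ∈ K, y * k * y⁻¹ = k ∨ y * k * y⁻¹ = z * k) : Inn Om z y := by
  rcases P.q.inner_cases hy with h1 | ⟨j, h1⟩
  · exact Inn.of_CX (P.mem_CX_of h hyt h1)
  · exact (Inn.of_RZ P.pr.hz h (P.e_mem h j)).mul_right (Inn.of_CX (P.mul_e_mem h hyt h1)) P.pr.hz h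

end HP

end Fin

end Cfsg.Agent.Cit.Nil.RTwo
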