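import Cfsg.Agent.Cit.Nil.RTwo.Theta
import Cfsg.Agent.Cit.Nil.RTwo.Pair

/-!
# Pairs of type p and f in the presence of lines of type I (section 6 of the blueprint)
-/

set_option autoImplicit false
set_option linter.style.haveILetI false
set_option linter.unusedSectionVars false
set_option maxHeartbeats 400000

namespace Cfsg.Agent.Cit.Nil.RTwo

open Subgroup Cfsg Cit

variable {G : Type*} [Group G]

/-- type f -/
structure FT (Om : Set (Subgroup G)) (z t : G) : Prop where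
  fr : FR Om z t
  ninn : ¬ Inn Om z t

/-- there is an element of `R_z` centralising `t` and moving the members over `t` (`P2`) -/
def PTwo (Om : Set (Subgroup G)) (z t : G) : Prop := ∃ r ∈ RZ Om z, r * t = t * r ∧ Sw Om t r

/-- the connected component of `z` in the type I graph -/
def DI (Om : Set (Subgroup G)) (z t : G) : Prop := Relation.ReflTransGen (TI Om) z t

section

variable [Finite G] {Om : Set (Subgroup G)} {K K1 K2 L M L1 L2 : Subgroup G} {z t u v g r s x y w c c' : G}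
  {a b p q : Fin 3 → G}

theorem tcases (h : W2 Om) (hz : InZ Om z) (ht : InZ Om t) (hne : z ≠ t) (hc : z * t = t * z) :
    PR Om z t ∨ FT Om z t ∨ TI Om z t := by
  rcases pr_or_fr h hz ht hne hc with h1 | h1
  · exact Or.inl h1
  · by_cases h2 : Inn Om z t
    · exact Or.inr (Or.inr ⟨hz, ht, hne, hc, h2⟩)
    · exact Or.inr (Or.inl ⟨h1, h2⟩)

theorem TI.fr (h : W2 Om) (hti : TI Om z t) : FR Om z t :=
  ⟨hti.1, hti.2.1, hti.2.2.1, hti.2.2.2.1, fun _ hM => hti.2.2.2.2.cj_eq hM h⟩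

theorem FT.conj (hp : FT Om z t) (h : W2 Om) (g : G) : FT Om (g * z * g⁻¹) (g * t * g⁻¹) := by
  refine ⟨hp.fr.conj h g, fun h1 => hp.ninn ?_⟩
  have h2 := h1.conj h g⁻¹
  have e1 : g⁻¹ * (g * z * g⁻¹) * g⁻¹⁻¹ = z := by group
  have e2 : g⁻¹ * (g * t * g⁻¹) * g⁻¹⁻¹ = t := by group
  rwa [e1, e2] at h2

/-- coordinates adapted to an outer involution -/
theorem FT.coord (hp : FT Om z t) (h : W2 Om) (hK : Mem Om z K) :
    ∃ x, Q3 K z x ∧ t * x 0 * t⁻¹ = x 1 ∧ t * x 1 * t⁻¹ = x 0 ∧ t * x 2 * t⁻¹ = z * x 2 := by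
  obtain ⟨x, hx⟩ := h.exists_q3 hK
  have h1 : ∃ k ∈ K, ¬ (t * k * t⁻¹ = k ∨ t * k * t⁻¹ = z * k) := by
    by_contra hcon
    push Not at hcon
    have h2 := (h.inn_both hK hp.fr.ht hp.fr.ne.symm hcon).1
    exact hp.ninn h2
  obtain ⟨k, hk, hk1⟩ := h1
  rw [not_or] at hk1
  obtain ⟨hk1, hk2⟩ := hk1
  have ht1 : t⁻¹ = t := hp.fr.ht.inv h
  have ht2 : t * t = 1 := hp.fr.ht.z2 h
  have hkk : k * k = z := by
    rcases hx.cov k hk with rfl | rfl | ⟨i, rfl | rfl⟩
    · exact absurd (by group) hk1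
    · exact absurd (by rw [← hp.fr.comm, mul_inv_cancel_right]) hk1
    · exact hx.sq i
    · calc z * x i * (z * x i) = z * (x i * z) * x i := by group
        _ = z * (z * x i) * x i := by rw [hx.zc]
        _ = z := by rw [hx.zzx, hx.sq]
  have hbK : t * k * t⁻¹ ∈ K := by
    rw [← hp.fr.fx K hK]; exact conj_mem_cj hk
  have hbb : t * k * t⁻¹ * (t * k * t⁻¹) = z := by
    calc t * k * t⁻¹ * (t * k * t⁻¹) = t * (k * k) * t⁻¹ := by group
      _ = z := by rw [hkk, ← hp.fr.comm, mul_inv_cancel_right]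
  obtain ⟨i, hi⟩ := hx.of_sq hk hkk
  obtain ⟨j, hj⟩ := hx.of_sq hbK hbb
  have hij : i ≠ j := by
    rintro rfl
    rcases hi with hi | hi <;> rcases hj with hj | hj
    · exact hk1 (hj.trans hi.symm)
    · exact hk2 (by rw [hj, hi])
    · exact hk2 (by rw [hj, hi, hx.zzx])
    · exact hk1 (hj.trans hi.symm)
  have hzk : z * k = k * z := by rw [← hkk, mul_assoc]
  have hanti : k * (t * k * t⁻¹) = z * ((t * k * t⁻¹) * k) := by
    rw [← hkk]
    have h3 := hx.anti hij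
    rcases hi with hi | hi <;> rcases hj with hj | hj
    · rw [hj, hkk, hi, h3, mul_assoc]
    · rw [hj, hkk, hi]
      calc x i * (z * x j) = (x i * z) * x j := by group
        _ = (z * x i) * x j := by rw [hx.zc]
        _ = z * (x i * x j) := by group
        _ = z * (z * x j * x i) := by rw [h3]
    · rw [hj, hkk, hi]
      calc z * x i * x j = z * (x i * x j) := by group
        _ = z * (z * x j * x i) := by rw [h3]
        _ = z * ((x j * z) * x i) := by rw [hx.zc j]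
        _ = _ := by group
    · rw [hj, hkk, hi]
      calc z * x i * (z * x j) = z * (x i * z) * x j := by group
        _ = z * (z * x i) * x j := by rw [hx.zc]
        _ = z * z * (x i * x j) := by group
        _ = z * z * (z * x j * x i) := by rw [h3]
        _ = z * (z * (z * x j) * x i) := by group
        _ = z * (z * (x j * z) * x i) := by rw [hx.zc j]
        _ = _ := by group
  have hnc : k * (t * k * t⁻¹) ≠ (t * k * t⁻¹) * k := by
    intro h3
    rw [h3] at hanti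
    exact hx.z1 (mul_eq_right.1 hanti.symm)
  refine ⟨_, hx.of_pair hk hbK hkk hbb hnc, rfl, ?_, ?_⟩
  · show t * (t * k * t⁻¹) * t⁻¹ = k
    rw [ht1]
    calc t * (t * k * t) * t = (t * t) * k * (t * t) := by group
      _ = k := by rw [ht2]; group
  · show t * (k * (t * k * t⁻¹)) * t⁻¹ = z * (k * (t * k * t⁻¹))
    have h3 : t * (k * (t * k * t⁻¹)) * t⁻¹ = (t * k * t⁻¹) * (t * t * k * (t * t)⁻¹) := by group
    rw [h3, ht2, hanti, hx.zzx]
    group


/-- the axis of an outer involution -/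
theorem FT.inv_axis (hp : FT Om z t) (h : W2 Om) (hK : Mem Om z K) (hy : y ∈ K) (hyy : y * y = z)
    (hty : t * y * t⁻¹ = y ∨ t * y * t⁻¹ = z * y) : t * y * t⁻¹ = z * y ∧ ∃ r ∈ K, r * t * r⁻¹ = t * y := by
  obtain ⟨x, hx, h0, h1, h2⟩ := hp.coord h hK
  obtain ⟨i, hi⟩ := hx.of_sq hy hyy
  have htz : t * z * t⁻¹ = z := by rw [← hp.fr.comm, mul_inv_cancel_right]
  have hm : ∀ k : G, t * (z * k) * t⁻¹ = z * (t * k * t⁻¹) := by
    intro k
    calc t * (z * k) * t⁻¹ = (t * z * t⁻¹) * (t * k * t⁻¹) := by group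
      _ = _ := by rw [htz]
  have hti : t * x i * t⁻¹ = x i ∨ t * x i * t⁻¹ = z * x i := by
    rcases hi with rfl | rfl
    · exact hty
    · rw [hm] at hty
      rcases hty with h3 | h3
      · left; exact mul_left_cancel h3
      · right; exact mul_left_cancel h3
  have hi2 : i = 2 := by
    fin_cases i
    · exfalso
      rcases hti with h3 | h3
      · exact absurd (hx.inj (Or.inl (h0.symm.trans h3))) (by decide)
      · exact absurd (hx.inj (Or.inr (h0.symm.trans h3))) (by decide)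
    · exfalso
      rcases hti with h3 | h3
      · exact absurd (hx.inj (Or.inl (h1.symm.trans h3))) (by decide)
      · exact absurd (hx.inj (Or.inr (h1.symm.trans h3))) (by decide)
    · rfl
  subst hi2
  have m2 : x 0 * x 1 = x 2 := hx.mul 0
  -- `x 0 t (x 0)⁻¹ = t x 2`, `x 1 t (x 1)⁻¹ = t z x 2`
  have e0 : x 0 * t * (x 0)⁻¹ = t * x 2 := by
    have r0 : t * (x 0)⁻¹ * t⁻¹ = z * x 1 := by
      have h3 : t * (x 0)⁻¹ * t⁻¹ = (t * x 0 * t⁻¹)⁻¹ := by group
      rw [h3, h0, hx.inv]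
    calc x 0 * t * (x 0)⁻¹ = x 0 * (t * (x 0)⁻¹ * t⁻¹) * t := by group
      _ = x 0 * (z * x 1) * t := by rw [r0]
      _ = (x 0 * z) * x 1 * t := by group
      _ = (z * x 0) * x 1 * t := by rw [hx.zc]
      _ = (z * (x 0 * x 1)) * t := by group
      _ = (t * x 2 * t⁻¹) * t := by rw [m2, h2]
      _ = _ := by group
  have e1 : x 1 * t * (x 1)⁻¹ = t * (z * x 2) := by
    have r1 : t * (x 1)⁻¹ * t⁻¹ = z * x 0 := by
      have h3 : t * (x 1)⁻¹ * t⁻¹ = (t * x 1 * t⁻¹)⁻¹ := by group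
      rw [h3, h1, hx.inv]
    have m3 : x 1 * x 0 = z * x 2 := by simpa using hx.mul' 0
    calc x 1 * t * (x 1)⁻¹ = x 1 * (t * (x 1)⁻¹ * t⁻¹) * t := by group
      _ = x 1 * (z * x 0) * t := by rw [r1]
      _ = (x 1 * z) * x 0 * t := by group
      _ = (z * x 1) * x 0 * t := by rw [hx.zc]
      _ = (z * (x 1 * x 0)) * t := by group
      _ = (t * (z * x 2) * t⁻¹) * t := by rw [m3, hm, h2]
      _ = _ := by group
  rcases hi with rfl | rfl
  · exact ⟨h2, x 0, hx.mem 0, e0⟩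
  · exact ⟨by rw [hm, h2], x 1, hx.mem 1, e1⟩

/-- the action of an outer involution on the axes -/
theorem FT.act (hp : FT Om t u) (h : W2 Om) (hL : Mem Om t L) {l : Fin 3 → G} (q : Q3 L t l) :
    ∃ σ, Act t l l u σ ∧ σ * σ = 1 ∧ σ ≠ 1 := by
  have hut : u * t = t * u := hp.fr.comm.symm
  obtain ⟨σ, hσ⟩ := q.exists_act q (hp.fr.fx L hL) hut
  refine ⟨σ, hσ, ?_, ?_⟩
  · have h1 := hσ.comp q.z2 hσ hut
    rw [hp.fr.ht.z2 h] at h1
    exact h1.unique q (Act.one l t)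
  · rintro rfl
    exact hp.ninn (h.inn_both hL hp.fr.ht hp.fr.ne.symm (hσ.inner q hut)).1

/-- the product of two commuting outer involutions is not outer -/
theorem FT.mul_not (hu : FT Om t u) (hv : FT Om t v) (huv : u * v = v * u) (h : W2 Om) (h3 : FT Om t (u * v)) :
    False := by
  obtain ⟨L, hL⟩ := hu.fr.hz
  obtain ⟨l, q⟩ := h.exists_q3 hL
  obtain ⟨σ, hσ, h1, h2⟩ := hu.act h hL q
  obtain ⟨τ, hτ, h4, h5⟩ := hv.act h hL q
  have e1 := hτ.comp q.z2 hσ hu.fr.comm.symm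
  have e2 := hσ.comp q.z2 hτ hv.fr.comm.symm
  rw [huv] at e1
  have e3 := e1.unique q e2
  have key : ∀ σ τ : Equiv.Perm (Fin 3), σ * σ = 1 ∧ σ ≠ 1 ∧ τ * τ = 1 ∧ τ ≠ 1 ∧ σ * τ = τ * σ → σ * τ = 1 := by
    decide
  have e4 := key σ τ ⟨h1, h2, h4, h5, e3⟩
  rw [e4, ← huv] at e1
  exact h3.ninn (h.inn_both hL h3.fr.ht h3.fr.ne.symm (e1.inner q h3.fr.comm.symm)).1

theorem fx_or_sw (h : W2 Om) (hs : InZ Om s) (hg : g * s = s * g) : Fx Om s g ∨ Sw Om s g := by
  obtain ⟨K, hK⟩ := hs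
  obtain ⟨L, hL, hKL, hall⟩ := hK.other h
  have hgK := hK.cj_comm h hg
  have hgL := hL.cj_comm h hg
  by_cases hf : cj g K = K
  · left
    intro M hM
    rcases hall M hM with rfl | rfl
    · exact hf
    · rcases hall _ hgL with h1 | h1
      · exact absurd (cj_inj.1 (h1.trans hf.symm)).symm hKL
      · exact h1
  · right
    intro M hM
    rcases hall M hM with rfl | rfl
    · exact hf
    · intro h1
      rcases hall _ hgK with h2 | h2
      · exact hf h2
      · exact hKL (cj_inj.1 (h2.trans h1.symm))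

theorem fx_sw_false (hs : InZ Om s) (h1 : Fx Om s g) (h2 : Sw Om s g) : False := by
  obtain ⟨K, hK⟩ := hs; exact h2 K hK (h1 K hK)

theorem Fx.mul {g g' : G} (h1 : Fx Om s g) (h2 : Fx Om s g') : Fx Om s (g * g') := fun K hK => by
  rw [cj_mul, h2 K hK, h1 K hK]

theorem Fx.mul_sw {g g' : G} (h1 : Fx Om s g) (h2 : Sw Om s g') : Sw Om s (g * g') := fun K hK h3 => by
  apply h2 K hK
  rw [cj_mul] at h3
  exact cj_inj.1 (h3.trans (h1 K hK).symm)

theorem Sw.mul_fx {g g' : G} (h1 : Sw Om s g) (h2 : Fx Om s g') : Sw Om s (g * g') := fun K hK h3 => by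
  apply h1 K hK
  rwa [cj_mul, h2 K hK] at h3

theorem Sw.mul {g g' : G} (h : W2 Om) (h1 : Sw Om s g) (h2 : Sw Om s g') (hg : g * s = s * g)
    (hg' : g' * s = s * g') : Fx Om s (g * g') := fun _ hK => sw_mul h hK h1 h2 hg hg'

theorem Fx.conj (h : W2 Om) (h1 : Fx Om s g) (k : G) : Fx Om (k * s * k⁻¹) (k * g * k⁻¹) := by
  intro K hK
  have h2 := hK.cj h k⁻¹
  have h3 : k⁻¹ * (k * s * k⁻¹) * k⁻¹⁻¹ = s := by group
  rw [h3] at h2
  have h4 := h1 _ h2
  rw [cj_mul, cj_mul, h4, cj_cj_inv]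

theorem Sw.conj (h : W2 Om) (h1 : Sw Om s g) (k : G) : Sw Om (k * s * k⁻¹) (k * g * k⁻¹) := by
  intro K hK h5
  have h2 := hK.cj h k⁻¹
  have h3 : k⁻¹ * (k * s * k⁻¹) * k⁻¹⁻¹ = s := by group
  rw [h3] at h2
  apply h1 _ h2
  rw [cj_mul, cj_mul] at h5
  have h6 := congrArg (cj k⁻¹) h5
  rwa [cj_inv_cj] at h6

theorem PR.sw' (hp : PR Om z t) : Sw Om z t := hp.sw
theorem FR.fx' (hp : FR Om z t) : Fx Om z t := hp.fx

/-- **FOUR** -/
theorem four (h : W2 Om) (hu : InZ Om u) (hv : InZ Om v) (huv' : InZ Om (u * v)) (ht : InZ Om t)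
    (huv : u * v = v * u) (htu : t * u = u * t) (htv : t * v = v * t) (h1 : t ≠ u) (h2 : t ≠ v) (h3 : t ≠ u * v)
    (n1 : ¬ TI Om t u) (n2 : ¬ TI Om t v) (n3 : ¬ TI Om t (u * v)) :
    (PR Om t u ∧ PR Om t v ∧ FT Om t (u * v)) ∨ (PR Om t u ∧ FT Om t v ∧ PR Om t (u * v)) ∨
      (FT Om t u ∧ PR Om t v ∧ PR Om t (u * v)) := by
  have htuv : t * (u * v) = u * v * t := by rw [← mul_assoc, htu, mul_assoc, htv, mul_assoc]
  have c1 : PR Om t u ∨ FT Om t u := by
    rcases tcases h ht hu h1 htu with h4 | h4 | h4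
    · exact Or.inl h4
    · exact Or.inr h4
    · exact absurd h4 n1
  have c2 : PR Om t v ∨ FT Om t v := by
    rcases tcases h ht hv h2 htv with h4 | h4 | h4
    · exact Or.inl h4
    · exact Or.inr h4
    · exact absurd h4 n2
  have c3 : PR Om t (u * v) ∨ FT Om t (u * v) := by
    rcases tcases h ht huv' h3 htuv with h4 | h4 | h4
    · exact Or.inl h4
    · exact Or.inr h4
    · exact absurd h4 n3
  rcases c1 with c1 | c1 <;> rcases c2 with c2 | c2 <;> rcases c3 with c3 | c3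
  · exact (fx_sw_false ht (Sw.mul h c1.sw c2.sw htu.symm htv.symm) c3.sw).elim
  · exact Or.inl ⟨c1, c2, c3⟩
  · exact Or.inr (Or.inl ⟨c1, c2, c3⟩)
  · exact (fx_sw_false ht c3.fr.fx (Sw.mul_fx c1.sw c2.fr.fx)).elim
  · exact Or.inr (Or.inr ⟨c1, c2, c3⟩)
  · exact (fx_sw_false ht c3.fr.fx (Fx.mul_sw c1.fr.fx c2.sw)).elim
  · exact (fx_sw_false ht (Fx.mul c1.fr.fx c2.fr.fx) c3.sw).elim
  · exact (c1.mul_not c2 huv h c3).elim

/-- **OCT** -/
theorem oct (h : W2 Om) {A : Subgroup G} (hA : ∀ a ∈ A, a ≠ 1 → InZ Om a) (hAc : ∀ a ∈ A, ∀ b ∈ A, a * b = b * a)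
    (hu : u ∈ A) (hv : v ∈ A) (hw : w ∈ A) (hu1 : u ≠ 1) (hv1 : v ≠ 1) (hvu : v ≠ u) (hw1 : w ≠ 1) (hwu : w ≠ u)
    (hwv : w ≠ v) (hwuv : w ≠ u * v) (ht : InZ Om t) (htA : t ∉ A) (htc : ∀ a ∈ A, t * a = a * t) :
    ∃ a ∈ A, a ≠ 1 ∧ TI Om t a := by
  by_contra hcon
  push Not at hcon
  have hsq : ∀ a ∈ A, a * a = 1 := by
    intro a ha
    by_cases h1 : a = 1
    · rw [h1, mul_one]
    · exact (hA a ha h1).z2 h
  have hinv : ∀ a ∈ A, a⁻¹ = a := fun a ha => inv_eq_of_mul_eq_one_right (hsq a ha)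
  -- two different elements `≠ 1` of `A` fixing the members over `t` give a contradiction
  have key : ∀ a ∈ A, ∀ b ∈ A, a ≠ 1 → b ≠ 1 → a ≠ b → Fx Om t a → Fx Om t b → False := by
    intro a ha b hb ha1 hb1 hab fa fb
    have hft : ∀ a ∈ A, a ≠ 1 → Fx Om t a → FT Om t a := by
      intro a ha ha1 fa
      have hne : t ≠ a := fun e => htA (e ▸ ha)
      rcases tcases h ht (hA a ha ha1) hne (htc a ha) with h4 | h4 | h4
      · exact (fx_sw_false ht fa h4.sw).elim
      · exact h4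
      · exact absurd h4 (hcon a ha ha1)
    have hab1 : a * b ≠ 1 := fun e => hab (by
      have := eq_inv_of_mul_eq_one_left e
      rwa [hinv b hb] at this)
    exact (hft a ha ha1 fa).mul_not (hft b hb hb1 fb) (hAc a ha b hb) h
      (hft _ (mul_mem ha hb) hab1 (fa.mul fb))
  have huv1 : u * v ≠ 1 := fun e => hvu (by
    have := eq_inv_of_mul_eq_one_left e
    rw [hinv v hv] at this; exact this.symm)
  have hvw1 : v * w ≠ 1 := fun e => hwv (by
    have := eq_inv_of_mul_eq_one_left e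
    rw [hinv w hw] at this; exact this.symm)
  have huw1 : u * w ≠ 1 := fun e => hwu (by
    have := eq_inv_of_mul_eq_one_left e
    rw [hinv w hw] at this; exact this.symm)
  have ct : ∀ a ∈ A, a * t = t * a := fun a ha => (htc a ha).symm
  rcases fx_or_sw h ht (ct u hu) with fu | fu <;> rcases fx_or_sw h ht (ct v hv) with fv | fv <;>
  rcases fx_or_sw h ht (ct w hw) with fw | fw
  · exact key u hu v hv hu1 hv1 hvu.symm fu fv
  · exact key u hu v hv hu1 hv1 hvu.symm fu fv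
  · exact key u hu w hw hu1 hw1 hwu.symm fu fw
  · refine key u hu (v * w) (mul_mem hv hw) hu1 hvw1 ?_ fu (fv.mul h fw (ct v hv) (ct w hw))
    intro e
    apply hwuv
    rw [e, hAc (v * w) (mul_mem hv hw) v hv, ← mul_assoc, hsq v hv, one_mul]
  · exact key v hv w hw hv1 hw1 hwv.symm fv fw
  · refine key v hv (u * w) (mul_mem hu hw) hv1 huw1 ?_ fv (fu.mul h fw (ct u hu) (ct w hw))
    intro e
    apply hwuv
    rw [e, ← mul_assoc, hsq u hu, one_mul]
  · refine key w hw (u * v) (mul_mem hu hv) hw1 huv1 hwuv fw (fu.mul h fv (ct u hu) (ct v hv))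
  · refine key (u * v) (mul_mem hu hv) (v * w) (mul_mem hv hw) huv1 hvw1 ?_ (fu.mul h fv (ct u hu) (ct v hv))
      (fv.mul h fw (ct v hv) (ct w hw))
    intro e
    apply hwu
    rw [hAc u hu v hv] at e
    exact (mul_left_cancel e).symm

end

end Cfsg.Agent.Cit.Nil.RTwo
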