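import Cfsg.Agent.Cit.Nil.RTwo.TOne
import Cfsg.Agent.TwoFusion.Isolated
import Cfsg.Agent.Lib.Cores

/-!
# S1309, `r = 2`, `m = 1`: the T-only world, (8.7)-(8.9)

* `HP.all_inn` (8.7): all four graphs are equal;
* `FP` : pair of type p with adapted coordinates (`t e_i = z f_i`), `PR.exists_fp`;
* `FP.cases` (8.8), `FP.eq_of` (8.9), `PR.cent` : `[X_z, t] = 1` (Z*).
-/

set_option autoImplicit false
set_option linter.unusedSectionVars false

namespace Cfsg.Agent.Cit.Nil.RTwo

open Subgroup Cfsg Cfsg.Agent.Cit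

/-- Glauberman's Z*-theorem for an involution `u` of the subgroup `X`. -/
theorem zstar_sub {G : Type*} [Group G] [Finite G] {X : Subgroup G} {u : G} (huX : u ∈ X) (hu2 : u * u = 1)
    (hu1 : u ≠ 1) : (∃ h ∈ X, h * u * h⁻¹ ≠ u ∧ u * (h * u * h⁻¹) = h * u * h⁻¹ * u) ∨
      ∃ N : Subgroup G, N ≤ X ∧ Odd (Nat.card N) ∧ (∀ x ∈ X, ∀ n ∈ N, x * n * x⁻¹ ∈ N) ∧
        ∀ x ∈ X, u * x * u⁻¹ * x⁻¹ ∈ N := by
  by_cases hiso : Cfsg.IsIsolatedInvolution (⟨u, huX⟩ : X)
  · right
    have hI : Cfsg.Agent.Involutions.ZStar.Iso (⟨u, huX⟩ : X) := by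
      refine ⟨Subtype.ext hu2, fun g => ?_⟩
      have h1 := Cfsg.Agent.TwoFusion.Isolated.odd_orderOf_conj_mul hiso g
      have h2 : (⟨u, huX⟩ : X) * (g * ⟨u, huX⟩ * g⁻¹) =
          (⟨u, huX⟩ : X) * (g * ⟨u, huX⟩ * g⁻¹ * ⟨u, huX⟩) * (⟨u, huX⟩ : X)⁻¹ := by group
      rw [h2]
      have h3 := (MulAut.conj (⟨u, huX⟩ : X)).orderOf_eq (g * ⟨u, huX⟩ * g⁻¹ * ⟨u, huX⟩)
      rw [MulAut.conj_apply] at h3
      rw [h3]
      exact h1
    have h1 := Cfsg.Agent.S0215.iso_commutator _ hI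
    refine ⟨(pPrimeCore 2 X).map X.subtype, Subgroup.map_subtype_le _, ?_, ?_, ?_⟩
    · have h3 : Nat.card ((pPrimeCore 2 X).map X.subtype) = Nat.card (pPrimeCore 2 X) :=
        Subgroup.card_map_of_injective X.subtype_injective
      rw [h3]
      exact Nat.coprime_two_right.mp (Cfsg.Agent.Lib.Cores.pPrimeCore_coprime (G := X) 2)
    · rintro x hx _ ⟨n, hn, rfl⟩
      exact ⟨⟨x, hx⟩ * n * ⟨x, hx⟩⁻¹, (inferInstance : (pPrimeCore 2 X).Normal).conj_mem n hn ⟨x, hx⟩, rfl⟩
    · intro x hx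
      exact ⟨_, h1 ⟨x, hx⟩, rfl⟩
  · left
    rw [Cfsg.IsIsolatedInvolution, not_and_or] at hiso
    rcases hiso with h | h
    · exact absurd (orderOf_eq_prime (Subtype.ext (by rw [pow_two]; exact hu2))
        (fun h1 => hu1 (congrArg Subtype.val h1))) h
    · push Not at h
      obtain ⟨⟨g, hg⟩, h1, h2⟩ := h
      refine ⟨g, hg, fun h3 => h2 (Subtype.ext h3), ?_⟩
      exact congrArg Subtype.val h1

variable {G : Type*} [Group G] [Finite G] {Om : Set (Subgroup G)} {K L M : Subgroup G} {g t x y z s : G}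

/-- `O(C(z)) = 1` for `z ∈ Z` -/
def CF (Om : Set (Subgroup G)) : Prop := ∀ z : G, InZ Om z → OO (centralizer {z}) = ⊥

theorem CX_le_centralizer (h : W2 Om) (hz : InZ Om z) : CX Om z ≤ centralizer {z} := by
  intro g hg
  rw [mem_centralizer_singleton_iff]
  exact CX_le hz h hg

theorem cj_CX (h : W2 Om) (hg : g * z = z * g) : cj g (CX Om z) = CX Om z := by
  ext y
  rw [mem_cj]
  constructor
  · intro hy
    have := CX_conj_comm h hg hy
    have h1 : g * (g⁻¹ * y * g) * g⁻¹ = y := by group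
    rwa [h1] at this
  · intro hy
    have hg' : g⁻¹ * z = z * g⁻¹ := by
      rw [inv_mul_eq_iff_eq_mul, ← mul_assoc, hg, mul_inv_cancel_right]
    have := CX_conj_comm h hg' hy
    rwa [inv_inv] at this

/-- subgroups of odd order of `X_z` normalised by `X_z` are trivial -/
theorem CX_odd (h : W2 Om) (hF : CF Om) (hz : InZ Om z) {N : Subgroup G} (hN : N ≤ CX Om z)
    (hn : CX Om z ≤ normalizer (N : Set G)) (ho : ¬ 2 ∣ Nat.card N) : N = ⊥ := by
  have h1 : N ≤ OO (CX Om z) := le_OO hN hn ho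
  have h2 : OO (CX Om z) ≤ OO (centralizer {z}) := by
    refine le_OO ((OO_le _).trans (CX_le_centralizer h hz)) ?_ (odd_OO _)
    intro g hg
    rw [mem_normalizer_iff_cj]
    exact LB.cj_OO_eq (cj_CX h (mem_centralizer_singleton_iff.1 hg))
  rw [hF z hz] at h2
  exact le_bot_iff.1 (h1.trans h2)

theorem perm_key (π : Equiv.Perm (Fin 3)) (a j : Fin 3) (h1 : π ≠ 1) (h2 : π * π = 1) (h3 : π a = a) :
    (π j = j ∧ a = j) ∨ (π j = j + 1 ∧ a = j + 2) ∨ (π j = j + 2 ∧ a = j + 1) := by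
  revert π a j; decide

namespace HP

variable {x l : Fin 3 → G} {i j : Fin 3}

/-- `y` fixing `K` and commuting with `z`, `e_j` maps `x j` to itself modulo `z` -/
theorem fix_of_comm (P : HP Om z t K x) (h : W2 Om) (hyz : y * z = z * y) (hf : cj y K = K)
    (hye : y * ee z t x j = ee z t x j * y) : y * x j * y⁻¹ = x j ∨ y * x j * y⁻¹ = z * x j := by
  have hf' : cj y (cj t K) = cj t K := by
    rcases P.cases h ((P.hK' h).cj_comm h hyz) with h1 | h1
    · exact absurd (cj_inj.1 (h1.trans hf.symm)).symm P.ne'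
    · exact h1
  have h1 : y * x j * y⁻¹ ∈ K := by
    have := conj_mem_cj (g := y) (P.q.mem j)
    rwa [hf] at this
  have h2 : y * (t * x j * t⁻¹) * y⁻¹ ∈ cj t K := by
    have := conj_mem_cj (g := y) (P.q'.mem j)
    rwa [hf'] at this
  have h3 : (y * x j * y⁻¹) * (y * (t * x j * t⁻¹) * y⁻¹) = x j * (t * x j * t⁻¹) := by
    have h4 : y * (z * ee z t x j) * y⁻¹ = z * ee z t x j := by
      calc y * (z * ee z t x j) * y⁻¹ = (y * z) * ee z t x j * y⁻¹ := by group
        _ = z * (y * ee z t x j) * y⁻¹ := by rw [hyz]; group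
        _ = _ := by rw [hye]; group
    rw [← P.xx_eq] at h4
    rw [← h4]; group
  have h5 : (x j)⁻¹ * (y * x j * y⁻¹) = (t * x j * t⁻¹) * (y * (t * x j * t⁻¹) * y⁻¹)⁻¹ := by
    rw [eq_mul_inv_iff_mul_eq, mul_assoc, h3, inv_mul_cancel_left]
  have h6 : (x j)⁻¹ * (y * x j * y⁻¹) = 1 ∨ (x j)⁻¹ * (y * x j * y⁻¹) = z := by
    refine P.hK.inf (P.hK' h) h P.ne' (mul_mem (inv_mem (P.q.mem j)) h1) ?_
    rw [h5]
    exact mul_mem (P.q'.mem j) (inv_mem h2)
  rcases h6 with h6 | h6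
  · left
    exact (inv_mul_eq_one.1 h6).symm
  · right
    rw [inv_mul_eq_iff_eq_mul, ← P.q.zc] at h6
    exact h6

/-- (8.7), main step -/
theorem all_inn_aux (P : HP Om z t K x) (h : W2 Om) (hT : TO Om) (h0 : Inn Om t (z * ee z t x 0))
    (h1 : ¬ Inn Om t (z * ee z t x 1)) (h2 : ¬ Inn Om t (z * ee z t x 2)) : False := by
  obtain ⟨L, l, Q⟩ := (P.pr.symm h hT).exists_hp h
  obtain ⟨a, ha⟩ := P.exists_eq Q h hT h0
  set s := t * ee z t x 1 with hs
  have N : HP Om t s L l := ⟨P.pr_tte h hT 1, Q.hK, Q.q⟩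
  obtain ⟨j, hj⟩ := N.exists_inn h hT
  obtain ⟨M, m, Mh⟩ := (N.pr.symm h hT).exists_hp h
  obtain ⟨b, hb⟩ := N.exists_eq Mh h hT hj
  have t2 : t * t = 1 := P.t2 h
  have s2 : s * s = 1 := N.t2 h
  have hts : t * s = s * t := N.pr.comm
  have hzs : z * s = s * z := (P.pr_te h 1).comm
  have hzt : z * t = t * z := P.pr.comm
  have hzS : InZ Om s := N.pr.ht
  have htZ : InZ Om t := P.pr.ht
  -- `p j ∈ R_s`
  have hp : t * ee t s l j ∈ RZ Om s := by
    have h3 : t * ee t s l j = s * ee s t m b := by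
      have h4 : ee t s l j = s * (t * ee s t m b) := by rw [← hb, ← mul_assoc, s2, one_mul]
      rw [h4]
      calc t * (s * (t * ee s t m b)) = (t * s) * t * ee s t m b := by group
        _ = (s * t) * t * ee s t m b := by rw [hts]
        _ = s * (t * t) * ee s t m b := by group
        _ = _ := by rw [t2, mul_one]
    rw [h3]
    exact mul_mem (z_mem_RZ hzS h) (Mh.e_mem h b)
  -- `g = z e_0 = t f_a`
  set c := z * ee z t x 0 with hc
  have hca : c = t * ee t z l a := by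
    have h3 : ee t z l a = z * (t * ee z t x 0) := by rw [ha, P.q.zzx]
    rw [h3, hc]
    calc z * ee z t x 0 = z * (t * t) * ee z t x 0 := by rw [t2, mul_one]
      _ = (z * t) * t * ee z t x 0 := by group
      _ = (t * z) * t * ee z t x 0 := by rw [hzt]
      _ = _ := by group
  -- the element `y = z s`
  obtain ⟨y, hy⟩ : ∃ y, y = z * s := ⟨_, rfl⟩
  have hyt : y * t = t * y := by
    rw [hy]
    calc z * s * t = z * (s * t) := by group
      _ = (z * t) * s := by rw [← hts]; group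
      _ = t * (z * s) := by rw [hzt]; group
  have hy2 : y * y = 1 := by
    rw [hy]
    calc z * s * (z * s) = z * (s * z) * s := by group
      _ = (z * z) * (s * s) := by rw [← hzs]; group
      _ = 1 := by rw [P.q.z2, s2, one_mul]
  have hyz : y * z = z * y := by
    rw [hy]
    calc z * s * z = z * (s * z) := by group
      _ = z * (z * s) := by rw [hzs]
  have hfL : cj y L = L := by
    rw [hy]; exact sw_mul h Q.hK Q.pr.sw N.pr.sw hzt hts.symm
  obtain ⟨π, hπ⟩ := Q.q.exists_act Q.q hfL hyt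
  have hππ : π * π = 1 := by
    have h3 := hπ.comp Q.q.z2 hπ hyt
    rw [hy2] at h3
    exact h3.unique Q.q (Act.one l t)
  have hπ1 : π ≠ 1 := by
    intro h3
    rw [h3] at hπ
    have h4 := Q.inn_of h hyz (hπ.inner Q.q hyt)
    apply h1
    have h5 : y = t * (z * ee z t x 1) := by
      rw [hy, hs]
      calc z * (t * ee z t x 1) = (z * t) * ee z t x 1 := by group
        _ = _ := by rw [hzt]; group
    rw [h5] at h4
    exact (Inn.of_CX (z_mem_CX h)).mul_left h4 htZ h
  -- `π a = a`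
  have hπa : π a = a := by
    have h3 : y * ee t z l a = ee t z l a * y := by
      have h4 : y * c = c * y := by
        have h5 : s * c = c * s := by
          rw [hs, hc]
          calc t * ee z t x 1 * (z * ee z t x 0) = t * (ee z t x 1 * z) * ee z t x 0 := by group
            _ = t * (z * ee z t x 1) * ee z t x 0 := by rw [P.e_z h]
            _ = (t * z) * (ee z t x 1 * ee z t x 0) := by group
            _ = (z * t) * (ee z t x 0 * ee z t x 1) := by rw [P.e_comm h 1 0, hzt]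
            _ = z * (t * ee z t x 0) * ee z t x 1 := by group
            _ = z * (ee z t x 0 * t) * ee z t x 1 := by rw [P.e_t h]
            _ = _ := by group
        have h6 : z * c = c * z := by rw [hc, mul_assoc, P.e_z h]
        rw [hy]
        calc z * s * c = z * (s * c) := by group
          _ = (z * c) * s := by rw [h5]; group
          _ = (c * z) * s := by rw [h6]
          _ = _ := by group
      have h5 : ee t z l a = t * c := by rw [hca, ← mul_assoc, t2, one_mul]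
      calc y * ee t z l a = (y * t) * c := by rw [h5]; group
        _ = t * (y * c) := by rw [hyt]; group
        _ = (t * c) * y := by rw [h4]; group
        _ = _ := by rw [← h5]
    have h4 := Q.fix_of_comm h hyt hfL h3
    rcases hπ a with h5 | h5 <;> rcases h4 with h6 | h6
    · exact (Q.q.inj (Or.inl (h6.symm.trans h5))).symm
    · exact Q.q.inj (Or.inr (h5.symm.trans h6))
    · exact (Q.q.inj (Or.inr (h6.symm.trans h5))).symm
    · exact (Q.q.inj (Or.inl (mul_left_cancel (h6.symm.trans h5)))).symm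
  -- `z (y l_j y⁻¹)`-relation: `z l_j z⁻¹ = s (y l_j y⁻¹) s⁻¹`
  have hrel : ∀ i, z * l i * z⁻¹ = s * (y * l i * y⁻¹) * s⁻¹ := by
    intro i
    have h3 : s * y = z := by
      rw [hy, hzs, ← mul_assoc, s2, one_mul]
    calc z * l i * z⁻¹ = (s * y) * l i * (s * y)⁻¹ := by rw [h3]
      _ = _ := by group
  -- `p_{π j} ∈ R_s`
  have hconj : ∀ i, z * (t * ee t s l i) * z⁻¹ = t * ee t s l (π i) := by
    intro i
    rw [← N.xx_eq, ← N.xx_eq]
    have h3 : z * (l i * (s * l i * s⁻¹)) * z⁻¹ = (z * l i * z⁻¹) * (y * l i * y⁻¹) := by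
      rw [hy]; group
    rw [h3, hrel]
    rcases hπ i with h4 | h4
    · rw [h4]
      exact (N.xx' h _ _).symm
    · rw [h4]
      calc s * (t * l (π i)) * s⁻¹ * (t * l (π i)) = (s * t) * l (π i) * s⁻¹ * t * l (π i) := by group
        _ = (t * s) * l (π i) * s⁻¹ * t * l (π i) := by rw [hts]
        _ = t * ((s * l (π i) * s⁻¹) * t) * l (π i) := by group
        _ = t * (t * (s * l (π i) * s⁻¹)) * l (π i) := by rw [← N.q'.zc (π i)]
        _ = (t * t) * ((s * l (π i) * s⁻¹) * l (π i)) := by group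
        _ = _ := by rw [t2, one_mul]; exact (N.xx' h _ _).symm
  have hpπ : t * ee t s l (π j) ∈ RZ Om s := by
    rw [← hconj]
    exact RZ_conj_comm h hzs hp
  -- `p_a ∈ R_s`
  have hpa : t * ee t s l a ∈ RZ Om s := by
    rcases perm_key π a j hπ1 hππ hπa with ⟨-, h3⟩ | ⟨h3, h4⟩ | ⟨h3, h4⟩
    · rw [h3]; exact hp
    · rw [h3] at hpπ
      have h5 := mul_mem hp hpπ
      rw [N.c_mul h, N.e_mul h] at h5
      rw [h4]; exact h5
    · rw [h3] at hpπ
      have h5 := mul_mem hpπ hp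
      have h6 := N.e_mul h (j + 2)
      rw [i21, i22] at h6
      rw [N.c_mul h, h6] at h5
      rw [h4]; exact h5
  -- `g = p_a` or `t p_a`
  have hcp : c ∈ RZ Om s ∨ t * c ∈ RZ Om s := by
    have h3 : c = l a * (z * l a * z⁻¹) := by rw [hca, ← Q.xx_eq]
    have h4 : t * ee t s l a = l a * (s * l a * s⁻¹) := by rw [← N.xx_eq]
    have h5 := hπ a
    rw [hπa] at h5
    rw [hrel] at h3
    rcases h5 with h5 | h5
    · left
      rw [h3, h5, ← h4]; exact hpa
    · right
      have h6 : t * c = t * ee t s l a := by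
        rw [h3, h5, h4]
        calc t * (l a * (s * (t * l a) * s⁻¹)) = t * (l a * ((s * t) * l a * s⁻¹)) := by group
          _ = t * (l a * ((t * s) * l a * s⁻¹)) := by rw [hts]
          _ = t * (l a * t) * (s * l a * s⁻¹) := by group
          _ = t * (t * l a) * (s * l a * s⁻¹) := by rw [Q.q.zc]
          _ = (t * t) * (l a * (s * l a * s⁻¹)) := by group
          _ = _ := by rw [t2, one_mul]
      rw [h6]; exact hpa
  -- conjugation by `x 1`
  have k1 : x 1 * t * (x 1)⁻¹ = s := P.conj_t h 1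
  have k2 : x 1 * s * (x 1)⁻¹ = t := by
    calc x 1 * s * (x 1)⁻¹ = (x 1 * t * (x 1)⁻¹) * (x 1 * ee z t x 1 * (x 1)⁻¹) := by rw [hs]; group
      _ = t * ee z t x 1 * ee z t x 1 := by rw [P.conj_t h, P.x_e_self h]
      _ = t := by rw [mul_assoc, P.e_sq h, mul_one]
  have k3 : x 1 * c * (x 1)⁻¹ = ee z t x 0 := by
    calc x 1 * c * (x 1)⁻¹ = (x 1 * z) * ee z t x 0 * (x 1)⁻¹ := by rw [hc]; group
      _ = z * (x 1 * ee z t x 0 * (x 1)⁻¹) := by rw [← P.q.zc]; group
      _ = _ := by rw [P.x_e_ne h (by decide), P.q.zzx]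
  have hct : c ∈ RZ Om t := by
    rw [hca]; exact mul_mem (z_mem_RZ htZ h) (Q.e_mem h a)
  rcases hcp with h3 | h3
  · have h4 := RZ_conj h (x 1) hct
    rw [k1, k3] at h4
    have h5 : z ∈ RZ Om s := by
      have h6 := mul_mem h3 h4
      rwa [hc, mul_assoc, P.e_sq h, mul_one] at h6
    exact (P.pr_te h 1).ne (eq_of_RZ h hT hzS P.pr.hz h5)
  · have h4 := RZ_conj h (x 1) h3
    have h5 : x 1 * (t * c) * (x 1)⁻¹ = t * (z * ee z t x 2) := by
      calc x 1 * (t * c) * (x 1)⁻¹ = (x 1 * t * (x 1)⁻¹) * (x 1 * c * (x 1)⁻¹) := by group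
        _ = t * (ee z t x 1 * ee z t x 0) := by rw [k1, k3, hs]; group
        _ = _ := by rw [show (1 : Fin 3) = 0 + 1 from rfl, P.e_mul' h]; rfl
    rw [k2, h5] at h4
    apply h2
    refine Inn.of_RZ htZ h ?_
    have h6 := mul_mem (z_mem_RZ htZ h) h4
    rwa [← mul_assoc, t2, one_mul] at h6

/-- (8.7) -/
theorem all_inn (P : HP Om z t K x) (h : W2 Om) (hT : TO Om) (i : Fin 3) : Inn Om t (z * ee z t x i) := by
  obtain ⟨i0, h0⟩ := P.exists_inn h hT
  have P' := P.rot i0
  have hzt := P.pr.ht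
  have h0' : Inn Om t (z * ee z t (fun i => x (i + i0)) 0) := by
    show Inn Om t (z * (z * x (0 + i0) * (t * x (0 + i0) * t⁻¹)))
    rw [zero_add]; exact h0
  have hm : z * ee z t (fun i => x (i + i0)) 0 * (z * ee z t (fun i => x (i + i0)) 1) =
      z * ee z t (fun i => x (i + i0)) 2 := by
    rw [P'.c_mul h, show (1 : Fin 3) = 0 + 1 from rfl, P'.e_mul h]; rfl
  have key : Inn Om t (z * ee z t (fun i => x (i + i0)) 1) ∧ Inn Om t (z * ee z t (fun i => x (i + i0)) 2) := by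
    by_cases h1 : Inn Om t (z * ee z t (fun i => x (i + i0)) 1)
    · refine ⟨h1, ?_⟩
      rw [← hm]; exact h0'.mul h1 hzt h
    · by_cases h2 : Inn Om t (z * ee z t (fun i => x (i + i0)) 2)
      · rw [← hm] at h2
        exact absurd (h0'.mul_left h2 hzt h) h1
      · exact (P'.all_inn_aux h hT h0' h1 h2).elim
  have h3 : ∀ i i0 : Fin 3, i = 0 + i0 ∨ i = 1 + i0 ∨ i = 2 + i0 := by decide
  rcases h3 i i0 with h4 | h4 | h4
  · rw [h4]; exact h0'
  · rw [h4]; exact key.1
  · rw [h4]; exact key.2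

end HP

/-- pair of type p with adapted coordinates -/
structure FP (Om : Set (Subgroup G)) (z t : G) (K : Subgroup G) (x : Fin 3 → G) (L : Subgroup G)
    (l : Fin 3 → G) : Prop where
  P : HP Om z t K x
  Q : HP Om t z L l
  eq : ∀ i, t * ee z t x i = z * ee t z l i

theorem HP.e_inj {x : Fin 3 → G} (P : HP Om z t K x) (h : W2 Om) {i j : Fin 3} (hij : ee z t x i = ee z t x j) :
    i = j := by
  by_contra hne
  have h1 := P.x_e_ne h hne
  rw [← hij, P.x_e_self h] at h1
  exact P.q.z1 (mul_eq_right.1 h1.symm)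

theorem HP.exists_fp {x l : Fin 3 → G} (P : HP Om z t K x) (Q : HP Om t z L l) (h : W2 Om) (hT : TO Om) :
    ∃ l', FP Om z t K x L l' := by
  have h1 : ∀ i, ∃ a, t * ee z t x i = z * ee t z l a := fun i => P.exists_eq Q h hT (P.all_inn h hT i)
  choose a ha using h1
  have hinj : Function.Injective a := by
    intro i j hij
    apply P.e_inj h
    have h2 := ha i
    rw [hij, ← ha j] at h2
    exact mul_left_cancel h2
  obtain ⟨l', hl', hσ⟩ := Q.q.perm (Equiv.ofBijective a (Finite.injective_iff_bijective.1 hinj))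
  refine ⟨l', P, ⟨Q.pr, Q.hK, hl'⟩, fun i => ?_⟩
  rw [ha i]
  congr 1
  have h2 : l' i = l (a i) ∨ l' i = t * l (a i) := hσ i
  rcases h2 with h2 | h2
  · rw [ee, ee, h2]
  · rw [ee, ee, h2]
    have hzt : z * t = t * z := P.pr.comm
    calc t * l (a i) * (z * l (a i) * z⁻¹)
        = t * l (a i) * (z * l (a i) * z⁻¹) * (t * t) := by rw [P.t2 h, mul_one]
      _ = t * (l (a i) * t) * (z * l (a i) * z⁻¹) * t := by
        have h3 := Q.q'.zc (a i)
        have h4 := Q.q.zc (a i)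
        calc t * l (a i) * (z * l (a i) * z⁻¹) * (t * t) = t * l (a i) * ((z * l (a i) * z⁻¹) * t) * t := by group
          _ = t * l (a i) * (t * (z * l (a i) * z⁻¹)) * t := by rw [h3]
          _ = _ := by group
      _ = t * (t * l (a i)) * ((z * l (a i) * z⁻¹) * t) := by rw [Q.q.zc]; group
      _ = t * (t * l (a i)) * (t * (z * l (a i) * z⁻¹)) := by rw [← Q.q'.zc (a i)]
      _ = t * (t * l (a i)) * ((t * z) * l (a i) * z⁻¹) := by group
      _ = _ := by rw [← hzt]; group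

theorem PR.exists_fp (hp : PR Om z t) (h : W2 Om) (hT : TO Om) : ∃ K x L l, FP Om z t K x L l := by
  obtain ⟨K, x, P⟩ := hp.exists_hp h
  obtain ⟨L, l, Q⟩ := (hp.symm h hT).exists_hp h
  obtain ⟨l', hl'⟩ := P.exists_fp Q h hT
  exact ⟨K, x, L, l', hl'⟩

namespace FP

variable {x l : Fin 3 → G} {i j : Fin 3}

theorem symm (F : FP Om z t K x L l) : FP Om t z L l K x := ⟨F.Q, F.P, fun i => (F.eq i).symm⟩

/-- `l_i z l_i⁻¹ = x_i t x_i⁻¹` -/
theorem conj_eq (F : FP Om z t K x L l) (h : W2 Om) (i : Fin 3) : l i * z * (l i)⁻¹ = x i * t * (x i)⁻¹ := by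
  rw [F.Q.conj_t h, F.P.conj_t h]; exact (F.eq i).symm

theorem mem_of_mul (F : FP Om z t K x L l) (h : W2 Om) (hy : y ∈ CX Om z) (hyf : y * ee t z l j ∈ CX Om t) :
    y ∈ CX Om t := by
  -- `y` commutes with `l j`
  have h1 : y * l j = l j * y := by
    have h2 : y * ee t z l j * l j = l j * (y * ee t z l j) := mem_CX.1 hyf L F.Q.hK _ (F.Q.q.mem j)
    have h3 : ee t z l j * l j = l j * ee t z l j := by
      have := F.Q.x_e_self h j
      rw [mul_inv_eq_iff_eq_mul] at this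
      exact this.symm
    have h4 : y * l j * ee t z l j = l j * y * ee t z l j := by
      rw [mul_assoc, ← h3, ← mul_assoc, h2, mul_assoc]
    exact mul_right_cancel h4
  have h2 : y ∈ CX Om (l j * z * (l j)⁻¹) := by
    have := (CX_conj h (l j)).2 hy
    rwa [← h1, mul_inv_cancel_right] at this
  rw [F.conj_eq h] at h2
  have h3 : x j * y * (x j)⁻¹ = y := by
    rw [← mem_CX.1 hy K F.P.hK _ (F.P.q.mem j), mul_inv_cancel_right]
  rw [← h3] at h2
  exact (CX_conj h (x j)).1 h2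

/-- (8.8) -/
theorem cases (F : FP Om z t K x L l) (h : W2 Om) (hT : TO Om) (hy : y ∈ CX Om z) (hyt : y * t = t * y) :
    y ∈ CX Om t ∨ y * z ∈ CX Om t := by
  rcases F.Q.CX_cases h hT hy hyt with ⟨-, h1 | ⟨j, h1⟩⟩ | ⟨-, h1 | ⟨j, h1⟩⟩
  · exact Or.inl h1
  · exact Or.inl (F.mem_of_mul h hy h1)
  · exact Or.inr h1
  · exact Or.inr (F.mem_of_mul h (mul_mem hy (z_mem_CX h)) h1)

/-- (8.9) -/
theorem eq_of (F : FP Om z t K x L l) (h : W2 Om) (hT : TO Om) {t' : G} (ht' : InZ Om t') (hc : t * t' = t' * t)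
    (hm : t * t' ∈ CX Om z) : t' = t := by
  have htZ := F.P.pr.ht
  have hzZ := F.P.pr.hz
  have hct : t * t' * t = t * (t * t') := by rw [mul_assoc, ← hc]
  have t2 : t * t = 1 := F.P.t2 h
  rcases F.cases h hT hm hct with h1 | h1
  · exact hT t t' htZ ht' ((Inn.of_CX (z_mem_CX h)).mul_left (Inn.of_CX h1) htZ h)
  · exfalso
    set y := t * t' * z with hy
    have hyz : y ∈ CX Om z := mul_mem hm (z_mem_CX h)
    have ht'y : t' = t * y * z := by
      rw [hy]
      calc t' = (t * t) * t' := by rw [t2, one_mul]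
        _ = t * (t * t') * (z * z) := by rw [F.P.q.z2]; group
        _ = _ := by group
    have hyz' : y * z = z * y := CX_le hzZ h hyz
    have h2 : l 0 * t' * (l 0)⁻¹ = ee z t x 0 * y := by
      have hly : l 0 * y = y * l 0 := (mem_CX.1 h1 L F.Q.hK _ (F.Q.q.mem 0)).symm
      calc l 0 * t' * (l 0)⁻¹ = (l 0 * t) * y * z * (l 0)⁻¹ := by rw [ht'y]; group
        _ = t * (l 0 * y) * z * (l 0)⁻¹ := by rw [← F.Q.q.zc]; group
        _ = t * y * (l 0 * z * (l 0)⁻¹) := by rw [hly]; group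
        _ = t * y * (x 0 * t * (x 0)⁻¹) := by rw [F.conj_eq h]
        _ = t * (y * t) * ee z t x 0 := by rw [F.P.conj_t h]; group
        _ = t * (t * y) * ee z t x 0 := by rw [CX_le htZ h h1]
        _ = y * ee z t x 0 := by rw [← mul_assoc, t2, one_mul]
        _ = _ := CX_comm (F.P.e_mem h 0) hyz
    have h3 : ee z t x 0 * y = z := by
      refine hT z _ hzZ ?_ ((Inn.of_RZ hzZ h (F.P.e_mem h 0)).mul (Inn.of_CX hyz) hzZ h)
      rw [← h2]; exact ht'.conj h _
    apply F.P.e_not_CX h 0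
    have h4 : ee z t x 0 = z * y⁻¹ := by rw [eq_mul_inv_iff_mul_eq]; exact h3
    rw [h4]
    exact mul_mem (z_mem_CX h) (inv_mem hyz)

end FP

/-- (8.9) + Z*: `[X_z, t] = 1` -/
theorem PR.cent (hp : PR Om z t) (h : W2 Om) (hT : TO Om) (hF : CF Om) (hx : x ∈ CX Om z) : x * t = t * x := by
  obtain ⟨K, a, L, l, F⟩ := hp.exists_fp h hT
  have htz : t * z = z * t := hp.comm.symm
  have hzZ := hp.hz
  have htn : ∀ y ∈ CX Om z, t * y * t⁻¹ ∈ CX Om z := fun y hy => CX_conj_comm h htz hy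
  have htn' : zpowers t ≤ normalizer (CX Om z : Set G) := by
    rw [zpowers_le, mem_normalizer_iff_cj]
    exact cj_CX h htz
  have ht1 : t ≠ 1 := hp.ht.z1 h
  rcases zstar_sub (X := CX Om z ⊔ zpowers t) (u := t) (mem_sup_right (mem_zpowers t)) (hp.t2 h) ht1 with
    ⟨g, hg, hne, hc⟩ | ⟨N, hNX, hodd, hNn, hN⟩
  · exfalso
    obtain ⟨y, hy, u, hu, rfl⟩ := LB.exists_mul_of_mem_sup htn' hg
    have hut : u * t * u⁻¹ = t := by
      obtain ⟨k, rfl⟩ := mem_zpowers_iff.1 hu
      rw [← ((Commute.refl t).zpow_right k).eq, mul_inv_cancel_right]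
    have h1 : y * u * t * (y * u)⁻¹ = y * t * y⁻¹ := by
      calc y * u * t * (y * u)⁻¹ = y * (u * t * u⁻¹) * y⁻¹ := by group
        _ = _ := by rw [hut]
    rw [h1] at hne hc
    apply hne
    refine F.eq_of h hT (hp.ht.conj h y) hc ?_
    have h2 : t * (y * t * y⁻¹) = (t * y * t⁻¹) * (t * t) * y⁻¹ := by group
    rw [h2, hp.t2 h, mul_one]
    exact mul_mem (htn y hy) (inv_mem hy)
  · have h1 : N ⊓ CX Om z = ⊥ := by
      refine CX_odd h hF hzZ inf_le_right ?_ ?_
      · intro g hg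
        rw [mem_normalizer_iff_cj, cj_inf, mem_normalizer_iff_cj.1 (le_normalizer hg)]
        congr 1
        refine le_antisymm ?_ ?_
        · rintro _ ⟨n, hn, rfl⟩
          exact hNn g (mem_sup_left hg) n hn
        · intro n hn
          rw [mem_cj]
          have := hNn g⁻¹ (mem_sup_left ((CX Om z).inv_mem hg)) n hn
          rwa [inv_inv] at this
      · intro h2
        have h3 := h2.trans (card_dvd_of_le (inf_le_left : N ⊓ CX Om z ≤ N))
        rw [← Nat.not_even_iff_odd, even_iff_two_dvd] at hodd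
        exact hodd h3
    have h2 : t * x * t⁻¹ * x⁻¹ ∈ N ⊓ CX Om z :=
      ⟨hN x (mem_sup_left hx), (CX Om z).mul_mem (htn x hx) ((CX Om z).inv_mem hx)⟩
    rw [h1, Subgroup.mem_bot, mul_inv_eq_one, mul_inv_eq_iff_eq_mul] at h2
    exact h2.symm

end Cfsg.Agent.Cit.Nil.RTwo
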