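import Cfsg.Agent.Cit.Nil.RTwo.LOneP
import Cfsg.Agent.Cit.Nil.RTwo.TPair
import Cfsg.Agent.Cit.Nil.RTwo.TTwo

/-!
# The world `c ≠ 1`: sections U0, U1 of `CIT-6b-r2m1-U-helper141.md`

* `NoOne Om` : no type I line has the label `1`;
* `NoOne.eq_of_RZ` : `Z ∩ R_z = {z}`; `eq_of_CX'` : `Z ∩ X_z = {z}`;
* `CC.not_mul` : `c` and `z c` are not both labels on `z`;
* `PR.symm'`, `PR.not_inZ` : types p are symmetric, with product outside `Z`.
-/

set_option autoImplicit false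
set_option linter.style.haveILetI false
set_option linter.unusedSectionVars false
set_option maxHeartbeats 400000

namespace Cfsg.Agent.Cit.Nil.RTwo

open Subgroup Cfsg Cit

variable {G : Type*} [Group G]

/-- no label is trivial -/
def NoOne (Om : Set (Subgroup G)) : Prop := ∀ z c : G, c ∈ CC Om z → c ≠ 1

section

variable [Finite G] {Om : Set (Subgroup G)} {K K1 K2 L M L1 L2 : Subgroup G} {z t u v g r s x y w c c' : G}
  {a b p q : Fin 3 → G}

theorem eq_of_CX' (h : W2 Om) (hz : InZ Om z) (hv : InZ Om v) (hx : v ∈ CX Om z) : v = z := by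
  obtain ⟨K, hK⟩ := hz
  exact hv.eq_of_cent hK h fun k hk => mem_CX.1 hx K hK k hk

theorem NoOne.eq_of_RZ (hn : NoOne Om) (h : W2 Om) (hz : InZ Om z) (hv : InZ Om v) (hr : v ∈ RZ Om z) : v = z := by
  by_contra hne
  have hti : TI Om z v := ⟨hz, hv, fun e => hne e.symm, (RZ_le_centralizer h hr).symm, Inn.of_RZ hz h hr⟩
  obtain ⟨c, l⟩ := hti.exists_lab h
  have h1 : c ∈ RZ Om z := by
    have := mul_mem (inv_mem hr) l.wz
    rwa [inv_mul_cancel_left] at this
  rcases RZ_inf_CX h hz h1 l.cz with h2 | h2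
  · exact hn z c l.mem_CC h2
  · exact l.ne_z h h2

theorem Lab.fx_zc (h : W2 Om) (l : Lab Om z t c) : Fx Om t (z * c) := (Inn.of_RZ l.ti.2.1 h l.wt).fx h

theorem CC.not_mul (h : W2 Om) (hc : c ∈ CC Om z) (hc' : z * c ∈ CC Om z) : False := by
  obtain ⟨t, l⟩ := hc
  obtain ⟨t', l'⟩ := hc'
  obtain ⟨K1, K2, a, b, F⟩ := l.ti.1.exists_frame h
  obtain ⟨p, hp⟩ : ∃ p : Fin 3 × Fin 3, Dir z a b (t * c) p.1 p.2 := by
    obtain ⟨th, i, j, -, -, -, -, hd, -⟩ := l.theta h F
    exact ⟨(i, j), hd⟩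
  obtain ⟨q, hq⟩ : ∃ q : Fin 3 × Fin 3, Dir z a b (t' * (z * c)) q.1 q.2 := by
    obtain ⟨th, i, j, -, -, -, -, hd, -⟩ := l'.theta h F
    exact ⟨(i, j), hd⟩
  have hcz := l.comm_z h
  rcases l.lone h F l' (by rw [← mul_assoc, hcz]) hp hq with ⟨-, h1⟩ | ⟨h1, -⟩
  · exact l.ti.1.z1 h (mul_eq_right.1 h1.symm)
  · exact fx_sw_false l.ti.2.1 (l.fx_zc h) h1

theorem TI.mul_inZ (h : W2 Om) (hti : TI Om z t) : InZ Om (z * t) := by
  obtain ⟨c, l⟩ := hti.exists_lab h
  exact (l.mul h).ti.2.1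

theorem FT.mul_inZ (hp : FT Om z t) (h : W2 Om) : InZ Om (z * t) := by
  obtain ⟨K, hK⟩ := hp.fr.hz
  obtain ⟨x, hx, h0, h1, h2⟩ := hp.coord h hK
  have h3 : t * x 2 = z * x 2 * t := by rwa [mul_inv_eq_iff_eq_mul] at h2
  have h4 : x 2 * t * (x 2)⁻¹ = z * t := by
    have h5 : z * t * x 2 = x 2 * t := by
      calc z * t * x 2 = z * (t * x 2) := by group
        _ = z * (z * x 2 * t) := by rw [h3]
        _ = z * (z * (x 2 * t)) := by group
        _ = _ := by rw [hx.zzx]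
    rw [← h5]; group
  rw [← h4]
  exact hp.fr.ht.conj h _

theorem pr_of_not (h : W2 Om) (hz : InZ Om z) (hv : InZ Om v) (hne : z ≠ v) (hc : z * v = v * z)
    (hnot : ¬ InZ Om (z * v)) : PR Om z v := by
  rcases tcases h hz hv hne hc with h1 | h1 | h1
  · exact h1
  · exact absurd (h1.mul_inZ h) hnot
  · exact absurd (h1.mul_inZ h) hnot

namespace HP

variable {x : Fin 3 → G} {i j : Fin 3} (P : HP Om z t K x) (h : W2 Om)

include P h

theorem s_inZ (i : Fin 3) : InZ Om (t * ee z t x i) := by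
  rw [← P.conj_t h]; exact P.pr.ht.conj h _

theorem e_not_inZ (hn : NoOne Om) (i : Fin 3) : ¬ InZ Om (ee z t x i) := fun h1 =>
  P.e_ne_z h i (hn.eq_of_RZ h P.pr.hz h1 (P.e_mem h i))

theorem pr_teN (hn : NoOne Om) (i : Fin 3) : PR Om t (t * ee z t x i) := by
  refine pr_of_not h P.pr.ht (P.s_inZ h i) (fun h1 => P.e_ne_one h i (mul_eq_left.1 h1.symm)) ?_ ?_
  · rw [mul_assoc, P.e_t h]
  · rw [← mul_assoc, P.t2 h, one_mul]; exact P.e_not_inZ h hn i

theorem sw_e (hn : NoOne Om) (i : Fin 3) : Sw Om t (ee z t x i) := by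
  intro M hM h1
  apply (P.pr_teN h hn i).sw M hM
  have h2 : Fx Om t t := (Inn.of_CX (z_mem_CX h)).fx h
  rw [cj_mul, h1, h2 M hM]

theorem sw_z (hn : NoOne Om) : Sw Om t z := by
  have hez : ∀ i, ee z t x i * t = t * ee z t x i := P.e_t h
  rcases fx_or_sw h P.pr.ht P.pr.comm with h1 | h1
  · exfalso
    have h2 : Fx Om t (ee z t x 0 * ee z t x (0 + 1)) :=
      (P.sw_e h hn 0).mul h (P.sw_e h hn _) (hez 0) (hez _)
    rw [P.e_mul h] at h2
    exact fx_sw_false P.pr.ht h2 (h1.mul_sw (P.sw_e h hn _))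
  · exact h1

/-- `z e_i = x_i x_i^t` fixes the members over `t` -/
theorem fx_ze (hn : NoOne Om) (i : Fin 3) : Fx Om t (z * ee z t x i) :=
  (P.sw_z h hn).mul h (P.sw_e h hn i) P.pr.comm (P.e_t h i)

end HP

theorem PR.symm' (hp : PR Om z t) (h : W2 Om) (hn : NoOne Om) : PR Om t z := by
  obtain ⟨K, x, P⟩ := hp.exists_hp h
  exact ⟨hp.ht, hp.hz, hp.ne.symm, hp.comm.symm, P.sw_z h hn⟩

/-- p-pairs have product outside `Z` -/
theorem PR.not_inZ (hp : PR Om z t) (h : W2 Om) (hn : NoOne Om) : ¬ InZ Om (z * t) := by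
  intro hzt
  obtain ⟨K, x, P⟩ := hp.exists_hp h
  set e := ee z t x 0 with he
  have het : e * t = t * e := P.e_t h 0
  have hez : e * z = z * e := P.e_z h 0
  have hs : InZ Om (t * e) := P.s_inZ h 0
  have hxz : x 0 * z * (x 0)⁻¹ = z := by rw [← P.q.zc 0, mul_inv_cancel_right]
  have hconj : x 0 * t * (x 0)⁻¹ = t * e := P.conj_t h 0
  -- `z` moves the members over `t e`
  have h1 : PR Om (t * e) z := by
    have := (hp.symm' h hn).conj h (x 0)
    rwa [hxz, hconj] at this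
  -- `t` moves the members over `t e`
  have h2 : PR Om (t * e) t := (P.pr_teN h hn 0).symm' h hn
  -- `z t` moves the members over `t e`
  have h3 : PR Om (t * e) (z * t) := by
    refine pr_of_not h hs hzt ?_ ?_ ?_
    · intro h4
      rw [hp.comm] at h4
      exact P.e_ne_z h 0 (mul_left_cancel h4)
    · calc t * e * (z * t) = t * (e * z) * t := by group
        _ = t * z * (e * t) := by rw [hez]; group
        _ = (z * t) * (t * e) := by rw [het, hp.comm]
        _ = _ := by group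
    · have h5 : t * e * (z * t) = z * e := by
        calc t * e * (z * t) = t * e * (t * z) := by rw [hp.comm]
          _ = t * (e * t) * z := by group
          _ = (t * t) * (e * z) := by rw [het]; group
          _ = z * e := by rw [P.t2 h, one_mul, hez]
      rw [h5]
      intro h6
      have h7 : z * e = z := hn.eq_of_RZ h hp.hz h6 (mul_mem (z_mem_RZ hp.hz h) (P.e_mem h 0))
      exact P.e_ne_one h 0 (mul_eq_left.1 h7)
  have h4 : Fx Om (t * e) (z * t) := Sw.mul h h1.sw h2.sw h1.comm.symm h2.comm.symm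
  exact fx_sw_false hs h4 h3.sw

theorem PR.not_inZ_iff (h : W2 Om) (hn : NoOne Om) (hz : InZ Om z) (hv : InZ Om v) (hne : z ≠ v)
    (hc : z * v = v * z) : PR Om z v ↔ ¬ InZ Om (z * v) :=
  ⟨fun h1 => h1.not_inZ h hn, pr_of_not h hz hv hne hc⟩

end

end Cfsg.Agent.Cit.Nil.RTwo
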