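import Cfsg.Agent.Cit.Nil.RTwo.SPlane
import Cfsg.Agent.Cit.Nil.RTwo.AOne
import Cfsg.Agent.Cit.Nil.RTwo.NineT
import Cfsg.Agent.Cit.Nil.RTwo.UOne
import Cfsg.Agent.Cit.Nil.RTwo.TenP

/-!
# (b3) of helper386's (M2), `r = 2` (bb R18 #20410), in an abstract world

`BTh Om z` : two commuting type I partners of `z` whose product is a third one.

* `SW.bth` : world (S): from a plane;
* `AW.bth` : world (A) without `PTwo`; `AW.bth_eps` : world (A) with `EqEps`.
-/

set_option autoImplicit false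
set_option linter.style.haveILetI false
set_option linter.unusedSectionVars false

namespace Cfsg.Agent.Cit.Nil.RTwo

open Subgroup Cfsg Cit

variable {G : Type*} [Group G]

/-- two commuting type I partners of `z` whose product is a third one -/
structure BThX (Om : Set (Subgroup G)) (z s t : G) : Prop where
  ts : TI Om z s
  tt : TI Om z t
  st : TI Om z (s * t)
  comm : s * t = t * s
  fx : Fx Om s t

/-- two commuting type I partners of `z` whose product is a third one -/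
def BTh (Om : Set (Subgroup G)) (z : G) : Prop := ∃ s t, BThX Om z s t

section

variable [Finite G] {Om : Set (Subgroup G)} {K K1 K2 L M L1 L2 W : Subgroup G} {z t u v g r s x y w c c' d : G}
  {a b : Fin 3 → G}

/-- world (S) -/
theorem SW.bth (S : SW Om) (hz : InZ Om z) : BTh Om z := by
  have h := S.w
  obtain ⟨c0, c1, c2, hc, -⟩ := S.three z hz
  have h0 : c0 ∈ CC Om z := by rw [hc]; exact Set.mem_insert _ _
  obtain ⟨t, l⟩ := h0
  obtain ⟨W, P, hzW, htW⟩ := S.exists_plane l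
  obtain ⟨s, hs, s1, sz, st, szt⟩ := exists_not_mem P.card z t
  have hz1 : z ≠ 1 := hz.z1 h
  have t1 : t ≠ 1 := l.ti.2.1.z1 h
  have tz : t ≠ z := l.ne_zt.symm
  have I := P.ind h hzW htW hs hz1 t1 tz s1 sz st szt
  have ts1 : t * s ≠ 1 := fun e => st (by
    have := eq_inv_of_mul_eq_one_right e
    rw [inv_eq_of_mul_eq_one_right I.t2] at this
    exact this)
  have zts : z ≠ t * s := by
    intro e
    apply szt
    rw [e]
    calc s = (t * t) * s := by rw [I.t2, one_mul]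
      _ = t * (t * s) := mul_assoc _ _ _
      _ = t * (s * t) := by rw [P.comm htW hs]
      _ = t * s * t := (mul_assoc _ _ _).symm
  refine ⟨t, s, P.ti z hzW t htW hz1 t1 tz.symm, P.ti z hzW s hs hz1 s1 (Ne.symm sz),
    P.ti z hzW _ (mul_mem htW hs) hz1 ts1 zts, P.comm htW hs, ?_⟩
  exact (P.ti t htW s hs t1 s1 (Ne.symm st)).2.2.2.2.fx h

/-- world (A), all lines are of type f -/
theorem AW.bth (W : AW Om) (hF : ∀ s, TI Om z s → ¬ PTwo Om z s) (hz : InZ Om z) : BTh Om z := by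
  have h := W.w
  obtain ⟨K1, K2, a, b, D⟩ := W.dg z hz
  have h0 : TI Om z (a 0 * b 0) := (D.ti _).2 ⟨0, Or.inl rfl⟩
  have h1 : TI Om z (a 1 * b 1) := (D.ti _).2 ⟨1, Or.inl rfl⟩
  have h2 : TI Om z (a 2 * b 2) := (D.ti _).2 ⟨2, Or.inl rfl⟩
  have e : a 0 * b 0 * (a 1 * b 1) = a 2 * b 2 := D.w_mul h 0
  have hc := W.ti_comm h0 h1
  refine ⟨_, _, h0, h1, by rw [e]; exact h2, hc, ?_⟩
  have n1 : a 1 * b 1 ≠ a 0 * b 0 := by
    intro e1
    rw [e1, D.w_sq h] at e
    exact h2.2.1.z1 h e.symm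
  have n2 : a 1 * b 1 ≠ z * (a 0 * b 0) := by
    intro e1
    have e2 : a 0 * b 0 * (z * (a 0 * b 0)) = z := by
      have e3 := D.w_z h 0
      calc a 0 * b 0 * (z * (a 0 * b 0)) = (a 0 * b 0 * z) * (a 0 * b 0) := by group
        _ = z * (a 0 * b 0 * (a 0 * b 0)) := by rw [e3]; group
        _ = z := by rw [D.w_sq h, mul_one]
    rw [e1, e2] at e
    exact h2.2.2.1 e
  rcases fx_or_sw h h0.2.1 hc.symm with h3 | h3
  · exact h3
  · exact absurd ((W.sw_iff h0 h1 n1 n2).1 h3) (hF _ h0)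

/-- `EqEps` excludes `PTwo` on commuting points -/
theorem EqEps.not_pTwo (he : EqEps Om) (h : W2 Om) (hz : InZ Om z) (ht : InZ Om t) (hc : z * t = t * z) :
    ¬ PTwo Om z t := by
  rintro ⟨r, hr, hrt, hsw⟩
  have h1 : r * z = z * r := RZ_le_centralizer h hr
  exact fx_sw_false hz ((Inn.of_RZ hz h hr).fx h)
    ((he z t r hz ht hc h1 hrt (isPGroup_zpowers (isPGroup_RZ h hz) hr)).2 hsw)

/-- world (A) with `EqEps` -/
theorem AW.bth_eps (W : AW Om) (he : EqEps Om) (hz : InZ Om z) : BTh Om z :=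
  W.bth (fun _ hs => he.not_pTwo W.w hz hs.2.1 hs.2.2.2.1) hz

end

end Cfsg.Agent.Cit.Nil.RTwo
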