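import Cfsg.Agent.Cit.Nil.RTwo.TLine
import Cfsg.Agent.Cit.Nil.RTwo.NineT
import Cfsg.Agent.Cit.Nil.ROne.Close
import Cfsg.Agent.Cit.Nil.SC
import Cfsg.Agent.TwoFusion.StronglyEmbeddedBasic

/-!
# Section 11 of the blueprint: the members do not lie in `L = F*(G)`

* `Rot Om` : elementwise (C3);
* `EL Om L` : the world: `K ∩ L = ⟨z⟩` for the members `K`;
* `EL.not_ti` : a type I pair `(z, z ^ g)`, `g ∈ L`, is impossible;
* `EL.exists_pair` : there are commuting `z ≠ t` in `Z`;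
* `EL.not_se` (11.3) : `L` has no strongly embedded subgroup.

uses: `W2`, `EL`.
-/

set_option autoImplicit false
set_option linter.style.haveILetI false
set_option linter.unusedSectionVars false

namespace Cfsg.Agent.Cit.Nil.RTwo

open Subgroup Cfsg Cit

variable {G : Type*} [Group G]

/-- elementwise (C3) -/
def Rot (Om : Set (Subgroup G)) : Prop :=
  ∀ K ∈ Om, ∃ c ∈ normalizer (K : Set G), IsPGroup 3 (zpowers c) ∧ ∃ q ∈ K, c * q ≠ q * c

/-- the world: `L = F*(G)`, `K ∩ L = ⟨z⟩` -/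
structure EL [Finite G] (Om : Set (Subgroup G)) (L : Subgroup G) : Prop where
  w : W2 Om
  f : Nil.ROne.FSimp L
  /-- S1169 -/
  gold : Cit.ROne.Gold ↥L
  mem : ∀ z, InZ Om z → z ∈ L
  small : ∀ z K, Mem Om z K → ∀ k ∈ K, k ∈ L → k = 1 ∨ k = z
  rot : Rot Om
  ne : Om.Nonempty

section

variable [Finite G] {Om : Set (Subgroup G)} {z t s g : G} {K L S K1 K2 L1 L2 : Subgroup G} {a b p q : Fin 3 → G}

/-- an element of 3-power order acting non-trivially rotates the axes -/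
theorem exists_rot {c : G} {x : Fin 3 → G} (Q : Q3 K z x) (hcz : c * z = z * c) (hcK : cj c K = K)
    (h3 : IsPGroup 3 (zpowers c)) (hq : ∃ q ∈ K, c * q ≠ q * c) :
    ∃ σ, Act z x x c σ ∧ (∀ i, σ i ≠ i) := by
  obtain ⟨σ, hσ⟩ := Q.exists_act Q hcK hcz
  refine ⟨σ, hσ, ?_⟩
  obtain ⟨n, hn⟩ := h3 ⟨c, mem_zpowers c⟩
  have hn' : c ^ 3 ^ n = 1 := congrArg Subtype.val hn
  have hpow : ∀ m : ℕ, Act z x x (c ^ m) (σ ^ m) := by
    intro m
    induction m with
    | zero => rw [pow_zero, pow_zero]; exact Act.one x z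
    | succ m ih =>
      have h1 := ih.comp Q.z2 hσ hcz
      rw [pow_succ' c, pow_succ' σ]
      exact h1
  have h1 := hpow (3 ^ n)
  rw [hn'] at h1
  have h2 : σ ^ 3 ^ n = 1 := h1.unique Q (Act.one x z)
  have h3' : σ ^ 3 = 1 ∨ σ ^ 2 = 1 := by
    have key : ∀ σ : Equiv.Perm (Fin 3), σ ^ 3 = 1 ∨ σ ^ 2 = 1 := by decide
    exact key σ
  obtain ⟨k, hk⟩ : ∃ k, 3 ^ n = 2 * k + 1 := (show Odd (3 ^ n) from Odd.pow (by decide))
  have hσ1 : σ ≠ 1 := by
    rintro rfl
    obtain ⟨q, hq, hne⟩ := hq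
    apply hne
    -- `c ^ 2` centralises `K`
    have hin := hσ.inner Q hcz
    have e2 : c * c * q = q * (c * c) := by
      rcases hin q hq with e | e
      · rw [mul_inv_eq_iff_eq_mul] at e
        rw [mul_assoc, e, ← mul_assoc, e, mul_assoc]
      · rw [mul_inv_eq_iff_eq_mul] at e
        calc c * c * q = c * (c * q) := by group
          _ = c * (z * q * c) := by rw [e]
          _ = (c * z) * q * c := by group
          _ = z * (c * q) * c := by rw [hcz]; group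
          _ = z * (z * q * c) * c := by rw [e]
          _ = (z * z) * (q * (c * c)) := by group
          _ = _ := by rw [Q.z2, one_mul]
    -- `c` is a power of `c ^ 2`
    have e3 : c * (c * c) ^ k = 1 := by
      rw [← pow_two, ← pow_mul, ← pow_succ', ← hk, hn']
    have e4 : Commute ((c * c) ^ k) q := (show Commute (c * c) q from e2).pow_left k
    have e5 : c = ((c * c) ^ k)⁻¹ := eq_inv_of_mul_eq_one_left e3
    rw [e5]
    exact e4.inv_left.eq
  have hσ3 : σ ^ 3 = 1 := by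
    rcases h3' with h3' | h3'
    · exact h3'
    · exfalso
      apply hσ1
      rw [hk, pow_succ, pow_mul, h3', one_pow, one_mul] at h2
      exact h2
  have key : ∀ σ : Equiv.Perm (Fin 3), σ ≠ 1 → σ ^ 3 = 1 → ∀ i, σ i ≠ i := by decide
  exact key σ hσ1 hσ3

namespace EL

variable (E : EL Om L)

include E

theorem cen {x : G} (h1 : ∀ l ∈ L, x * l = l * x) : x = 1 := by
  have h2 : x ∈ centralizer (L : Set G) := mem_centralizer_iff.2 fun l hl => (h1 l hl).symm
  rwa [E.f.cen, mem_bot] at h2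

theorem syl (S : Sylow 2 G) : Syl ((S : Subgroup G) ⊓ L) L := by
  have h1 : Syl (S : Subgroup G) ⊤ := ⟨le_top, S.isPGroup', by rw [relIndex_top_right]; exact S.not_dvd_index⟩
  exact LB.syl_inf_normal h1 le_top (by rw [normalizer_eq_top_iff.2 E.f.nor])

theorem small4 (hK : Mem Om z K) {x : Fin 3 → G} (Q : Q3 K z x) (i : Fin 3) : x i ∉ L := by
  intro h1
  rcases E.small z K hK _ (Q.mem i) h1 with h2 | h2
  · exact Q.ne_one i h2
  · exact Q.ne_z i h2

/-- a type I pair `(z, z ^ g)`, `g ∈ L` -/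
theorem not_ti (hti : TI Om z s) (hg : g ∈ L) (hgs : g * z * g⁻¹ = s) : False := by
  have h := E.w
  have hn := E.f.nor
  have key : ∀ K1 K2 L1 L2 a b p q, Cf Om z s K1 K2 L1 L2 a b p q → cj g K1 = L1 → False := by
    intro K1 K2 L1 L2 a b p q C hL1
    obtain ⟨k, hk, hkp⟩ : ∃ k ∈ K1, g * k * g⁻¹ = p 0 := by
      have h1 := C.qc.mem 0
      rw [← hL1] at h1
      obtain ⟨k, hk, hk2⟩ := h1
      exact ⟨k, hk, hk2⟩
    have hzL := E.mem z hti.1
    -- `p 0 = l k`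
    obtain ⟨l, hl, hlp⟩ : ∃ l ∈ L, p 0 = l * k := by
      refine ⟨g * k * g⁻¹ * k⁻¹, ?_, by rw [hkp]; group⟩
      have h1 := L.mul_mem hg (hn.conj_mem _ (L.inv_mem hg) k)
      have h2 : g * (k * g⁻¹ * k⁻¹) = g * k * g⁻¹ * k⁻¹ := by group
      rwa [h2] at h1
    have hcomm : a 1 * k * (a 1)⁻¹ * k⁻¹ ∈ L := by
      rcases Inn.of_mem C.k1 h (C.qa.mem 1) K1 C.k1 k hk with h1 | h1
      · rw [h1, mul_inv_cancel]; exact L.one_mem
      · rw [h1, mul_inv_cancel_right]; exact hzL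
    have h3 : a 1 * p 0 * (a 1)⁻¹ * (p 0)⁻¹ ∈ L := by
      have e : a 1 * p 0 * (a 1)⁻¹ * (p 0)⁻¹ = (a 1 * l * (a 1)⁻¹) * (a 1 * k * (a 1)⁻¹ * k⁻¹) * l⁻¹ := by
        rw [hlp]; group
      rw [e]
      exact L.mul_mem (L.mul_mem (hn.conj_mem _ hl _) hcomm) (L.inv_mem hl)
    have h4 : a 0 ∈ L := by
      rcases C.conj_ac h with h5 | h5 <;> rw [h5] at h3
      · rwa [mul_inv_cancel_right] at h3
      · have h6 := L.mul_mem hzL h3
        have h7 : z * (z * (a 0 * p 0) * (p 0)⁻¹) = (z * z) * a 0 := by group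
        rwa [h7, C.z2, one_mul] at h6
    exact E.small4 C.k1 C.qa 0 h4
  obtain ⟨K1, K2, L1, L2, a, b, p, q, C⟩ := hti.exists_cf h
  have h1 : Mem Om s (cj g K1) := by
    have h2 := C.k1.cj h g
    rwa [hgs] at h2
  rcases C.l1.cases C.l2 h C.lne h1 with h2 | h2
  · exact key _ _ _ _ _ _ _ _ C h2
  · exact key _ _ _ _ _ _ _ _ C.swl h2

/-- there are commuting `z ≠ t` in `Z` -/
theorem exists_pair : ∃ z t, InZ Om z ∧ InZ Om t ∧ z ≠ t ∧ z * t = t * z := by
  haveI : Fact (Nat.Prime 2) := ⟨Nat.prime_two⟩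
  have h := E.w
  by_contra hno
  push Not at hno
  obtain ⟨P⟩ := (inferInstance : Nonempty (Sylow 2 G))
  obtain ⟨z, hz, hzP⟩ := h.exists_central E.ne P
  have hz' : z ∈ (P : Subgroup G) := by
    have h1 : IsPGroup 2 ((P : Subgroup G) ⊔ zpowers z : Subgroup G) := by
      refine Cit.OneBasic.isPGroup_sup_of_normalizes P.isPGroup' (hz.isPGroup h) ?_
      intro s hs
      rw [mem_normalizer_iff_cj]
      have h2 : s * z * s⁻¹ = z := by rw [hzP s hs, mul_inv_cancel_right]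
      show (zpowers z).map (MulAut.conj s).toMonoidHom = _
      rw [MonoidHom.map_zpowers]
      show zpowers (s * z * s⁻¹) = _
      rw [h2]
    have h3 := P.is_maximal' h1 le_sup_left
    rw [← h3]
    exact mem_sup_right (mem_zpowers z)
  obtain ⟨N, hN, hNo, hNc⟩ := S0215.result P z (hz.orderOf h) hz' (by
    intro g hg
    by_contra hne
    exact hno z _ hz (hz.conj h g) (Ne.symm hne) (hzP _ hg).symm)
  have hM : N = ⊥ := by
    by_contra hne
    have h1 : L ≤ N := E.f.le (fun g _ n hn => hN.conj_mem n hn g) hne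
    have h2 : z ∈ N := h1 (E.mem z hz)
    have h3 : orderOf z ∣ Nat.card N := by
      rw [← Nat.card_zpowers]
      exact card_dvd_of_le (zpowers_le.2 h2)
    rw [hz.orderOf h] at h3
    rw [Nat.odd_iff] at hNo
    omega
  refine hz.z1 h (E.cen fun l _ => ?_)
  have h2 := hNc l
  rw [hM, mem_bot, mul_inv_eq_one, mul_inv_eq_iff_eq_mul] at h2
  exact h2

/-- (11.3) -/
theorem not_se (H : Subgroup L) : ¬ Cfsg.IsStronglyEmbedded H := by
  intro hH
  have h := E.w
  have hn := E.f.nor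
  have one : ∀ a b, a ∈ L → b ∈ L → orderOf a = 2 → orderOf b = 2 → ∃ g ∈ L, g * a * g⁻¹ = b := by
    intro a b ha hb ha2 hb2
    have h1 := TwoFusion.StronglyEmbeddedBasic.isConj_of_involutions hH (⟨a, ha⟩ : L) ⟨b, hb⟩
      (by rw [← orderOf_coe]; exact ha2) (by rw [← orderOf_coe]; exact hb2)
    obtain ⟨c, hc⟩ := isConj_iff.1 h1
    exact ⟨c, c.2, congrArg Subtype.val hc⟩
  have noti : ∀ z s, TI Om z s → False := by
    intro z s hti
    obtain ⟨g, hg, hgs⟩ := one z s (E.mem z hti.1) (E.mem s hti.2.1) (hti.1.orderOf h) (hti.2.1.orderOf h)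
    exact E.not_ti hti hg hgs
  obtain ⟨z, t, hz, ht, hne, hc⟩ := E.exists_pair
  have htL := E.mem t ht
  rcases tcases h hz ht hne hc with h1 | h1 | h1
  · obtain ⟨K, x, P⟩ := h1.exists_hp h
    have he : ee z t x 0 ∈ L := by
      have e : ee z t x 0 = z * (x 0 * x 0) * ((x 0)⁻¹ * t * (x 0)⁻¹⁻¹) * t⁻¹ := by
        rw [ee]; group
      rw [e, P.q.sq, P.q.z2, one_mul]
      exact L.mul_mem (hn.conj_mem _ htL _) (L.inv_mem htL)
    obtain ⟨g, hg, hge⟩ := one z _ (E.mem z hz) he (hz.orderOf h)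
      (orderOf_eq_prime (by rw [pow_two]; exact P.e_sq h 0) (P.e_ne_one h 0))
    have h2 : InZ Om (ee z t x 0) := by rw [← hge]; exact hz.conj h g
    exact noti z _ ⟨hz, h2, (P.e_ne_z h 0).symm, (RZ_le_centralizer h (P.e_mem h 0)).symm,
      Inn.of_RZ hz h (P.e_mem h 0)⟩
  · obtain ⟨K, hK⟩ := hz
    obtain ⟨x, Q, h2, -, -⟩ := h1.coord h hK
    have h3 : (x 0)⁻¹ * x 1 ∈ L := by
      have e : (x 0)⁻¹ * x 1 = ((x 0)⁻¹ * t * (x 0)⁻¹⁻¹) * t⁻¹ := by
        rw [← h2]; group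
      rw [e]
      exact L.mul_mem (hn.conj_mem _ htL _) (L.inv_mem htL)
    rw [Q.inv, mul_assoc, show x 0 * x 1 = x 2 from Q.mul 0] at h3
    have h4 := L.mul_mem (E.mem z hK.inZ) h3
    rw [Q.zzx] at h4
    exact E.small4 hK Q 2 h4
  · exact noti z t h1

end EL

end

end Cfsg.Agent.Cit.Nil.RTwo
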