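import Cfsg.Agent.Cit.Nil.RTwo.UKind

/-!
# Joined and disjoint pairs: section U3 of `CIT-6b-r2m1-U-helper141.md`

* `FP Om z t K x L l` (TTwo) : joined pair with adapted coordinates (`t e_i = z f_i`);
* `DP Om z t K x L l` : disjoint pair;
* `HP.joined_or` : KINDS LEMMA, final form; `JN`, `DJ` : the same without coordinates;
* `DP.lab` : `(z, z t_i t'_j)` is a line with label `z t'_j`; `DP.fp` : `(z, z t t'_j)` is joined;
* `FP.cx` : `C_X(t) = ⟨z⟩ (X_z ∩ X_t)`;
* `FP.six`, `FP.seven` : labels `c` commuting with `t`.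
-/

set_option autoImplicit false
set_option linter.style.haveILetI false
set_option linter.unusedSectionVars false
set_option maxHeartbeats 400000

namespace Cfsg.Agent.Cit.Nil.RTwo

open Subgroup Cfsg Cit

variable {G : Type*} [Group G]

/-- a disjoint pair of type p: `T ≤ X_t`, `T' ≤ X_z` -/
structure DP (Om : Set (Subgroup G)) (z t : G) (K : Subgroup G) (x : Fin 3 → G) (L : Subgroup G)
    (l : Fin 3 → G) : Prop where
  P : HP Om z t K x
  Q : HP Om t z L l
  cx : ∀ i, z * ee z t x i ∈ CX Om t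
  cx' : ∀ j, t * ee t z l j ∈ CX Om z

/-- joined pair -/
def JN (Om : Set (Subgroup G)) (z t : G) : Prop := ∃ K x L l, FP Om z t K x L l

/-- disjoint pair -/
def DJ (Om : Set (Subgroup G)) (z t : G) : Prop := ∃ K x L l, DP Om z t K x L l

section

variable [Finite G] {Om : Set (Subgroup G)} {K K1 K2 L M L1 L2 : Subgroup G} {z t u v g r s x y w c c' : G}
  {a b p q : Fin 3 → G}

namespace HP

variable {x l : Fin 3 → G} {i j : Fin 3}

theorem exists_fpN (P : HP Om z t K x) (Q : HP Om t z L l) (h : W2 Om)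
    (h1 : ∀ i, ∃ j, z * ee z t x i = t * ee t z l j) : ∃ l', FP Om z t K x L l' := by
  have hzt : z * t = t * z := P.pr.comm
  have h1' : ∀ i, ∃ a, t * ee z t x i = z * ee t z l a := by
    intro i
    obtain ⟨a, ha⟩ := h1 i
    refine ⟨a, ?_⟩
    have h2 : ee z t x i = z * (t * ee t z l a) := by rw [← ha, P.q.zzx]
    rw [h2]
    calc t * (z * (t * ee t z l a)) = (t * z) * (t * ee t z l a) := by group
      _ = z * (t * (t * ee t z l a)) := by rw [← hzt]; group
      _ = _ := by rw [Q.q.zzx]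
  choose a ha using h1'
  have hinj : Function.Injective a := by
    intro i j hij
    apply P.e_inj h
    have h2 := ha i
    rw [hij, ← ha j] at h2
    exact mul_left_cancel h2
  obtain ⟨l', hl', hσ⟩ := Q.q.perm (Equiv.ofBijective a (Finite.injective_iff_bijective.1 hinj))
  refine ⟨l', P, ⟨Q.pr, Q.hK, hl'⟩, fun i => ?_⟩
  rw [ha i]
  congr 1
  have h2 : l' i = l (a i) ∨ l' i = t * l (a i) := hσ i
  rcases h2 with h2 | h2
  · rw [ee, ee, h2]
  · rw [ee, ee, h2]
    calc t * l (a i) * (z * l (a i) * z⁻¹)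
        = t * l (a i) * (z * l (a i) * z⁻¹) * (t * t) := by rw [P.t2 h, mul_one]
      _ = t * (l (a i) * t) * (z * l (a i) * z⁻¹) * t := by
        have h3 := Q.q'.zc (a i)
        calc t * l (a i) * (z * l (a i) * z⁻¹) * (t * t) = t * l (a i) * ((z * l (a i) * z⁻¹) * t) * t := by group
          _ = t * l (a i) * (t * (z * l (a i) * z⁻¹)) * t := by rw [h3]
          _ = _ := by group
      _ = t * (t * l (a i)) * ((z * l (a i) * z⁻¹) * t) := by rw [Q.q.zc]; group
      _ = t * (t * l (a i)) * (t * (z * l (a i) * z⁻¹)) := by rw [← Q.q'.zc (a i)]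
      _ = t * (t * l (a i)) * ((t * z) * l (a i) * z⁻¹) := by group
      _ = _ := by rw [← hzt]; group

/-- **KINDS LEMMA**, final form -/
theorem joined_or (P : HP Om z t K x) (Q : HP Om t z L l) (h : W2 Om) (hn : NoOne Om) :
    (∃ l', FP Om z t K x L l') ∨ DP Om z t K x L l := by
  rcases P.kinds Q h hn with h1 | h1
  · rcases Q.kinds P h hn with h2 | h2
    · exact Or.inr ⟨P, Q, h1, h2⟩
    · exfalso
      obtain ⟨j, hj⟩ := h2 0
      rcases RTwo.RZ_inf_CX h P.pr.ht (Q.c_mem h 0) (by rw [hj]; exact h1 j) with h3 | h3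
      · exact Q.c_ne_one h 0 h3
      · exact P.pr.ne (hn.eq_of_RZ h P.pr.hz P.pr.ht (by rw [← h3, hj]; exact P.c_mem h j)).symm
  · exact Or.inl (P.exists_fpN Q h h1)

/-- the elements of `R_z` commuting with `t` and fixing the members over `t` -/
theorem tt_iff (P : HP Om z t K x) (h : W2 Om) (hn : NoOne Om) :
    (r ∈ RZ Om z ∧ r * t = t * r ∧ Fx Om t r) ↔ (r = 1 ∨ ∃ i, r = z * ee z t x i) := by
  constructor
  · rintro ⟨h1, h2, h3⟩
    rcases P.RZ_comm h h1 h2 with h4 | h4 | ⟨i, h4 | h4⟩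
    · exact Or.inl h4
    · exact absurd (P.sw_z h hn) fun h5 => fx_sw_false P.pr.ht h3 (by rw [h4]; exact h5)
    · exact absurd (P.sw_e h hn i) fun h5 => fx_sw_false P.pr.ht h3 (by rw [h4]; exact h5)
    · exact Or.inr ⟨i, h4⟩
  · rintro (rfl | ⟨i, rfl⟩)
    · refine ⟨one_mem _, by group, fun M _ => ?_⟩
      exact cj_one M
    · exact ⟨P.c_mem h i, P.c_t h i, P.fx_ze h hn i⟩

end HP

namespace FP

variable {x l : Fin 3 → G} {i j : Fin 3}

/-- `T = T'` -/
theorem c_eq (F : FP Om z t K x L l) (h : W2 Om) (i : Fin 3) : z * ee z t x i = t * ee t z l i := by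
  have hzt : z * t = t * z := F.P.pr.comm
  have h1 : ee z t x i = t * (z * ee t z l i) := by
    rw [← F.eq i, F.Q.q.zzx]
  rw [h1]
  calc z * (t * (z * ee t z l i)) = (z * t) * (z * ee t z l i) := by group
    _ = t * (z * (z * ee t z l i)) := by rw [hzt]; group
    _ = _ := by rw [F.P.q.zzx]

theorem c_mem' (F : FP Om z t K x L l) (h : W2 Om) (i : Fin 3) : z * ee z t x i ∈ RZ Om t := by
  rw [F.c_eq h]; exact F.Q.c_mem h i

/-- `C_X(t) = ⟨z⟩ (X_z ∩ X_t)` -/
theorem cx (F : FP Om z t K x L l) (h : W2 Om) (hn : NoOne Om) (hy : y ∈ CX Om z) (hyt : y * t = t * y) :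
    y ∈ CX Om t ∨ z * y ∈ CX Om t := by
  have hzt : z * t = t * z := F.P.pr.comm
  have key : ∀ y, y ∈ CX Om z → y * t = t * y → cj y L = L → y ∈ CX Om t := by
    intro y hy hyt hf
    have hyz : y * z = z * y := CX_le F.P.pr.hz h hy
    have hye : ∀ i, y * ee t z l i = ee t z l i * y := by
      intro i
      have h1 : ee t z l i = z * t * ee z t x i := by
        rw [mul_assoc, F.eq i, F.P.q.zzx]
      rw [h1]
      have h2 : y * ee z t x i = ee z t x i * y := CX_comm (F.P.e_mem h i) hy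
      calc y * (z * t * ee z t x i) = (y * z) * t * ee z t x i := by group
        _ = z * (y * t) * ee z t x i := by rw [hyz]; group
        _ = z * t * (y * ee z t x i) := by rw [hyt]; group
        _ = _ := by rw [h2]; group
    rcases F.Q.cases_of_fix h hyz hyt hye hf with h1 | ⟨j, h1⟩
    · exact h1
    · exact F.mem_of_mul h hy h1
  rcases fx_or_sw h F.P.pr.ht hyt with h1 | h1
  · exact Or.inl (key y hy hyt (h1 L F.Q.hK))
  · right
    refine key _ (mul_mem (z_mem_CX h) hy) ?_ ?_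
    · rw [mul_assoc, hyt, ← mul_assoc, hzt, mul_assoc]
    · exact (F.P.sw_z h hn).mul h h1 hzt hyt L F.Q.hK

/-- `l_i z l_i⁻¹ = t e_i` -/
theorem conj_z (F : FP Om z t K x L l) (h : W2 Om) (i : Fin 3) : l i * z * (l i)⁻¹ = t * ee z t x i := by
  rw [F.conj_eq h, F.P.conj_t h]

/-- `l_i` commutes with `z e_i` -/
theorem conj_c (F : FP Om z t K x L l) (h : W2 Om) (i : Fin 3) :
    l i * (z * ee z t x i) * (l i)⁻¹ = z * ee z t x i := by
  rw [F.c_eq h]
  calc l i * (t * ee t z l i) * (l i)⁻¹ = (l i * t) * ee t z l i * (l i)⁻¹ := by group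
    _ = t * (l i * ee t z l i * (l i)⁻¹) := by rw [← F.Q.q.zc]; group
    _ = _ := by rw [F.Q.x_e_self h]

/-- (3): the other element of `Z ∩ t X_z` commuting with `t` -/
theorem three (F : FP Om z t K x L l) (h : W2 Om) (hn : NoOne Om) (hs : InZ Om s) (hst : s * t = t * s)
    (hne : s ≠ t) (hx : t * s ∈ CX Om z) :
    z * (t * s) ∈ CX Om t ∧ ∀ i, InZ Om (t * s * (z * ee z t x i)) := by
  have hzt : z * t = t * z := F.P.pr.comm
  have ht2 : t * t = 1 := F.P.t2 h
  have h1 : t * s * t = t * (t * s) := by rw [mul_assoc, hst]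
  have h2 : z * (t * s) ∈ CX Om t := by
    rcases F.cx h hn hx h1 with h3 | h3
    · exfalso
      apply hne
      refine eq_of_CX' h F.P.pr.ht hs ?_
      have h4 := mul_mem (inv_mem (z_mem_CX (Om := Om) (z := t) h)) h3
      rwa [inv_mul_cancel_left] at h4
    · exact h3
  refine ⟨h2, fun i => ?_⟩
  -- `s = t z y`, `y = z t s ∈ X_t`
  have h5 : l i * s * (l i)⁻¹ = t * s * (z * ee z t x i) := by
    set y := z * (t * s) with hy
    have hly : l i * y * (l i)⁻¹ = y := by
      rw [← mem_CX.1 h2 L F.Q.hK _ (F.Q.q.mem i), mul_inv_cancel_right]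
    have hs' : s = t * z * y := by
      rw [hy]
      calc s = (t * t) * s := by rw [ht2, one_mul]
        _ = t * (z * z) * (t * s) := by rw [F.P.q.z2]; group
        _ = _ := by group
    have hlt : l i * t * (l i)⁻¹ = t := by rw [← F.Q.q.zc, mul_inv_cancel_right]
    have hxz : t * s * z = z * (t * s) := CX_le F.P.pr.hz h hx
    have hxe : ee z t x i * (z * (t * s)) = z * (t * s) * ee z t x i :=
      (CX_comm (F.P.e_mem h i) (mul_mem (z_mem_CX h) hx)).symm
    calc l i * s * (l i)⁻¹ = l i * (t * z * y) * (l i)⁻¹ := by rw [← hs']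
      _ = (l i * t * (l i)⁻¹) * (l i * z * (l i)⁻¹) * (l i * y * (l i)⁻¹) := by group
      _ = t * (t * ee z t x i) * y := by rw [hlt, hly, F.conj_z h]
      _ = ee z t x i * y := by rw [F.Q.q.zzx]
      _ = z * (t * s) * ee z t x i := by rw [hy]; exact hxe
      _ = _ := by rw [← hxz]; group
  rw [← h5]
  exact hs.conj h _

/-- TYPE 6 -/
theorem six (F : FP Om z t K x L l) (h : W2 Om) (hc : c ∈ CX Om z) (hct : c ∈ CX Om t)
    (hZ : InZ Om (z * (z * ee z t x i) * c)) : InZ Om (z * t * c) := by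
  have hlc : l i * c * (l i)⁻¹ = c := by
    rw [← mem_CX.1 hct L F.Q.hK _ (F.Q.q.mem i), mul_inv_cancel_right]
  have h1 : l i * (z * (z * ee z t x i) * c) * (l i)⁻¹ = z * t * c := by
    have hzt : z * t = t * z := F.P.pr.comm
    calc l i * (z * (z * ee z t x i) * c) * (l i)⁻¹ =
        (l i * z * (l i)⁻¹) * (l i * (z * ee z t x i) * (l i)⁻¹) * (l i * c * (l i)⁻¹) := by group
      _ = t * ee z t x i * (z * ee z t x i) * c := by rw [F.conj_z h, F.conj_c h, hlc]
      _ = t * (ee z t x i * z) * ee z t x i * c := by group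
      _ = t * z * (ee z t x i * ee z t x i) * c := by rw [F.P.e_z h]; group
      _ = _ := by rw [F.P.e_sq h, mul_one, ← hzt]
  rw [← h1]
  exact hZ.conj h _

/-- TYPE 7 -/
theorem seven (F : FP Om z t K x L l) (h : W2 Om) (hc : c ∈ CX Om z) (hct : z * c ∈ CX Om t)
    (hZ : InZ Om (z * ee z t x i * c)) : l i * (z * ee z t x i * c) * (l i)⁻¹ = t * c ∧ InZ Om (t * c) := by
  have hlc : l i * (z * c) * (l i)⁻¹ = z * c := by
    rw [← mem_CX.1 hct L F.Q.hK _ (F.Q.q.mem i), mul_inv_cancel_right]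
  have hcz : c * z = z * c := CX_le F.P.pr.hz h hc
  have h1 : l i * (z * ee z t x i * c) * (l i)⁻¹ = t * c := by
    have e : z * ee z t x i * c = z * ee z t x i * z * (z * c) := by
      calc z * ee z t x i * c = z * ee z t x i * (z * z) * c := by rw [F.P.q.z2, mul_one]
        _ = _ := by group
    rw [e]
    calc l i * (z * ee z t x i * z * (z * c)) * (l i)⁻¹ =
        (l i * (z * ee z t x i) * (l i)⁻¹) * (l i * z * (l i)⁻¹) * (l i * (z * c) * (l i)⁻¹) := by group
      _ = z * ee z t x i * (t * ee z t x i) * (z * c) := by rw [F.conj_z h, F.conj_c h, hlc]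
      _ = z * (ee z t x i * t) * ee z t x i * (z * c) := by group
      _ = z * t * (ee z t x i * ee z t x i) * (z * c) := by rw [F.P.e_t h]; group
      _ = (z * t) * z * c := by rw [F.P.e_sq h]; group
      _ = t * (z * z) * c := by rw [F.P.pr.comm]; group
      _ = _ := by rw [F.P.q.z2, mul_one]
  refine ⟨h1, ?_⟩
  rw [← h1]
  exact hZ.conj h _

theorem conj (F : FP Om z t K x L l) (h : W2 Om) (g : G) :
    FP Om (g * z * g⁻¹) (g * t * g⁻¹) (cj g K) (fun i => g * x i * g⁻¹) (cj g L) (fun i => g * l i * g⁻¹) := by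
  refine ⟨⟨F.P.pr.conj h g, F.P.hK.cj h g, F.P.q.conj g⟩, ⟨F.Q.pr.conj h g, F.Q.hK.cj h g, F.Q.q.conj g⟩,
    fun i => ?_⟩
  have e1 : g * t * g⁻¹ * ee (g * z * g⁻¹) (g * t * g⁻¹) (fun i => g * x i * g⁻¹) i = g * (t * ee z t x i) * g⁻¹ := by
    rw [ee, ee]; group
  have e2 : g * z * g⁻¹ * ee (g * t * g⁻¹) (g * z * g⁻¹) (fun i => g * l i * g⁻¹) i = g * (z * ee t z l i) * g⁻¹ := by
    rw [ee, ee]; group
  rw [e1, e2, F.eq i]

end FP

namespace DP

variable {x l : Fin 3 → G} {i j : Fin 3}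

theorem symm (D : DP Om z t K x L l) : DP Om t z L l K x := ⟨D.Q, D.P, D.cx', D.cx⟩

theorem not_joined (D : DP Om z t K x L l) (h : W2 Om) (hn : NoOne Om) (h1 : z * ee z t x i ∈ RZ Om t) : False := by
  rcases RTwo.RZ_inf_CX h D.P.pr.ht h1 (D.cx i) with h3 | h3
  · exact D.P.c_ne_one h i h3
  · exact D.P.pr.ne (hn.eq_of_RZ h D.P.pr.hz D.P.pr.ht (by rw [← h3]; exact D.P.c_mem h i)).symm

theorem conj_c (D : DP Om z t K x L l) (h : W2 Om) (i j : Fin 3) :
    l j * (z * ee z t x i) * (l j)⁻¹ = z * ee z t x i := by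
  rw [← mem_CX.1 (D.cx i) L D.Q.hK _ (D.Q.q.mem j), mul_inv_cancel_right]

theorem conj_c' (D : DP Om z t K x L l) (h : W2 Om) (i j : Fin 3) :
    x i * (t * ee t z l j) * (x i)⁻¹ = t * ee t z l j := D.symm.conj_c h j i

/-- `l_j` commutes with `t'_j` -/
theorem conj_self (D : DP Om z t K x L l) (h : W2 Om) (j : Fin 3) :
    l j * (t * ee t z l j) * (l j)⁻¹ = t * ee t z l j := by
  calc l j * (t * ee t z l j) * (l j)⁻¹ = (l j * t) * ee t z l j * (l j)⁻¹ := by group
    _ = t * (l j * ee t z l j * (l j)⁻¹) := by rw [← D.Q.q.zc]; group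
    _ = _ := by rw [D.Q.x_e_self h]

/-- `g = l_j x_i` maps `t` to `z t_i t'_j` -/
theorem conj_t (D : DP Om z t K x L l) (h : W2 Om) (i j : Fin 3) :
    (l j * x i) * t * (l j * x i)⁻¹ = z * (z * ee z t x i) * (t * ee t z l j) := by
  have h1 : x i * t * (x i)⁻¹ = t * z * (z * ee z t x i) := by
    rw [D.P.conj_t h, mul_assoc t z, D.P.q.zzx]
  have hlt : l j * t * (l j)⁻¹ = t := by rw [← D.Q.q.zc, mul_inv_cancel_right]
  have hzt : z * t = t * z := D.P.pr.comm
  have hct : t * (z * ee z t x i) = z * ee z t x i * t := (D.P.c_t h i).symm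
  have hce : ee t z l j * (z * ee z t x i) = z * ee z t x i * ee t z l j :=
    (CX_comm (D.Q.e_mem h j) (D.cx i)).symm
  calc (l j * x i) * t * (l j * x i)⁻¹ = l j * (x i * t * (x i)⁻¹) * (l j)⁻¹ := by group
    _ = l j * (t * z * (z * ee z t x i)) * (l j)⁻¹ := by rw [h1]
    _ = (l j * t * (l j)⁻¹) * (l j * z * (l j)⁻¹) * (l j * (z * ee z t x i) * (l j)⁻¹) := by group
    _ = t * (z * ee t z l j) * (z * ee z t x i) := by rw [hlt, D.Q.conj_t h, D.conj_c h]
    _ = (t * z) * (ee t z l j * (z * ee z t x i)) := by group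
    _ = (z * t) * ((z * ee z t x i) * ee t z l j) := by rw [hce, hzt]
    _ = z * (t * (z * ee z t x i)) * ee t z l j := by group
    _ = z * ((z * ee z t x i) * t) * ee t z l j := by rw [hct]
    _ = _ := by group

/-- `g = l_j x_i` maps `t t_i` to `z t'_j` -/
theorem conj_tc (D : DP Om z t K x L l) (h : W2 Om) (i j : Fin 3) :
    (l j * x i) * (t * (z * ee z t x i)) * (l j * x i)⁻¹ = z * (t * ee t z l j) := by
  have hxc : x i * (z * ee z t x i) * (x i)⁻¹ = z * ee z t x i := by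
    calc x i * (z * ee z t x i) * (x i)⁻¹ = (x i * z) * ee z t x i * (x i)⁻¹ := by group
      _ = z * (x i * ee z t x i * (x i)⁻¹) := by rw [← D.P.q.zc]; group
      _ = _ := by rw [D.P.x_e_self h]
  have e : (l j * x i) * (t * (z * ee z t x i)) * (l j * x i)⁻¹ = ((l j * x i) * t * (l j * x i)⁻¹) *
      (l j * (x i * (z * ee z t x i) * (x i)⁻¹) * (l j)⁻¹) := by group
  rw [e, D.conj_t h, hxc, D.conj_c h]
  have hcc : (t * ee t z l j) * (z * ee z t x i) = z * ee z t x i * (t * ee t z l j) :=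
    (CX_comm (D.Q.c_mem h j) (D.cx i)).symm
  calc z * (z * ee z t x i) * (t * ee t z l j) * (z * ee z t x i) =
      z * (z * ee z t x i) * ((t * ee t z l j) * (z * ee z t x i)) := by group
    _ = z * ((z * ee z t x i) * (z * ee z t x i)) * (t * ee t z l j) := by rw [hcc]; group
    _ = _ := by rw [D.P.c_sq h, mul_one]

/-- U2 (3): `(z, z t_i t'_j)` is a line with label `z t'_j` -/
theorem lab (D : DP Om z t K x L l) (h : W2 Om) (i j : Fin 3) :
    Lab Om z (z * (z * ee z t x i) * (t * ee t z l j)) (z * (t * ee t z l j)) := by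
  have hzT : z * ee z t x i * z = z * (z * ee z t x i) := D.P.c_z h i
  have hzT' : t * ee t z l j * z = z * (t * ee t z l j) := D.Q.c_t h j
  have hcc : (t * ee t z l j) * (z * ee z t x i) = z * ee z t x i * (t * ee t z l j) :=
    (CX_comm (D.Q.c_mem h j) (D.cx i)).symm
  have hTT' : t * ee t z l j * (t * ee t z l j) = 1 := D.Q.c_sq h j
  have hZ : InZ Om (z * (z * ee z t x i) * (t * ee t z l j)) := by
    rw [← D.conj_t h]; exact D.P.pr.ht.conj h _
  have hz2 := D.P.q.z2
  have hmul : z * (z * ee z t x i) * (t * ee t z l j) * (z * (t * ee t z l j)) = z * ee z t x i := by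
    calc z * (z * ee z t x i) * (t * ee t z l j) * (z * (t * ee t z l j)) =
        z * (z * ee z t x i) * ((t * ee t z l j) * z) * (t * ee t z l j) := by group
      _ = z * ((z * ee z t x i) * z) * ((t * ee t z l j) * (t * ee t z l j)) := by rw [hzT']; group
      _ = (z * z) * (z * ee z t x i) := by rw [hTT', hzT]; group
      _ = _ := by rw [hz2, one_mul]
  refine ⟨⟨D.P.pr.hz, hZ, ?_, ?_, ?_⟩, ?_, mul_mem (z_mem_CX h) (D.cx' j), ?_, ?_, ?_⟩
  · intro e
    rw [mul_assoc] at e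
    have h1 : (z * ee z t x i) * (t * ee t z l j) = 1 := mul_eq_left.1 e.symm
    rw [mul_eq_one_iff_eq_inv, inv_eq_of_mul_eq_one_right hTT'] at h1
    rcases RTwo.RZ_inf_CX h D.P.pr.hz (D.P.c_mem h i) (by rw [h1]; exact D.cx' j) with h3 | h3
    · exact D.P.c_ne_one h i h3
    · exact D.P.e_ne_one h i (mul_eq_left.1 h3)
  · calc z * (z * (z * ee z t x i) * (t * ee t z l j)) = z * (z * (z * ee z t x i)) * (t * ee t z l j) := by group
      _ = z * ((z * ee z t x i) * z) * (t * ee t z l j) := by rw [hzT]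
      _ = z * (z * ee z t x i) * (z * (t * ee t z l j)) := by group
      _ = z * (z * ee z t x i) * ((t * ee t z l j) * z) := by rw [hzT']
      _ = _ := by group
  · exact ((Inn.of_RZ D.P.pr.hz h (mul_mem (z_mem_RZ D.P.pr.hz h) (D.P.c_mem h i))).mul
      (Inn.of_CX (D.cx' j)) D.P.pr.hz h)
  · calc z * (t * ee t z l j) * (z * (t * ee t z l j)) = z * ((t * ee t z l j) * z) * (t * ee t z l j) := by group
      _ = (z * z) * ((t * ee t z l j) * (t * ee t z l j)) := by rw [hzT']; group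
      _ = 1 := by rw [hz2, hTT', one_mul]
  · rw [← D.conj_tc h i j, ← D.conj_t h i j]
    exact (CX_conj h _).2 (mul_mem (z_mem_CX h) (D.cx i))
  · rw [hmul]; exact D.P.c_mem h i
  · have e0 : z * (z * (t * ee t z l j)) = t * ee t z l j := by
      rw [← mul_assoc, hz2, one_mul]
    rw [e0, ← D.conj_t h i j]
    have e : t * ee t z l j = (l j * x i) * (t * ee t z l j) * (l j * x i)⁻¹ := by
      calc t * ee t z l j = l j * (t * ee t z l j) * (l j)⁻¹ := (D.conj_self h j).symm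
        _ = l j * (x i * (t * ee t z l j) * (x i)⁻¹) * (l j)⁻¹ := by rw [D.conj_c' h]
        _ = _ := by group
    rw [e]
    exact RZ_conj h _ (D.Q.c_mem h j)

/-- `(z, z t t'_j)` is joined -/
theorem fp (D : DP Om z t K x L l) (h : W2 Om) (hn : NoOne Om) (j : Fin 3) :
    FP Om z (z * t * (t * ee t z l j)) K x (cj (l j) K) (fun i => l j * x i * (l j)⁻¹) := by
  have hzt : z * t = t * z := D.P.pr.comm
  have hTT' : t * ee t z l j * (t * ee t z l j) = 1 := D.Q.c_sq h j
  have hzT' : t * ee t z l j * z = z * (t * ee t z l j) := D.Q.c_t h j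
  have htT' : t * ee t z l j * t = t * (t * ee t z l j) := D.Q.c_z h j
  set f := t * ee t z l j with hf
  have hq : l j * z * (l j)⁻¹ = z * t * f := by
    rw [D.Q.conj_t h, hf, mul_assoc z t, D.Q.q.zzx]
  have hlt : l j * t * (l j)⁻¹ = t := by rw [← D.Q.q.zc, mul_inv_cancel_right]
  have hlf : l j * f * (l j)⁻¹ = f := D.conj_self h j
  have hq' : l j * (z * t * f) * (l j)⁻¹ = z := by
    calc l j * (z * t * f) * (l j)⁻¹ = (l j * z * (l j)⁻¹) * (l j * t * (l j)⁻¹) * (l j * f * (l j)⁻¹) := by group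
      _ = z * t * f * t * f := by rw [hq, hlt, hlf]
      _ = z * t * (f * t) * f := by group
      _ = z * (t * t) * (f * f) := by rw [htT']; group
      _ = z := by rw [D.P.t2 h, hTT', mul_one, mul_one]
  have hact : ∀ k ∈ K, (z * t * f) * k * (z * t * f)⁻¹ = t * k * t⁻¹ := by
    intro k hk
    have h1 : f * k * f⁻¹ = k := by
      rw [mem_CX.1 (D.cx' j) K D.P.hK k hk, mul_inv_cancel_right]
    have h2 : z * (t * k * t⁻¹) * z⁻¹ = t * k * t⁻¹ := by
      rw [← (D.P.hK' h).comm_z h (conj_mem_cj hk), mul_inv_cancel_right]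
    calc (z * t * f) * k * (z * t * f)⁻¹ = z * (t * (f * k * f⁻¹) * t⁻¹) * z⁻¹ := by group
      _ = _ := by rw [h1, h2]
  have hcj : ∀ k ∈ K, (z * t * f) * k * (z * t * f)⁻¹ ∈ cj t K := by
    intro k hk; rw [hact k hk]; exact conj_mem_cj hk
  have hne : z ≠ z * t * f := by
    intro e
    rw [mul_assoc] at e
    have h1 : t * f = 1 := mul_eq_left.1 e.symm
    rw [hf, D.Q.q.zzx] at h1
    exact D.Q.e_ne_one h j h1
  have hcomm : z * (z * t * f) = z * t * f * z := by
    have h1 : z * t * f * z = z * t * (f * z) := by group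
    have h2 : z * t * (z * f) = z * (t * z) * f := by group
    rw [h1, hzT', h2, ← hzt]; group
  have hpr : PR Om z (z * t * f) := by
    refine ⟨D.P.pr.hz, by rw [← hq]; exact D.P.pr.hz.conj h _, hne, hcomm, ?_⟩
    intro M hM
    have h1 : Sw Om z (z * t * f) := by
      rw [mul_assoc]
      exact Fx.mul_sw ((Inn.of_CX (z_mem_CX h)).fx h) (D.P.pr.sw'.mul_fx (D.Q.fx_ze h hn j))
    exact h1 M hM
  have hee : ∀ i, ee z (z * t * f) x i = ee z t x i := by
    intro i
    rw [ee, hact _ (D.P.q.mem i), ee]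
  refine ⟨⟨hpr, D.P.hK, D.P.q⟩, ⟨hpr.symm' h hn, ?_, ?_⟩, fun i => ?_⟩
  · have := D.P.hK.cj h (l j)
    rwa [hq] at this
  · have := D.P.q.conj (l j)
    rwa [hq] at this
  · have e1 : ee (z * t * f) z (fun i => l j * x i * (l j)⁻¹) i = l j * ee z (z * t * f) x i * (l j)⁻¹ := by
      rw [ee, ee]
      calc z * t * f * (l j * x i * (l j)⁻¹) * (z * (l j * x i * (l j)⁻¹) * z⁻¹)
          = (l j * z * (l j)⁻¹) * (l j * x i * (l j)⁻¹) * ((l j * (z * t * f) * (l j)⁻¹) *
            (l j * x i * (l j)⁻¹) * (l j * (z * t * f) * (l j)⁻¹)⁻¹) := by rw [hq, hq']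
        _ = _ := by group
    have e2 : l j * ee z t x i * (l j)⁻¹ = z * t * f * (z * ee z t x i) := by
      have h1 : ee z t x i = z * (z * ee z t x i) := by rw [D.P.q.zzx]
      conv_lhs => rw [h1]
      calc l j * (z * (z * ee z t x i)) * (l j)⁻¹ = (l j * z * (l j)⁻¹) * (l j * (z * ee z t x i) * (l j)⁻¹) := by
            group
        _ = _ := by rw [hq, D.conj_c h]
    rw [e1, hee, e2, ← mul_assoc z (z * t * f), hcomm]
    have h1 : z * t * f * z * (z * ee z t x i) = z * t * f * (z * (z * ee z t x i)) := by group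
    rw [h1, D.P.q.zzx]

theorem conj (D : DP Om z t K x L l) (h : W2 Om) (g : G) :
    DP Om (g * z * g⁻¹) (g * t * g⁻¹) (cj g K) (fun i => g * x i * g⁻¹) (cj g L) (fun i => g * l i * g⁻¹) := by
  refine ⟨⟨D.P.pr.conj h g, D.P.hK.cj h g, D.P.q.conj g⟩, ⟨D.Q.pr.conj h g, D.Q.hK.cj h g, D.Q.q.conj g⟩,
    fun i => ?_, fun j => ?_⟩
  · have e1 : g * z * g⁻¹ * ee (g * z * g⁻¹) (g * t * g⁻¹) (fun i => g * x i * g⁻¹) i =
        g * (z * ee z t x i) * g⁻¹ := by
      rw [ee, ee]; group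
    rw [e1]; exact (CX_conj h g).2 (D.cx i)
  · have e1 : g * t * g⁻¹ * ee (g * t * g⁻¹) (g * z * g⁻¹) (fun i => g * l i * g⁻¹) j =
        g * (t * ee t z l j) * g⁻¹ := by
      rw [ee, ee]; group
    rw [e1]; exact (CX_conj h g).2 (D.cx' j)

end DP

/-! ### Without coordinates -/

theorem PR.jn_or_dj (hp : PR Om z t) (h : W2 Om) (hn : NoOne Om) : JN Om z t ∨ DJ Om z t := by
  obtain ⟨K, x, P⟩ := hp.exists_hp h
  obtain ⟨L, l, Q⟩ := (hp.symm' h hn).exists_hp h
  rcases P.joined_or Q h hn with ⟨l', h1⟩ | h1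
  · exact Or.inl ⟨K, x, L, l', h1⟩
  · exact Or.inr ⟨K, x, L, l, h1⟩

theorem JN.pr (hj : JN Om z t) : PR Om z t := by obtain ⟨K, x, L, l, F⟩ := hj; exact F.P.pr
theorem DJ.pr (hj : DJ Om z t) : PR Om z t := by obtain ⟨K, x, L, l, F⟩ := hj; exact F.P.pr

theorem JN.symm (hj : JN Om z t) : JN Om t z := by
  obtain ⟨K, x, L, l, F⟩ := hj; exact ⟨L, l, K, x, F.symm⟩

theorem DJ.symm (hj : DJ Om z t) : DJ Om t z := by
  obtain ⟨K, x, L, l, F⟩ := hj; exact ⟨L, l, K, x, F.symm⟩

theorem JN.conj (hj : JN Om z t) (h : W2 Om) (g : G) : JN Om (g * z * g⁻¹) (g * t * g⁻¹) := by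
  obtain ⟨K, x, L, l, F⟩ := hj; exact ⟨_, _, _, _, F.conj h g⟩

theorem DJ.conj (hj : DJ Om z t) (h : W2 Om) (g : G) : DJ Om (g * z * g⁻¹) (g * t * g⁻¹) := by
  obtain ⟨K, x, L, l, F⟩ := hj; exact ⟨_, _, _, _, F.conj h g⟩

/-- joined: `T ≤ R_t` -/
theorem JN.mem_RZ (hj : JN Om z t) (h : W2 Om) (hn : NoOne Om) (hr : r ∈ RZ Om z) (hrt : r * t = t * r)
    (hf : Fx Om t r) : r ∈ RZ Om t := by
  obtain ⟨K, x, L, l, F⟩ := hj
  rcases (F.P.tt_iff h hn).1 ⟨hr, hrt, hf⟩ with rfl | ⟨i, rfl⟩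
  · exact one_mem _
  · exact F.c_mem' h i

/-- disjoint: `T ≤ X_t` -/
theorem DJ.mem_CX (hj : DJ Om z t) (h : W2 Om) (hn : NoOne Om) (hr : r ∈ RZ Om z) (hrt : r * t = t * r)
    (hf : Fx Om t r) : r ∈ CX Om t := by
  obtain ⟨K, x, L, l, F⟩ := hj
  rcases (F.P.tt_iff h hn).1 ⟨hr, hrt, hf⟩ with rfl | ⟨i, rfl⟩
  · exact one_mem _
  · exact F.cx i

/-- an element `≠ 1` of `T` in `R_t`: joined -/
theorem PR.jn_of (hp : PR Om z t) (h : W2 Om) (hn : NoOne Om) (h1 : r ≠ 1) (hr : r ∈ RZ Om z)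
    (hr' : r ∈ RZ Om t) : JN Om z t := by
  rcases hp.jn_or_dj h hn with h2 | h2
  · exact h2
  exfalso
  have h3 := h2.mem_CX h hn hr (RZ_le_centralizer h hr') ((Inn.of_RZ hp.ht h hr').fx h)
  rcases RZ_inf_CX h hp.ht hr' h3 with h4 | h4
  · exact h1 h4
  · exact hp.ne (hn.eq_of_RZ h hp.hz hp.ht (by rw [← h4]; exact hr)).symm

/-- an element `≠ 1` of `R_z` in `X_t`: disjoint -/
theorem PR.dj_of (hp : PR Om z t) (h : W2 Om) (hn : NoOne Om) (h1 : r ≠ 1) (hr : r ∈ RZ Om z)
    (hr' : r ∈ CX Om t) : DJ Om z t := by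
  rcases hp.jn_or_dj h hn with h2 | h2
  · exfalso
    have h3 := h2.mem_RZ h hn hr (CX_le hp.ht h hr') ((Inn.of_CX hr').fx h)
    rcases RZ_inf_CX h hp.ht h3 hr' with h4 | h4
    · exact h1 h4
    · exact hp.ne (hn.eq_of_RZ h hp.hz hp.ht (by rw [← h4]; exact hr)).symm
  · exact h2

theorem JN.not_dj (hj : JN Om z t) (hd : DJ Om z t) (h : W2 Om) (hn : NoOne Om) : False := by
  obtain ⟨K, x, L, l, F⟩ := hj
  have h3 := hd.mem_CX h hn (F.P.c_mem h 0) (F.P.c_t h 0) (F.P.fx_ze h hn 0)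
  rcases RZ_inf_CX h F.P.pr.ht (F.c_mem' h 0) h3 with h4 | h4
  · exact F.P.c_ne_one h 0 h4
  · exact F.P.pr.ne (hn.eq_of_RZ h F.P.pr.hz F.P.pr.ht (by rw [← h4]; exact F.P.c_mem h 0)).symm

theorem JN.cx (hj : JN Om z t) (h : W2 Om) (hn : NoOne Om) (hy : y ∈ CX Om z) (hyt : y * t = t * y) :
    y ∈ CX Om t ∨ z * y ∈ CX Om t := by
  obtain ⟨K, x, L, l, F⟩ := hj; exact F.cx h hn hy hyt

/-- TYPE 6, 7 for a label `c` commuting with `t`, over the direction of an element `r ≠ 1` of `T`: either `c ∈ X_t`,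
`z t c ∈ Z` and `(z, z t c)` is joined, or `z c ∈ X_t`, `t c ∈ Z` and `(z, t c)` is disjoint -/
theorem JN.six_seven (hj : JN Om z t) (h : W2 Om) (hn : NoOne Om) (l : Lab Om z u c) (hct : c * t = t * c)
    (hr : u * c = r ∨ u * c = z * r) (hrt : r * t = t * r) (hf : Fx Om t r) :
    (c ∈ CX Om t ∧ JN Om z (z * t * c)) ∨ (z * c ∈ CX Om t ∧ DJ Om z (t * c)) := by
  have hz2 : ∀ g : G, z * (z * g) = g := fun g => by rw [← mul_assoc, l.z2 h, one_mul]
  -- normalise `u * c = r`
  wlog hur : u * c = r generalizing u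
  · refine this (l.mul h) ?_ ?_
    · rcases hr with h1 | h1
      · exact absurd h1 hur
      · left; rw [mul_assoc, h1, hz2]
    · rcases hr with h1 | h1
      · exact absurd h1 hur
      · rw [mul_assoc, h1, hz2]
  clear hr
  obtain ⟨K, x, L, l', F⟩ := hj
  have hrR : r ∈ RZ Om z := by rw [← hur]; exact l.wz
  have hr1 : r ≠ 1 := by
    intro h1
    rw [h1, mul_eq_one_iff_eq_inv, l.cinv] at hur
    exact l.ne_t h hur.symm
  rcases (F.P.tt_iff h hn).1 ⟨hrR, hrt, hf⟩ with h1 | ⟨i, h1⟩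
  · exact absurd h1 hr1
  have hu : u = z * ee z t x i * c := by
    rw [← h1, ← hur, mul_assoc, l.sq, mul_one]
  have hrCX : r ∈ CX Om u := by rw [← hur]; exact mul_mem (z_mem_CX h) l.ct
  have hcz : c * z = z * c := l.comm_z h
  have htz : t * z = z * t := F.P.pr.comm.symm
  have hcr : c * r = r * c := CX_comm hrR l.cz
  have hzc1 : ∀ g : G, t * z * g = z * t * g := fun g => by rw [htz]
  rcases F.cx h hn l.cz hct with h2 | h2
  · left
    refine ⟨h2, ?_⟩
    have h3 : InZ Om (z * (z * ee z t x i) * c) := by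
      rw [mul_assoc, ← hu]; exact (l.mul h).ti.2.1
    have h4 := F.six h l.cz h2 h3
    have hlc : l' i * c * (l' i)⁻¹ = c := by
      rw [← mem_CX.1 h2 L F.Q.hK _ (F.Q.q.mem i), mul_inv_cancel_right]
    -- `z t c` is the conjugate of `z u`
    have e1 : l' i * (z * u) * (l' i)⁻¹ = z * t * c := by
      rw [hu]
      calc l' i * (z * (z * ee z t x i * c)) * (l' i)⁻¹ =
          (l' i * z * (l' i)⁻¹) * (l' i * (z * ee z t x i) * (l' i)⁻¹) * (l' i * c * (l' i)⁻¹) := by group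
        _ = t * ee z t x i * (z * ee z t x i) * c := by rw [F.conj_z h, F.conj_c h, hlc]
        _ = t * (ee z t x i * z) * ee z t x i * c := by group
        _ = t * z * (ee z t x i * ee z t x i) * c := by rw [F.P.e_z h]; group
        _ = _ := by rw [F.P.e_sq h, mul_one, htz]
    -- `r ∈ R_{z u}`
    have h5 : r ∈ RZ Om (z * u) := by
      have lm := l.mul h
      have h6 := mul_mem (z_mem_RZ lm.ti.2.1 h) lm.wt
      have e : z * u * (z * c) = r := by
        calc z * u * (z * c) = (z * u) * z * c := by group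
          _ = (u * z) * z * c := by rw [l.zt]
          _ = u * (z * z) * c := by group
          _ = r := by rw [l.z2 h, mul_one, hur]
      rwa [e] at h6
    have h7 : r ∈ RZ Om (z * t * c) := by
      have h8 := RZ_conj h (l' i) h5
      rw [e1, h1, F.conj_c h, ← h1] at h8
      exact h8
    have hne : z ≠ z * t * c := by
      intro e
      rw [mul_assoc] at e
      have h9 : t * c = 1 := mul_eq_left.1 e.symm
      rw [mul_eq_one_iff_eq_inv, l.cinv] at h9
      apply F.P.pr.ne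
      refine (eq_of_CX' h F.P.pr.hz F.P.pr.ht ?_).symm
      rw [h9]; exact l.cz
    have hcomm : z * (z * t * c) = z * t * c * z := by
      have h1 : z * t * c * z = z * t * (c * z) := by group
      have h2 : z * t * (z * c) = z * (t * z) * c := by group
      rw [h1, hcz, h2, htz]; group
    have hpr : PR Om z (z * t * c) := by
      refine ⟨F.P.pr.hz, h4, hne, hcomm, ?_⟩
      intro M hM
      have h10 : Sw Om z (z * t * c) := by
        rw [mul_assoc]
        exact Fx.mul_sw ((Inn.of_CX (z_mem_CX h)).fx h) (F.P.pr.sw'.mul_fx ((Inn.of_CX l.cz).fx h))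
      exact h10 M hM
    exact hpr.jn_of h hn hr1 hrR h7
  · right
    refine ⟨h2, ?_⟩
    have h3 : InZ Om (z * ee z t x i * c) := by rw [← hu]; exact l.ti.2.1
    obtain ⟨e1, h4⟩ := F.seven h l.cz h2 h3
    have h7 : r ∈ CX Om (t * c) := by
      have h8 := (CX_conj h (l' i)).2 hrCX
      rw [hu, e1, h1, F.conj_c h, ← h1] at h8
      exact h8
    have hne : z ≠ t * c := by
      intro e
      apply F.P.pr.ne
      refine (eq_of_CX' h F.P.pr.hz F.P.pr.ht ?_).symm
      have h9 : t = z * c := by rw [e, mul_assoc, l.sq, mul_one]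
      rw [h9]; exact mul_mem (z_mem_CX h) l.cz
    have hcomm : z * (t * c) = t * c * z := by
      calc z * (t * c) = (z * t) * c := by group
        _ = t * (z * c) := by rw [← htz]; group
        _ = _ := by rw [← hcz]; group
    have hpr : PR Om z (t * c) := by
      refine ⟨F.P.pr.hz, h4, hne, hcomm, ?_⟩
      intro M hM
      have h10 : Sw Om z (t * c) := F.P.pr.sw'.mul_fx ((Inn.of_CX l.cz).fx h)
      exact h10 M hM
    exact hpr.dj_of h hn hr1 hrR h7

end

end Cfsg.Agent.Cit.Nil.RTwo
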