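import Cfsg.Agent.Cit.Nil.RTwo.SPlane
import Cfsg.Agent.Cit.Nil.RTwo.UJoin

/-!
# Case (S): the dichotomy for commuting pairs of `Z`

* `SW.mem_of_ti` : `s ∈ Z ∩ C(W)` of type I with an element of the plane `W`: `s ∈ W`;
* `SW.pr_label` : `(z, t)` of type p: exactly one label of `z` commutes with `t`;
* `SW.no_f` : no pairs of type f;
* `SW.dich` : the dichotomy.
-/

set_option autoImplicit false
set_option linter.style.haveILetI false
set_option linter.unusedSectionVars false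
set_option maxHeartbeats 400000

namespace Cfsg.Agent.Cit.Nil.RTwo

open Subgroup Cfsg Cit

variable {G : Type*} [Group G]

section

variable [Finite G] {Om : Set (Subgroup G)} {K K1 K2 L M L1 L2 W : Subgroup G} {z t u v g r s y w w' c c' d : G}
  {a b : Fin 3 → G} {x : Fin 3 → G}

theorem dir_three : ∀ i j k l : Fin 3, i ≠ j → i ≠ k → j ≠ k → l = i ∨ l = j ∨ l = k := by decide

/-- a direction commuting with three commuting directions is one of them -/
theorem dir_trans {p0 p1 p2 q : Fin 3 × Fin 3} (n01 : p0 ≠ p1) (n02 : p0 ≠ p2) (n12 : p1 ≠ p2)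
    (h01 : p0.1 = p1.1 ↔ p0.2 = p1.2) (h02 : p0.1 = p2.1 ↔ p0.2 = p2.2) (h12 : p1.1 = p2.1 ↔ p1.2 = p2.2)
    (q0 : q.1 = p0.1 ↔ q.2 = p0.2) (q1 : q.1 = p1.1 ↔ q.2 = p1.2) (q2 : q.1 = p2.1 ↔ q.2 = p2.2) :
    q = p0 ∨ q = p1 ∨ q = p2 := by
  have m01 : p0.1 ≠ p1.1 := fun e => n01 (Prod.ext e (h01.1 e))
  have m02 : p0.1 ≠ p2.1 := fun e => n02 (Prod.ext e (h02.1 e))
  have m12 : p1.1 ≠ p2.1 := fun e => n12 (Prod.ext e (h12.1 e))
  rcases dir_three _ _ _ q.1 m01 m02 m12 with e | e | e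
  · exact Or.inl (Prod.ext e (q0.1 e))
  · exact Or.inr (Or.inl (Prod.ext e (q1.1 e)))
  · exact Or.inr (Or.inr (Prod.ext e (q2.1 e)))

theorem HP.sframe (P : HP Om z t K x) (h : W2 Om) : Frame Om z K (cj t K) x (fun i => t * x i * t⁻¹) :=
  ⟨P.hK, P.hK' h, P.ne', P.q, P.q' ⟩

/-- `t` acts on the directions of the adapted frame as the interchange of the coordinates -/
theorem HP.dir_swap (P : HP Om z t K x) (h : W2 Om) {i j : Fin 3} (hd : Dir z x (fun i => t * x i * t⁻¹) w i j) :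
    Dir z x (fun i => t * x i * t⁻¹) (t * w * t⁻¹) j i := by
  have h1 : Act z x (fun i => t * x i * t⁻¹) t 1 := fun i => Or.inl rfl
  have h2 : Act z (fun i => t * x i * t⁻¹) x t 1 := fun i => Or.inl (by
    show t * (t * x i * t⁻¹) * t⁻¹ = x i
    exact P.tt h _)
  exact (P.sframe h).dir_conj' h P.pr.comm.symm h1 h2 hd

theorem HP.dc_swap (P : HP Om z t K x) (h : W2 Om) {p : Fin 3 × Fin 3}
    (hp : p ∈ DC Om z x (fun i => t * x i * t⁻¹) c) :
    (p.2, p.1) ∈ DC Om z x (fun i => t * x i * t⁻¹) (t * c * t⁻¹) := by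
  obtain ⟨u, l, hd⟩ := hp
  refine ⟨_, l.conj_comm h P.pr.comm.symm, ?_⟩
  have e : t * u * t⁻¹ * (t * c * t⁻¹) = t * (u * c) * t⁻¹ := by group
  rw [e]
  exact P.dir_swap h hd

namespace SW

variable (S : SW Om)

include S

theorem mem_of_ti (P : Plane Om W) (hv : v ∈ W) (hti : TI Om v s) (hs : ∀ x ∈ W, s * x = x * s) : s ∈ W := by
  have h := S.w
  have hZ := hti.1
  have v1 := hZ.z1 h
  obtain ⟨c, l⟩ := hti.exists_lab h
  obtain ⟨K1, K2, a, b, F⟩ := hZ.exists_frame h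
  obtain ⟨c0, c1, c2, hcc, n01, n02, n12, -⟩ := S.three v hZ
  obtain ⟨u0, hu0, l0⟩ := S.labs P hv v1 (c := c0) (by rw [hcc]; simp)
  obtain ⟨u1, hu1, l1⟩ := S.labs P hv v1 (c := c1) (by rw [hcc]; simp)
  obtain ⟨u2, hu2, l2⟩ := S.labs P hv v1 (c := c2) (by rw [hcc]; simp)
  obtain ⟨p0, d0, m0⟩ := l0.exists_dir h F
  obtain ⟨p1, d1, m1⟩ := l1.exists_dir h F
  obtain ⟨p2, d2, m2⟩ := l2.exists_dir h F
  obtain ⟨q, dq, mq⟩ := l.exists_dir h F
  have k01 : p0 ≠ p1 := fun e => n01 (S.uniq v K1 K2 a b F c0 c1 p0 m0 (e ▸ m1))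
  have k02 : p0 ≠ p2 := fun e => n02 (S.uniq v K1 K2 a b F c0 c2 p0 m0 (e ▸ m2))
  have k12 : p1 ≠ p2 := fun e => n12 (S.uniq v K1 K2 a b F c1 c2 p1 m1 (e ▸ m2))
  have key : ∀ {u' c' : G} {p : Fin 3 × Fin 3}, u' ∈ W → Lab Om v u' c' → Dir v a b (u' * c') p.1 p.2 →
      p ∈ DC Om v a b c' → q = p → s ∈ W := by
    intro u' c' p hu' l' hd hm e
    have e1 : c = c' := S.uniq v K1 K2 a b F c c' q mq (e ▸ hm)
    subst e1
    rw [e] at dq
    rcases F.eq_of_dir hd dq with e2 | e2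
    · rw [e2]; exact hu'
    · rw [e2]; exact mul_mem hv hu'
  rcases dir_trans k01 k02 k12 ((S.line_comm F l0 l1 d0 d1).1 (P.comm hu0 hu1))
    ((S.line_comm F l0 l2 d0 d2).1 (P.comm hu0 hu2)) ((S.line_comm F l1 l2 d1 d2).1 (P.comm hu1 hu2))
    ((S.line_comm F l l0 dq d0).1 (hs u0 hu0)) ((S.line_comm F l l1 dq d1).1 (hs u1 hu1))
    ((S.line_comm F l l2 dq d2).1 (hs u2 hu2)) with e | e | e
  · exact key hu0 l0 d0 m0 e
  · exact key hu1 l1 d1 m1 e
  · exact key hu2 l2 d2 m2 e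

/-- an element of `Z ∩ C(W)` is in `W` -/
theorem mem_plane (P : Plane Om W) (hsZ : InZ Om s) (hs : ∀ x ∈ W, s * x = x * s) : s ∈ W := by
  have h := S.w
  by_contra hsW
  obtain ⟨x, hx, x1, -, -, -⟩ := exists_not_mem P.card (1 : G) 1
  obtain ⟨y, hy, y1, yx, -⟩ := exists_not_mem P.card x x
  obtain ⟨w, hw, w1, wx, wy, wxy⟩ := exists_not_mem P.card x y
  obtain ⟨a, ha, -, hti⟩ := oct h (fun a ha ha1 => P.inZ ha ha1) (fun a ha b hb => P.comm ha hb) hx hy hw x1 y1 yx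
    w1 wx wy wxy hsZ hsW hs
  exact hsW (S.mem_of_ti P ha (hti.symm h) hs)

/-- the lines in the adapted frame of a p-pair are parallel to the graph -/
theorem pr_slope (P : HP Om z t K x) : ∃ v : Fin 3 × Fin 3, v.1 ≠ 0 ∧ v.2 = v.1 ∧
    ∀ p, ∃ c, ∀ q, q ∈ DC Om z x (fun i => t * x i * t⁻¹) c ↔ q = p ∨ q = p + v ∨ q = p - v := by
  have h := S.w
  have F := P.sframe h
  obtain ⟨v, hv1, hv2, hv⟩ := S.line z _ _ _ _ F
  by_cases hvv : v.2 = v.1
  · exact ⟨v, hv1, hvv, hv⟩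
  exfalso
  -- `t` centralises the labels
  have hct : ∀ c ∈ CC Om z, t * c = c * t := by
    intro c hc
    obtain ⟨p, hp⟩ := CC.exists_dir h F hc
    obtain ⟨c', hc'⟩ := hv p
    have e1 : c = c' := S.uniq _ _ _ _ _ F _ _ _ hp ((hc' p).2 (Or.inl rfl))
    subst e1
    have h1 := P.dc_swap h hp
    have key : ∀ v : Fin 3 × Fin 3, v.1 ≠ 0 → v.2 ≠ 0 → v.2 ≠ v.1 → ∀ p : Fin 3 × Fin 3,
        (p.2, p.1) = p ∨ (p.2, p.1) = p + v ∨ (p.2, p.1) = p - v := by decide
    have h2 := (hc' _).2 (key v hv1 hv2 hvv p)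
    have h3 := S.uniq _ _ _ _ _ F _ _ _ h2 h1
    rw [eq_mul_inv_iff_mul_eq] at h3
    exact h3.symm
  -- the plane over the graph
  obtain ⟨d0, h0⟩ := hv (0, 0)
  obtain ⟨d1, h1⟩ := hv (1, 1)
  have m0 := (h0 (0, 0)).2 (Or.inl rfl)
  have m1 := (h1 (1, 1)).2 (Or.inl rfl)
  have hne : d1 ≠ d0 := by
    rintro rfl
    have h2 := (h0 (1, 1)).1 m1
    have key : ∀ v : Fin 3 × Fin 3, v.1 ≠ 0 → v.2 ≠ 0 → v.2 ≠ v.1 →
        ¬ (((1, 1) : Fin 3 × Fin 3) = (0, 0) ∨ ((1, 1) : Fin 3 × Fin 3) = (0, 0) + v ∨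
          ((1, 1) : Fin 3 × Fin 3) = (0, 0) - v) := by decide
    exact key v hv1 hv2 hvv h2
  obtain ⟨u0, l0, e0⟩ := m0
  obtain ⟨u1, l1, e1⟩ := m1
  have hcomm : u0 * u1 = u1 * u0 := (S.line_comm F l0 l1 (p := (0, 0)) (q := (1, 1)) e0 e1).2 (by decide)
  obtain ⟨I, PP⟩ := S.plane_of l0 l1 hne hcomm
  -- `t` commutes with the diagonal
  have hdiag : ∀ (u d : G) (i : Fin 3), d ∈ CC Om z → Dir z x (fun i => t * x i * t⁻¹) (u * d) i i → t * u = u * t := by
    intro u d i hd hdir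
    have h2 : t * (u * d) = u * d * t := by
      rcases hdir with h3 | h3 <;> rw [h3]
      · rw [P.xx_eq, ← mul_assoc, ← P.pr.comm, mul_assoc, ← P.e_t h, ← mul_assoc]
      · rw [P.xx_eq, P.q.zzx, P.e_t h]
    have h3 := hct d hd
    have h4 : t * u * d = u * t * d := by
      calc t * u * d = t * (u * d) := mul_assoc _ _ _
        _ = u * (d * t) := by rw [h2, mul_assoc]
        _ = u * (t * d) := by rw [h3]
        _ = _ := (mul_assoc _ _ _).symm
    exact mul_right_cancel h4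
  have k0 : t * u0 = u0 * t := hdiag u0 d0 0 l0.mem_CC e0
  have k1 : t * u1 = u1 * t := hdiag u1 d1 1 l1.mem_CC e1
  have kz : t * z = z * t := P.pr.comm.symm
  have hcent : ∀ g ∈ W8 I, t * g = g * t := by
    rintro _ ⟨i, j, k, rfl⟩
    exact (((show Commute t z from kz).pow_right i).mul_right ((show Commute t u0 from k0).pow_right j)).mul_right
      ((show Commute t u1 from k1).pow_right k)
  have htW := S.mem_plane PP P.pr.ht hcent
  have hzW : z ∈ W8 I := (mem_W8 I).2 (by tauto)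
  have hti := PP.ti z hzW t htW I.z1 (P.pr.ht.z1 h) P.pr.ne
  exact P.pr.not_fr (hti.fr h)

/-- **a p-pair has exactly one label commuting with `t`** -/
theorem pr_label (hp : PR Om z t) : ∃ c ∈ CC Om z, t * c = c * t ∧ (∀ d ∈ CC Om z, d ≠ c → t * d ≠ d * t) ∧
    (∀ u, Lab Om z u c → t * u = u * t) ∧
    ∃ u r, Lab Om z u c ∧ (u * c = r ∨ u * c = z * r) ∧ r * t = t * r ∧ Fx Om t r := by
  have h := S.w
  obtain ⟨K, x, P⟩ := hp.exists_hp h
  have F := P.sframe h
  obtain ⟨v, hv1, hvv, hv⟩ := S.pr_slope P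
  obtain ⟨c, hc⟩ := hv (0, 0)
  have m0 := (hc (0, 0)).2 (Or.inl rfl)
  have hcc := DC.mem_CC m0
  have hct : t * c = c * t := by
    have h1 := P.dc_swap h m0
    have h3 := S.uniq _ _ _ _ _ F _ _ _ m0 h1
    rw [eq_mul_inv_iff_mul_eq] at h3
    exact h3.symm
  -- the directions of `c` are on the graph
  have hdiag : ∀ q, q ∈ DC Om z x (fun i => t * x i * t⁻¹) c → q.1 = q.2 := by
    intro q hq
    have h1 := (hc q).1 hq
    have key : ∀ v : Fin 3 × Fin 3, v.2 = v.1 → ∀ q : Fin 3 × Fin 3, (q = (0, 0) ∨ q = (0, 0) + v ∨ q = (0, 0) - v) →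
        q.1 = q.2 := by decide
    exact key v hvv q h1
  refine ⟨c, hcc, hct, ?_, ?_, ?_⟩
  · intro d hd hne hdt
    obtain ⟨p, hpd⟩ := CC.exists_dir h F hd
    obtain ⟨d', hd'⟩ := hv p
    have e1 : d = d' := S.uniq _ _ _ _ _ F _ _ _ hpd ((hd' p).2 (Or.inl rfl))
    subst e1
    have h1 := P.dc_swap h hpd
    rw [hdt, mul_inv_cancel_right] at h1
    have h2 := (hd' _).1 h1
    have key : ∀ v : Fin 3 × Fin 3, v.1 ≠ 0 → v.2 = v.1 → ∀ p : Fin 3 × Fin 3,
        ((p.2, p.1) = p ∨ (p.2, p.1) = p + v ∨ (p.2, p.1) = p - v) →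
        p = (0, 0) ∨ p = (0, 0) + v ∨ p = (0, 0) - v := by decide
    have h3 := (hc p).2 (key v hv1 hvv p h2)
    exact hne (S.uniq _ _ _ _ _ F _ _ _ hpd h3)
  · intro u l
    obtain ⟨p, hd, hm⟩ := l.exists_dir h F
    have e := hdiag p hm
    rw [← e] at hd
    have h2 : t * (u * c) = u * c * t := by
      rcases hd with h3 | h3 <;> rw [h3]
      · rw [P.xx_eq, ← mul_assoc, ← P.pr.comm, mul_assoc, ← P.e_t h, ← mul_assoc]
      · rw [P.xx_eq, P.q.zzx, P.e_t h]
    have h4 : t * u * c = u * t * c := by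
      calc t * u * c = t * (u * c) := mul_assoc _ _ _
        _ = u * (c * t) := by rw [h2, mul_assoc]
        _ = u * (t * c) := by rw [hct]
        _ = _ := (mul_assoc _ _ _).symm
    exact mul_right_cancel h4
  · obtain ⟨u, l, hd⟩ := m0
    refine ⟨u, z * ee z t x 0, l, ?_, P.c_t h 0, P.fx_ze h S.noOne 0⟩
    rw [← P.xx_eq]
    exact hd

/-- no disjoint pairs -/
theorem no_dj (hd : DJ Om z t) : False := by
  have h := S.w
  obtain ⟨K, x, L, l, D⟩ := hd
  obtain ⟨c, -, -, hu, -⟩ := S.pr_label D.P.pr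
  have key : ∀ j, z * (t * ee t z l j) = c := by
    intro j
    by_contra hne
    refine hu _ (D.lab h 0 j).mem_CC hne ?_
    have hzt := D.P.pr.comm
    have hf : t * ee t z l j * t = t * (t * ee t z l j) := D.Q.c_z h j
    calc t * (z * (t * ee t z l j)) = (t * z) * (t * ee t z l j) := by group
      _ = z * (t * (t * ee t z l j)) := by rw [← hzt]; group
      _ = _ := by rw [← hf]; group
  have e1 : ee t z l 0 = ee t z l 1 := mul_left_cancel (mul_left_cancel ((key 0).trans (key 1).symm))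
  have e2 := D.Q.ee_ne h (i := 0) (j := 1) (by decide)
  rw [← e1, D.Q.e_sq h] at e2
  have e3 := D.Q.e_ne_z h (th3 0 1)
  apply e3
  have ht := D.P.t2 h
  calc ee t z l (th3 0 1) = t * (t * ee t z l (th3 0 1)) := by rw [← mul_assoc, ht, one_mul]
    _ = t := by rw [← e2, mul_one]

/-- the label of a p-pair is in `X_t` and `z t c ∈ Z` -/
theorem pr_six (hp : PR Om z t) (hc : c ∈ CC Om z) (hct : t * c = c * t) :
    c ∈ CX Om t ∧ PR Om z (z * t * c) := by
  have h := S.w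
  obtain ⟨c', hc', hct', hu, -, u, r, l, hr, hrt, hf⟩ := S.pr_label hp
  have e : c = c' := by
    by_contra hne
    exact hu c hc hne hct
  subst e
  have hj : JN Om z t := by
    rcases hp.jn_or_dj h S.noOne with h1 | h1
    · exact h1
    · exact (S.no_dj h1).elim
  rcases hj.six_seven h S.noOne l hct.symm hr hrt hf with ⟨h1, h2⟩ | ⟨h1, h2⟩
  · exact ⟨h1, h2.pr⟩
  · exact (S.no_dj h2).elim

theorem pr_mem (hp : PR Om z t) (hc : c ∈ CC Om z) (hct : t * c = c * t) : c ∈ CC Om t := by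
  have h := S.w
  have hz := hp.hz
  have ht := hp.ht
  have h1 := (S.pr_six hp hc hct).1
  have hq := hp.symm' h S.noOne
  obtain ⟨c', hc', hct', hu, -⟩ := S.pr_label hq
  have h2 := (S.pr_six hq hc' hct').1
  have htX : t ∉ CX Om z := fun h3 => hp.ne (eq_of_CX' h hz ht h3).symm
  rcases S.cx t ht c h1 with e | e | e | e
  · exact absurd e (S.ne _ _ hc)
  · exact absurd (e ▸ CC.mem_CX hc) htX
  · exact e
  · exfalso
    have hzt := hp.comm
    have hcz := CC.comm_z h hc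
    have e1 : z * (t * c) = t * c * z := by
      calc z * (t * c) = (z * t) * c := by group
        _ = t * (z * c) := by rw [hzt]; group
        _ = _ := by rw [← hcz]; group
    have e2 : t * c = c' := by
      by_contra hne
      exact hu _ e hne e1
    apply htX
    have e3 : t = c' * c := by rw [← e2, mul_assoc, CC.sq hc, mul_one]
    rw [e3]
    exact mul_mem h2 (CC.mem_CX hc)

/-- **no f-pairs** -/
theorem no_f (hp : FT Om z t) : False := by
  have h := S.w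
  have hz := hp.fr.hz
  have ht := hp.fr.ht
  have hne := hp.fr.ne
  have hzt := hp.fr.comm
  have ht2 := ht.z2 h
  have hti := ht.inv h
  have hz2 := hz.z2 h
  obtain ⟨K1, K2, a0, b0, F0⟩ := hz.exists_frame h
  obtain ⟨x, qx, x0, x1, x2⟩ := hp.coord h F0.k1
  obtain ⟨y, qy, y0, y1, y2⟩ := hp.coord h F0.k2
  have F : Frame Om z K1 K2 x y := ⟨F0.k1, F0.k2, F0.ne, qx, qy⟩
  have hzz := qx.zzx
  -- `x 0 t x 0⁻¹ = z x 2 t`
  have hx0 : ∀ {K : Subgroup G} {x : Fin 3 → G}, Q3 K z x → t * x 0 * t⁻¹ = x 1 → x 0 * t * (x 0)⁻¹ = z * x 2 * t := by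
    intro K x q e
    have h01 : x 0 * x 1 = x 2 := q.mul 0
    calc x 0 * t * (x 0)⁻¹ = x 0 * (t * x 0 * t⁻¹)⁻¹ * t := by group
      _ = x 0 * (z * x 1) * t := by rw [e, q.inv]
      _ = (x 0 * z) * x 1 * t := by group
      _ = z * (x 0 * x 1) * t := by rw [← q.zc]; group
      _ = _ := by rw [h01]
  have hx2 : ∀ {K : Subgroup G} {x : Fin 3 → G}, Q3 K z x → t * x 2 * t⁻¹ = z * x 2 → x 2 * t * (x 2)⁻¹ = z * t := by
    intro K x q e
    calc x 2 * t * (x 2)⁻¹ = x 2 * (t * x 2 * t⁻¹)⁻¹ * t := by group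
      _ = x 2 * ((x 2)⁻¹ * z⁻¹) * t := by rw [e, mul_inv_rev]
      _ = z * t := by rw [q.zinv]; group
  set w := x 2 * y 2 with hw
  have hab := F.ab h
  have hwz : w * z = z * w := F.dir_z (i := 2) (j := 2) (Or.inl rfl)
  have hwt : t * w * t⁻¹ = w := by
    calc t * w * t⁻¹ = (t * x 2 * t⁻¹) * (t * y 2 * t⁻¹) := by rw [hw]; group
      _ = z * x 2 * (z * y 2) := by rw [x2, y2]
      _ = z * (x 2 * z) * y 2 := by group
      _ = z * (z * x 2) * y 2 := by rw [← qx.zc]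
      _ = w := by rw [hzz]
  have hwt' : t * w = w * t := by rwa [mul_inv_eq_iff_eq_mul] at hwt
  have hww : w * w = 1 := by
    calc w * w = x 2 * (y 2 * x 2) * y 2 := by rw [hw]; group
      _ = x 2 * (x 2 * y 2) * y 2 := by rw [hab]
      _ = (x 2 * x 2) * (y 2 * y 2) := by group
      _ = 1 := by rw [qx.sq, qy.sq, hz2]
  have s1Z : InZ Om (w * t) := by
    have e : (x 0 * y 0) * t * (x 0 * y 0)⁻¹ = w * t := by
      calc (x 0 * y 0) * t * (x 0 * y 0)⁻¹ = x 0 * (y 0 * t * (y 0)⁻¹) * (x 0)⁻¹ := by group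
        _ = x 0 * (z * y 2 * t) * (x 0)⁻¹ := by rw [hx0 qy y0]
        _ = (x 0 * z) * y 2 * t * (x 0)⁻¹ := by group
        _ = z * (x 0 * y 2) * t * (x 0)⁻¹ := by rw [← qx.zc]; group
        _ = z * y 2 * (x 0 * t * (x 0)⁻¹) := by rw [hab]; group
        _ = z * (y 2 * z) * x 2 * t := by rw [hx0 qx x0]; group
        _ = z * (z * y 2) * x 2 * t := by rw [← qy.zc]
        _ = (y 2 * x 2) * t := by rw [hzz]
        _ = _ := by rw [← hab]
    rw [← e]; exact ht.conj h _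
  have s2Z : InZ Om (z * w * t) := by
    have e : x 2 * (w * t) * (x 2)⁻¹ = z * w * t := by
      calc x 2 * (w * t) * (x 2)⁻¹ = x 2 * x 2 * (y 2 * (x 2)⁻¹) * (x 2 * t * (x 2)⁻¹) := by rw [hw]; group
        _ = x 2 * x 2 * (y 2 * (x 2)⁻¹) * (z * t) := by rw [hx2 qx x2]
        _ = x 2 * (x 2 * y 2) * (x 2)⁻¹ * (z * t) := by group
        _ = x 2 * (y 2 * x 2) * (x 2)⁻¹ * (z * t) := by rw [hab]
        _ = w * z * t := by rw [hw]; group
        _ = _ := by rw [hwz]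
    rw [← e]; exact s1Z.conj h _
  have w1 : w ≠ 1 := by
    intro e
    have h3 := F.qa.conj_ne (i := 0) (j := 2) (by decide)
    have h4 : x 0 * w * (x 0)⁻¹ = z * w := by
      calc x 0 * w * (x 0)⁻¹ = x 0 * x 2 * (y 2 * (x 0)⁻¹) := by rw [hw]; group
        _ = x 0 * x 2 * ((x 0)⁻¹ * y 2) := by
            rw [show y 2 * (x 0)⁻¹ = (x 0)⁻¹ * y 2 by
              rw [eq_inv_mul_iff_mul_eq, ← mul_assoc, hab, mul_inv_cancel_right]]
        _ = (x 0 * x 2 * (x 0)⁻¹) * y 2 := by group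
        _ = _ := by rw [h3, mul_assoc]
    rw [e, mul_one, mul_inv_cancel, mul_one] at h4
    exact hz.z1 h h4.symm
  have hwR : w ∈ RZ Om z := mul_mem (F.k1.le_RZ (F.qa.mem _)) (F.k2.le_RZ (F.qb.mem _))
  have wz : w ≠ z := by
    intro e
    have h3 := F.qa.conj_ne (i := 0) (j := 2) (by decide)
    have h4 : x 0 * w * (x 0)⁻¹ = z * w := by
      calc x 0 * w * (x 0)⁻¹ = x 0 * x 2 * (y 2 * (x 0)⁻¹) := by rw [hw]; group
        _ = x 0 * x 2 * ((x 0)⁻¹ * y 2) := by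
            rw [show y 2 * (x 0)⁻¹ = (x 0)⁻¹ * y 2 by
              rw [eq_inv_mul_iff_mul_eq, ← mul_assoc, hab, mul_inv_cancel_right]]
        _ = (x 0 * x 2 * (x 0)⁻¹) * y 2 := by group
        _ = _ := by rw [h3, mul_assoc]
    rw [e, ← qx.zc, mul_inv_cancel_right, hz2] at h4
    exact hz.z1 h h4
  -- the two p-pairs
  have p1 : PR Om t (w * t) := by
    refine pr_of_not h ht s1Z (fun e => w1 (mul_eq_right.1 e.symm)) (by rw [← mul_assoc, hwt']) fun h3 => ?_
    have e : t * (w * t) = w := by rw [← mul_assoc, hwt', mul_assoc, ht2, mul_one]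
    rw [e] at h3
    exact wz (S.noOne.eq_of_RZ h hz h3 hwR)
  have zw1 : z * w ≠ 1 := fun e => wz (by
    have := eq_inv_of_mul_eq_one_right e
    rwa [hz.inv h] at this)
  have htzw : t * (z * w) = z * w * t := by
    calc t * (z * w) = (t * z) * w := by group
      _ = z * (t * w) := by rw [← hzt]; group
      _ = _ := by rw [hwt']; group
  have p2 : PR Om t (z * w * t) := by
    refine pr_of_not h ht s2Z (fun e => zw1 (mul_eq_right.1 e.symm)) (by rw [← mul_assoc, htzw]) fun h3 => ?_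
    have e : t * (z * w * t) = z * w := by rw [← mul_assoc, htzw, mul_assoc, ht2, mul_one]
    rw [e] at h3
    exact w1 (mul_eq_left.1 (S.noOne.eq_of_RZ h hz h3 (mul_mem (z_mem_RZ hz h) hwR)))
  have hs : (w * t) * (z * w * t) = z := by
    calc (w * t) * (z * w * t) = w * (t * (z * w)) * t := by group
      _ = w * (z * w * t) * t := by rw [htzw]
      _ = (w * z) * w * (t * t) := by group
      _ = z * (w * w) * (t * t) := by rw [hwz]; group
      _ = z := by rw [hww, ht2, mul_one, mul_one]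
  -- `z` centralises the labels of `t`
  have hswap : ∀ {s : G}, s * t = t * s → ∀ c ∈ CC Om t, ∀ d ∈ CC Om t, ∀ e ∈ CC Om t, c ≠ d → c ≠ e → d ≠ e →
      s * c = c * s → s * d ≠ d * s → s * d * s⁻¹ = e := by
    intro s hst c hc d hd e he cd ce de hsc hsd
    have h1 : s * d * s⁻¹ ∈ CC Om t := CC.conj_comm h hd hst
    rcases S.cc_cases ht hc hd he cd ce de h1 with h2 | h2 | h2
    · exfalso
      have h3 : s * c * s⁻¹ = c := by rw [hsc, mul_inv_cancel_right]
      exact cd (mul_left_cancel (mul_right_cancel (h3.trans h2.symm)))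
    · exact absurd (by rwa [mul_inv_eq_iff_eq_mul] at h2) hsd
    · exact h2
  have hzcent : ∀ d ∈ CC Om t, z * d = d * z := by
    obtain ⟨c, hc, hc1, hc2, -⟩ := S.pr_label p1
    obtain ⟨c', hc', hc1', hc2', -⟩ := S.pr_label p2
    obtain ⟨e0, e1, e2, hcc, n01, n02, n12, -⟩ := S.three t ht
    have st1 : (w * t) * t = t * (w * t) := p1.comm.symm
    have st2 : (z * w * t) * t = t * (z * w * t) := p2.comm.symm
    -- the two other labels
    obtain ⟨d, e, hd, he, cd, ce, de⟩ : ∃ d e, d ∈ CC Om t ∧ e ∈ CC Om t ∧ c ≠ d ∧ c ≠ e ∧ d ≠ e := by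
      have hc0 := hc
      rw [hcc] at hc0
      simp only [Set.mem_insert_iff, Set.mem_singleton_iff] at hc0
      rcases hc0 with rfl | rfl | rfl
      · exact ⟨e1, e2, by rw [hcc]; simp, by rw [hcc]; simp, n01, n02, n12⟩
      · exact ⟨e0, e2, by rw [hcc]; simp, by rw [hcc]; simp, n01.symm, n12, n02⟩
      · exact ⟨e0, e1, by rw [hcc]; simp, by rw [hcc]; simp, n02.symm, n12.symm, n01⟩
    have a1 : (w * t) * d * (w * t)⁻¹ = e := hswap st1 c hc d hd e he cd ce de hc1 (hc2 d hd cd.symm)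
    have a2 : (w * t) * e * (w * t)⁻¹ = d := hswap st1 c hc e he d hd ce cd de.symm hc1 (hc2 e he ce.symm)
    have a0 : (w * t) * c * (w * t)⁻¹ = c := by rw [hc1, mul_inv_cancel_right]
    have hconj : ∀ g : G, z * g * z⁻¹ = (w * t) * ((z * w * t) * g * (z * w * t)⁻¹) * (w * t)⁻¹ := by
      intro g
      calc z * g * z⁻¹ = ((w * t) * (z * w * t)) * g * ((w * t) * (z * w * t))⁻¹ := by rw [hs]
        _ = _ := by group
    have hzi := hz.inv h
    have hinv : ∀ g : G, z * (z * g * z⁻¹) * z⁻¹ = g := by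
      intro g; rw [hzi]
      calc z * (z * g * z) * z = (z * z) * g * (z * z) := by group
        _ = g := by rw [hz2]; group
    intro f hf
    rcases S.cc_cases ht hc hd he cd ce de hc' with rfl | rfl | rfl
    · -- the same label
      have b1 : (z * w * t) * d * (z * w * t)⁻¹ = e := hswap st2 c' hc d hd e he cd ce de hc1' (hc2' d hd cd.symm)
      have b2 : (z * w * t) * e * (z * w * t)⁻¹ = d := hswap st2 c' hc e he d hd ce cd de.symm hc1' (hc2' e he ce.symm)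
      have b0 : (z * w * t) * c' * (z * w * t)⁻¹ = c' := by rw [hc1', mul_inv_cancel_right]
      rw [← mul_inv_eq_iff_eq_mul]
      rcases S.cc_cases ht hc hd he cd ce de hf with rfl | rfl | rfl
      · rw [hconj, b0, a0]
      · rw [hconj, b1, a2]
      · rw [hconj, b2, a1]
    · -- `c' = d`: `z` acts as a 3-cycle
      exfalso
      have b1 : (z * w * t) * c * (z * w * t)⁻¹ = e := hswap st2 c' hd c hc e he cd.symm de ce hc1' (hc2' c hc cd)
      have b2 : (z * w * t) * e * (z * w * t)⁻¹ = c := hswap st2 c' hd e he c hc de cd.symm ce.symm hc1' (hc2' e he de.symm)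
      have b0 : (z * w * t) * c' * (z * w * t)⁻¹ = c' := by rw [hc1', mul_inv_cancel_right]
      have f1 : z * c * z⁻¹ = c' := by rw [hconj, b1, a2]
      have f2 : z * c' * z⁻¹ = e := by rw [hconj, b0, a1]
      have f3 := hinv c
      rw [f1, f2] at f3
      exact ce f3.symm
    · exfalso
      have b1 : (z * w * t) * c * (z * w * t)⁻¹ = d := hswap st2 c' he c hc d hd ce.symm de.symm cd hc1' (hc2' c hc ce)
      have b0 : (z * w * t) * c' * (z * w * t)⁻¹ = c' := by rw [hc1', mul_inv_cancel_right]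
      have f1 : z * c * z⁻¹ = c' := by rw [hconj, b1, a1]
      have f2 : z * c' * z⁻¹ = d := by rw [hconj, b0, a2]
      have f3 := hinv c
      rw [f1, f2] at f3
      exact cd f3.symm
  -- `z` acts as a point reflection on the directions of `t`
  have hft : FT Om t z := by
    rcases tcases h ht hz hne.symm hzt.symm with h3 | h3 | h3
    · exact ((h3.symm' h S.noOne).not_fr hp.fr).elim
    · exact h3
    · exact (hp.ninn (h3.symm h).2.2.2.2).elim
  obtain ⟨L1, L2, a1, b1, F1⟩ := ht.exists_frame h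
  obtain ⟨l, ql, l0, l1, l2⟩ := hft.coord h F1.k1
  obtain ⟨m, qm, m0, m1, m2⟩ := hft.coord h F1.k2
  have F' : Frame Om t L1 L2 l m := ⟨F1.k1, F1.k2, F1.ne, ql, qm⟩
  have hact : ∀ {l : Fin 3 → G}, z * l 0 * z⁻¹ = l 1 → z * l 1 * z⁻¹ = l 0 → z * l 2 * z⁻¹ = t * l 2 →
      Act t l l z (Equiv.swap 0 1) := by
    intro l e0 e1 e2 i
    fin_cases i
    · left; exact e0
    · left; exact e1
    · right; exact e2
  obtain ⟨v, hv1, hv2, hv⟩ := S.line _ _ _ _ _ F'
  obtain ⟨d, hd⟩ := hv ((2, 2) + (v.1, -v.2))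
  have md := (hd _).2 (Or.inl rfl)
  have hd2 := DC.conj h F' md hzt (hact l0 l1 l2) (hact m0 m1 m2)
  rw [hzcent d (DC.mem_CC md), mul_inv_cancel_right] at hd2
  have h3 := (hd _).1 hd2
  have key : ∀ v : Fin 3 × Fin 3, v.1 ≠ 0 → v.2 ≠ 0 →
      ¬ ((Equiv.swap (0 : Fin 3) 1 ((2, 2) + (v.1, -v.2)).1, Equiv.swap (0 : Fin 3) 1 ((2, 2) + (v.1, -v.2)).2) =
          ((2, 2) : Fin 3 × Fin 3) + (v.1, -v.2) ∨
        (Equiv.swap (0 : Fin 3) 1 ((2, 2) + (v.1, -v.2)).1, Equiv.swap (0 : Fin 3) 1 ((2, 2) + (v.1, -v.2)).2) =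
          ((2, 2) : Fin 3 × Fin 3) + (v.1, -v.2) + v ∨
        (Equiv.swap (0 : Fin 3) 1 ((2, 2) + (v.1, -v.2)).1, Equiv.swap (0 : Fin 3) 1 ((2, 2) + (v.1, -v.2)).2) =
          ((2, 2) : Fin 3 × Fin 3) + (v.1, -v.2) - v) := by decide
  exact key v hv1 hv2 h3

/-- **the dichotomy** -/
theorem dich : DchAll Om := by
  intro z t hz ht hne hzt
  have h := S.w
  rcases tcases h hz ht hne hzt with hp | hp | hp
  · obtain ⟨c, hc, hct, hu, hl, -⟩ := S.pr_label hp
    have hmem := S.pr_mem hp hc hct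
    obtain ⟨-, h2⟩ := S.pr_six hp hc hct
    have hcx : z * t * c * c = c * (z * t * c) := by
      have hcz := CC.comm_z h hc
      calc z * t * c * c = z * (t * c) * c := by group
        _ = z * (c * t) * c := by rw [hct]
        _ = (z * c) * t * c := by group
        _ = _ := by rw [← hcz]; group
    refine ⟨c, hc, hmem, ?_, Or.inr ⟨hp.sw, (hp.symm' h S.noOne).sw, hp.not_inZ h S.noOne, h2.ht,
      S.pr_mem h2 hc hcx, hu, hl⟩⟩
    intro c' h3 h4
    by_contra hne'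
    exact hu c' h3 hne' (CC.comm_z h h4).symm
  · exact (S.no_f hp).elim
  · obtain ⟨c, l⟩ := hp.exists_lab h
    refine ⟨c, l.mem_CC, (l.symm h).mem_CC, ?_, Or.inl ⟨l, (hp.fr h).fx, ((hp.symm h).fr h).fx, hp.mul_inZ h,
      fun a ha b hb => S.comm_labels l ha hb⟩⟩
    intro c' h3 h4
    by_contra hne'
    have h5 := l.sw h h3 (S.cc_comm l.mem_CC h3) (Ne.symm hne')
    exact fx_sw_false ht ((Inn.of_CX (CC.mem_CX h4)).fx h) h5

end SW

end

end Cfsg.Agent.Cit.Nil.RTwo
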