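import Cfsg.Agent.Cit.Nil.RTwo.SGeoEnd
import Cfsg.Agent.Cit.Nil.RTwo.SDich

/-!
# Case (S): `F*(G) = Sp6(2)`

* `SW.geo` : the geometry;
* `SW.main`.
-/

set_option autoImplicit false
set_option linter.style.haveILetI false
set_option linter.unusedSectionVars false

namespace Cfsg.Agent.Cit.Nil.RTwo

open Subgroup Cfsg Cit

variable {G : Type*} [Group G] [Finite G] {Om : Set (Subgroup G)} {z t c : G}

/-- `O(C(j)) = 1` for all involutions `j` -/
def CFA (G : Type*) [Group G] : Prop := ∀ j : G, j * j = 1 → j ≠ 1 → OO (centralizer {j}) = ⊥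

theorem CFA.cf {Om : Set (Subgroup G)} (h : W2 Om) (hF : CFA G) : CF Om := fun z hz => hF z (hz.z2 h) (hz.z1 h)

/-- two members with a common label commute -/
def Abel (Om : Set (Subgroup G)) : Prop := ∀ z t c : G, c ∈ CC Om z → c ∈ CC Om t → z * t = t * z

theorem SW.geo (S : SW Om) (P : PPAll Om) (hab : Abel Om) (hF : CFA G) (hne : Om.Nonempty) :
    Geo {z | InZ Om z} (CC Om) where
  sqZ z hz := InZ.z2 hz S.w
  neZ z hz := InZ.z1 hz S.w
  conjZ g z hz := InZ.conj hz S.w g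
  conjC g z hz a ha := CC.conj S.w ha g
  nonempty := by
    obtain ⟨K, hK⟩ := hne
    exact ⟨zz K, K, hK, rfl⟩
  three z hz := by
    obtain ⟨c0, c1, c2, h1, h2, h3, h4, h5⟩ := S.three z hz
    exact ⟨c0, c1, c2, h2, h3, h4, h1, h5.symm⟩
  sqC z hz a ha := CC.sq ha
  neC z hz a ha := S.ne z a ha
  commC z hz a ha b hb := S.cc_comm ha hb
  abel z hz t ht c h1 h2 := hab z t c h1 h2
  dich z hz t ht hzt hc := by
    obtain ⟨c, D⟩ := S.dich z t hz ht hzt hc
    refine ⟨c, D.mz, D.mt, D.uq, ?_⟩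
    rcases D.alt with ⟨-, -, -, h1, h2⟩ | ⟨-, -, h1, h2, h3, h4, -⟩
    · exact Or.inl ⟨h1, h2⟩
    · exact Or.inr ⟨h1, h2, h3, h4⟩
  plane z hz t ht hzt hc hztZ a ha b hb hab' := by
    obtain ⟨c, D⟩ := S.dich z t hz ht hzt hc
    rcases D.alt with ⟨l, -⟩ | ⟨-, -, h1, -⟩
    · obtain ⟨y, h1, h2⟩ := S.exists_common l ha hb
      exact ⟨y, CC.inZ h1, h1, h2⟩
    · exact absurd hztZ h1
  card z hz c hc := by
    rw [← P.card c z hc]
    congr 1
    ext t
    exact ⟨fun ⟨h1, h2⟩ => ⟨h1, h2, hab z t c hc h2⟩, fun ⟨h1, h2, _⟩ => ⟨h1, h2⟩⟩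
  loc c z hz t ht h1 h2 hzt hztZ := by
    obtain ⟨c', D⟩ := S.dich z t hz ht hzt (hab z t c h1 h2)
    have e := D.uq c h1 h2
    subst e
    rcases D.alt with ⟨l, -⟩ | ⟨-, -, h3, -⟩
    · obtain ⟨s, ls, -, h4, h5, h6⟩ := P.loc _ z t l
      exact ⟨s, ls.ti.2.1, (ls.symm S.w).mem_CC, h4, h5, ls.ti.mul_inZ S.w, h6⟩
    · exact absurd hztZ h3
  l3 c u hu v hv w hw cu cv cw huv huvZ hall :=
    P.l3 c u v w cu cv cw (hab u v c cu cv) (hab u w c cu cw) huv huvZ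
      fun n hn cn _ h1 h2 => hall n hn cn h1 h2
  disj z hz c hc h1 := CC.ne_z S.w hc (eq_of_CX' S.w hz h1 (CC.mem_CX hc))
  tt z hz c hc h1 :=
    S.ne z c hc (mul_eq_left.1 (eq_of_CX' S.w hz h1 (mul_mem (z_mem_CX S.w) (CC.mem_CX hc))))
  cf j hj hj1 N hN hodd hn := by
    rw [eq_bot_iff, ← hF j hj hj1]
    refine le_OO ?_ ?_ ?_
    · intro n hn'
      exact mem_centralizer_singleton_iff.2 (hN n hn').eq
    · intro x hx
      rw [mem_normalizer_iff]
      have hxj : Commute x j := mem_centralizer_singleton_iff.1 hx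
      intro n
      constructor
      · exact hn x hxj n
      · intro h1
        have h2 := hn x⁻¹ hxj.inv_left _ h1
        have e : x⁻¹ * (x * n * x⁻¹) * x⁻¹⁻¹ = n := by group
        rwa [e] at h2
    · exact fun h2 => (Nat.not_even_iff_odd.2 hodd) (even_iff_two_dvd.2 h2)

/-- **case (S)** -/
theorem SW.main (S : SW Om) (P : PPAll Om) (hab : Abel Om) (hF : CFA G) (hne : Om.Nonempty)
    (hs : IsSimpleGroup ↥(generalizedFittingSubgroup G)) (hna : ¬ IsMulCommutative ↥(generalizedFittingSubgroup G)) :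
    ∃ (F : Type) (_ : Field F) (_ : Fintype F), Fintype.card F = 2 ∧
      Nonempty (↥(generalizedFittingSubgroup G) ≃* Cfsg.PSp 3 F) :=
  (S.geo P hab hF hne).main hs hna

end Cfsg.Agent.Cit.Nil.RTwo
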