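import Cfsg.Agent.Cit.Nil.RTwo.TTwo
import Cfsg.Agent.Transfer.SL23Recog
import Cfsg.Agent.Cit.Nil.IndDefs

/-!
# S1309, `r = 2`: elements of weight one

`Wt Om z K K' x g σ` : `K`, `K'` are the two members over `z`; `g ∈ C(z)` centralises `X_z`, is inner on `K'` and acts on the
three axes of `K` as the 3-cycle `σ`.

`Wt.clm` : then `K⟨δ⟩ ≅ SL(2,3)` is subnormal in `C(z)` for an element `δ` of order 3: `ClM Om`; `ClM.clSL : ClSL G`
(`AssemblyNil.Cl G` with `J ≅ SL(2,3)`), `ClM.three : ∃ K ∈ Om, IndDefs.Three K`.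
-/

set_option autoImplicit false
set_option linter.unusedSectionVars false

namespace Cfsg.Agent.Cit.Nil.RTwo

open Subgroup Cfsg Cfsg.Agent.Cit
open Transfer.SL23Recog

variable {G : Type*} [Group G] [Finite G] {Om : Set (Subgroup G)} {K K' L M : Subgroup G} {g t y z s : G}
  {x : Fin 3 → G} {σ τ : Equiv.Perm (Fin 3)}

/-- a classical involution with `J ≅ SL(2,3)` -/
def ClSL (G : Type*) [Group G] : Prop :=
  ∃ (z : G) (J : Subgroup G), orderOf z = 2 ∧ J ≤ centralizer ({z} : Set G) ∧ z ∈ J ∧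
    (J.subgroupOf (centralizer ({z} : Set G))).IsSubnormal ∧ oddCore ↥J = ⊥ ∧
    Nonempty (↥J ≃* Matrix.SpecialLinearGroup (Fin 2) (ZMod 3))

/-- `ClSL` for a member of `Om` -/
def ClM (Om : Set (Subgroup G)) : Prop :=
  ∃ (z : G) (K J : Subgroup G), Mem Om z K ∧ K ≤ J ∧ J ≤ centralizer ({z} : Set G) ∧
    (J.subgroupOf (centralizer ({z} : Set G))).IsSubnormal ∧ oddCore ↥J = ⊥ ∧
    Nonempty (↥J ≃* Matrix.SpecialLinearGroup (Fin 2) (ZMod 3))

theorem ClM.clSL (c : ClM Om) (h : W2 Om) : ClSL G := by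
  obtain ⟨z, K, J, hK, hKJ, h1, h2, h3, h4⟩ := c
  exact ⟨z, J, hK.inZ.orderOf h, h1, hKJ (hK.zmem h), h2, h3, h4⟩

theorem ClM.three (c : ClM Om) : ∃ K ∈ Om, IndDefs.Three K := by
  obtain ⟨z, K, J, hK, hKJ, h1, h2, h3, ⟨e⟩⟩ := c
  refine ⟨K, hK.1, J, ?_, hKJ, ?_, ⟨?_⟩⟩
  · rw [hK.2]; exact h1
  · rw [hK.2]; exact h2
  · exact ((QuotientGroup.quotientMulEquivOfEq h3).trans QuotientGroup.quotientBot).trans e

/-- weight one element -/
structure Wt (Om : Set (Subgroup G)) (z : G) (K K' : Subgroup G) (x : Fin 3 → G) (g : G)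
    (σ : Equiv.Perm (Fin 3)) : Prop where
  hK : Mem Om z K
  hK' : Mem Om z K'
  ne : K ≠ K'
  q : Q3 K z x
  act : Act z x x g σ
  s3 : σ * σ * σ = 1
  s1 : σ ≠ 1
  gz : g * z = z * g
  gX : ∀ y ∈ CX Om z, g * y = y * g
  inn : ∀ k ∈ K', g * k * g⁻¹ = k ∨ g * k * g⁻¹ = z * k

theorem perm_w1 (σ : Equiv.Perm (Fin 3)) (h1 : σ ≠ 1) (h3 : σ * σ * σ = 1) : σ 0 ≠ 0 := by
  revert σ; decide

theorem perm_w2 (τ : Equiv.Perm (Fin 3)) (h3 : τ * τ * τ = 1) (h0 : τ 0 = 1) : τ 1 = 2 := by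
  revert τ; decide

set_option maxRecDepth 10000 in
theorem perm_w3 (ρ π : Equiv.Perm (Fin 3)) (h1 : ρ * ρ * ρ = 1) (h2 : π * π * π = 1) :
    ρ * π * (ρ * π) * (ρ * π) = 1 := by
  revert ρ π; decide

set_option maxRecDepth 10000 in
theorem perm_w4 (ρ π : Equiv.Perm (Fin 3)) (h1 : ρ * ρ * ρ = 1) (h2 : ρ * π = 1) : π * π * π = 1 := by
  revert ρ π; decide

set_option maxRecDepth 10000 in
theorem perm_w5 : ∀ τ : Equiv.Perm (Fin 3), τ ≠ 1 → τ * τ * τ = 1 → ∀ ρ : Equiv.Perm (Fin 3), ρ * ρ * ρ = 1 →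
    ρ = 1 ∨ ρ = τ ∨ ρ = τ * τ := by decide

theorem comm_pow {a b : G} (h : a * b = b * a) (n : ℕ) : a ^ n * b = b * a ^ n :=
  ((show Commute a b from h).pow_left n).eq

theorem Act.pow (hz : z * z = 1) (h : Act z x x g σ) (hg : g * z = z * g) (n : ℕ) :
    Act z x x (g ^ n) (σ ^ n) := by
  induction n with
  | zero => rw [pow_zero, pow_zero]; exact Act.one x z
  | succ n ih =>
    rw [pow_succ, pow_succ]
    exact h.comp hz ih (comm_pow hg n)

theorem inner_sq (hx : Q3 K z x) (h : ∀ k ∈ K, g * k * g⁻¹ = k ∨ g * k * g⁻¹ = z * k) {k : G} (hk : k ∈ K)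
    (hkz : k * z = z * k) : g * g * k = k * (g * g) := by
  have h1 : g * g * k * (g * g)⁻¹ = k := by
    have h2 : g * g * k * (g * g)⁻¹ = g * (g * k * g⁻¹) * g⁻¹ := by group
    rw [h2]
    rcases hx.inner_cases h with h3 | ⟨j, h3⟩
    · rw [h3 k hk, h3 k hk]
    · rw [h3 k hk, h3 _ (mul_mem (mul_mem (hx.mem j) hk) (inv_mem (hx.mem j)))]
      have h4 : x j * (x j * k * (x j)⁻¹) * (x j)⁻¹ = (x j * x j) * k * (x j * x j)⁻¹ := by group
      rw [h4, hx.sq, ← hkz, mul_inv_cancel_right]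
  rwa [mul_inv_eq_iff_eq_mul] at h1

namespace Wt

/-- we may assume that `g` centralises `K'` -/
theorem exists_cent (w : Wt Om z K K' x g σ) (h : W2 Om) :
    ∃ g₁, Wt Om z K K' x g₁ σ ∧ ∀ k ∈ K', g₁ * k = k * g₁ := by
  obtain ⟨b, hb⟩ := h.exists_q3 w.hK'
  obtain ⟨u, hu, hgu⟩ : ∃ u ∈ K', ∀ k ∈ K', g * k * g⁻¹ = u * k * u⁻¹ := by
    rcases hb.inner_cases w.inn with h1 | ⟨j, h1⟩
    · exact ⟨1, one_mem _, fun k hk => by rw [h1 k hk]; group⟩
    · exact ⟨b j, hb.mem j, h1⟩
  have hz : InZ Om z := w.hK.inZ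
  have huz : u * z = z * u := w.hK'.comm_z h hu
  have hui : ∀ k ∈ K, u⁻¹ * k * u = k := fun k hk => by
    have := w.hK.comm w.hK' h w.ne hk hu
    rw [mul_assoc, this, inv_mul_cancel_left]
  have hc : ∀ k ∈ K', u⁻¹ * g * k = k * (u⁻¹ * g) := by
    intro k hk
    have h1 := hgu k hk
    calc u⁻¹ * g * k = u⁻¹ * (g * k * g⁻¹) * g := by group
      _ = u⁻¹ * (u * k * u⁻¹) * g := by rw [h1]
      _ = _ := by group
  refine ⟨u⁻¹ * g, ⟨w.hK, w.hK', w.ne, w.q, ?_, w.s3, w.s1, ?_, ?_, ?_⟩, hc⟩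
  · intro i
    have h1 : u⁻¹ * g * x i * (u⁻¹ * g)⁻¹ = u⁻¹ * (g * x i * g⁻¹) * u := by group
    have h2 : g * x i * g⁻¹ ∈ K := by
      rcases w.act i with h3 | h3
      · rw [h3]; exact w.q.mem _
      · rw [h3]; exact mul_mem w.q.zmem (w.q.mem _)
    rw [h1, hui _ h2]
    exact w.act i
  · calc u⁻¹ * g * z = u⁻¹ * (g * z) := by group
      _ = u⁻¹ * z * g := by rw [w.gz]; group
      _ = z * u⁻¹ * g := by
        congr 1
        rw [inv_mul_eq_iff_eq_mul, ← mul_assoc, huz, mul_inv_cancel_right]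
      _ = _ := by group
  · intro y hy
    have h1 : y * u = u * y := CX_comm (w.hK'.le_RZ hu) hy
    calc u⁻¹ * g * y = u⁻¹ * (g * y) := by group
      _ = u⁻¹ * y * g := by rw [w.gX y hy]; group
      _ = y * u⁻¹ * g := by
        congr 1
        rw [inv_mul_eq_iff_eq_mul, ← mul_assoc, ← h1, mul_inv_cancel_right]
      _ = _ := by group
  · intro k hk
    left
    rw [hc k hk, mul_inv_cancel_right]

/-- an element of order 3 -/
theorem exists_order (w : Wt Om z K K' x g σ) (h : W2 Om) (hF : CF Om) (hc : ∀ k ∈ K', g * k = k * g) :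
    ∃ d τ, Wt Om z K K' x d τ ∧ (∀ k ∈ K', d * k = k * d) ∧ d ^ 3 = 1 := by
  obtain ⟨e, n, hn, he⟩ := Nat.exists_eq_pow_mul_and_not_dvd (n := orderOf g) (orderOf_pos g).ne' 3 (by norm_num)
  have hz : InZ Om z := w.hK.inZ
  obtain ⟨d, hd⟩ : ∃ d, d = g ^ n := ⟨_, rfl⟩
  have hd3 : d ^ 3 ^ e = 1 := by rw [hd, ← pow_mul, mul_comm n, ← he, pow_orderOf_eq_one]
  have hdz : d * z = z * d := by rw [hd]; exact comm_pow w.gz n
  have hdX : ∀ y ∈ CX Om z, d * y = y * d := fun y hy => by rw [hd]; exact comm_pow (w.gX y hy) n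
  have hdc : ∀ k ∈ K', d * k = k * d := fun k hk => by rw [hd]; exact comm_pow (hc k hk) n
  have hact : Act z x x d (σ ^ n) := by rw [hd]; exact w.act.pow w.q.z2 w.gz n
  have hσ3 : σ ^ 3 = 1 := by rw [pow_succ, pow_succ, pow_one]; exact w.s3
  have hσn : σ ^ n ≠ 1 := by
    intro h1
    apply w.s1
    have h2 := orderOf_dvd_of_pow_eq_one h1
    have h3 := orderOf_dvd_of_pow_eq_one hσ3
    rcases (Nat.dvd_prime Nat.prime_three).1 h3 with h4 | h4
    · exact orderOf_eq_one_iff.1 h4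
    · rw [h4] at h2; exact absurd h2 hn
  have hσn3 : σ ^ n * σ ^ n * σ ^ n = 1 := by
    have h1 : (σ ^ n) ^ 3 = 1 := by rw [← pow_mul, mul_comm, pow_mul, hσ3, one_pow]
    rw [pow_succ, pow_succ, pow_one] at h1
    exact h1
  refine ⟨d, σ ^ n, ⟨w.hK, w.hK', w.ne, w.q, hact, hσn3, hσn, hdz, hdX, fun k hk => Or.inl (by
    rw [hdc k hk, mul_inv_cancel_right])⟩, hdc, ?_⟩
  -- `u = d³`
  obtain ⟨u, hu⟩ : ∃ u, u = d ^ 3 := ⟨_, rfl⟩
  have huz : u * z = z * u := by rw [hu]; exact comm_pow hdz 3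
  have hact3 : Act z x x u 1 := by
    have h1 := hact.pow w.q.z2 hdz 3
    rw [← hu, ← pow_mul, mul_comm, pow_mul, hσ3, one_pow] at h1
    exact h1
  have huodd : Odd (orderOf u) := by
    have h1 : u ^ 3 ^ e = 1 := by rw [hu, ← pow_mul, mul_comm, pow_mul, hd3, one_pow]
    exact Odd.of_dvd_nat (Odd.pow (by decide)) (orderOf_dvd_of_pow_eq_one h1)
  have huK : ∀ k ∈ K, u * u * k = k * (u * u) := fun k hk =>
    inner_sq w.q (hact3.inner w.q huz) hk (w.hK.comm_z h hk)
  have huuX : u * u ∈ CX Om z := by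
    rw [mem_CX]
    intro M hM k hk
    rcases w.hK.cases w.hK' h w.ne hM with rfl | rfl
    · exact huK k hk
    · have h1 : u * k = k * u := by rw [hu]; exact comm_pow (hdc k hk) 3
      rw [mul_assoc, h1, ← mul_assoc, h1, mul_assoc]
  have hN : zpowers (u * u) = ⊥ := by
    refine CX_odd h hF hz (by rwa [zpowers_le]) ?_ ?_
    · intro y hy
      have h1 : u * y = y * u := by rw [hu]; exact comm_pow (hdX y hy) 3
      have h2 : Commute y (u * u) := by
        show y * (u * u) = u * u * y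
        rw [mul_assoc, h1, ← mul_assoc u y u, h1, mul_assoc]
      rw [mem_normalizer_iff]
      intro v
      constructor
      · intro hv
        obtain ⟨k, rfl⟩ := mem_zpowers_iff.1 hv
        rw [(h2.zpow_right k).eq, mul_inv_cancel_right]
        exact hv
      · intro hv
        obtain ⟨k, hk⟩ := mem_zpowers_iff.1 hv
        have h3 : v = y⁻¹ * (y * v * y⁻¹) * y := by group
        rw [h3, ← hk, mul_assoc, ← (h2.zpow_right k).eq, inv_mul_cancel_left, hk]
        exact hv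
    · rw [Nat.card_zpowers, ← pow_two]
      intro h1
      have h2 : Odd (orderOf (u ^ 2)) := Odd.of_dvd_nat huodd (orderOf_pow_dvd 2)
      rw [← Nat.not_even_iff_odd, even_iff_two_dvd] at h2
      exact h2 h1
  have huu : u * u = 1 := by rwa [zpowers_eq_bot] at hN
  have h1 : orderOf u ∣ 2 := orderOf_dvd_of_pow_eq_one (by rw [pow_two]; exact huu)
  rw [← hu]
  rcases (Nat.dvd_prime Nat.prime_two).1 h1 with h2 | h2
  · exact orderOf_eq_one_iff.1 h2
  · rw [h2] at huodd; exact absurd huodd (by decide)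

end Wt

/-- the relations of `SL(2,3)` -/
theorem exists_slr {d : G} (hx : Q3 K z x) (hd : Act z x x d σ) (hσ : σ ≠ 1) (hσ3 : σ * σ * σ = 1)
    (hdz : d * z = z * d) (hd3 : d ^ 3 = 1) : ∃ a b, Q3 K z ![a, b, a * b] ∧ SLRel a b d := by
  have hq : ∀ a b : G, Q3 K z ![a, b, a * b] → QRel a b := by
    intro a b hab
    have ha : a * a = z := hab.sq 0
    have hb : b * b = z := hab.sq 1
    refine ⟨?_, ?_, ?_⟩
    · rw [show (4 : ℕ) = 2 * 2 from rfl, pow_mul, pow_two a, ha, pow_two, hab.z2]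
    · rw [pow_two, pow_two, ha, hb]
    · have h1 : b * a * b⁻¹ = z * a := hab.conj_ne (i := 1) (j := 0) (by decide)
      have h2 : a⁻¹ = z * a := hab.inv 0
      rw [h1, h2]
  have hK : cj d K = K := by
    have key : ∀ d, (∀ i, d * x i * d⁻¹ ∈ K) → cj d K ≤ K := by
      intro d h1
      have : K ≤ K.comap (MulAut.conj d).toMonoidHom := by
        refine hx.le_of_all fun i => ?_
        exact h1 i
      rintro _ ⟨k, hk, rfl⟩
      exact this hk
    have h1 : cj d K ≤ K := key d fun i => by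
      rcases hd i with h2 | h2
      · rw [h2]; exact hx.mem _
      · rw [h2]; exact mul_mem hx.zmem (hx.mem _)
    refine eq_of_le_of_card_ge h1 ?_
    rw [card_cj]
  obtain ⟨a, ha⟩ : ∃ a, a = x 0 := ⟨_, rfl⟩
  obtain ⟨b, hb⟩ : ∃ b, b = d * a * d⁻¹ := ⟨_, rfl⟩
  have haK : a ∈ K := by rw [ha]; exact hx.mem 0
  have hbK : b ∈ K := by rw [hb, ← hK]; exact conj_mem_cj haK
  have haa : a * a = z := by rw [ha]; exact hx.sq 0
  have hbb : b * b = z := by
    rw [hb]
    calc d * a * d⁻¹ * (d * a * d⁻¹) = d * (a * a) * d⁻¹ := by group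
      _ = z := by rw [haa, hdz, mul_inv_cancel_right]
  have hσ0 : σ 0 ≠ 0 := perm_w1 σ hσ hσ3
  have hab : a * b ≠ b * a := by
    intro h1
    have h2 : a * (d * a * d⁻¹) = (d * a * d⁻¹) * a := by rw [← hb]; exact h1
    rw [ha] at h2
    have h3 := hx.anti (i := 0) (j := σ 0) hσ0.symm
    rcases hd 0 with h4 | h4
    · rw [h4, h3, mul_assoc] at h2
      exact hx.z1 (mul_eq_right.1 h2)
    · rw [h4] at h2
      have h5 : x 0 * (z * x (σ 0)) = z * (x 0 * x (σ 0)) := by
        rw [← mul_assoc, ← hx.zc, mul_assoc]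
      rw [h5, h3, mul_assoc z (x (σ 0)) (x 0), hx.zzx] at h2
      exact hx.z1 (mul_eq_right.1 h2.symm)
  have hQ := hx.of_pair haK hbK haa hbb hab
  obtain ⟨τ, hτ⟩ := hQ.exists_act hQ hK hdz
  have hτ3 : τ * τ * τ = 1 := by
    have h1 := hτ.pow hx.z2 hdz 3
    rw [hd3] at h1
    have h2 := h1.unique hQ (Act.one _ z)
    rwa [pow_succ, pow_succ, pow_one] at h2
  have hτ0 : τ 0 = 1 := by
    have h1 : d * a * d⁻¹ = ![a, b, a * b] 1 := hb.symm
    rcases hτ 0 with h2 | h2
    · exact (hQ.inj (Or.inl (h1.symm.trans h2))).symm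
    · exact (hQ.inj (Or.inr (h1.symm.trans h2))).symm
  have hτ1 : τ 1 = 2 := perm_w2 τ hτ3 hτ0
  have hz1 : z * a = a * z := hQ.zc 0
  have hz2 : z * b = b * z := hQ.zc 1
  have h1 := hτ 1
  rw [hτ1] at h1
  rcases h1 with h1 | h1
  · exact ⟨a, b, hQ, { toQRel := hq a b hQ, hti := hb.symm, htj := h1 }⟩
  · have h2 : d * b * d⁻¹ = z * (a * b) := h1
    have hab' : z * a * (z * b) = a * b := by
      calc z * a * (z * b) = z * (a * z) * b := by group
        _ = (z * z) * (a * b) := by rw [← hz1]; group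
        _ = a * b := by rw [hx.z2, one_mul]
    have hba' : z * b * (z * a) = b * a := by
      calc z * b * (z * a) = z * (b * z) * a := by group
        _ = (z * z) * (b * a) := by rw [← hz2]; group
        _ = b * a := by rw [hx.z2, one_mul]
    have haa' : z * a * (z * a) = z := by
      calc z * a * (z * a) = z * (a * z) * a := by group
        _ = (z * z) * (a * a) := by rw [← hz1]; group
        _ = z := by rw [hx.z2, one_mul, haa]
    have hbb' : z * b * (z * b) = z := by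
      calc z * b * (z * b) = z * (b * z) * b := by group
        _ = (z * z) * (b * b) := by rw [← hz2]; group
        _ = z := by rw [hx.z2, one_mul, hbb]
    have hQ' := hx.of_pair (mul_mem hx.zmem haK) (mul_mem hx.zmem hbK) haa' hbb' (by rw [hab', hba']; exact hab)
    refine ⟨z * a, z * b, hQ', { toQRel := hq _ _ hQ', hti := ?_, htj := ?_ }⟩
    · calc d * (z * a) * d⁻¹ = (d * z) * a * d⁻¹ := by group
        _ = z * (d * a * d⁻¹) := by rw [hdz]; group
        _ = _ := by rw [← hb]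
    · calc d * (z * b) * d⁻¹ = (d * z) * b * d⁻¹ := by group
        _ = z * (d * b * d⁻¹) := by rw [hdz]; group
        _ = z * a * (z * b) := by rw [h2, hx.zzx, hab']

/-- subnormality in a subgroup `C` of `G`, one step -/
theorem subn_stepW {C H N : Subgroup G} (hHN : H ≤ N) (hN : (N.subgroupOf C).IsSubnormal)
    (hn : ∀ n ∈ N, ∀ a ∈ H, n * a * n⁻¹ ∈ H) : (H.subgroupOf C).IsSubnormal := by
  refine Subgroup.IsSubnormal.step _ _ (fun a ha => hHN ha) hN ?_
  refine ⟨fun a ha c => ?_⟩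
  exact hn _ c.2 _ ha

/-- **weight one**: the classical involution theorem applies -/
theorem Wt.clm (w : Wt Om z K K' x g σ) (h : W2 Om) (hF : CF Om) : ClM Om := by
  obtain ⟨g₁, w₁, hc₁⟩ := w.exists_cent h
  obtain ⟨d, τ, w₂, hdc, hd3⟩ := w₁.exists_order h hF hc₁
  obtain ⟨a, b, hQ, hsl⟩ := exists_slr w₂.q w₂.act w₂.s1 w₂.s3 w₂.gz hd3
  clear w w₁ hc₁
  have hz : InZ Om z := w₂.hK.inZ
  have haK : a ∈ K := hQ.mem 0
  have hbK : b ∈ K := hQ.mem 1
  obtain ⟨J, hJ⟩ : ∃ J, J = closure ({a, b, d} : Set G) := ⟨_, rfl⟩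
  have haJ : a ∈ J := by rw [hJ]; exact subset_closure (by simp)
  have hbJ : b ∈ J := by rw [hJ]; exact subset_closure (by simp)
  have hdJ : d ∈ J := by rw [hJ]; exact subset_closure (by simp)
  have hKJ : K ≤ J := hQ.le_of_mem (i := 0) (j := 1) (by decide) haJ hbJ
  have hd1 : d ≠ 1 := by
    intro h1
    have h2 := w₂.act
    rw [h1] at h2
    exact w₂.s1 (h2.unique w₂.q (Act.one x z))
  have hdo : orderOf d = 3 := by
    haveI : Fact (Nat.Prime 3) := ⟨Nat.prime_three⟩
    exact orderOf_eq_prime hd3 hd1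
  have hcard : Nat.card J = 24 := by
    have h1 := (hsl.card_le hd3).2
    rw [← hJ] at h1
    have h2 : 8 ∣ Nat.card J := by rw [← h.card K w₂.hK.1]; exact card_dvd_of_le hKJ
    have h3 : 3 ∣ Nat.card J := by
      rw [← hdo]; exact J.orderOf_dvd_natCard hdJ
    have h4 : 24 ∣ Nat.card J := by
      have : (8 : ℕ) * 3 ∣ Nat.card J := Nat.Coprime.mul_dvd_of_dvd_of_dvd (by decide) h2 h3
      exact this
    exact Nat.dvd_antisymm (by
      have h5 : 0 < Nat.card J := Nat.card_pos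
      obtain ⟨c, hc⟩ := h4
      rw [hc] at h1 h5 ⊢
      have : c = 1 := by omega
      rw [this]) h4
  -- everything in `J` centralises `K'` and `X`
  have hJc : ∀ v, (v * a = a * v) → (v * b = b * v) → (v * d = d * v) → ∀ j ∈ J, v * j = j * v := by
    intro v h1 h2 h3 j hj
    have h4 : J ≤ centralizer {v} := by
      rw [hJ, closure_le]
      rintro u (rfl | rfl | rfl)
      · exact (mem_centralizer_singleton_iff.2 h1.symm)
      · exact (mem_centralizer_singleton_iff.2 h2.symm)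
      · exact (mem_centralizer_singleton_iff.2 h3.symm)
    exact (mem_centralizer_singleton_iff.1 (h4 hj)).symm
  have hJK' : ∀ k ∈ K', ∀ j ∈ J, k * j = j * k := fun k hk =>
    hJc k (w₂.hK.comm w₂.hK' h w₂.ne haK hk).symm (w₂.hK.comm w₂.hK' h w₂.ne hbK hk).symm (hdc k hk).symm
  have hJX : ∀ y ∈ CX Om z, ∀ j ∈ J, y * j = j * y := fun y hy =>
    hJc y (mem_CX.1 hy K w₂.hK a haK) (mem_CX.1 hy K w₂.hK b hbK) (w₂.gX y hy).symm
  have hJz : ∀ j ∈ J, z * j = j * z := hJX z (z_mem_CX h)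
  have hJC : J ≤ centralizer {z} := fun j hj => mem_centralizer_singleton_iff.2 (hJz j hj).symm
  refine ⟨z, K, J, w₂.hK, hKJ, hJC, ?_, ?_, ?_⟩
  · -- subnormal
    -- `C₁` = stabiliser of `K'` in `C(z)`
    have hfix : ∀ g, g * z = z * g → (cj g K = K ↔ cj g K' = K') := by
      intro g hg
      have h1 := w₂.hK.cases w₂.hK' h w₂.ne (w₂.hK.cj_comm h hg)
      have h2 := w₂.hK.cases w₂.hK' h w₂.ne (w₂.hK'.cj_comm h hg)
      constructor
      · intro h3
        rcases h2 with h4 | h4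
        · exact absurd (cj_inj.1 (h4.trans h3.symm)).symm w₂.ne
        · exact h4
      · intro h3
        rcases h1 with h4 | h4
        · exact h4
        · exact absurd (cj_inj.1 (h4.trans h3.symm)) w₂.ne
    let C : Subgroup G := centralizer {z}
    let C₁ : Subgroup G := C ⊓ normalizer (K' : Set G)
    let N : Subgroup G := C₁ ⊓ (centralizer (K' : Set G) ⊓ centralizer (CX Om z : Set G))
    have hC : (C.subgroupOf C).IsSubnormal := by
      rw [subgroupOf_self]; exact Subgroup.IsSubnormal.top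
    have hmemC : ∀ {g}, g ∈ C ↔ g * z = z * g := fun {g} => mem_centralizer_singleton_iff
    have hC₁ : (C₁.subgroupOf C).IsSubnormal := by
      refine subn_stepW inf_le_left hC ?_
      intro c hc v hv
      obtain ⟨hvC, hvK⟩ := mem_inf.1 hv
      refine mem_inf.2 ⟨C.mul_mem (C.mul_mem hc hvC) (C.inv_mem hc), ?_⟩
      have hvK' : cj v K' = K' := mem_normalizer_iff_cj.1 hvK
      have hvK2 : cj v K = K := (hfix v (hmemC.1 hvC)).2 hvK'
      have hci : c⁻¹ * z = z * c⁻¹ := hmemC.1 (inv_mem hc)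
      rw [mem_normalizer_iff_cj, cj_mul, cj_mul]
      rcases w₂.hK.cases w₂.hK' h w₂.ne (w₂.hK'.cj_comm h hci) with h1 | h1
      · rw [h1, hvK2, ← h1, cj_cj_inv]
      · rw [h1, hvK', ← h1, cj_cj_inv]
        rw [h1]
    have hN : (N.subgroupOf C).IsSubnormal := by
      refine subn_stepW inf_le_left hC₁ ?_
      intro c hc v hv
      obtain ⟨hvC, hvK, hvX⟩ := mem_inf.1 hv
      replace hvK := mem_centralizer_iff.1 hvK
      replace hvX := mem_centralizer_iff.1 hvX
      refine mem_inf.2 ⟨C₁.mul_mem (C₁.mul_mem hc hvC) (C₁.inv_mem hc), mem_inf.2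
        ⟨mem_centralizer_iff.2 ?_, mem_centralizer_iff.2 ?_⟩⟩
      · intro k hk
        have h1 : c⁻¹ * k * c ∈ K' := by
          have h2 := mem_normalizer_iff_cj.1 (mem_inf.1 (C₁.inv_mem hc)).2
          rw [← h2]
          have h3 := conj_mem_cj (g := c⁻¹) (show k ∈ K' from hk)
          rwa [inv_inv] at h3
        have h2 := hvK _ h1
        calc k * (c * v * c⁻¹) = c * ((c⁻¹ * k * c) * v) * c⁻¹ := by group
          _ = c * (v * (c⁻¹ * k * c)) * c⁻¹ := by rw [h2]
          _ = _ := by group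
      · intro k hk
        have h1 : c⁻¹ * k * c ∈ CX Om z := by
          have h3 := CX_conj_comm h (hmemC.1 (mem_inf.1 (C₁.inv_mem hc)).1) (show k ∈ CX Om z from hk)
          rwa [inv_inv] at h3
        have h2 := hvX _ h1
        calc k * (c * v * c⁻¹) = c * ((c⁻¹ * k * c) * v) * c⁻¹ := by group
          _ = c * (v * (c⁻¹ * k * c)) * c⁻¹ := by rw [h2]
          _ = _ := by group
    have hNfix : ∀ n ∈ N, cj n K = K := fun n hn =>
      (hfix n (hmemC.1 hn.1.1)).2 (mem_normalizer_iff_cj.1 hn.1.2)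
    have hNz : ∀ n ∈ N, n * z = z * n := fun n hn => hmemC.1 hn.1.1
    -- `A` = even elements of `N`
    let A : Subgroup G :=
      { carrier := {n | n ∈ N ∧ ∃ ρ : Equiv.Perm (Fin 3), Act z x x n ρ ∧ ρ * ρ * ρ = 1}
        one_mem' := ⟨one_mem _, 1, Act.one x z, by simp⟩
        mul_mem' := by
          rintro n m ⟨hn, ρ, hρ, hρ3⟩ ⟨hm, π, hπ, hπ3⟩
          exact ⟨mul_mem hn hm, ρ * π, hπ.comp w₂.q.z2 hρ (hNz n hn), perm_w3 ρ π hρ3 hπ3⟩
        inv_mem' := by
          rintro n ⟨hn, ρ, hρ, hρ3⟩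
          refine ⟨inv_mem hn, ?_⟩
          obtain ⟨π, hπ⟩ := w₂.q.exists_act w₂.q (hNfix _ (inv_mem hn)) (hNz _ (inv_mem hn))
          have h1 := hπ.comp w₂.q.z2 hρ (hNz n hn)
          rw [mul_inv_cancel] at h1
          have h2 := h1.unique w₂.q (Act.one x z)
          exact ⟨π, hπ, perm_w4 ρ π hρ3 h2⟩ }
    have hA : (A.subgroupOf C).IsSubnormal := by
      refine subn_stepW (fun v hv => hv.1) hN ?_
      rintro n hn v ⟨hv, ρ, hρ, hρ3⟩
      refine ⟨mul_mem (mul_mem hn hv) (inv_mem hn), ?_⟩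
      obtain ⟨π, hπ⟩ := w₂.q.exists_act w₂.q (hNfix n hn) (hNz n hn)
      obtain ⟨π', hπ'⟩ := w₂.q.exists_act w₂.q (hNfix _ (inv_mem hn)) (hNz _ (inv_mem hn))
      have h1 := hπ'.comp w₂.q.z2 hπ (hNz n hn)
      rw [mul_inv_cancel] at h1
      have h2 := h1.unique w₂.q (Act.one x z)
      have h3 := (hπ'.comp w₂.q.z2 hρ (hNz v hv)).comp w₂.q.z2 hπ (hNz n hn)
      rw [← mul_assoc] at h3
      refine ⟨π * (ρ * π'), h3, ?_⟩
      have h4 : π' = π⁻¹ := eq_inv_of_mul_eq_one_right h2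
      have h5 : π * (ρ * π') * (π * (ρ * π')) * (π * (ρ * π')) = π * (ρ * ρ * ρ) * π⁻¹ := by
        rw [h4]; group
      rw [h5, hρ3]; group
    refine subn_stepW ?_ hA ?_
    · -- `J ≤ A`
      rw [hJ, closure_le]
      have hJN : ∀ j ∈ J, j ∈ N := by
        intro j hj
        refine mem_inf.2 ⟨mem_inf.2 ⟨hJC hj, mem_normalizer_iff_cj.2 ?_⟩, mem_inf.2
          ⟨mem_centralizer_iff.2 ?_, mem_centralizer_iff.2 ?_⟩⟩
        · refine eq_of_le_of_card_ge ?_ (by rw [card_cj])
          rintro _ ⟨k, hk, rfl⟩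
          show j * k * j⁻¹ ∈ K'
          rw [← hJK' k hk j hj, mul_inv_cancel_right]; exact hk
        · exact fun k hk => hJK' k hk j hj
        · exact fun y hy => hJX y hy j hj
      have hKA : ∀ k ∈ K, k ∈ A := by
        intro k hk
        refine ⟨hJN k (hKJ hk), 1, ?_, by simp⟩
        intro i
        exact Inn.of_mem w₂.hK h hk K w₂.hK _ (w₂.q.mem i)
      rintro u (rfl | rfl | rfl)
      · exact hKA _ haK
      · exact hKA _ hbK
      · exact ⟨hJN _ hdJ, τ, w₂.act, w₂.s3⟩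
    · -- `J ⊴ A`
      rintro v ⟨hv, ρ, hρ, hρ3⟩ j hj
      -- `v = (power of d) * k * y`
      obtain ⟨m, hm⟩ : ∃ m : ℕ, ρ = τ ^ m := by
        rcases perm_w5 τ w₂.s1 w₂.s3 ρ hρ3 with h1 | h1 | h1
        · exact ⟨0, by rw [h1, pow_zero]⟩
        · exact ⟨1, by rw [h1, pow_one]⟩
        · exact ⟨2, by rw [h1, pow_two]⟩
      have hdm := w₂.act.pow w₂.q.z2 w₂.gz m
      -- `e = (d ^ m)⁻¹ v`
      have hdmJ : d ^ m ∈ J := pow_mem hdJ m
      have hdmz : d ^ m * z = z * d ^ m := comm_pow w₂.gz m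
      obtain ⟨e, he⟩ : ∃ e, e = (d ^ m)⁻¹ * v := ⟨_, rfl⟩
      have hdmiz : (d ^ m)⁻¹ * z = z * (d ^ m)⁻¹ := by
        rw [inv_mul_eq_iff_eq_mul, ← mul_assoc, hdmz, mul_inv_cancel_right]
      have hvz := hNz v hv
      have hez : e * z = z * e := by
        rw [he, mul_assoc, hvz, ← mul_assoc, hdmiz, mul_assoc]
      have hdmK : cj (d ^ m)⁻¹ K = K := by
        have h1 : cj (d ^ m) K = K := by
          refine eq_of_le_of_card_ge ?_ (by rw [card_cj])
          have : K ≤ K.comap (MulAut.conj (d ^ m)).toMonoidHom := by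
            refine w₂.q.le_of_all fun i => ?_
            show d ^ m * x i * (d ^ m)⁻¹ ∈ K
            rcases hdm i with h2 | h2
            · rw [h2]; exact w₂.q.mem _
            · rw [h2]; exact mul_mem w₂.q.zmem (w₂.q.mem _)
          rintro _ ⟨k, hk, rfl⟩
          exact this hk
        conv_lhs => rw [← h1]
        rw [cj_inv_cj]
      obtain ⟨π, hπ⟩ := w₂.q.exists_act w₂.q hdmK hdmiz
      have h1 := hπ.comp w₂.q.z2 hdm hdmz
      rw [mul_inv_cancel] at h1
      have h2 := h1.unique w₂.q (Act.one x z)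
      have h3 := hρ.comp w₂.q.z2 hπ hdmiz
      have h4 : π * ρ = 1 := by
        rw [hm]
        exact mul_eq_one_comm.1 h2
      rw [h4, ← he] at h3
      obtain ⟨k, hk, hek⟩ : ∃ k ∈ K, ∀ u ∈ K, e * u * e⁻¹ = k * u * k⁻¹ := by
        rcases w₂.q.inner_cases (h3.inner w₂.q hez) with h5 | ⟨i, h5⟩
        · exact ⟨1, one_mem _, fun u hu => by rw [h5 u hu]; group⟩
        · exact ⟨x i, w₂.q.mem i, h5⟩
      -- `y = k⁻¹ e ∈ X`
      have hy : k⁻¹ * e ∈ CX Om z := by
        rw [mem_CX]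
        intro M hM u hu
        rcases w₂.hK.cases w₂.hK' h w₂.ne hM with rfl | rfl
        · have h5 := hek u hu
          calc k⁻¹ * e * u = k⁻¹ * (e * u * e⁻¹) * e := by group
            _ = k⁻¹ * (k * u * k⁻¹) * e := by rw [h5]
            _ = _ := by group
        · have h5 : v * u = u * v := (mem_centralizer_iff.1 hv.2.1 u hu).symm
          have h6 : ∀ j ∈ J, j * u = u * j := fun j hj => (hJK' u hu j hj).symm
          have h7 := h6 _ (mul_mem (inv_mem (hKJ hk)) (inv_mem hdmJ))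
          calc k⁻¹ * e * u = k⁻¹ * (d ^ m)⁻¹ * (v * u) := by rw [he]; group
            _ = (k⁻¹ * (d ^ m)⁻¹ * u) * v := by rw [h5]; group
            _ = u * (k⁻¹ * e) := by rw [h7, he]; group
      have hve : v = d ^ m * k * (k⁻¹ * e) := by rw [he]; group
      have hdk : d ^ m * k ∈ J := mul_mem hdmJ (hKJ hk)
      have h5 : v * j * v⁻¹ = d ^ m * k * j * (d ^ m * k)⁻¹ := by
        have h6 := hJX _ hy j hj
        calc v * j * v⁻¹ = d ^ m * k * ((k⁻¹ * e) * j) * (k⁻¹ * e)⁻¹ * (d ^ m * k)⁻¹ := by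
              conv_lhs => rw [hve]
              group
          _ = d ^ m * k * (j * (k⁻¹ * e)) * (k⁻¹ * e)⁻¹ * (d ^ m * k)⁻¹ := by rw [h6]
          _ = _ := by group
      rw [h5]
      exact mul_mem (mul_mem hdk hj) (inv_mem hdk)
  · -- `O(J) = 1`
    have hO : oddCore ↥J = ⊥ := by
      have hOO : OO J = ⊥ := by
        have h1 : OO J ≤ CX Om z := by
          intro v hv
          have hvJ : v ∈ J := OO_le J hv
          rw [mem_CX]
          intro M hM u hu
          rcases w₂.hK.cases w₂.hK' h w₂.ne hM with rfl | rfl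
          · -- the commutator is in `O(J) ∩ K`
            have h2 : v * u * v⁻¹ * u⁻¹ ∈ OO J ⊓ M := by
              refine ⟨?_, ?_⟩
              · have h3 := (mem_normalizer_iff.1 (le_normalizer_OO J (hKJ hu)) v⁻¹).1 (inv_mem hv)
                have h4 : v * u * v⁻¹ * u⁻¹ = v * (u * v⁻¹ * u⁻¹) := by group
                rw [h4]; exact mul_mem hv h3
              · have hJM : J ≤ normalizer (M : Set G) := by
                  rw [hJ, closure_le]
                  have hdM : d ∈ normalizer (M : Set G) := by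
                    rw [mem_normalizer_iff_cj]
                    refine eq_of_le_of_card_ge ?_ (by rw [card_cj])
                    have : M ≤ M.comap (MulAut.conj d).toMonoidHom := by
                      refine w₂.q.le_of_all fun i => ?_
                      show d * x i * d⁻¹ ∈ M
                      rcases w₂.act i with h2 | h2
                      · rw [h2]; exact w₂.q.mem _
                      · rw [h2]; exact mul_mem w₂.q.zmem (w₂.q.mem _)
                    rintro _ ⟨k, hk, rfl⟩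
                    exact this hk
                  rintro c (rfl | rfl | rfl)
                  · exact le_normalizer haK
                  · exact le_normalizer hbK
                  · exact hdM
                exact M.mul_mem ((mem_normalizer_iff.1 (hJM hvJ) u).1 hu) (M.inv_mem hu)
            have h3 : OO J ⊓ M = ⊥ := by
              apply Subgroup.inf_eq_bot_of_coprime
              rw [h.card M w₂.hK.1]
              have h4 : Nat.Coprime (Nat.card (OO J)) 2 :=
                ((Nat.Prime.coprime_iff_not_dvd Nat.prime_two).2 (odd_OO J)).symm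
              exact Nat.Coprime.pow_right 3 h4
            rw [h3, Subgroup.mem_bot, mul_inv_eq_one, mul_inv_eq_iff_eq_mul] at h2
            exact h2
          · exact (hJK' u hu v hvJ).symm
        refine CX_odd h hF hz h1 ?_ (odd_OO J)
        intro y hy
        rw [mem_normalizer_iff]
        have h2 : ∀ v ∈ J, y * v * y⁻¹ = v := fun v hv => by rw [hJX y hy v hv, mul_inv_cancel_right]
        intro v
        constructor
        · intro hv
          rw [h2 v (OO_le J hv)]; exact hv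
        · intro hv
          have h3 := h2 _ (OO_le J hv)
          have h4 : v = y * v * y⁻¹ := by
            have h5 : y * (y * v * y⁻¹) * y⁻¹ = y * v * y⁻¹ := h3
            exact (mul_left_cancel (mul_right_cancel h5)).symm
          rw [h4]; exact hv
      rw [OO, Subgroup.map_eq_bot_iff_of_injective _ J.subtype_injective] at hOO
      exact hOO
    exact hO
  · have hgen : Subgroup.closure ({⟨a, haJ⟩, ⟨b, hbJ⟩, ⟨d, hdJ⟩} : Set J) = ⊤ := by
      apply Subgroup.map_injective J.subtype_injective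
      rw [MonoidHom.map_closure, ← MonoidHom.range_eq_map, J.range_subtype, Set.image_insert_eq,
        Set.image_insert_eq, Set.image_singleton]
      exact hJ.symm
    have hrel : SLRel (⟨a, haJ⟩ : J) ⟨b, hbJ⟩ ⟨d, hdJ⟩ :=
      { hi := Subtype.ext hsl.hi
        hj := Subtype.ext hsl.hj
        hji := Subtype.ext hsl.hji
        hti := Subtype.ext hsl.hti
        htj := Subtype.ext hsl.htj }
    obtain ⟨f⟩ := sl23_of_relations hrel (Subtype.ext hd3) hgen hcard
    exact ⟨f⟩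

/-- **weight one**: the classical involution theorem applies -/
theorem Wt.cl (w : Wt Om z K K' x g σ) (h : W2 Om) (hF : CF Om) : ClSL G := (w.clm h hF).clSL h

/-- **weight one**: `Three` -/
theorem Wt.three (w : Wt Om z K K' x g σ) (h : W2 Om) (hF : CF Om) : ∃ K ∈ Om, IndDefs.Three K := (w.clm h hF).three

end Cfsg.Agent.Cit.Nil.RTwo
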