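import Cfsg.Agent.Cit.Nil.RTwo.ThmOne
import Cfsg.Agent.Cit.Nil.RTwo.Weight
import Cfsg.Agent.Cit.Nil.ROne.Bridge
import Cfsg.Agent.Cit.Nil.ROne.FStar
import Cfsg.Agent.Cit.Nil.SCW

/-!
# `r = 2`, `m = 1`: the leaf

* `LeafR2One` : the part `m = 1` of `AssemblyNil.LeafR2`, core-free;
* `MOne`, `OneCls`, `C3E` (elementwise (C3)), `W2.of_w3`, `CF.of_free`, `W2.wd`;
* `ClSL.cl` : `ClSL G` implies `AssemblyNil.Cl G`;
* `W2.mem_of_fsimp` : `Z ⊆ F*(G)`; `W2.inf_cases` : `K ≤ X` or `K ∩ X = ⟨z⟩`;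
* `W2.sc` : SC' if the members lie in `G0`.
-/

set_option autoImplicit false
set_option linter.style.haveILetI false
set_option linter.unusedSectionVars false

namespace Cfsg.Agent.Cit.Nil.RTwo

open Subgroup Cfsg Cfsg.Agent.Cit

universe u

variable {G : Type*} [Group G]

/-- all members are conjugate -/
def OneCls (Om : Set (Subgroup G)) : Prop := ∀ K ∈ Om, ∀ L ∈ Om, ∃ g, cj g K = L

/-- elementwise (C3) for all members -/
def C3E (Om : Set (Subgroup G)) : Prop :=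
  ∀ z K, Mem Om z K → ∀ y ∈ K, y * y = z → ∃ g, g * z = z * g ∧ cj g K = K ∧ g * y * g⁻¹ ≠ y ∧ g * y * g⁻¹ ≠ z * y

/-- commuting members have the same involution (`m = 1`) -/
def MOne (Om : Set (Subgroup G)) : Prop := ∀ K ∈ Om, ∀ L ∈ Om, (∀ k ∈ K, ∀ l ∈ L, k * l = l * k) → zz K = zz L

/-- **the leaf `r = 2`, `m = 1`**, core-free -/
def LeafR2One : Prop := ∀ (G : Type u) [Group G] [Finite G] (K : Subgroup G), AssemblyNil.W3 G K →
  (∀ t : G, orderOf t = 2 → centralizerPPrimeCore 2 t = ⊥) → (AssemblyNil.ovr K).ncard = 2 → MOne (cls K) →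
  AssemblyNil.Concl ↥(generalizedFittingSubgroup G)

section

variable [Finite G] {Om : Set (Subgroup G)} {K L X G0 A : Subgroup G} {z t g y : G} {N : G → Subgroup G}

/-- members over the same involution are conjugate under its centraliser -/
theorem OneCls.exists (hc : OneCls Om) (h : W2 Om) (hK : Mem Om z K) (hL : Mem Om z L) :
    ∃ g, g * z = z * g ∧ cj g K = L := by
  obtain ⟨g, rfl⟩ := hc K hK.1 L hL.1
  have h1 := hK.cj h g
  have h2 : g * z * g⁻¹ = z := h1.2.symm.trans hL.2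
  exact ⟨g, by rwa [mul_inv_eq_iff_eq_mul] at h2, rfl⟩

/-- `Z` is one class -/
theorem OneCls.conj (hc : OneCls Om) (h : W2 Om) (hz : InZ Om z) (ht : InZ Om t) : ∃ g, g * z * g⁻¹ = t := by
  obtain ⟨K, hK⟩ := hz
  obtain ⟨L, hL⟩ := ht
  obtain ⟨g, rfl⟩ := hc K hK.1 L hL.1
  exact ⟨g, (hK.cj h g).2.symm.trans hL.2⟩

theorem CF.of_free (h : W2 Om) (hf : ∀ t : G, orderOf t = 2 → centralizerPPrimeCore 2 t = ⊥) : CF Om := by
  intro z hz
  exact hf z (hz.orderOf h)

theorem oneCls_cls (K : Subgroup G) : OneCls (cls K) := by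
  rintro _ ⟨g, rfl⟩ _ ⟨g', rfl⟩
  exact ⟨g' * g⁻¹, by rw [cj_mul, cj_inv_cj]⟩

theorem W2.of_w3 {K : Subgroup G} (w : AssemblyNil.W3 G K) (h4 : (AssemblyNil.ovr K).ncard = 2)
    (hf : ∀ t : G, orderOf t = 2 → centralizerPPrimeCore 2 t = ⊥) (h1 : MOne (cls K)) : W2 (cls K) := by
  have hyp := w.hyp
  have hO : ∀ L ∈ cls K, OO L = ⊥ := fun L hL => ROne.OO_eq_bot hyp hL (hf _ (hyp.orderOf_zz hL))
  refine ⟨hyp, ?_, ?_, h1⟩
  · rintro L ⟨g, rfl⟩
    rw [card_cj]
    exact ROne.card_eight w.nil w.c3 (hO K (self_mem_cls K))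
  · rintro L ⟨g, rfl⟩
    have h2 : {M | M ∈ cls K ∧ zz M = zz (cj g K)} = (cj g) '' (AssemblyNil.ovr K) := by
      ext M
      constructor
      · rintro ⟨hM, hz⟩
        refine ⟨cj g⁻¹ M, ⟨hyp.conj M hM _, ?_⟩, cj_cj_inv g M⟩
        rw [hyp.zz_cj hM, hz, hyp.zz_cj (self_mem_cls K)]
        group
      · rintro ⟨M, ⟨hM, hz⟩, rfl⟩
        refine ⟨hyp.conj M hM g, ?_⟩
        rw [hyp.zz_cj hM, hz, hyp.zz_cj (self_mem_cls K)]
    have h3 : {M | M ∈ cls K ∧ zz M = zz (cj g K)}.ncard = 2 := by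
      rw [h2, Set.ncard_image_of_injective _ (fun A B hAB => cj_inj.1 hAB), h4]
    obtain ⟨A, B, hAB, h5⟩ := Set.ncard_eq_two.1 h3
    have hA : A ∈ {M | M ∈ cls K ∧ zz M = zz (cj g K)} := by rw [h5]; exact Set.mem_insert _ _
    have hB : B ∈ {M | M ∈ cls K ∧ zz M = zz (cj g K)} := by
      rw [h5]; exact Set.mem_insert_of_mem _ (Set.mem_singleton _)
    have hg : cj g K ∈ {M | M ∈ cls K ∧ zz M = zz (cj g K)} := ⟨⟨g, rfl⟩, rfl⟩
    have hall : ∀ M ∈ cls K, zz M = zz (cj g K) → M = A ∨ M = B := by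
      intro M hM hz
      have h6 : M ∈ {M | M ∈ cls K ∧ zz M = zz (cj g K)} := ⟨hM, hz⟩
      rw [h5] at h6
      simpa using h6
    rw [h5] at hg
    rcases hg with hg | hg
    · refine ⟨B, hB.1, ?_, hB.2, ?_⟩
      · rw [hg]; exact hAB.symm
      · intro M hM hz
        rw [hg]
        rw [hg] at hz hall
        exact hall M hM hz
    · rw [Set.mem_singleton_iff] at hg
      refine ⟨A, hA.1, ?_, hA.2, ?_⟩
      · rw [hg]; exact hAB
      · intro M hM hz
        rw [hg]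
        rw [hg] at hz hall
        exact (hall M hM hz).symm

/-! ### elementwise (C3) -/

set_option maxRecDepth 100000 in
theorem w_perm_cube (σ : Equiv.Perm (Fin 3)) : σ ^ 3 * σ ^ 3 = 1 := by
  have h5 : ∀ σ : Equiv.Perm (Fin 3), ∀ i, (σ ^ 3) ((σ ^ 3) i) = i := by decide
  exact Equiv.ext fun i => h5 σ i

/-- powers -/
theorem w_act_pow {x : Fin 3 → G} {σ : Equiv.Perm (Fin 3)} (hz : z * z = 1) (hg : g * z = z * g)
    (ha : Act z x x g σ) (n : ℕ) : g ^ n * z = z * g ^ n ∧ Act z x x (g ^ n) (σ ^ n) := by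
  induction n with
  | zero => simp only [pow_zero, one_mul, mul_one, true_and]; exact Act.one x z
  | succ n ih =>
    obtain ⟨h1, h2⟩ := ih
    rw [pow_succ, pow_succ]
    refine ⟨?_, ha.comp hz h2 h1⟩
    rw [mul_assoc, hg, ← mul_assoc, h1, mul_assoc]

/-- a 3-element acting nontrivially on a member moves all axes -/
theorem W2.axes (h : W2 Om) (hK : Mem Om z K) {c : G} (hcK : cj c K = K) (hc3 : IsPGroup 3 (zpowers c)) {q : G}
    (hq : q ∈ K) (hcq : c * q ≠ q * c) {y : G} (hy : y ∈ K) (hyy : y * y = z) :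
    c * y * c⁻¹ ≠ y ∧ c * y * c⁻¹ ≠ z * y := by
  have hcz : c * z = z * c := hK.of_cj h hcK
  obtain ⟨x, qx⟩ := h.exists_q3 hK
  obtain ⟨σ, hσ⟩ := qx.exists_act qx hcK hcz
  obtain ⟨k, hk⟩ := hc3 ⟨c, mem_zpowers c⟩
  have hk' : c ^ 3 ^ k = 1 := congrArg Subtype.val hk
  have h1 := (w_act_pow qx.z2 hcz hσ (3 ^ k)).2
  rw [hk'] at h1
  have h2 : σ ^ 3 ^ k = 1 := h1.unique qx (Act.one x z)
  have h3 : σ ^ 3 = 1 := by
    have h4 : ∀ σ : Equiv.Perm (Fin 3), σ ^ 6 = 1 := by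
      intro σ
      have h5 := w_perm_cube σ
      have h6 : σ ^ 6 = (σ ^ 3) ^ 2 := by rw [← pow_mul]
      rw [h6, pow_two]
      exact h5
    have h5 : ∀ n, σ ^ 3 ^ (n + 1) = σ ^ 3 := by
      intro n
      induction n with
      | zero => simp
      | succ n ih =>
        rw [pow_succ, pow_mul, ih, ← pow_mul, show 3 * 3 = 6 + 3 by norm_num, pow_add, h4, one_mul]
    rcases k with _ | k
    · rw [pow_zero, pow_one] at h2
      rw [h2, one_pow]
    · rw [← h5 k]; exact h2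
  have h4 : σ = 1 ∨ ∀ i, σ i ≠ i := by
    have h5 : ∀ σ : Equiv.Perm (Fin 3), σ * σ * σ = 1 → σ = 1 ∨ ∀ i, σ i ≠ i := by decide
    exact h5 σ (by rw [← h3]; simp only [pow_succ, pow_zero, one_mul])
  rcases h4 with h4 | h4
  · -- inner: `c² ∈ C(K)`
    exfalso
    subst h4
    have h5 := hσ.inner qx hcz
    have h6 : ∀ n : ℕ, ∀ k ∈ K, c ^ (2 * n) * k = k * c ^ (2 * n) := by
      have h7 : ∀ k ∈ K, c ^ 2 * k = k * c ^ 2 := by
        intro k hk
        have h8 : c * (c * k * c⁻¹) * c⁻¹ = k := by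
          rcases qx.inner_cases h5 with h9 | ⟨j, h9⟩
          · rw [h9 k hk, h9 k hk]
          · have hk' : x j * k * (x j)⁻¹ ∈ K := mul_mem (mul_mem (qx.mem j) hk) (inv_mem (qx.mem j))
            rw [h9 k hk, h9 _ hk']
            calc x j * (x j * k * (x j)⁻¹) * (x j)⁻¹ = (x j * x j) * k * (x j * x j)⁻¹ := by group
              _ = k := by rw [qx.sq, ← hK.comm_z h hk, mul_inv_cancel_right]
        rw [← mul_inv_eq_iff_eq_mul]
        calc c ^ 2 * k * (c ^ 2)⁻¹ = c * (c * k * c⁻¹) * c⁻¹ := by rw [pow_two]; group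
          _ = k := h8
      intro n k hk
      rw [pow_mul]
      exact (show Commute (c ^ 2) k from h7 k hk).pow_left n
    -- `c = c^{odd}`
    obtain ⟨m, hm⟩ : Odd (3 ^ k) := Odd.pow (by decide)
    have h7 : c ^ (2 * m) * c = 1 := by rw [← pow_succ, ← hm, hk']
    have h8 := h6 m q hq
    apply hcq
    have h9 : c = (c ^ (2 * m))⁻¹ := by rw [eq_inv_iff_mul_eq_one, ← pow_succ', ← hm, hk']
    rw [h9, inv_mul_eq_iff_eq_mul, ← mul_assoc, h8, mul_inv_cancel_right]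
  · obtain ⟨i, hi⟩ := qx.of_sq hy hyy
    have key : ∀ w, (w = x i ∨ w = z * x i) → c * y * c⁻¹ = w → False := by
      intro w hw hcy
      have e : c * (z * x i) * c⁻¹ = z * (c * x i * c⁻¹) := by
        calc c * (z * x i) * c⁻¹ = (c * z) * x i * c⁻¹ := by group
          _ = (z * c) * x i * c⁻¹ := by rw [hcz]
          _ = _ := by group
      have h5 : c * y * c⁻¹ = x (σ i) ∨ c * y * c⁻¹ = z * x (σ i) := by
        rcases hi with rfl | rfl
        · exact hσ i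
        · rw [e]
          rcases hσ i with h6 | h6
          · right; rw [h6]
          · left; rw [h6, qx.zzx]
      rw [hcy] at h5
      apply h4 i
      rcases hw with rfl | rfl <;> rcases h5 with h5 | h5
      · exact (qx.inj (Or.inl h5)).symm
      · exact (qx.inj (Or.inr h5)).symm
      · exact qx.inj (Or.inr h5.symm)
      · exact (qx.inj (Or.inl (mul_left_cancel h5))).symm
    constructor
    · intro h5; exact key y hi h5
    · intro h5
      refine key (z * y) ?_ h5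
      rcases hi with rfl | rfl
      · exact Or.inr rfl
      · left; exact qx.zzx _

theorem C3E.of_c3 {K : Subgroup G} (h : W2 (cls K)) (h3 : Nil.C3 K) : C3E (cls K) := by
  obtain ⟨Q, hQ, hQ8, c, hcK, hcQ, hc3, q, hq, hcq⟩ := h3
  have hQK : Q = K := eq_of_le_of_card_ge hQ.1 (by rw [hQ8, h.card K (self_mem_cls K)])
  subst hQK
  intro z L hL y hy hyy
  obtain ⟨g, hg⟩ := hL.1
  have hL0 : Mem (cls Q) (g⁻¹ * z * g) Q := by
    have h1 := hL.cj h g⁻¹
    rw [hg, cj_inv_cj, inv_inv] at h1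
    exact h1
  have h2 := h.axes hL0 (mem_normalizer_iff_cj.1 hcK) hc3 hq hcq (y := g⁻¹ * y * g)
    (by rw [hg, mem_cj] at hy; exact hy) (by rw [← hyy]; group)
  have hcc : cj (g * c * g⁻¹) L = L := by
    rw [hg, cj_mul, cj_mul, cj_inv_cj, mem_normalizer_iff_cj.1 hcK]
  refine ⟨g * c * g⁻¹, hL.of_cj h hcc, hcc, ?_, ?_⟩
  · intro h3
    apply h2.1
    have h4 : c * (g⁻¹ * y * g) * c⁻¹ = g⁻¹ * (g * c * g⁻¹ * y * (g * c * g⁻¹)⁻¹) * g := by group
    rw [h4, h3]
  · intro h3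
    apply h2.2
    have h4 : c * (g⁻¹ * y * g) * c⁻¹ = g⁻¹ * (g * c * g⁻¹ * y * (g * c * g⁻¹)⁻¹) * g := by group
    rw [h4, h3]
    group

/-! ### a classical involution of type SL(2,3) -/

theorem ClSL.cl (h : ClSL G) : AssemblyNil.Cl G := by
  obtain ⟨z, J, h1, h2, h3, h4, h5, ⟨e⟩⟩ := h
  refine ⟨z, J, h1, h2, h3, h4, Or.inl ⟨ZMod 3, inferInstance, inferInstance, ?_, ⟨?_⟩⟩⟩
  · rw [ZMod.card]; decide
  · exact ((QuotientGroup.quotientMulEquivOfEq h5).trans QuotientGroup.quotientBot).trans e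

/-! ### `F*(G)` -/

/-- `Z ⊆ X` -/
theorem W2.mem_of_fsimp (h : W2 Om) (f : ROne.FSimp X) (h2 : 2 ∣ Nat.card X) (hz : InZ Om z) : z ∈ X := by
  haveI := f.nor
  haveI := f.sim
  have hO : OO X = ⊥ := by
    have h3 : (OO X).Normal := by
      refine ⟨fun n hn g => ?_⟩
      have h4 : cj g X = X := mem_normalizer_iff_cj.1 (by rw [normalizer_eq_top_iff.2 f.nor]; exact mem_top g)
      have h5 : cj g (OO X) = OO X := by rw [← OO_cj, h4]
      rw [← h5]
      exact conj_mem_cj hn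
    by_contra hne
    have h4 := f.le (N := OO X) (fun g _ n hn => h3.conj_mem n hn g) hne
    exact odd_OO X (h2.trans (card_dvd_of_le h4))
  by_contra hn
  obtain ⟨K, hK, rfl⟩ := hz
  have h4 := h.hyp.lemma_two (K := K) (M := X) (fun L hL => h.isPGroup hL) hK
    (by rw [normalizer_eq_top_iff.2 f.nor]; exact le_top) hO hn
  apply h.hyp.zz_ne hK
  have h5 : zz K ∈ centralizer (X : Set G) := by
    rw [mem_centralizer_iff]
    exact fun g hg => mem_centralizer_singleton_iff.1 (h4 hg)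
  rwa [f.cen, mem_bot] at h5

/-- `K ≤ X` or `K ∩ X = ⟨z⟩` -/
theorem W2.inf_cases (h : W2 Om) (c3 : C3E Om) (hn : X.Normal) (hK : Mem Om z K) :
    K ≤ X ∨ ∀ y ∈ K, y ∈ X → y = 1 ∨ y = z := by
  by_contra hcon
  push Not at hcon
  obtain ⟨h1, y, hy, hyX, hy1, hyz⟩ := hcon
  obtain ⟨x, qx⟩ := h.exists_q3 hK
  have hcase : ∃ i, y = x i ∨ y = z * x i := by
    rcases qx.cov y hy with h2 | h2 | h2
    · exact absurd h2 hy1
    · exact absurd h2 hyz
    · exact h2
  obtain ⟨i, hi⟩ := hcase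
  have hyy : y * y = z := by
    rcases hi with rfl | rfl
    · exact qx.sq i
    · rw [mul_assoc, ← mul_assoc (x i), ← qx.zc, mul_assoc, qx.sq, ← mul_assoc, qx.z2, one_mul]
  obtain ⟨g, hgz, hgK, hg1, hg2⟩ := c3 z K hK y hy hyy
  obtain ⟨σ, hσ⟩ := qx.exists_act qx hgK hgz
  have hiX : z * x i ∈ X ∨ x i ∈ X := by
    rcases hi with rfl | rfl
    · exact Or.inr hyX
    · exact Or.inl hyX
  have hzX : z ∈ X := by rw [← hyy]; exact mul_mem hyX hyX
  have hxi : x i ∈ X := by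
    rcases hiX with h3 | h3
    · have h4 := mul_mem hzX h3
      rwa [qx.zzx] at h4
    · exact h3
  have hxs : x (σ i) ∈ X := by
    have h3 := hn.conj_mem _ hxi g
    rcases hσ i with h4 | h4
    · rwa [h4] at h3
    · rw [h4] at h3
      have h5 := mul_mem hzX h3
      rwa [qx.zzx] at h5
  have hne : i ≠ σ i := by
    intro e
    have e3 : g * (z * x i) * g⁻¹ = z * (g * x i * g⁻¹) := by
      calc g * (z * x i) * g⁻¹ = (g * z) * x i * g⁻¹ := by group
        _ = (z * g) * x i * g⁻¹ := by rw [hgz]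
        _ = _ := by group
    have h3 := hσ i
    rw [← e] at h3
    rcases hi with rfl | rfl <;> rcases h3 with h3 | h3
    · exact hg1 h3
    · exact hg2 h3
    · apply hg1; rw [e3, h3]
    · apply hg2; rw [e3, h3]
  exact h1 (qx.le_of_mem hne hxi hxs)

end

end Cfsg.Agent.Cit.Nil.RTwo
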