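import Cfsg.Agent.Cit.Nil.RTwo.ThmOne
import Cfsg.Agent.Transfer.SL23Section

/-!
# (3.2): a translation of weight one centralising `X_z` gives `SL(2,3)` subnormal in `C(z)`

* `SLSub z` : a subnormal subgroup of `C(z)` containing `z`, isomorphic to `SL(2,3)`;
* `sl_end` (3.2), `sl_end_of_DC`.
-/

set_option autoImplicit false
set_option linter.style.haveILetI false
set_option linter.unusedSectionVars false
set_option maxHeartbeats 400000

namespace Cfsg.Agent.Cit.Nil.RTwo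

open Subgroup Cfsg Cit

variable {G : Type*} [Group G]

/-- the exit: `SL(2,3)` subnormal in `C(z)` -/
def SLSub (z : G) : Prop :=
  ∃ J : Subgroup G, J ≤ centralizer {z} ∧ z ∈ J ∧ (J.subgroupOf (centralizer {z})).IsSubnormal ∧
    Nonempty (J ≃* Matrix.SpecialLinearGroup (Fin 2) (ZMod 3))

theorem subnStep {J M C : Subgroup G} (hJM : J ≤ M) (hM : (M.subgroupOf C).IsSubnormal)
    (hn : ∀ m ∈ M, ∀ j ∈ J, m * j * m⁻¹ ∈ J) : (J.subgroupOf C).IsSubnormal := by
  refine Subgroup.IsSubnormal.step _ (M.subgroupOf C) (fun x hx => hJM hx) hM ⟨?_⟩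
  rintro ⟨⟨j, hjC⟩, hjM⟩ hj ⟨⟨m, hmC⟩, hmM⟩
  exact hn m hmM j hj

/-- a 3-element commutes with `k` if its square does -/
theorem comm_of_sq {d k : G} (hd : ∃ n : ℕ, d ^ 3 ^ n = 1) (h : d * d * k = k * (d * d)) : d * k = k * d := by
  obtain ⟨n, hn⟩ := hd
  have hodd : Odd (3 ^ n) := Odd.pow (by decide)
  obtain ⟨m, hm⟩ := hodd
  have h1 : (d * d) ^ (m + 1) = d := by
    rw [← pow_two, ← pow_mul]
    have e : 2 * (m + 1) = 3 ^ n + 1 := by omega
    rw [e, pow_succ, hn, one_mul]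
  have h2 : Commute (d * d) k := h
  have h3 := h2.pow_left (m + 1)
  rw [h1] at h3
  exact h3.eq

/-- a 3-element acting as an inner automorphism centralises -/
theorem comm_of_inn {d k z : G} (hz : z * z = 1) (hd : ∃ n : ℕ, d ^ 3 ^ n = 1) (hdz : d * z = z * d)
    (h : d * k * d⁻¹ = k ∨ d * k * d⁻¹ = z * k) : d * k = k * d := by
  apply comm_of_sq hd
  have h1 : d * (d * k * d⁻¹) * d⁻¹ = k := by
    rcases h with h | h
    · rw [h, h]
    · rw [h]
      calc d * (z * k) * d⁻¹ = (d * z) * k * d⁻¹ := by group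
        _ = z * (d * k * d⁻¹) := by rw [hdz]; group
        _ = k := by rw [h, ← mul_assoc, hz, one_mul]
  calc d * d * k = (d * (d * k * d⁻¹) * d⁻¹) * (d * d) := by group
    _ = _ := by rw [h1]

section

variable [Finite G] {Om : Set (Subgroup G)} {K K1 K2 L L1 L2 : Subgroup G} {z t g g' x y w c c' u d : G}
  {a b : Fin 3 → G} {v v' : Fin 3 × Fin 3}

theorem idx_key : ∀ i : Fin 3, -(0 : Fin 3) - i = i + i := by decide

theorem mul_idx (Q : Q3 K z a) {i j : Fin 3} (hij : i ≠ j) :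
    a i * a j = a (-i - j) ∨ a i * a j = z * a (-i - j) := by
  rcases i_cases hij with rfl | rfl
  · left
    have e : -i - (i + 1) = i + 2 := by revert i; decide
    rw [Q.mul, e]
  · right
    have e : -i - (i + 2) = i + 1 := by revert i; decide
    rw [Q.mul2', e]

/-- the isomorphism type of `K1⟨d⟩` -/
theorem sl_iso (Q : Q3 K z a) {i : Fin 3} (hi : i ≠ 0) (hdz : d * z = z * d)
    (hd : Act z a a d (Equiv.addRight i)) (hd3 : d ^ 3 = 1) :
    Nonempty ((K ⊔ zpowers d : Subgroup G) ≃* Matrix.SpecialLinearGroup (Fin 2) (ZMod 3)) := by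
  have hz2 := Q.z2
  have hzz := Q.zzx
  have hzd : ∀ u : G, d * (z * u) * d⁻¹ = z * (d * u * d⁻¹) := by
    intro u
    calc d * (z * u) * d⁻¹ = (d * z) * u * d⁻¹ := by group
      _ = (z * d) * u * d⁻¹ := by rw [hdz]
      _ = _ := by group
  have hzc : ∀ k ∈ K, z * k = k * z := fun k hk => Q.zcomm hk
  have hzcube : d * (d * (d * a 0 * d⁻¹) * d⁻¹) * d⁻¹ = a 0 := by
    have : d * (d * (d * a 0 * d⁻¹) * d⁻¹) * d⁻¹ = d ^ 3 * a 0 * (d ^ 3)⁻¹ := by
      simp only [pow_succ, pow_zero, one_mul]; group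
    rw [this, hd3]; group
  -- the three elements
  have hKd : ∀ k ∈ K, d * k * d⁻¹ ∈ K := by
    intro k hk
    rcases Q.cov k hk with rfl | rfl | ⟨j, rfl | rfl⟩
    · rw [mul_one, mul_inv_cancel]; exact one_mem K
    · rw [hdz, mul_inv_cancel_right]; exact Q.zmem
    · rcases hd j with h1 | h1 <;> rw [h1]
      · exact Q.mem _
      · exact K.mul_mem Q.zmem (Q.mem _)
    · rw [hzd]
      rcases hd j with h1 | h1 <;> rw [h1]
      · exact K.mul_mem Q.zmem (Q.mem _)
      · exact K.mul_mem Q.zmem (K.mul_mem Q.zmem (Q.mem _))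
  have hsq : ∀ k, k * k = z → (d * k * d⁻¹) * (d * k * d⁻¹) = z := by
    intro k hk
    calc (d * k * d⁻¹) * (d * k * d⁻¹) = d * (k * k) * d⁻¹ := by group
      _ = z := by rw [hk, hdz, mul_inv_cancel_right]
  obtain ⟨j', hj'⟩ : ∃ j', j' = d * a 0 * d⁻¹ := ⟨_, rfl⟩
  obtain ⟨k', hk'⟩ : ∃ k', k' = d * j' * d⁻¹ := ⟨_, rfl⟩
  have hj'K : j' ∈ K := by rw [hj']; exact hKd _ (Q.mem 0)
  have hk'K : k' ∈ K := by rw [hk']; exact hKd _ hj'K
  have hj'2 : j' * j' = z := by rw [hj']; exact hsq _ (Q.sq 0)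
  have hk'2 : k' * k' = z := by rw [hk']; exact hsq _ hj'2
  have hk'i : d * k' * d⁻¹ = a 0 := by rw [hk', hj']; exact hzcube
  have hj'i : j' = a i ∨ j' = z * a i := by
    have := hd 0
    rw [← hj'] at this
    simpa using this
  have hk'i2 : k' = a (i + i) ∨ k' = z * a (i + i) := by
    have h1 := hd i
    have e : (Equiv.addRight i) i = i + i := rfl
    rw [e] at h1
    rw [hk']
    rcases hj'i with h2 | h2
    · rw [h2]; exact h1
    · rw [h2, hzd]
      rcases h1 with h1 | h1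
      · right; rw [h1]
      · left; rw [h1, hzz]
  -- `a 0 * j' = k'` or `z k'`
  have hprod : a 0 * j' = k' ∨ a 0 * j' = z * k' := by
    have h1 := mul_idx Q (Ne.symm hi)
    have e : -(0 : Fin 3) - i = i + i := idx_key i
    rw [e] at h1
    have h2 : a 0 * j' = a 0 * a i ∨ a 0 * j' = z * (a 0 * a i) := by
      rcases hj'i with h2 | h2
      · left; rw [h2]
      · right; rw [h2, ← mul_assoc, ← Q.zc, mul_assoc]
    have h3 : a 0 * j' = a (i + i) ∨ a 0 * j' = z * a (i + i) := by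
      rcases h1 with h1 | h1 <;> rcases h2 with h2 | h2 <;> rw [h2, h1]
      · left; rfl
      · right; rfl
      · right; rfl
      · left; rw [hzz]
    rcases h3 with h3 | h3 <;> rcases hk'i2 with h4 | h4 <;> rw [h3, h4]
    · left; rfl
    · right; rw [hzz]
    · right; rfl
    · left; rfl
  have hne : a 0 * j' ≠ j' * a 0 := by
    intro e
    have h1 := Q.anti (Ne.symm hi)
    rcases hj'i with h2 | h2
    · rw [h2] at e
      rw [e, mul_assoc] at h1
      exact Q.z1 (mul_eq_right.1 h1.symm)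
    · rw [h2, ← mul_assoc, ← Q.zc, mul_assoc, mul_assoc] at e
      rw [mul_left_cancel e, mul_assoc] at h1
      exact Q.z1 (mul_eq_right.1 h1.symm)
  -- relations
  obtain ⟨i1, j1, hi1, hj1, hi12, hj12, hgen, hrel⟩ : ∃ i1 j1, i1 ∈ K ∧ j1 ∈ K ∧ i1 * i1 = z ∧ j1 * j1 = z ∧
      K ≤ closure {i1, j1, d} ∧ Transfer.SL23Recog.SLRel i1 j1 d := by
    have main : ∀ i1 j1 : G, i1 ∈ K → j1 ∈ K → i1 * i1 = z → j1 * j1 = z → i1 * j1 ≠ j1 * i1 →
        d * i1 * d⁻¹ = j1 → d * j1 * d⁻¹ = i1 * j1 → i1 ∈ K ∧ j1 ∈ K ∧ i1 * i1 = z ∧ j1 * j1 = z ∧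
        K ≤ closure {i1, j1, d} ∧ Transfer.SL23Recog.SLRel i1 j1 d := by
      intro i1 j1 h1 h2 h3 h4 h5 h6 h7
      have Q' := Q.of_pair h1 h2 h3 h4 h5
      refine ⟨h1, h2, h3, h4, ?_, ?_⟩
      · refine Q'.le_of_mem (i := 0) (j := 1) (by decide) ?_ ?_
        · exact subset_closure (by simp)
        · exact subset_closure (by simp)
      · refine { hi := ?_, hj := ?_, hji := ?_, hti := h6, htj := h7 }
        · rw [show (4 : ℕ) = 2 * 2 from rfl, pow_mul, pow_two i1, h3, pow_two, hz2]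
        · rw [pow_two, pow_two, h3, h4]
        · have e := Q'.conj_ne (i := 1) (j := 0) (by decide)
          have e1 : (![i1, j1, i1 * j1] : Fin 3 → G) 0 = i1 := rfl
          have e2 : (![i1, j1, i1 * j1] : Fin 3 → G) 1 = j1 := rfl
          rw [e1, e2] at e
          rw [e]
          have e3 := Q'.inv 0
          rw [e1] at e3
          exact e3.symm
    rcases hprod with h1 | h1
    · exact ⟨a 0, j', main _ _ (Q.mem 0) hj'K (Q.sq 0) hj'2 hne hj'.symm (by rw [← hk', h1])⟩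
    · refine ⟨z * a 0, z * j', main _ _ (K.mul_mem Q.zmem (Q.mem 0)) (K.mul_mem Q.zmem hj'K) ?_ ?_ ?_ ?_ ?_⟩
      · rw [mul_assoc, ← mul_assoc (a 0), ← Q.zc, mul_assoc, hzz, Q.sq]
      · rw [mul_assoc, ← mul_assoc j', ← hzc j' hj'K, mul_assoc, hzz, hj'2]
      · intro e
        apply hne
        rw [mul_assoc, ← mul_assoc (a 0), ← Q.zc, mul_assoc, hzz, mul_assoc, ← mul_assoc j', ← hzc j' hj'K, mul_assoc,
          hzz] at e
        exact e
      · rw [hzd, ← hj']
      · rw [hzd, ← hk', mul_assoc, ← mul_assoc (a 0), ← Q.zc, mul_assoc, hzz, h1]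
  have hJ : (K ⊔ zpowers d : Subgroup G) = closure {i1, j1, d} := by
    refine le_antisymm (sup_le hgen (zpowers_le.2 (subset_closure (by simp)))) ?_
    rw [closure_le]
    rintro x (rfl | rfl | rfl)
    · exact mem_sup_left hi1
    · exact mem_sup_left hj1
    · exact mem_sup_right (mem_zpowers _)
  rw [hJ]
  have hiP : i1 ∈ closure ({i1, j1, d} : Set G) := subset_closure (by simp)
  have hjP : j1 ∈ closure ({i1, j1, d} : Set G) := subset_closure (by simp)
  have hdP : d ∈ closure ({i1, j1, d} : Set G) := subset_closure (by simp)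
  have hd1 : d ≠ 1 := by
    rintro rfl
    apply hne
    rw [hj']; group
  have hcard : Nat.card (closure ({i1, j1, d} : Set G)) = 24 := by
    have h3 : Nat.card (closure ({i1, j1, d} : Set G)) ≤ 24 := (hrel.card_le hd3).2
    have h4 : 8 ∣ Nat.card (closure ({i1, j1, d} : Set G)) := by
      have h5 : Nat.card (closure ({i1, j1} : Set G)) = 8 :=
        Transfer.SL23Section.card_quaternion hrel.toQRel (by rw [pow_two, hi12]; exact Q.z1)
      rw [← h5]
      exact card_dvd_of_le (closure_mono (by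
        rintro x (rfl | rfl)
        · simp
        · simp))
    have h5 : 3 ∣ Nat.card (closure ({i1, j1, d} : Set G)) := by
      have h6 : orderOf (⟨d, hdP⟩ : closure ({i1, j1, d} : Set G)) = 3 := by
        rw [Subgroup.orderOf_mk]
        exact orderOf_eq_prime hd3 hd1
      rw [← h6]
      exact orderOf_dvd_natCard _
    have h7 : 24 ∣ Nat.card (closure ({i1, j1, d} : Set G)) := by
      rw [show (24 : ℕ) = 8 * 3 from rfl]
      exact Nat.Coprime.mul_dvd_of_dvd_of_dvd (by norm_num) h4 h5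
    exact le_antisymm h3 (Nat.le_of_dvd Nat.card_pos h7)
  refine Transfer.SL23Recog.sl23_of_relations
    (Transfer.SL23Section.slrel_subtype (closure ({i1, j1, d} : Set G)) hiP hjP hdP hrel)
    (Subtype.ext hd3) ?_ hcard
  have h3 := Subgroup.closure_closure_coe_preimage (k := ({i1, j1, d} : Set G))
  rw [← h3]
  congr 1
  ext ⟨x, hx⟩
  simp [Subtype.ext_iff]

/-! ### (3.2) -/

/-- `C(⟨K2, X_z⟩) ∩ C(z)` -/
def YY (Om : Set (Subgroup G)) (z : G) (K2 : Subgroup G) : Subgroup G :=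
  centralizer {z} ⊓ (centralizer (K2 : Set G) ⊓ centralizer (CX Om z : Set G))

theorem mem_YY : y ∈ YY Om z K2 ↔ y * z = z * y ∧ (∀ k ∈ K2, y * k = k * y) ∧ ∀ x ∈ CX Om z, y * x = x * y := by
  rw [YY, mem_inf, mem_inf, mem_centralizer_singleton_iff, mem_centralizer_iff, mem_centralizer_iff]
  constructor
  · rintro ⟨h1, h2, h3⟩
    exact ⟨h1, fun k hk => (h2 k hk).symm, fun x hx => (h3 x hx).symm⟩
  · rintro ⟨h1, h2, h3⟩
    exact ⟨h1, fun k hk => (h2 k hk).symm, fun x hx => (h3 x hx).symm⟩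

/-- the elements of `YY` acting as translations on `K1` -/
def YT (Om : Set (Subgroup G)) (z : G) (K2 : Subgroup G) (a : Fin 3 → G) (hz : z * z = 1) : Subgroup G where
  carrier := {y | y ∈ YY Om z K2 ∧ ∃ i : Fin 3, Act z a a y (Equiv.addRight i)}
  mul_mem' := by
    rintro x y ⟨hx, i, hi⟩ ⟨hy, j, hj⟩
    refine ⟨mul_mem hx hy, j + i, ?_⟩
    have h1 := hj.comp hz hi (mem_YY.1 hx).1
    have e : Equiv.addRight i * Equiv.addRight j = Equiv.addRight (j + i) := by
      ext k; show ((k + j + i : Fin 3) : ℕ) = ((k + (j + i) : Fin 3) : ℕ); rw [add_assoc]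
    rwa [e] at h1
  one_mem' := ⟨one_mem _, 0, fun i => Or.inl (by simp)⟩
  inv_mem' := by
    rintro x ⟨hx, i, hi⟩
    exact ⟨inv_mem hx, -i, hi.inv hz (mem_YY.1 hx).1⟩

theorem tra_key : ∀ i j : Fin 3, i ≠ 0 → ∃ n : Fin 3, (n : ℕ) • i = j := by decide

/-- **(3.2)** -/
theorem sl_end (h : W2 Om) (hF : CF Om) (F : Frame Om z K1 K2 a b) (hd : Tra z a b d v) (hv1 : v.1 ≠ 0)
    (hv2 : v.2 = 0) (h3 : ∃ n : ℕ, d ^ 3 ^ n = 1) (hX : ∀ x ∈ CX Om z, d * x = x * d) : SLSub z := by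
  have hz := F.k1.inZ
  have hz2 := hz.z2 h
  have hdz := hd.comm
  -- `d` centralises `K2`
  have hdK2 : ∀ k ∈ K2, d * k = k * d := by
    intro k hk
    refine comm_of_inn hz2 h3 hdz (Act.inner F.qb ?_ hdz k hk)
    have h1 := hd.b
    rw [hv2] at h1
    have e : Equiv.addRight (0 : Fin 3) = 1 := by ext i; simp
    rwa [e] at h1
  -- `d ^ 3 = 1`
  have hd3 : d ^ 3 = 1 := by
    have h4 := hd.pow hz2 3
    rw [three_smul_dir] at h4
    have h5 : ∃ n : ℕ, (d ^ 3) ^ 3 ^ n = 1 := by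
      obtain ⟨n, hn⟩ := h3
      exact ⟨n, by rw [← pow_mul, mul_comm, pow_mul, hn, one_pow]⟩
    have e : Equiv.addRight (0 : Fin 3) = 1 := by ext i; simp
    have h6 : ∀ k ∈ K1, d ^ 3 * k = k * d ^ 3 := by
      intro k hk
      refine comm_of_inn hz2 h5 h4.comm (Act.inner F.qa ?_ h4.comm k hk)
      have h7 := h4.a
      rwa [show (0 : Fin 3 × Fin 3).1 = 0 from rfl, e] at h7
    have h7 : d ^ 3 ∈ CX Om z := by
      rw [mem_CX]
      intro M hM k hk
      rcases F.k1.cases F.k2 h F.ne hM with rfl | rfl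
      · exact h6 k hk
      · have : Commute d k := hdK2 k hk
        exact (this.pow_left 3).eq
    have h8 : ∀ x ∈ CX Om z, d ^ 3 * x = x * d ^ 3 := by
      intro x hx
      have : Commute d x := hX x hx
      exact (this.pow_left 3).eq
    have h9 : zpowers (d ^ 3) = ⊥ := by
      refine CX_odd h hF hz (zpowers_le.2 h7) ?_ ?_
      · intro x hx
        rw [mem_normalizer_iff_cj]
        ext y
        rw [mem_cj]
        have hc : ∀ y ∈ zpowers (d ^ 3), x⁻¹ * y * x = y := by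
          rintro _ ⟨n, rfl⟩
          have h1 : Commute (d ^ 3) x := h8 x hx
          have h2 : (d ^ 3) ^ n * x = x * (d ^ 3) ^ n := (h1.zpow_left n).eq
          show x⁻¹ * (d ^ 3) ^ n * x = (d ^ 3) ^ n
          rw [mul_assoc, h2, inv_mul_cancel_left]
        have hc' : ∀ y ∈ zpowers (d ^ 3), x * y * x⁻¹ = y := by
          rintro _ ⟨n, rfl⟩
          have h1 : Commute (d ^ 3) x := h8 x hx
          have h2 : (d ^ 3) ^ n * x = x * (d ^ 3) ^ n := (h1.zpow_left n).eq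
          show x * (d ^ 3) ^ n * x⁻¹ = (d ^ 3) ^ n
          rw [← h2, mul_inv_cancel_right]
        constructor
        · intro hy
          have h1 := hc' _ hy
          have e : x * (x⁻¹ * y * x) * x⁻¹ = y := by group
          rw [e] at h1
          rw [h1]; exact hy
        · intro hy
          rw [hc y hy]; exact hy
      · rw [Nat.card_zpowers]
        obtain ⟨n, hn⟩ := h5
        intro h2
        have h10 := orderOf_dvd_of_pow_eq_one hn
        have h11 : 2 ∣ 3 ^ n := h2.trans h10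
        have h12 := Nat.prime_two.dvd_of_dvd_pow h11
        omega
    rwa [zpowers_eq_bot] at h9
  obtain ⟨J, hJ⟩ : ∃ J : Subgroup G, J = K1 ⊔ zpowers d := ⟨_, rfl⟩
  have hKJ : K1 ≤ J := by rw [hJ]; exact le_sup_left
  have hdJ : d ∈ J := by rw [hJ]; exact mem_sup_right (mem_zpowers d)
  have hK1z : ∀ k ∈ K1, k * z = z * k := fun k hk => F.k1.comm_z h hk
  have hiso : Nonempty (J ≃* Matrix.SpecialLinearGroup (Fin 2) (ZMod 3)) := by
    rw [hJ]; exact sl_iso F.qa hv1 hdz hd.a hd3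
  -- the chain
  obtain ⟨N, hN⟩ : ∃ N : Subgroup G, N = centralizer {z} ⊓ normalizer (K2 : Set G) := ⟨_, rfl⟩
  have hNC : N ≤ centralizer {z} := by rw [hN]; exact inf_le_left
  have hYN : YY Om z K2 ≤ N := by
    intro y hy
    obtain ⟨h1, h2, -⟩ := mem_YY.1 hy
    rw [hN]
    refine mem_inf.2 ⟨mem_centralizer_singleton_iff.2 h1, ?_⟩
    rw [mem_normalizer_iff_cj]
    ext k
    rw [mem_cj]
    constructor
    · intro hk
      have h3 := h2 _ hk
      have e : y * (y⁻¹ * k * y) = k * y := by group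
      rw [e] at h3
      have h4 : k = y⁻¹ * k * y := mul_right_cancel h3
      rw [h4]; exact hk
    · intro hk
      have h3 := h2 _ hk
      rw [mul_assoc, ← h3, inv_mul_cancel_left]; exact hk
  have hMY : YT Om z K2 a hz2 ≤ YY Om z K2 := fun y hy => hy.1
  have hJM : J ≤ YT Om z K2 a hz2 := by
    rw [hJ]
    refine sup_le ?_ (zpowers_le.2 ?_)
    · intro k hk
      refine ⟨mem_YY.2 ⟨hK1z k hk, fun l hl => F.k1.comm F.k2 h F.ne hk hl, fun x hx =>
        (mem_CX.1 hx _ F.k1 k hk).symm⟩, 0, ?_⟩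
      have e : Equiv.addRight (0 : Fin 3) = 1 := by ext i; simp
      rw [e]
      exact Act.of_inner F.qa (Inn.of_mem F.k1 h hk K1 F.k1)
    · exact ⟨mem_YY.2 ⟨hdz, hdK2, hX⟩, v.1, hd.a⟩
  have hJz : J ≤ centralizer {z} := hJM.trans (hMY.trans (hYN.trans hNC))
  -- `N` is normal in `C(z)`
  have sN : (N.subgroupOf (centralizer {z})).IsSubnormal := by
    refine subnStep (M := centralizer {z}) hNC ?_ ?_
    · rw [subgroupOf_self]; exact Subgroup.IsSubnormal.top
    · intro m hm n hn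
      rw [hN] at hn ⊢
      have hmz := mem_centralizer_singleton_iff.1 hm
      have hnz := mem_centralizer_singleton_iff.1 hn.1
      have hfn : Fx Om z n := by
        intro M hM
        rcases F.k1.cases F.k2 h F.ne hM with rfl | rfl
        · rcases F.k1.cases F.k2 h F.ne (F.k1.cj_comm h hnz) with h1 | h1
          · exact h1
          · exact absurd (cj_inj.1 (h1.trans (mem_normalizer_iff_cj.1 hn.2).symm)) F.ne
        · exact mem_normalizer_iff_cj.1 hn.2
      refine mem_inf.2 ⟨(centralizer {z}).mul_mem ((centralizer {z}).mul_mem hm hn.1) ((centralizer {z}).inv_mem hm), ?_⟩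
      rw [mem_normalizer_iff_cj, cj_mul, cj_mul]
      have h1 : m⁻¹ * z = z * m⁻¹ := by
        rw [inv_mul_eq_iff_eq_mul, ← mul_assoc, hmz, mul_inv_cancel_right]
      rw [hfn _ (F.k2.cj_comm h h1), cj_cj_inv]
  have sY : ((YY Om z K2).subgroupOf (centralizer {z})).IsSubnormal := by
    refine subnStep hYN sN ?_
    intro n hn y hy
    rw [hN] at hn
    have hnz := mem_centralizer_singleton_iff.1 hn.1
    have hnz' : n⁻¹ * z = z * n⁻¹ := by
      rw [inv_mul_eq_iff_eq_mul, ← mul_assoc, hnz, mul_inv_cancel_right]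
    obtain ⟨h1, h2, h3⟩ := mem_YY.1 hy
    refine mem_YY.2 ⟨?_, ?_, ?_⟩
    · rw [mul_assoc, hnz', ← mul_assoc, mul_assoc n, h1, ← mul_assoc, hnz]; group
    · intro k hk
      have h4 : n⁻¹ * k * n ∈ K2 := by
        rw [← mem_cj, mem_normalizer_iff_cj.1 hn.2]; exact hk
      have h5 := h2 _ h4
      calc n * y * n⁻¹ * k = n * (y * (n⁻¹ * k * n)) * n⁻¹ := by group
        _ = n * ((n⁻¹ * k * n) * y) * n⁻¹ := by rw [h5]
        _ = _ := by group
    · intro x hx
      have h4 := CX_conj_comm h hnz' hx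
      rw [inv_inv] at h4
      have h5 := h3 _ h4
      calc n * y * n⁻¹ * x = n * (y * (n⁻¹ * x * n)) * n⁻¹ := by group
        _ = n * ((n⁻¹ * x * n) * y) * n⁻¹ := by rw [h5]
        _ = _ := by group
  have sM : ((YT Om z K2 a hz2).subgroupOf (centralizer {z})).IsSubnormal := by
    refine subnStep hMY sY ?_
    rintro y hy m ⟨hm, i, hi⟩
    refine ⟨mul_mem (mul_mem hy hm) (inv_mem hy), ?_⟩
    obtain ⟨h1, h2, h3'⟩ := mem_YY.1 hy
    have hyK1 : cj y K1 = K1 := by
      have h4 : cj y K2 = K2 := by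
        have := hYN hy
        rw [hN] at this
        exact mem_normalizer_iff_cj.1 this.2
      rcases F.k1.cases F.k2 h F.ne (F.k1.cj_comm h h1) with h5 | h5
      · exact h5
      · exact absurd (cj_inj.1 (h5.trans h4.symm)) F.ne
    obtain ⟨σ, hσ⟩ := F.qa.exists_act F.qa hyK1 h1
    have h4 := (hσ.inv hz2 h1).comp hz2 hi (mem_YY.1 hm).1
    have h5 := h4.comp hz2 hσ h1
    have key : ∀ (σ : Equiv.Perm (Fin 3)) (i : Fin 3), ∃ j, σ * (Equiv.addRight i * σ⁻¹) = Equiv.addRight j := by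
      decide
    obtain ⟨j, hj⟩ := key σ i
    refine ⟨j, ?_⟩
    rw [hj, ← mul_assoc] at h5
    exact h5
  refine ⟨J, hJz, hKJ (F.qa.zmem), subnStep hJM sM ?_, hiso⟩
  -- `J` is normalised by `YT`
  rintro m ⟨hm, i, hi⟩ j hj
  obtain ⟨m1, m2, m3⟩ := mem_YY.1 hm
  obtain ⟨n, hn⟩ := tra_key v.1 i hv1
  have hdn := (hd.pow hz2 (n : ℕ)).inv hz2
  have hT : Tra z a b m (i, 0) := by
    refine ⟨m1, hi, fun j => Or.inl ?_⟩
    rw [m2 _ (F.qb.mem j), mul_inv_cancel_right]; simp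
  have hT' := hT.mul hz2 hdn
  obtain ⟨m', hm'⟩ : ∃ m', m' = (d ^ (n : ℕ))⁻¹ * m := ⟨_, rfl⟩
  rw [← hm'] at hT'
  have hact : Act z a a m' 1 := by
    have h1 := hT'.a
    have e : ((i, (0 : Fin 3)) + -((n : ℕ) • v)).1 = 0 := by
      show i + -((n : ℕ) • v.1) = 0
      rw [hn, add_neg_cancel]
    rw [e] at h1
    have e : Equiv.addRight (0 : Fin 3) = 1 := by ext i; simp
    rwa [e] at h1
  have hm'z := hT'.comm
  have hm'Y : m' ∈ YY Om z K2 := by
    rw [hm']
    exact mul_mem (inv_mem (pow_mem (hMY (hJM hdJ)) _)) hm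
  obtain ⟨-, q2, q3⟩ := mem_YY.1 hm'Y
  -- `m' = k x`
  obtain ⟨k, hk, hkc⟩ : ∃ k ∈ K1, ∀ l ∈ K1, k⁻¹ * m' * l = l * (k⁻¹ * m') := by
    rcases F.qa.inner_cases (Act.inner F.qa hact hm'z) with h1 | ⟨j, h1⟩
    · refine ⟨1, one_mem _, fun l hl => ?_⟩
      have h2 := h1 l hl
      rw [mul_inv_eq_iff_eq_mul] at h2
      rw [inv_one, one_mul, h2]
    · refine ⟨a j, F.qa.mem j, fun l hl => ?_⟩
      have h2 := h1 l hl
      calc (a j)⁻¹ * m' * l = (a j)⁻¹ * (m' * l * m'⁻¹) * m' := by group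
        _ = (a j)⁻¹ * (a j * l * (a j)⁻¹) * m' := by rw [h2]
        _ = _ := by group
  have hx : k⁻¹ * m' ∈ CX Om z := by
    rw [mem_CX]
    intro M hM l hl
    rcases F.k1.cases F.k2 h F.ne hM with rfl | rfl
    · exact hkc l hl
    · have e1 : Commute k l := F.k1.comm F.k2 h F.ne hk hl
      have e2 : Commute m' l := q2 l hl
      exact (e1.inv_left.mul_left e2).eq
  have hxJ : ∀ l ∈ J, k⁻¹ * m' * l = l * (k⁻¹ * m') := by
    have h1 : J ≤ centralizer {k⁻¹ * m'} := by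
      rw [hJ]
      refine sup_le ?_ (zpowers_le.2 ?_)
      · intro l hl
        exact mem_centralizer_singleton_iff.2 (hkc l hl).symm
      · exact mem_centralizer_singleton_iff.2 (hX _ hx)
    intro l hl
    exact (mem_centralizer_singleton_iff.1 (h1 hl)).symm
  have hmJ : m = (d ^ (n : ℕ) * k) * (k⁻¹ * m') := by rw [hm']; group
  have hp : d ^ (n : ℕ) * k ∈ J := mul_mem (pow_mem hdJ _) (hKJ hk)
  have e : m * j * m⁻¹ = (d ^ (n : ℕ) * k) * j * (d ^ (n : ℕ) * k)⁻¹ := by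
    rw [hmJ]
    calc d ^ (n : ℕ) * k * (k⁻¹ * m') * j * (d ^ (n : ℕ) * k * (k⁻¹ * m'))⁻¹
        = d ^ (n : ℕ) * k * ((k⁻¹ * m') * j) * (k⁻¹ * m')⁻¹ * (d ^ (n : ℕ) * k)⁻¹ := by group
      _ = d ^ (n : ℕ) * k * (j * (k⁻¹ * m')) * (k⁻¹ * m')⁻¹ * (d ^ (n : ℕ) * k)⁻¹ := by rw [hxJ j hj]
      _ = _ := by group
  rw [e]
  exact mul_mem (mul_mem hp hj) (inv_mem hp)

theorem Tra.swap (ht : Tra z a b g v) : Tra z b a g v.swap := ⟨ht.comm, ht.b, ht.a⟩

/-- weight one -/
def WOne (v : Fin 3 × Fin 3) : Prop := (v.1 ≠ 0 ∧ v.2 = 0) ∨ (v.1 = 0 ∧ v.2 ≠ 0)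

/-- **(3.2)**, both coordinates -/
theorem sl_end' (h : W2 Om) (hF : CF Om) (F : Frame Om z K1 K2 a b) (hd : Tra z a b d v) (hv : WOne v)
    (h3 : ∃ n : ℕ, d ^ 3 ^ n = 1) (hX : ∀ x ∈ CX Om z, d * x = x * d) : SLSub z := by
  rcases hv with ⟨h1, h2⟩ | ⟨h1, h2⟩
  · exact sl_end h hF F hd h1 h2 h3 hX
  · exact sl_end h hF F.swap hd.swap h2 h1 h3 hX

/-- **(3.2)** for a label central in `X_z` -/
theorem sl_end_of_D0 (h : W2 Om) (hF : CF Om) (F : Frame Om z K1 K2 a b) (hc : c ∈ CC Om z)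
    (hcX : ∀ x ∈ CX Om z, x * c = c * x) (hv : v ∈ D0 Om z a b) (hw : WOne v) : SLSub z := by
  obtain ⟨p, hp⟩ := CC.exists_dir h F hc
  have hq := (D0.iff h F hp).1 hv
  obtain ⟨d, hd, h3, -, hX⟩ := DC.exists_tra h F hp hq
  rw [add_sub_cancel_left] at hd
  exact sl_end' h hF F hd hw h3 (fun x hx => hX x hx (hcX x hx))

end

end Cfsg.Agent.Cit.Nil.RTwo
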