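import Cfsg.Agent.Cit.Nil.RTwo.Inner

/-!
# `r = 2`, `m = 1`: the assembly without inner `SL(2,3)`

* `main_inner` : no `IThree`: `AW Om` or `SB Om`, with `SCe Om`.
-/

set_option autoImplicit false
set_option linter.style.haveILetI false
set_option linter.unusedSectionVars false

namespace Cfsg.Agent.Cit.Nil.RTwo

open Subgroup Cfsg Cfsg.Agent.Cit

universe u

variable {G : Type u} [Group G] [Finite G] {Om : Set (Subgroup G)} {K K1 K2 L M X : Subgroup G} {g g' t x y z s d k c : G}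
  {a b : Fin 3 → G} {v : Fin 3 × Fin 3}

/-- **the assembly, inner form** -/
theorem main_inner (i : LIn.{u}) (h : W2 Om) (hc : OneCls Om) (hr : Rot Om) (hF : CFA G) (hne : Om.Nonempty)
    (f : ROne.FSimp X) (h2 : 2 ∣ Nat.card X) (h3 : ¬ IThree Om) : (AW Om ∧ SCe Om) ∨ (SB Om ∧ SCe Om) := by
  have hcls : ∀ z t, InZ Om z → InZ Om t → ∃ g, g * z * g⁻¹ = t := fun z t hz ht => hc.conj h hz ht
  have c3 := c3e_of_rot h hr
  have cf := hF.cf h
  haveI := f.sim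
  have gold : Cit.ROne.Gold ↥X := fun S A h1 h2 h3 => i.gold _ S A h1 h2 h3
  have h1173 : OneF.H1173 G := i.h1173 G (oddCore_eq_bot f h2)
  obtain ⟨hab, hSC⟩ := closer h hc c3 hr hne f gold (i.bend _) h1173 cf h2
  by_cases hT : TO Om
  · exact (t_world_inner h hT cf hne h3 (fun z hz => h.mem_of_fsimp f h2 hz) hab).elim
  unfold TO at hT
  push Not at hT
  obtain ⟨z, t, hz, ht, hi, hne'⟩ := hT
  have hti : TI Om z t := ⟨hz, ht, hne'.symm, (hi.comm_z hz h).symm, hi⟩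
  have htiAll : ∀ y, InZ Om y → ∃ s, TI Om y s := by
    intro y hy
    obtain ⟨g, rfl⟩ := hcls z y hz hy
    exact ⟨_, hti.conj h g⟩
  -- no weight one vectors over a central label
  have hno : ∀ z K1 K2 a b c, Frame Om z K1 K2 a b → c ∈ CC Om z → (∀ x ∈ CX Om z, x * c = c * x) →
      ∀ v ∈ D0 Om z a b, ¬ WOne v := by
    intro z K1 K2 a b c F hc hcX v hv hw
    apply h3
    obtain ⟨p, hp⟩ := CC.exists_dir h F hc
    have hq := (D0.iff h F hp).1 hv
    obtain ⟨d, hd, -, -, hX⟩ := DC.exists_tra h F hp hq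
    rw [add_sub_cancel_left] at hd
    obtain ⟨s, hs⟩ := htiAll z F.k1.inZ
    exact ithree_of_wOne h cf F hd hw (fun x hx => hX x hx (hcX x hx)) hs
  by_cases hA : ∃ z, (1 : G) ∈ CC Om z
  · left
    obtain ⟨y, hy⟩ := hA
    have hA1 : ∀ t, InZ Om t → (1 : G) ∈ CC Om t := by
      intro t ht
      obtain ⟨k, rfl⟩ := hcls y t (CC.inZ hy) ht
      have h2 := (CC.cj_iff h k).2 hy
      rwa [mul_one, mul_inv_cancel] at h2
    have hA : ∀ t, InZ Om t → CC Om t = {1} := fun t ht => CC.eq_singleton h (hA1 t ht)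
    have hD : ∀ z K1 K2 a b, Frame Om z K1 K2 a b → ∃ v, v ≠ 0 ∧ v ∈ D0 Om z a b := by
      intro z K1 K2 a b F
      obtain ⟨g, v, ht, hv⟩ := exists_tra h hr F
      refine ⟨v, fun e => hv (by rw [e]; rfl), ?_⟩
      obtain ⟨p, hp⟩ := CC.exists_dir h F (hA1 z F.k1.inZ)
      have h2 := ht.dc h F hp
      rw [mul_one, mul_inv_cancel] at h2
      exact (D0.iff h F hp).2 h2
    exact ⟨AW.of h hcls hA hD (fun z K1 K2 a b F => hno z K1 K2 a b 1 F (hA1 z F.k1.inZ)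
      (fun x _ => by rw [mul_one, one_mul])), hSC⟩
  right
  have hn : NoOne Om := by
    intro y c hc e
    exact hA ⟨y, e ▸ hc⟩
  rcases dichotomy h cf hcls ⟨z, t, hti⟩ with hUU | hSB
  · exfalso
    have U := u10_of_U h hn hr hUU
    refine case_U h cf hn hcls hti hSC hUU fun z K1 K2 a b F hall => h3 ?_
    have hO := U.oy i.bend i.crit hF z
    obtain ⟨d, hd, -, hX⟩ := exists_tra_cent (v := (1, 0)) h cf F
      (fun g v ht => hUU z F.k1.inZ K1 K2 a b g v F ht) (U.ne z) hO (hall (1, 0))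
    obtain ⟨s, hs⟩ := htiAll z F.k1.inZ
    exact ithree_of_wOne h cf F hd (Or.inl ⟨by decide, rfl⟩) hX hs
  · exact ⟨hSB, hSC⟩

/-- no `IThree`: `EqEps` or `SW` -/
theorem main_inner' (i : LIn.{u}) (h : W2 Om) (hc : OneCls Om) (hr : Rot Om) (hF : CFA G) (hne : Om.Nonempty)
    (f : ROne.FSimp X) (h2 : 2 ∣ Nat.card X) (h3 : ¬ IThree Om) :
    (EqEps Om ∧ AW Om ∧ SCe Om) ∨ (SW Om ∧ SB Om ∧ SCe Om) := by
  rcases main_inner i h hc hr hF hne f h2 h3 with ⟨h1, h4⟩ | ⟨h1, h4⟩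
  · left
    obtain ⟨K, hK⟩ := hne
    exact ⟨h1.eqEps h4 ⟨K, hK, rfl⟩, h1, h4⟩
  · exact Or.inr ⟨h1.toSW h4, h1, h4⟩

end Cfsg.Agent.Cit.Nil.RTwo
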