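import Cfsg.Agent.Cit.Nil.RTwo.InnerBx
import Cfsg.Agent.Cit.Nil.RTwo.InnerMain

/-!
# `BX` in the world (A), `k = 1`: the centraliser of `R_z` is `⟨z⟩`

* `TI.cx_of_ft` : `x ∈ X_z ∩ C(s)` fixing the members over `s` and commuting with `u` of type f at `s` and
  commuting with `z`: `x` or `z x` centralises `R_s`;
* `AW.cx` : `X_z = {1, z}` for `AW`, `SCe`;
* `AW.bx`, `bx_of_inner`.
-/

set_option autoImplicit false
set_option linter.style.haveILetI false
set_option linter.unusedSectionVars false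
set_option maxHeartbeats 400000

namespace Cfsg.Agent.Cit.Nil.RTwo

open Subgroup Cfsg Cit

variable {G : Type*} [Group G]

section

variable [Finite G] {Om : Set (Subgroup G)} {K K1 K2 L M L1 L2 : Subgroup G} {z t u v g r s s' x y w c c' d : G}
  {a b p q : Fin 3 → G}

/-- the action on `L1` of an element commuting with an `f`-element -/
theorem Cf.inner_of_ft (C : Cf Om z s K1 K2 L1 L2 a b p q) (h : W2 Om) (hx : x ∈ CX Om z) (hxs : x * s = s * x)
    (hx1 : cj x L1 = L1) (hu : FT Om s u) (huz : u * z = z * u) (hxu : x * u = u * x) :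
    (∀ k ∈ L1, x * k = k * x) ∨ (∀ k ∈ L1, (z * x) * k = k * (z * x)) := by
  have hxz : x * z = z * x := CX_le C.k1.inZ h hx
  have hxa : x * a 0 = a 0 * x := mem_CX.1 hx K1 C.k1 _ (C.qa.mem 0)
  obtain ⟨h1, h2⟩ := C.pow_or h hxz hxs hxa hx1
  have hz0 := C.symm.ta0
  have hz1 := C.symm.ta1
  rcases h2 with (h2 | h2) | h2
  · left
    intro k hk
    rw [mul_inv_eq_iff_eq_mul] at h1 h2
    exact C.qc.comm_of h1 h2 hk
  · right
    intro k hk
    rw [mul_inv_eq_iff_eq_mul] at h1 h2 hz1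
    refine C.qc.comm_of ?_ ?_ hk
    · rw [mul_assoc, h1, ← mul_assoc, hz0, mul_assoc]
    · calc z * x * p 1 = z * (x * p 1) := by group
        _ = (z * s) * p 1 * x := by rw [h2]; group
        _ = s * (z * p 1) * x := by rw [C.comm]; group
        _ = (s * s) * p 1 * (z * x) := by rw [hz1]; group
        _ = _ := by rw [C.t2, one_mul]
  · exfalso
    have hus : u * s = s * u := hu.fr.comm.symm
    have huL : u * p 1 * u⁻¹ ∈ L1 := by
      have e1 : cj u L1 = L1 := hu.fr.fx L1 C.l1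
      rw [← e1]; exact conj_mem_cj (C.qc.mem 1)
    exact quarter_excl C.qc hxs hus hxu h1 (C.star h hu huz).1 huL h2

/-- `x` or `z x` centralises `R_s` -/
theorem TI.cx_of_ft (hti : TI Om z s) (h : W2 Om) (hx : x ∈ CX Om z) (hxs : x * s = s * x) (hfx : Fx Om s x)
    (hu : FT Om s u) (huz : u * z = z * u) (hxu : x * u = u * x) : x ∈ CX Om s ∨ z * x ∈ CX Om s := by
  obtain ⟨K1, K2, L1, L2, a, b, p, q, C⟩ := hti.exists_cf h
  rcases C.inner_of_ft h hx hxs (hfx _ C.l1) hu huz hxu with h1 | h1 <;>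
  rcases C.swl.inner_of_ft h hx hxs (hfx _ C.l2) hu huz hxu with h2 | h2
  · left
    rw [mem_CX]
    intro K hK
    rcases C.l1.cases C.l2 h C.lne hK with rfl | rfl
    · exact h1
    · exact h2
  · exact (C.swl.no_mix h hx h2 h1).elim
  · exact (C.no_mix h hx h1 h2).elim
  · right
    rw [mem_CX]
    intro K hK
    rcases C.l1.cases C.l2 h C.lne hK with rfl | rfl
    · exact h1
    · exact h2

namespace AW

variable (W : AW Om)

include W

/-- `spread` with a given element `d` -/
theorem spread_d (hdz : d * z = z * d) (hmv : ∀ s, TI Om z s → d * s * d⁻¹ ≠ s ∧ d * s * d⁻¹ ≠ z * s)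
    (Pr : G → Prop) (h1 : ∀ s, TI Om z s → Pr s → Pr (z * s))
    (h2 : ∀ s, TI Om z s → Pr s → Pr (d * s * d⁻¹)) (hti : TI Om z s) (hti' : TI Om z s')
    (hs : Pr s) : Pr s' := by
  have h := W.w
  have hdti : ∀ {s}, TI Om z s → TI Om z (d * s * d⁻¹) := by
    intro s hs
    have := hs.conj h d
    rwa [hdz, mul_inv_cancel_right] at this
  obtain ⟨K1, K2, a, b, D⟩ := W.dg z hti.1
  have hwti : ∀ i, TI Om z (a i * b i) := fun i => (D.ti _).2 ⟨i, Or.inl rfl⟩
  have hd : ∀ {k : Fin 3}, Dir z a b (a k * b k) k k := Or.inl rfl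
  have hf : ∀ i, ∃ j, d * (a i * b i) * d⁻¹ = a j * b j ∨ d * (a i * b i) * d⁻¹ = z * (a j * b j) :=
    fun i => (D.ti _).1 (hdti (hwti i))
  choose f hf using hf
  have hdz' : d * z * d⁻¹ = z := by rw [hdz, mul_inv_cancel_right]
  have hdmz : ∀ k : G, d * (z * k) * d⁻¹ = z * (d * k * d⁻¹) := by
    intro k
    calc d * (z * k) * d⁻¹ = (d * z * d⁻¹) * (d * k * d⁻¹) := by group
      _ = _ := by rw [hdz']
  have hinj : Function.Injective f := by
    intro i j hij
    have h1 : d * (a i * b i) * d⁻¹ = d * (a j * b j) * d⁻¹ ∨ d * (a i * b i) * d⁻¹ = d * (z * (a j * b j)) * d⁻¹ := by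
      rw [hdmz]
      rcases hf i with h3 | h3 <;> rcases hf j with h4 | h4
      · left; rw [h3, h4, hij]
      · right; rw [h3, h4, hij, D.zz]
      · right; rw [h3, h4, hij]
      · left; rw [h3, h4, hij]
    have h2 : Dir z a b (a i * b i) j j := by
      rcases h1 with h1 | h1
      · exact Or.inl (mul_left_cancel (mul_right_cancel h1))
      · exact Or.inr (mul_left_cancel (mul_right_cancel h1))
    exact (D.fr.dir_unique h hd h2).1
  have hne : ∀ i, f i ≠ i := by
    intro i hi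
    obtain ⟨h1, h2⟩ := hmv _ (hwti i)
    rcases hf i with h3 | h3 <;> rw [hi] at h3
    · exact h1 h3
    · exact h2 h3
  obtain ⟨i, hi⟩ := (D.ti s).1 hti
  obtain ⟨j, hj⟩ := (D.ti s').1 hti'
  have key0 : Pr (a i * b i) := by
    rcases hi with hi | hi
    · rw [← hi]; exact hs
    · have : a i * b i = z * s := by rw [hi, D.zz]
      rw [this]
      exact h1 _ hti hs
  have keyf : ∀ k, Pr (a k * b k) → Pr (a (f k) * b (f k)) := by
    intro k hk
    have h3 := h2 _ (hwti k) hk
    rcases hf k with h4 | h4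
    · rwa [h4] at h3
    · have : a (f k) * b (f k) = z * (d * (a k * b k) * d⁻¹) := by rw [h4, D.zz]
      rw [this]
      exact h1 _ (hdti (hwti k)) h3
  have keyj : Pr (a j * b j) := by
    rcases AW2.fin_three f hinj hne i j with h3 | h3 | h3 <;> rw [h3]
    · exact key0
    · exact keyf _ key0
    · exact keyf _ (keyf _ key0)
  rcases hj with hj | hj
  · rw [hj]; exact keyj
  · rw [hj]; exact h1 _ (hwti j) keyj

/-- **`X_z = ⟨z⟩`** in the world (A), `k = 1`, with `SCe` -/
theorem cx (hSC : SCe Om) (hz : InZ Om z) (hx : x ∈ CX Om z) : x = 1 ∨ x = z := by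
  have h := W.w
  rcases W.one_or_two with hp | hp
  swap
  · exact (AW2.false_of ⟨W, hp⟩ hSC hz).elim
  have P : POne Om := ⟨W.w, W.line, hp⟩
  rcases pone_dich W P with hI | hF
  · exfalso
    have h2 : ∀ z t, InZ Om z → InZ Om t → z * t = t * z → AS Om z = AS Om t := by
      intro z t hz ht hc
      have : {x | x = z ∨ TI Om z x} = {x | x = t ∨ TI Om t x} := by
        ext x; exact P.const hI hz ht hc x
      rw [AS, AS, this]
    have h3 := hSC (AS Om) (fun g z _ => (AS_conj h g).symm) (fun z hz x hx => by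
      rw [mem_centralizer_singleton_iff]
      exact W.AS_comm hz hx z_mem_AS) h2 z hz
    have h4 : z ∈ AS Om z := z_mem_AS
    rw [h3, mem_bot] at h4
    exact hz.z1 h h4
  have hNI : NI Om z = ⊥ :=
    hSC (NI Om) (fun g z _ => NI_conj h g z) (fun z hz => NI_le h hz)
      (fun z t hz ht hc => NI_const_di h (di_of_one h W.line hp hz ht hc)) z hz
  obtain ⟨d, hdz, -, hdX, hmv⟩ := W.d3 z hz
  have hmain : ∀ s, TI Om z s → x ∈ CX Om s ∨ z * x ∈ CX Om s := by
    intro s hti
    have hti' : TI Om z (d * s * d⁻¹) := by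
      have := hti.conj h d
      rwa [hdz, mul_inv_cancel_right] at this
    obtain ⟨n1, n2⟩ := hmv s hti
    have hu : FT Om s (d * s * d⁻¹) := hF z s _ hti hti' (Ne.symm n1) n2
    have hxs : x * s = s * x := CX_comm (P.mem_RZ hti) hx
    have hxu := CX_comm (P.mem_RZ hti') hx
    have hfx : Fx Om s x := (P.fx_iff hti (CX_le hz h hx) hxs).1 ((Inn.of_CX hx).fx h)
    exact hti.cx_of_ft h hx hxs hfx hu hti'.2.2.2.1.symm hxu
  have hall : ∀ y ∈ CX Om z, ∀ s, TI Om z s → y ∈ CX Om s → y = 1 := by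
    intro y hy s hti hys
    have h3 : y ∈ NI Om z := by
      rw [mem_NI]
      refine ⟨hy, fun s' hti' => ?_⟩
      refine W.spread_d hdz hmv (fun s => y ∈ CX Om s) (fun s hs hys => ?_) (fun s hs hys => ?_) hti hti' hys
      · obtain ⟨v, hv, hvs⟩ := hs.exists_R h
        have h4 : v * y * v⁻¹ ∈ CX Om (v * s * v⁻¹) := (CX_conj h v).2 hys
        have h5 : v * y * v⁻¹ = y := by rw [← CX_comm hv hy, mul_inv_cancel_right]
        rwa [h5, hvs] at h4
      · have h4 : d * y * d⁻¹ ∈ CX Om (d * s * d⁻¹) := (CX_conj h d).2 hys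
        have h5 : d * y * d⁻¹ = y := by rw [hdX y hy, mul_inv_cancel_right]
        rwa [h5] at h4
    rw [hNI] at h3
    exact mem_bot.1 h3
  obtain ⟨s, hti⟩ := W.exists_ti hz
  rcases hmain s hti with h3 | h3
  · exact Or.inl (hall x hx s hti h3)
  · right
    have hzX : z ∈ CX Om z := by
      rw [mem_CX]
      intro K hK k hk
      exact (hK.comm_z h hk).symm
    have h4 := hall (z * x) (mul_mem hzX hx) s hti h3
    have h5 : x = z * (z * x) := by rw [← mul_assoc, hz.z2 h, one_mul]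
    rw [h5, h4, mul_one]

theorem bx (hSC : SCe Om) : BX Om := BX.of_cx W.w fun _ _ hz hx => W.cx hSC hz hx

end AW

end

section

universe u

variable {G : Type u} [Group G] [Finite G] {Om : Set (Subgroup G)} {X : Subgroup G}

/-- **`BX`**, if there is no `IThree` -/
theorem bx_of_inner (i : LIn.{u}) (h : W2 Om) (hc : OneCls Om) (hr : Rot Om) (hF : CFA G) (hne : Om.Nonempty)
    (f : ROne.FSimp X) (h2 : 2 ∣ Nat.card X) (h3 : ¬ IThree Om) : BX Om := by
  rcases main_inner' i h hc hr hF hne f h2 h3 with ⟨-, W, hSC⟩ | ⟨S, W, -⟩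
  · exact W.bx hSC
  · exact S.bx W

end

end Cfsg.Agent.Cit.Nil.RTwo
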