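import Cfsg.Agent.Cit.Nil.RTwo.TLine
import Cfsg.Agent.Cit.Nil.RTwo.NineT

/-!
# Section 9 of the blueprint, case `P1`

All lines of type I are of type `P1` (`∀ z s, TI Om z s → ¬ PTwo Om z s`), every `t ∈ Z ∩ C(z)` centralises a line on `z`
(`HasLine`).

* `POne.fx`, `POne.ti_or_ft` : two points on different lines on `z` form a pair of type I or f;
* case (I) (`hI`: always type I): `POne.ti_iff`, `POne.const` : the set `{x | x = z ∨ TI z x}` is the same for all
  commuting `z, t ∈ Z`;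
* case (F) (`hF`: always f): `POne.exists_mid` (F1), `POne.no_pr` (F2), `POne.mid_unique` (F3), `POne.eqEps`: (9.0) applies.

uses: `W2`, `HasLine`.
-/

set_option autoImplicit false
set_option linter.style.haveILetI false
set_option linter.unusedSectionVars false

namespace Cfsg.Agent.Cit.Nil.RTwo

open Subgroup Cfsg Cit

variable {G : Type*} [Group G]

/-- all lines are of type `P1` -/
structure POne (Om : Set (Subgroup G)) : Prop where
  w : W2 Om
  line : HasLine Om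
  p1 : ∀ z s, TI Om z s → ¬ PTwo Om z s

section

variable [Finite G] {Om : Set (Subgroup G)} {z t s s' g w w' : G} {K L : Subgroup G}

/-- (6.6), more precisely -/
theorem f_twice_ti (h : W2 Om) (hti : TI Om z s) (h1 : FT Om z t) (h2 : FT Om s t) :
    ∃ L, Mem Om s L ∧ ∃ r ∈ L, TI Om z (r * t * r⁻¹) := by
  obtain ⟨K1, K2, L1, L2, a, b, p, q, C⟩ := hti.exists_cf h
  have htz : t * z = z * t := h1.fr.comm.symm
  have hts : t * s = s * t := h2.fr.comm.symm
  obtain ⟨-, r, hr, hrt⟩ := C.star h h2 htz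
  refine ⟨L1, C.l1, r, hr, ?_⟩
  rw [hrt]
  obtain ⟨σ, hσ, e1, e2⟩ := h1.act h C.k1 C.qa
  have hK1 : cj t K1 = K1 := h1.fr.fx K1 C.k1
  have e3 : σ 0 = 0 := by
    rcases C.symm.fix_or hts hK1 with e4 | e4 <;> rcases hσ 0 with e5 | e5
    · exact (C.qa.inj (Or.inl (e4.symm.trans e5))).symm
    · exact (C.qa.inj (Or.inr (e4.symm.trans e5))).symm
    · exact C.qa.inj (Or.inr (e5.symm.trans e4))
    · exact (C.qa.inj (Or.inl (mul_left_cancel (e4.symm.trans e5)))).symm
  have e4 := rf_of e3 e2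
  rw [e4] at hσ
  have e5 := (C.act_p0 h).comp C.z2 hσ htz
  have e6 : rf 0 * rf 0 = 1 := by decide
  rw [e6] at e5
  have hz' := C.star_z h htz
  have e7 := h.inn_both C.k1 (C.star_inZ h h2 htz) (C.star_ne h h2).symm (e5.inner C.qa hz')
  exact ⟨C.k1.inZ, C.star_inZ h h2 htz, C.star_ne h h2, hz'.symm, e7.1⟩

theorem TI.fx (h : W2 Om) (hti : TI Om z s) : Fx Om z s := fun _ hM => hti.2.2.2.2.cj_eq hM h

theorem TI.not_ft (hti : TI Om z s) (hf : FT Om z s) : False := hf.ninn hti.2.2.2.2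

theorem TI.not_pr (h : W2 Om) (hti : TI Om z s) (hf : PR Om z s) : False := hf.not_fr (hti.fr h)

/-- `t` fixing the members over `z` and centralising two type I neighbours of `z` on different lines is of type I,
if the lines lie in `R_z` -/
theorem inn_of_two_dir (h : W2 Om) (hfr : FR Om z t) (hw : w ∈ RZ Om z) (hw' : w' ∈ RZ Om z) (hw2 : w * w = 1)
    (hw2' : w' * w' = 1) (h1 : w ≠ 1) (h1' : w' ≠ 1) (hz : w ≠ z) (hz' : w' ≠ z) (hne : w' ≠ w) (hne' : w' ≠ z * w)
    (htw : t * w = w * t) (htw' : t * w' = w' * t) : Inn Om z t := by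
  obtain ⟨K1, K2, a, b, F⟩ := hfr.hz.exists_frame h
  obtain ⟨i, j, hd⟩ := F.exists_dir h hw hw2 h1 hz
  obtain ⟨i', j', hd'⟩ := F.exists_dir h hw' hw2' h1' hz'
  have htz : t * z = z * t := hfr.comm.symm
  obtain ⟨σ, hσ⟩ := F.qa.exists_act F.qa (hfr.fx K1 F.k1) htz
  obtain ⟨τ, hτ⟩ := F.qb.exists_act F.qb (hfr.fx K2 F.k2) htz
  have e1 := F.dir_conj htz hσ hτ hd
  have e2 := F.dir_conj htz hσ hτ hd'
  rw [htw, mul_inv_cancel_right] at e1
  rw [htw', mul_inv_cancel_right] at e2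
  obtain ⟨f1, f2⟩ := F.dir_unique h hd e1
  obtain ⟨f3, f4⟩ := F.dir_unique h hd' e2
  have hdiff : i ≠ i' ∨ j ≠ j' := by
    by_contra hcon
    push Not at hcon
    obtain ⟨rfl, rfl⟩ := hcon
    rcases hd with rfl | rfl <;> rcases hd' with rfl | rfl
    · exact hne rfl
    · exact hne' rfl
    · exact hne' (F.qa.zzx _).symm
    · exact hne rfl
  have key : ∀ (σ : Equiv.Perm (Fin 3)) (i j : Fin 3), i = σ i → j = σ j → i ≠ j → σ = 1 := by decide
  rcases hdiff with hd1 | hd1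
  · have h3 := key σ i i' f1 f3 hd1
    rw [h3] at hσ
    exact (h.inn_both F.k1 hfr.ht hfr.ne.symm (hσ.inner F.qa htz)).1
  · have h3 := key τ j j' f2 f4 hd1
    rw [h3] at hτ
    exact (h.inn_both F.k2 hfr.ht hfr.ne.symm (hτ.inner F.qb htz)).1

namespace POne

variable (P : POne Om)

include P

/-- `s ∈ R_z` -/
theorem mem_RZ (hti : TI Om z s) : s ∈ RZ Om z := by
  obtain ⟨c, l⟩ := hti.exists_lab P.w
  have h1 := l.wz
  rwa [l.eq_one P.w (P.p1 z s hti), mul_one] at h1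

theorem fx_iff (hti : TI Om z s) (hgz : g * z = z * g) (hgs : g * s = s * g) : Fx Om z g ↔ Fx Om s g := by
  rcases eps_one P.w hti (P.p1 z s hti) hgz hgs with ⟨e1, e2, -⟩ | ⟨e1, e2, -⟩
  · exact ⟨fun _ => e2, fun _ => e1⟩
  · exact ⟨fun h3 => (fx_sw_false hti.1 h3 e1).elim, fun h3 => (fx_sw_false hti.2.1 h3 e2).elim⟩

theorem sw_iff (hti : TI Om z s) (hgz : g * z = z * g) (hgs : g * s = s * g) : Sw Om z g ↔ Sw Om s g := by
  rcases eps_one P.w hti (P.p1 z s hti) hgz hgs with ⟨e1, e2, -⟩ | ⟨e1, e2, -⟩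
  · exact ⟨fun h3 => (fx_sw_false hti.1 e1 h3).elim, fun h3 => (fx_sw_false hti.2.1 e2 h3).elim⟩
  · exact ⟨fun _ => e2, fun _ => e1⟩

/-- two commuting type I neighbours of `z` form a pair of type I or f -/
theorem ti_or_ft (hti : TI Om z s) (hti' : TI Om z s') (hne : s ≠ s') (hc : s * s' = s' * s) :
    TI Om s s' ∨ FT Om s s' := by
  have h1 : Fx Om s s' := (P.fx_iff hti hti'.2.2.2.1.symm hc.symm).1 (hti'.fx P.w)
  rcases tcases P.w hti.2.1 hti'.2.1 hne hc with h2 | h2 | h2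
  · exact (fx_sw_false hti.2.1 h1 h2.sw).elim
  · exact Or.inr h2
  · exact Or.inl h2

/-! ### Case (I) -/

theorem ti_iff (hI : ∀ z s s', TI Om z s → TI Om z s' → s ≠ s' → TI Om s s') (hti : TI Om z s) (x : G) :
    (x = z ∨ TI Om z x) ↔ (x = s ∨ TI Om s x) := by
  constructor
  · rintro (rfl | h1)
    · exact Or.inr (hti.symm P.w)
    · by_cases h2 : x = s
      · exact Or.inl h2
      · exact Or.inr (hI z s x hti h1 (Ne.symm h2))
  · rintro (rfl | h1)
    · exact Or.inr hti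
    · by_cases h2 : x = z
      · exact Or.inl h2
      · exact Or.inr (hI s z x (hti.symm P.w) h1 (Ne.symm h2))

theorem ti_iff_di (hI : ∀ z s s', TI Om z s → TI Om z s' → s ≠ s' → TI Om s s') (hd : DI Om z t) (x : G) :
    (x = z ∨ TI Om z x) ↔ (x = t ∨ TI Om t x) := by
  induction hd with
  | refl => rfl
  | tail _ h2 ih => exact ih.trans (P.ti_iff hI h2 x)

/-- case (I): `A_z` is constant on commuting pairs -/
theorem const (hI : ∀ z s s', TI Om z s → TI Om z s' → s ≠ s' → TI Om s s') (hz : InZ Om z) (ht : InZ Om t)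
    (hc : z * t = t * z) (x : G) : (x = z ∨ TI Om z x) ↔ (x = t ∨ TI Om t x) :=
  P.ti_iff_di hI (di_of_one P.w P.line P.p1 hz ht hc) x

/-! ### Case (F) -/

/-- (F1) -/
theorem exists_mid (hf : FT Om z t) : ∃ w, TI Om z w ∧ TI Om w t := by
  obtain ⟨s, hti, hst⟩ := P.line z t hf.fr.hz hf.fr.ht hf.fr.comm
  have htz : t * z = z * t := hf.fr.comm.symm
  have h1 : Fx Om s t := (P.fx_iff hti htz hst.symm).1 hf.fr.fx
  have hne : s ≠ t := by
    rintro rfl; exact hti.not_ft hf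
  rcases tcases P.w hti.2.1 hf.fr.ht hne hst with h2 | h2 | h2
  · exact (fx_sw_false hti.2.1 h1 h2.sw).elim
  · obtain ⟨L, hL, r, hr, h3⟩ := f_twice_ti P.w hti hf h2
    have h4 := h3.conj P.w r⁻¹
    have e1 : r⁻¹ * (r * t * r⁻¹) * r⁻¹⁻¹ = t := by group
    rw [e1] at h4
    have h5 := (hti.symm P.w).2.2.2.2 L hL r⁻¹ (inv_mem hr)
    have hzs := hti.2.2.2.1
    have hrs : r * s = s * r := hL.comm_z P.w hr
    rcases h5 with h5 | h5
    · exfalso
      have e2 : r⁻¹ * z * r⁻¹⁻¹ = z := by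
        rw [inv_inv]
        have : z * r⁻¹ = r⁻¹ * z := by rw [mul_inv_eq_iff_eq_mul] at h5; exact h5
        rw [← this, inv_mul_cancel_right]
      rw [e2] at h4
      exact h4.not_ft hf
    · have e2 : r⁻¹ * z * r⁻¹⁻¹ = z * s := by
        rw [inv_inv]
        have h6 : z * r⁻¹ = s * r⁻¹ * z := by rw [mul_inv_eq_iff_eq_mul] at h5; exact h5
        have h7 : r⁻¹ * z = s⁻¹ * (z * r⁻¹) := by rw [h6]; group
        have h8 : s⁻¹ = s := hti.2.1.inv P.w
        calc r⁻¹ * z * r = s⁻¹ * (z * r⁻¹) * r := by rw [h7]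
          _ = s * z := by rw [h8]; group
          _ = z * s := hzs.symm
      rw [e2] at h4
      exact ⟨z * s, hti.mul P.w, h4⟩
  · exact ⟨s, hti, h2⟩

/-- (F3) -/
theorem mid_unique (hf : FT Om z t) (h1 : TI Om z w) (h2 : t * w = w * t) (h1' : TI Om z w') (h2' : t * w' = w' * t) :
    w' = w ∨ w' = z * w := by
  by_contra hcon
  push Not at hcon
  exact hf.ninn (inn_of_two_dir P.w hf.fr (P.mem_RZ h1) (P.mem_RZ h1') (h1.2.1.z2 P.w) (h1'.2.1.z2 P.w) (h1.2.1.z1 P.w)
    (h1'.2.1.z1 P.w) h1.2.2.1.symm h1'.2.2.1.symm hcon.1 hcon.2 h2 h2')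

/-- (F2) -/
theorem no_pr (hF : ∀ z s s', TI Om z s → TI Om z s' → s ≠ s' → s' ≠ z * s → FT Om s s') (hp : PR Om z t) : False := by
  obtain ⟨s, hti, hst⟩ := P.line z t hp.hz hp.ht hp.comm
  have htz : t * z = z * t := hp.comm.symm
  have hts : t * s = s * t := hst.symm
  have hti2 := hti.mul P.w
  have hzs := hti.2.2.2.1
  have htzs : t * (z * s) = z * s * t := by rw [← mul_assoc, htz, mul_assoc, hts, ← mul_assoc]
  have s1 : Sw Om s t := (P.sw_iff hti htz hts).1 hp.sw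
  have s2 : Sw Om (z * s) t := (P.sw_iff hti2 htz htzs).1 hp.sw
  have ne1 : t ≠ z := hp.ne.symm
  have ne2 : t ≠ s := by
    rintro rfl
    exact fx_sw_false hti.1 (hti.fx P.w) hp.sw
  have ne3 : t ≠ z * s := by
    rintro rfl
    exact fx_sw_false hti.1 (hti2.fx P.w) hp.sw
  have n1 : ¬ TI Om t z := fun h3 => fx_sw_false hti.1 ((h3.symm P.w).fx P.w) hp.sw
  have n2 : ¬ TI Om t s := fun h3 => fx_sw_false hti.2.1 ((h3.symm P.w).fx P.w) s1
  have n3 : ¬ TI Om t (z * s) := fun h3 => fx_sw_false hti2.2.1 ((h3.symm P.w).fx P.w) s2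
  -- `FT t v` with `v` swapped by `t` is impossible
  have key : ∀ v, FT Om t v → Sw Om v t → False := by
    intro v hv hsw
    obtain ⟨w, hw1, hw2⟩ := P.exists_mid hv
    have hwt : TI Om w t := hw1.symm P.w
    have hvt : v ≠ t := hv.fr.ne.symm
    have hne : t ≠ w * v := by
      intro e
      have h3 := (hw2.mul P.w).symm P.w
      have h4 : TI Om (w * v) v := by
        have h5 := (hw2.symm P.w).mul P.w
        rw [hw2.2.2.2.1.symm] at h5
        exact h5.symm P.w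
      rw [← e] at h4
      exact h4.not_ft hv
    exact fx_sw_false hv.fr.ht (hF w v t hw2 hwt hvt hne).fr.fx hsw
  rcases four P.w hp.hz hti.2.1 hti2.2.1 hp.ht hzs htz hts ne1 ne2 ne3 n1 n2 n3 with
    ⟨-, -, h3⟩ | ⟨-, h3, -⟩ | ⟨h3, -, -⟩
  · exact key _ h3 s2
  · exact key _ h3 s1
  · exact key _ h3 hp.sw

/-- **case (F): the condition of the transfer lemma** -/
theorem eqEps (hF : ∀ z s s', TI Om z s → TI Om z s' → s ≠ s' → s' ≠ z * s → FT Om s s') : EqEps Om := by
  intro z t g hz ht hc hgz hgt _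
  by_cases hne : z = t
  · rw [hne]
  rcases tcases P.w hz ht hne hc with h1 | h1 | h1
  · exact (P.no_pr hF h1).elim
  · have h2 : FT Om t z := by
      rcases tcases P.w ht hz (Ne.symm hne) hc.symm with h2 | h2 | h2
      · exact (P.no_pr hF h2).elim
      · exact h2
      · exact ((h2.symm P.w).not_ft h1).elim
    obtain ⟨w, hw1, hw2⟩ := P.exists_mid h1
    have hgzz : g * z * g⁻¹ = z := by rw [hgz, mul_inv_cancel_right]
    have hgtt : g * t * g⁻¹ = t := by rw [hgt, mul_inv_cancel_right]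
    have k1 := hw1.conj P.w g
    have k2 := hw2.conj P.w g
    rw [hgzz] at k1
    rw [hgtt] at k2
    have e1 := P.mid_unique h1 hw1 hw2.2.2.2.1.symm k1 k2.2.2.2.1.symm
    have e2 := P.mid_unique h2 (hw2.symm P.w) hw1.2.2.2.1 (k2.symm P.w) k1.2.2.2.1
    have e3 : g * w * g⁻¹ = w := by
      rcases e1 with e1 | e1
      · exact e1
      · rcases e2 with e2 | e2
        · exact e2
        · exact absurd (mul_right_cancel (e1.symm.trans e2)) hne
    have hgw : g * w = w * g := by rwa [mul_inv_eq_iff_eq_mul] at e3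
    rw [P.sw_iff hw1 hgz hgw, P.sw_iff hw2 hgw hgt]
  · exact P.sw_iff h1 hgz hgt

end POne

end

end Cfsg.Agent.Cit.Nil.RTwo
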