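import Cfsg.Agent.Cit.Nil.RTwo.AOne
import Cfsg.Agent.Cit.Nil.RTwo.NineA

/-!
# Section 9 of the blueprint, case `P1`: the dichotomy and the end

`pone_dich` : in the world `AW` with all lines of type `P1`: case (I) or case (F), uniformly.

uses: `AW`, `POne`.
-/

set_option autoImplicit false
set_option linter.style.haveILetI false
set_option linter.unusedSectionVars false
set_option maxHeartbeats 400000

namespace Cfsg.Agent.Cit.Nil.RTwo

open Subgroup Cfsg Cit

variable {G : Type*} [Group G]

section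

variable [Finite G] {Om : Set (Subgroup G)} {z t s s' g w w' : G} {K L K1 K2 : Subgroup G} {a b : Fin 3 → G}

/-- two pairs of points on `z` on different lines: the pairs of lines are conjugate -/
theorem rot_pairs : ∀ σ : Fin 3 → Fin 3, Function.Injective σ → (∀ i, σ i ≠ i) → ∀ i j i' j' : Fin 3, i ≠ j → i' ≠ j' →
    (i' = i ∧ j' = j) ∨ (i' = j ∧ j' = i) ∨ (i' = σ i ∧ j' = σ j) ∨ (i' = σ j ∧ j' = σ i) ∨
      (i' = σ (σ i) ∧ j' = σ (σ j)) ∨ (i' = σ (σ j) ∧ j' = σ (σ i)) := by decide

/-- the signs do not matter -/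
theorem Dg.ti_sign (D : Dg Om z K1 K2 a b) (h : W2 Om) {i j : Fin 3} (hij : i ≠ j)
    (h1 : TI Om (a i * b i) (a j * b j)) (hs : s = a i * b i ∨ s = z * (a i * b i))
    (hs' : s' = a j * b j ∨ s' = z * (a j * b j)) : TI Om s s' := by
  have hz2 := D.fr.qa.z2
  -- the action of `a i`
  have A : ∀ i j, i ≠ j → a i * (a j * b j) * (a i)⁻¹ = z * (a j * b j) := by
    intro i j hij
    calc a i * (a j * b j) * (a i)⁻¹ = a i * a j * (b j * (a i)⁻¹) := by group
      _ = a i * a j * ((a i)⁻¹ * b j) := by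
        have := D.ab h i j
        have e : b j * (a i)⁻¹ = (a i)⁻¹ * b j := by
          rw [eq_inv_mul_iff_mul_eq, ← mul_assoc, this, mul_inv_cancel_right]
        rw [e]
      _ = a i * a j * (a i)⁻¹ * b j := by group
      _ = _ := by rw [D.fr.qa.conj_ne hij, mul_assoc]
  have B : ∀ i, a i * (a i * b i) * (a i)⁻¹ = a i * b i := by
    intro i
    have := D.ab h i i
    have e : b i * (a i)⁻¹ = (a i)⁻¹ * b i := by
      rw [eq_inv_mul_iff_mul_eq, ← mul_assoc, this, mul_inv_cancel_right]
    calc a i * (a i * b i) * (a i)⁻¹ = a i * a i * (b i * (a i)⁻¹) := by group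
      _ = a i * b i := by rw [e]; group
  have Z1 : ∀ i j : Fin 3, a i * (z * (a j * b j)) * (a i)⁻¹ = z * (a i * (a j * b j) * (a i)⁻¹) := by
    intro i j
    calc a i * (z * (a j * b j)) * (a i)⁻¹ = (a i * z) * (a j * b j) * (a i)⁻¹ := by group
      _ = (z * a i) * (a j * b j) * (a i)⁻¹ := by rw [D.fr.qa.zc]
      _ = _ := by group
  have c1 := h1.conj h (a i)
  rw [A i j hij, B i] at c1
  have c2 := h1.conj h (a j)
  rw [A j i (Ne.symm hij), B j] at c2
  have c3 := c2.conj h (a i)
  rw [Z1, B i, A i j hij] at c3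
  rcases hs with rfl | rfl <;> rcases hs' with rfl | rfl
  · exact h1
  · exact c1
  · exact c2
  · exact c3

theorem AW.ti_all (W : AW Om) (hti : TI Om z s) (hti' : TI Om z s') (hne : s ≠ s') (hne' : s' ≠ z * s)
    (h0 : TI Om s s') : ∀ t w w', TI Om t w → TI Om t w' → w ≠ w' → TI Om w w' := by
  have h := W.w
  have hz := hti.1
  obtain ⟨K1, K2, a, b, D⟩ := W.dg z hz
  obtain ⟨i, hi⟩ := (D.ti s).1 hti
  obtain ⟨j, hj⟩ := (D.ti s').1 hti'
  have hz2 := D.fr.qa.z2
  have zz : ∀ y, z * (z * y) = y := D.zz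
  have hij : i ≠ j := by
    rintro rfl
    rcases hi with hi | hi <;> rcases hj with hj | hj
    · exact hne (hi.trans hj.symm)
    · exact hne' (by rw [hj, hi])
    · exact hne' (by rw [hj, hi, zz])
    · exact hne (hi.trans hj.symm)
  have wi : ∀ i, TI Om z (a i * b i) := fun i => (D.ti _).2 ⟨i, Or.inl rfl⟩
  have wz : ∀ i, TI Om z (z * (a i * b i)) := fun i => (D.ti _).2 ⟨i, Or.inr rfl⟩
  -- the base pair
  have hbase : TI Om (a i * b i) (a j * b j) := by
    have e1 : TI Om (a i * b i) s' := by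
      rcases hi with rfl | rfl
      · exact h0
      · have c2 := h0.conj h (a j)
        have A : a j * (z * (a i * b i)) * (a j)⁻¹ = a i * b i := by
          have e : b i * (a j)⁻¹ = (a j)⁻¹ * b i := by
            rw [eq_inv_mul_iff_mul_eq, ← mul_assoc, D.ab h j i, mul_inv_cancel_right]
          calc a j * (z * (a i * b i)) * (a j)⁻¹ = (a j * z) * a i * (b i * (a j)⁻¹) := by group
            _ = (z * a j) * a i * ((a j)⁻¹ * b i) := by rw [D.fr.qa.zc, e]
            _ = z * (a j * a i * (a j)⁻¹) * b i := by group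
            _ = z * (z * a i) * b i := by rw [D.fr.qa.conj_ne (Ne.symm hij)]
            _ = _ := by rw [zz]
        have B : a j * s' * (a j)⁻¹ = s' := by
          have e : b j * (a j)⁻¹ = (a j)⁻¹ * b j := by
            rw [eq_inv_mul_iff_mul_eq, ← mul_assoc, D.ab h j j, mul_inv_cancel_right]
          have e1 : a j * (a j * b j) * (a j)⁻¹ = a j * b j := by
            calc a j * (a j * b j) * (a j)⁻¹ = a j * a j * (b j * (a j)⁻¹) := by group
              _ = a j * b j := by rw [e]; group
          rcases hj with rfl | rfl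
          · exact e1
          · calc a j * (z * (a j * b j)) * (a j)⁻¹ = (a j * z) * (a j * b j) * (a j)⁻¹ := by group
              _ = z * (a j * (a j * b j) * (a j)⁻¹) := by rw [← D.fr.qa.zc]; group
              _ = _ := by rw [e1]
        rwa [A, B] at c2
    rcases hj with rfl | rfl
    · exact e1
    · have c2 := e1.conj h (a i)
      have A : a i * (z * (a j * b j)) * (a i)⁻¹ = a j * b j := by
        have e : b j * (a i)⁻¹ = (a i)⁻¹ * b j := by
          rw [eq_inv_mul_iff_mul_eq, ← mul_assoc, D.ab h i j, mul_inv_cancel_right]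
        calc a i * (z * (a j * b j)) * (a i)⁻¹ = (a i * z) * a j * (b j * (a i)⁻¹) := by group
          _ = (z * a i) * a j * ((a i)⁻¹ * b j) := by rw [D.fr.qa.zc, e]
          _ = z * (a i * a j * (a i)⁻¹) * b j := by group
          _ = z * (z * a j) * b j := by rw [D.fr.qa.conj_ne hij]
          _ = _ := by rw [zz]
      have B : a i * (a i * b i) * (a i)⁻¹ = a i * b i := by
        have e : b i * (a i)⁻¹ = (a i)⁻¹ * b i := by
          rw [eq_inv_mul_iff_mul_eq, ← mul_assoc, D.ab h i i, mul_inv_cancel_right]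
        calc a i * (a i * b i) * (a i)⁻¹ = a i * a i * (b i * (a i)⁻¹) := by group
          _ = a i * b i := by rw [e]; group
      rwa [A, B] at c2
  -- the rotation
  obtain ⟨d, hdz, -, -, hd⟩ := W.d3 z hz
  have hex : ∀ i, ∃ j, d * (a i * b i) * d⁻¹ = a j * b j ∨ d * (a i * b i) * d⁻¹ = z * (a j * b j) := by
    intro i
    have h1 := TI.conj h (wi i) d
    rw [hdz, mul_inv_cancel_right] at h1
    exact (D.ti _).1 h1
  choose σ hσ using hex
  have hninj : ∀ i j, (a i * b i = a j * b j ∨ a i * b i = z * (a j * b j)) → i = j := by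
    intro i j hij
    have f1 : D.fr.qa.z2 = D.fr.qa.z2 := rfl
    by_contra hne
    have e1 := D.conj_ne h hne
    -- `a i b i` commutes with itself
    have e2 : a i * b i * a j * (a i * b i)⁻¹ = a j := by
      have e3 : (a j * b j) * a j * (a j * b j)⁻¹ = a j := by
        calc a j * b j * a j * (a j * b j)⁻¹ = a j * (b j * a j) * (b j)⁻¹ * (a j)⁻¹ := by group
          _ = a j * (a j * b j) * (b j)⁻¹ * (a j)⁻¹ := by rw [← D.ab h]
          _ = a j := by group
      rcases hij with e | e <;> rw [e]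
      · exact e3
      · calc z * (a j * b j) * a j * (z * (a j * b j))⁻¹ = z * ((a j * b j) * a j * (a j * b j)⁻¹) * z⁻¹ := by group
          _ = z * a j * z⁻¹ := by rw [e3]
          _ = a j := by rw [D.fr.qa.zc, mul_inv_cancel_right]
    exact D.fr.qa.z1 (mul_eq_right.1 (e1.symm.trans e2))
  have hσne : ∀ i, σ i ≠ i := by
    intro i hi
    rcases hσ i with e | e <;> rw [hi] at e
    · exact (hd _ (wi i)).1 e
    · exact (hd _ (wi i)).2 e
  have hσinj : Function.Injective σ := by
    intro i j hij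
    apply hninj
    have e1 : d * (a i * b i) * d⁻¹ = d * (a j * b j) * d⁻¹ ∨ d * (a i * b i) * d⁻¹ = d * (z * (a j * b j)) * d⁻¹ := by
      have hzd : d * (z * (a j * b j)) * d⁻¹ = z * (d * (a j * b j) * d⁻¹) := by
        calc d * (z * (a j * b j)) * d⁻¹ = (d * z) * (a j * b j) * d⁻¹ := by group
          _ = (z * d) * (a j * b j) * d⁻¹ := by rw [hdz]
          _ = _ := by group
      rw [hzd]
      rcases hσ i with e1 | e1 <;> rcases hσ j with e2 | e2 <;> rw [hij] at e1 <;> rw [e1, e2]
      · exact Or.inl rfl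
      · right; rw [zz]
      · right; rfl
      · left; rfl
    rcases e1 with e1 | e1
    · left; exact mul_left_cancel (mul_right_cancel e1)
    · right; exact mul_left_cancel (mul_right_cancel e1)
  -- the pairs
  have hstep : ∀ i j, i ≠ j → TI Om (a i * b i) (a j * b j) → TI Om (a (σ i) * b (σ i)) (a (σ j) * b (σ j)) := by
    intro i j hij hT
    have c := hT.conj h d
    have hne2 : σ i ≠ σ j := fun e => hij (hσinj e)
    have key : ∀ i j : Fin 3, i ≠ j → ∀ s s', TI Om s s' → (s = a i * b i ∨ s = z * (a i * b i)) →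
        (s' = a j * b j ∨ s' = z * (a j * b j)) → TI Om (a i * b i) (a j * b j) := by
      intro i j hij s s' hT hs hs'
      have cc := hT
      have Ai : ∀ i j : Fin 3, i ≠ j → a i * (z * (a j * b j)) * (a i)⁻¹ = a j * b j := by
        intro i j hij
        have e : b j * (a i)⁻¹ = (a i)⁻¹ * b j := by
          rw [eq_inv_mul_iff_mul_eq, ← mul_assoc, D.ab h i j, mul_inv_cancel_right]
        calc a i * (z * (a j * b j)) * (a i)⁻¹ = (a i * z) * a j * (b j * (a i)⁻¹) := by group
          _ = (z * a i) * a j * ((a i)⁻¹ * b j) := by rw [D.fr.qa.zc, e]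
          _ = z * (a i * a j * (a i)⁻¹) * b j := by group
          _ = z * (z * a j) * b j := by rw [D.fr.qa.conj_ne hij]
          _ = _ := by rw [zz]
      have Bi : ∀ i : Fin 3, a i * (a i * b i) * (a i)⁻¹ = a i * b i := by
        intro i
        have e : b i * (a i)⁻¹ = (a i)⁻¹ * b i := by
          rw [eq_inv_mul_iff_mul_eq, ← mul_assoc, D.ab h i i, mul_inv_cancel_right]
        calc a i * (a i * b i) * (a i)⁻¹ = a i * a i * (b i * (a i)⁻¹) := by group
          _ = a i * b i := by rw [e]; group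
      have Ci : ∀ i : Fin 3, a i * (z * (a i * b i)) * (a i)⁻¹ = z * (a i * b i) := by
        intro i
        calc a i * (z * (a i * b i)) * (a i)⁻¹ = (a i * z) * (a i * b i) * (a i)⁻¹ := by group
          _ = z * (a i * (a i * b i) * (a i)⁻¹) := by rw [← D.fr.qa.zc]; group
          _ = _ := by rw [Bi]
      have st1 : ∃ s', TI Om (a i * b i) s' ∧ (s' = a j * b j ∨ s' = z * (a j * b j)) := by
        rcases hs with rfl | rfl
        · exact ⟨s', hT, hs'⟩
        · have c := hT.conj h (a j)
          rw [Ai j i (Ne.symm hij)] at c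
          refine ⟨_, c, ?_⟩
          rcases hs' with rfl | rfl
          · left; exact Bi j
          · right; exact Ci j
      obtain ⟨s'', hT2, hs2⟩ := st1
      rcases hs2 with rfl | rfl
      · exact hT2
      · have c := hT2.conj h (a i)
        rwa [Ai i j hij, Bi i] at c
    exact key _ _ hne2 _ _ c (hσ i) (hσ j)
  have hall : ∀ i' j', i' ≠ j' → TI Om (a i' * b i') (a j' * b j') := by
    intro i' j' hij'
    have h1 := hstep i j hij hbase
    have n1 : σ i ≠ σ j := fun e => hij (hσinj e)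
    have h2 := hstep _ _ n1 h1
    rcases rot_pairs σ hσinj hσne i j i' j' hij hij' with ⟨rfl, rfl⟩ | ⟨rfl, rfl⟩ | ⟨rfl, rfl⟩ | ⟨rfl, rfl⟩ | ⟨rfl, rfl⟩ |
      ⟨rfl, rfl⟩
    · exact hbase
    · exact hbase.symm h
    · exact h1
    · exact h1.symm h
    · exact h2
    · exact h2.symm h
  have hallz : ∀ w w', TI Om z w → TI Om z w' → w ≠ w' → TI Om w w' := by
    intro w w' h1 h2 hw
    obtain ⟨i', hi'⟩ := (D.ti w).1 h1
    obtain ⟨j', hj'⟩ := (D.ti w').1 h2
    by_cases hij' : i' = j'
    · have e : w' = w * z := by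
        have hwz : ∀ i, z * (a i * b i) = a i * b i * z := fun i => ((wi i).2.2.2.1)
        subst hij'
        rcases hi' with e1 | e1 <;> rcases hj' with e2 | e2
        · exact absurd (e1.trans e2.symm) hw
        · rw [e2, e1, hwz]
        · rw [e1, e2, hwz, mul_assoc, hz2, mul_one]
        · exact absurd (e1.trans e2.symm) hw
      rw [e]
      exact (h1.symm h).mul h
    · exact D.ti_sign h hij' (hall i' j' hij') hi' hj'
  intro t w w' h1 h2 hw
  obtain ⟨g, hg⟩ := W.cls z t hz h1.1
  have hg' : g⁻¹ * t * g⁻¹⁻¹ = z := by rw [← hg]; group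
  have c1 := h1.conj h g⁻¹
  have c2 := h2.conj h g⁻¹
  rw [hg'] at c1 c2
  have c3 := (hallz _ _ c1 c2 (fun e => hw (mul_left_cancel (mul_right_cancel e)))).conj h g
  have e1 : g * (g⁻¹ * w * g⁻¹⁻¹) * g⁻¹ = w := by group
  have e2 : g * (g⁻¹ * w' * g⁻¹⁻¹) * g⁻¹ = w' := by group
  rwa [e1, e2] at c3

/-- the dichotomy (I) / (F) -/
theorem pone_dich (W : AW Om) (P : POne Om) :
    (∀ z s s', TI Om z s → TI Om z s' → s ≠ s' → TI Om s s') ∨
      (∀ z s s', TI Om z s → TI Om z s' → s ≠ s' → s' ≠ z * s → FT Om s s') := by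
  by_cases hF : ∀ z s s', TI Om z s → TI Om z s' → s ≠ s' → s' ≠ z * s → FT Om s s'
  · exact Or.inr hF
  left
  push Not at hF
  obtain ⟨z, s, s', h1, h2, hne, hne', h3⟩ := hF
  rcases P.ti_or_ft h1 h2 hne (W.ti_comm h1 h2) with h4 | h4
  · exact W.ti_all h1 h2 hne hne' h4
  · exact absurd h4 h3

/-- the world (A), all lines of type `P1`: `A_z` is constant on commuting pairs, or (9.0) applies -/
theorem AW.pone (W : AW Om) (hp : ∀ z s, TI Om z s → ¬ PTwo Om z s) :
    (∀ z t, InZ Om z → InZ Om t → z * t = t * z → AS Om z = AS Om t) ∨ EqEps Om := by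
  have P : POne Om := ⟨W.w, W.line, hp⟩
  rcases pone_dich W P with h | h
  · left
    intro z t hz ht hc
    have : {x | x = z ∨ TI Om z x} = {x | x = t ∨ TI Om t x} := by
      ext x; exact P.const h hz ht hc x
    rw [AS, AS, this]
  · exact Or.inr (P.eqEps h)

end

end Cfsg.Agent.Cit.Nil.RTwo
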