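import Cfsg.Agent.Cit.Nil.RTwo.LTwo

/-!
# Translations of the directions, (3.1) and (3.3)

* `Tra z a b g v` : `g ∈ C(z)` acts as the translation by `v` on the directions;
* `D0 Om z a b` : the translations of the sets `DC c` (the same for all labels: `D0.iff`);
* `DC.exists_tra` (3.1) : for `p, q ∈ DC c` a 3-element `d`, translation by `q - p`, centralising `C_X(c)`;
* `NN Om z`, `NN_eq` (3.3): constant on type I pairs.
-/

set_option autoImplicit false
set_option linter.style.haveILetI false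
set_option linter.unusedSectionVars false
set_option maxHeartbeats 400000

namespace Cfsg.Agent.Cit.Nil.RTwo

open Subgroup Cfsg Cit

variable {G : Type*} [Group G]

/-- `g ∈ C(z)` acts on the directions as the translation by `v` -/
structure Tra (z : G) (a b : Fin 3 → G) (g : G) (v : Fin 3 × Fin 3) : Prop where
  comm : g * z = z * g
  a : Act z a a g (Equiv.addRight v.1)
  b : Act z b b g (Equiv.addRight v.2)

/-- the translations of the sets `DC c` -/
def D0 (Om : Set (Subgroup G)) (z : G) (a b : Fin 3 → G) : Set (Fin 3 × Fin 3) :=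
  {v | ∃ c, ∃ p ∈ DC Om z a b c, p + v ∈ DC Om z a b c}

theorem Act.inv {z g : G} {x y : Fin 3 → G} {σ : Equiv.Perm (Fin 3)} (hz : z * z = 1) (hgz : g * z = z * g)
    (h : Act z x y g σ) : Act z y x g⁻¹ σ⁻¹ := by
  intro j
  have hzz : ∀ u : G, z * (z * u) = u := fun u => by rw [← mul_assoc, hz, one_mul]
  have e : y j = y (σ (σ⁻¹ j)) := congrArg y (Equiv.apply_symm_apply σ j).symm
  rcases h (σ⁻¹ j) with h1 | h1
  · left
    rw [e, ← h1]; group
  · right
    have h2 : y j = z * (g * x (σ⁻¹ j) * g⁻¹) := by rw [h1, hzz, ← e]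
    rw [h2]
    calc g⁻¹ * (z * (g * x (σ⁻¹ j) * g⁻¹)) * g⁻¹⁻¹ = g⁻¹ * (z * g) * x (σ⁻¹ j) := by group
      _ = g⁻¹ * (g * z) * x (σ⁻¹ j) := by rw [hgz]
      _ = _ := by group

section

variable [Finite G] {Om : Set (Subgroup G)} {K K1 K2 L L1 L2 : Subgroup G} {z t g g' x y w c c' : G}
  {a b : Fin 3 → G} {v v' : Fin 3 × Fin 3}

theorem Tra.mul (hz : z * z = 1) (h : Tra z a b g v) (h' : Tra z a b g' v') : Tra z a b (g' * g) (v + v') where
  comm := by rw [mul_assoc, h.comm, ← mul_assoc, h'.comm, mul_assoc]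
  a := by
    have h1 := h.a.comp hz h'.a h'.comm
    have e : Equiv.addRight v'.1 * Equiv.addRight v.1 = Equiv.addRight (v + v').1 := by
      ext i; show ((i + v.1 + v'.1 : Fin 3) : ℕ) = ((i + (v.1 + v'.1) : Fin 3) : ℕ); rw [add_assoc]
    rwa [e] at h1
  b := by
    have h1 := h.b.comp hz h'.b h'.comm
    have e : Equiv.addRight v'.2 * Equiv.addRight v.2 = Equiv.addRight (v + v').2 := by
      ext i; show ((i + v.2 + v'.2 : Fin 3) : ℕ) = ((i + (v.2 + v'.2) : Fin 3) : ℕ); rw [add_assoc]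
    rwa [e] at h1

theorem Tra.one : Tra z a b 1 0 where
  comm := by rw [one_mul, mul_one]
  a := fun i => Or.inl (by simp)
  b := fun i => Or.inl (by simp)

theorem Tra.inv (hz : z * z = 1) (h : Tra z a b g v) : Tra z a b g⁻¹ (-v) where
  comm := by rw [inv_mul_eq_iff_eq_mul, ← mul_assoc, h.comm, mul_inv_cancel_right]
  a := by
    have h1 := h.a.inv hz h.comm
    have e : (Equiv.addRight v.1)⁻¹ = Equiv.addRight (-v).1 := by
      ext i; rfl
    rwa [e] at h1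
  b := by
    have h1 := h.b.inv hz h.comm
    have e : (Equiv.addRight v.2)⁻¹ = Equiv.addRight (-v).2 := by
      ext i; rfl
    rwa [e] at h1

theorem Tra.pow (hz : z * z = 1) (h : Tra z a b g v) (n : ℕ) : Tra z a b (g ^ n) (n • v) := by
  induction n with
  | zero => rw [pow_zero, zero_smul]; exact Tra.one
  | succ n ih =>
    rw [pow_succ', add_smul, one_smul]
    exact ih.mul hz h

theorem Tra.of_CX (h : W2 Om) (F : Frame Om z K1 K2 a b) (hx : x ∈ CX Om z) : Tra z a b x 0 where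
  comm := CX_le F.k1.inZ h hx
  a := by
    intro i
    left
    rw [mem_CX.1 hx _ F.k1 _ (F.qa.mem i), mul_inv_cancel_right]; simp
  b := by
    intro i
    left
    rw [mem_CX.1 hx _ F.k2 _ (F.qb.mem i), mul_inv_cancel_right]; simp

theorem Tra.dir (F : Frame Om z K1 K2 a b) (h : Tra z a b g v) {p : Fin 3 × Fin 3} (hp : Dir z a b w p.1 p.2) :
    Dir z a b (g * w * g⁻¹) (p + v).1 (p + v).2 := F.dir_conj h.comm h.a h.b hp

theorem Tra.dc (h : W2 Om) (F : Frame Om z K1 K2 a b) (ht : Tra z a b g v) {p : Fin 3 × Fin 3}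
    (hp : p ∈ DC Om z a b c) : p + v ∈ DC Om z a b (g * c * g⁻¹) := DC.conj h F hp ht.comm ht.a ht.b

/-- the translations of `DC c` are independent of the label `c` -/
theorem D0.iff (h : W2 Om) (F : Frame Om z K1 K2 a b) {p : Fin 3 × Fin 3} (hp : p ∈ DC Om z a b c) :
    v ∈ D0 Om z a b ↔ p + v ∈ DC Om z a b c := by
  constructor
  · rintro ⟨c', p', hp', h1⟩
    have h2 := DC.tr_all h F h1 hp' hp
    have e : p' + v - p' + p = p + v := by abel
    rwa [e] at h2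
  · exact fun h1 => ⟨c, p, hp, h1⟩

theorem D0.sub_mem {p q : Fin 3 × Fin 3} (hp : p ∈ DC Om z a b c) (hq : q ∈ DC Om z a b c) :
    q - p ∈ D0 Om z a b := ⟨c, p, hp, by rwa [add_sub_cancel]⟩

theorem D0.add (h : W2 Om) (F : Frame Om z K1 K2 a b) (h1 : v ∈ D0 Om z a b) (h2 : v' ∈ D0 Om z a b) :
    v + v' ∈ D0 Om z a b := by
  obtain ⟨c, p, hp, h3⟩ := id h1
  rw [D0.iff h F hp, ← add_assoc]
  exact (D0.iff h F h3).1 h2

theorem D0.neg (h1 : v ∈ D0 Om z a b) : -v ∈ D0 Om z a b := by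
  obtain ⟨c, p, hp, h3⟩ := h1
  exact ⟨c, p + v, h3, by rwa [add_neg_cancel_right]⟩

theorem D0.zero (h : W2 Om) (F : Frame Om z K1 K2 a b) (hn : (CC Om z).Nonempty) : 0 ∈ D0 Om z a b := by
  obtain ⟨c, hc⟩ := hn
  obtain ⟨p, hp⟩ := CC.exists_dir h F hc
  exact ⟨c, p, hp, by rwa [add_zero]⟩

theorem three_smul_dir : ∀ v : Fin 3 × Fin 3, 3 • v = 0 := by decide

theorem smul_dir {n : ℕ} (hn : n % 3 = 1) (v : Fin 3 × Fin 3) : n • v = v := by
  conv_lhs => rw [← Nat.div_add_mod n 3, hn, add_smul, mul_comm, mul_smul, three_smul_dir, smul_zero, zero_add,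
    one_smul]

/-- a 3-element with the same translation -/
theorem Tra.exists_three (hz : z * z = 1) (ht : Tra z a b g v) :
    ∃ N : ℕ, Tra z a b (g ^ N) v ∧ ∃ n : ℕ, (g ^ N) ^ 3 ^ n = 1 := by
  have h0 := orderOf_pos g
  obtain ⟨e, m, hm, he⟩ := Nat.exists_eq_pow_mul_and_not_dvd h0.ne' 3 (by norm_num)
  have hcop : Nat.Coprime (3 ^ (e + 1)) m := Nat.Coprime.pow_left _ ((Nat.prime_three.coprime_iff_not_dvd).2 hm)
  obtain ⟨N, h1, h2⟩ := Nat.chineseRemainder hcop 1 0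
  have h3 : N % 3 = 1 := by
    have h4 : N ≡ 1 [MOD 3] := h1.of_dvd (dvd_pow_self 3 (Nat.succ_ne_zero e))
    exact h4
  refine ⟨N, ?_, e, ?_⟩
  · have := ht.pow hz N
    rwa [smul_dir h3] at this
  · rw [← pow_mul, ← orderOf_dvd_iff_pow_eq_one, he, mul_comm N]
    exact mul_dvd_mul_left _ ((Nat.modEq_zero_iff_dvd).1 h2)

/-- **(3.1)** -/
theorem DC.exists_tra (h : W2 Om) (F : Frame Om z K1 K2 a b) {p q : Fin 3 × Fin 3} (hp : p ∈ DC Om z a b c)
    (hq : q ∈ DC Om z a b c) : ∃ d, Tra z a b d (q - p) ∧ (∃ n : ℕ, d ^ 3 ^ n = 1) ∧ d * c = c * d ∧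
      ∀ x ∈ CX Om z, x * c = c * x → d * x = x * d := by
  obtain ⟨s, l, hd⟩ := hp
  obtain ⟨s', l', hd'⟩ := hq
  obtain ⟨e1, -, z1, c1, -, a1, b1, x1⟩ := l.exists_theta h F hd
  obtain ⟨e2, -, z2, c2, -, a2, b2, x2⟩ := l'.exists_theta h F hd'
  have hz2 := l.z2 h
  have hcz := l.comm_z h
  have hcX := l.cz
  -- `u = z c`
  have hu2 : z * c * (z * c) = 1 := by
    calc z * c * (z * c) = z * (c * z) * c := by group
      _ = (z * z) * (c * c) := by rw [hcz]; group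
      _ = 1 := by rw [hz2, l.sq, one_mul]
  have hgz : (e1 * e2) * z = z * (e1 * e2) := by rw [mul_assoc, z2, ← mul_assoc, z1, mul_assoc]
  have hgc : (e1 * e2) * c = c * (e1 * e2) := by rw [mul_assoc, c2, ← mul_assoc, c1, mul_assoc]
  have hT : Tra z a b (e1 * e2) (q - p) := by
    refine ⟨hgz, ?_, ?_⟩
    · have h1 := a2.comp hz2 a1 z1
      have e : rf p.1 * rf q.1 = Equiv.addRight (q - p).1 := by
        apply Equiv.ext
        intro i
        show rf p.1 (rf q.1 i) = i + (q - p).1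
        rw [rf_apply, rf_apply]
        show -p.1 - (-q.1 - i) = i + (q.1 - p.1)
        abel
      rwa [e] at h1
    · have h1 := b2.comp hz2 b1 z1
      have e : rf p.2 * rf q.2 = Equiv.addRight (q - p).2 := by
        apply Equiv.ext
        intro i
        show rf p.2 (rf q.2 i) = i + (q - p).2
        rw [rf_apply, rf_apply]
        show -p.2 - (-q.2 - i) = i + (q.2 - p.2)
        abel
      rwa [e] at h1
  -- the action on `C_X(c)`
  have hact : ∀ x ∈ CX Om z, x * c = c * x →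
      e1 * e2 * x * (e1 * e2)⁻¹ = x ∨ e1 * e2 * x * (e1 * e2)⁻¹ = x * (z * c) := by
    intro x hx hxc
    have h1 : ∀ y ∈ CX Om z, y * c = c * y → e1 * y * e1⁻¹ = y ∨ e1 * y * e1⁻¹ = y * (z * c) := by
      intro y hy hyc
      rcases x1 y hy hyc with ⟨-, h1⟩ | ⟨-, h1⟩
      · exact Or.inl h1
      · right; rw [h1, mul_assoc]
    have h2 : e2 * x * e2⁻¹ = x ∨ e2 * x * e2⁻¹ = x * (z * c) := by
      rcases x2 x hx hxc with ⟨-, h1⟩ | ⟨-, h1⟩
      · exact Or.inl h1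
      · right; rw [h1, mul_assoc]
    have e0 : e1 * e2 * x * (e1 * e2)⁻¹ = e1 * (e2 * x * e2⁻¹) * e1⁻¹ := by group
    rw [e0]
    rcases h2 with h2 | h2
    · rw [h2]; exact h1 x hx hxc
    · rw [h2]
      have hy : x * (z * c) ∈ CX Om z := mul_mem hx (mul_mem (z_mem_CX h) hcX)
      have hyc : x * (z * c) * c = c * (x * (z * c)) := by
        calc x * (z * c) * c = x * z * (c * c) := by group
          _ = x * z := by rw [l.sq, mul_one]
          _ = (x * (c * c)) * z := by rw [l.sq, mul_one]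
          _ = (x * c) * (c * z) := by group
          _ = (c * x) * (z * c) := by rw [hxc, hcz]
          _ = _ := by group
      rcases h1 _ hy hyc with h3 | h3
      · right; exact h3
      · left
        rw [h3, mul_assoc, hu2, mul_one]
  have hgu : (e1 * e2) * (z * c) = z * c * (e1 * e2) := by
    rw [← mul_assoc, hgz, mul_assoc, hgc, mul_assoc]
  -- the square centralises `C_X(c)`
  obtain ⟨g, hg⟩ : ∃ g, g = e1 * e2 := ⟨_, rfl⟩
  rw [← hg] at hact hgu hT hgc hgz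
  have hsq : ∀ x ∈ CX Om z, x * c = c * x → (g * g) * x = x * (g * g) := by
    intro x hx hxc
    have h1 : g * (g * x * g⁻¹) * g⁻¹ = x := by
      rcases hact x hx hxc with h2 | h2
      · rw [h2, h2]
      · have e0 : g * (x * (z * c)) * g⁻¹ = (g * x * g⁻¹) * (z * c) := by
          calc g * (x * (z * c)) * g⁻¹ = g * x * g⁻¹ * (g * (z * c) * g⁻¹) := by group
            _ = _ := by rw [hgu, mul_inv_cancel_right]
        rw [h2, e0, h2, mul_assoc, hu2, mul_one]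
    calc (g * g) * x = (g * (g * x * g⁻¹) * g⁻¹) * (g * g) := by group
      _ = _ := by rw [h1]
  have hT2 : Tra z a b (g * g)⁻¹ (q - p) := by
    have h1 := (hT.mul hz2 hT).inv hz2
    have key : ∀ v : Fin 3 × Fin 3, -(v + v) = v := by decide
    rwa [key] at h1
  obtain ⟨N, h1, n, h2⟩ := hT2.exists_three hz2
  refine ⟨_, h1, ⟨n, h2⟩, ?_, ?_⟩
  · have h3 : Commute (g * g) c := Commute.mul_left hgc hgc
    exact (h3.inv_left.pow_left N).eq
  · intro x hx hxc
    have h3 : Commute (g * g) x := hsq x hx hxc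
    exact (h3.inv_left.pow_left N).eq

end

/-! ### (3.3) -/

/-- `N_z = C(⟨R_z, R_t : t a neighbour of type I⟩)` -/
def NN (Om : Set (Subgroup G)) (z : G) : Subgroup G where
  carrier := {x | x ∈ CX Om z ∧ ∀ t, TI Om z t → x ∈ CX Om t}
  mul_mem' := fun hx hy => ⟨mul_mem hx.1 hy.1, fun t ht => mul_mem (hx.2 t ht) (hy.2 t ht)⟩
  one_mem' := ⟨one_mem _, fun _ _ => one_mem _⟩
  inv_mem' := fun hx => ⟨inv_mem hx.1, fun t ht => inv_mem (hx.2 t ht)⟩

section

variable [Finite G] {Om : Set (Subgroup G)} {z t g x : G}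

theorem mem_NN : x ∈ NN Om z ↔ x ∈ CX Om z ∧ ∀ t, TI Om z t → x ∈ CX Om t := Iff.rfl

theorem NN_le : NN Om z ≤ CX Om z := fun _ hx => hx.1

theorem TI.exists_R (h : W2 Om) (hti : TI Om z t) : ∃ v ∈ RZ Om z, v * t * v⁻¹ = z * t := by
  obtain ⟨K1, K2, L1, L2, a, b, p, q, C⟩ := hti.exists_cf h
  exact ⟨a 1, C.k1.le_RZ (C.qa.mem 1), C.a1t⟩

theorem NN_conj (h : W2 Om) (hx : x ∈ NN Om z) (g : G) : g * x * g⁻¹ ∈ NN Om (g * z * g⁻¹) := by
  refine ⟨(CX_conj h g).2 hx.1, fun t ht => ?_⟩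
  have h1 := ht.conj h g⁻¹
  have e : g⁻¹ * (g * z * g⁻¹) * g⁻¹⁻¹ = z := by group
  rw [e] at h1
  have h2 := (CX_conj h g).2 (hx.2 _ h1)
  have e2 : g * (g⁻¹ * t * g⁻¹⁻¹) * g⁻¹ = t := by group
  rwa [e2] at h2

theorem NN_le_of_TI (h : W2 Om) (hti : TI Om z t) : NN Om z ≤ NN Om t := by
  intro x hx
  obtain ⟨v, hv, hv1⟩ := hti.exists_R h
  obtain ⟨v', hv', hv1'⟩ := (hti.symm h).exists_R h
  have hxv : x * v = v * x := CX_comm hv hx.1
  have hxv' : x * v' = v' * x := CX_comm hv' (hx.2 t hti)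
  -- `g = v'⁻¹ v` maps `t` to `z`
  have hg : (v'⁻¹ * v) * t * (v'⁻¹ * v)⁻¹ = z := by
    calc (v'⁻¹ * v) * t * (v'⁻¹ * v)⁻¹ = v'⁻¹ * (v * t * v⁻¹) * v' := by group
      _ = v'⁻¹ * (z * t) * v' := by rw [hv1]
      _ = v'⁻¹ * (t * z) * v' := by rw [hti.2.2.2.1]
      _ = v'⁻¹ * (v' * z * v'⁻¹) * v' := by rw [hv1']
      _ = z := by group
  have hgx : (v'⁻¹ * v)⁻¹ * x * (v'⁻¹ * v) = x := by
    have h1 : Commute x v := hxv
    have h2 : Commute x v' := hxv'
    have h3 : Commute x (v'⁻¹ * v) := h2.inv_right.mul_right h1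
    calc (v'⁻¹ * v)⁻¹ * x * (v'⁻¹ * v) = (v'⁻¹ * v)⁻¹ * (x * (v'⁻¹ * v)) := by group
      _ = (v'⁻¹ * v)⁻¹ * ((v'⁻¹ * v) * x) := by rw [h3.eq]
      _ = x := by group
  have h4 := NN_conj h hx (v'⁻¹ * v)⁻¹
  have e1 : (v'⁻¹ * v)⁻¹ * x * (v'⁻¹ * v)⁻¹⁻¹ = x := by rw [inv_inv]; exact hgx
  have e2 : (v'⁻¹ * v)⁻¹ * z * (v'⁻¹ * v)⁻¹⁻¹ = t := by rw [← hg]; group
  rwa [e1, e2] at h4

/-- **(3.3)** -/
theorem NN_eq (h : W2 Om) (hti : TI Om z t) : NN Om z = NN Om t :=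
  le_antisymm (NN_le_of_TI h hti) (NN_le_of_TI h (hti.symm h))

theorem NN_eq_of_di (h : W2 Om) (hd : DI Om z t) : NN Om z = NN Om t := by
  induction hd with
  | refl => rfl
  | tail _ h2 ih => exact ih.trans (NN_eq h h2)

end

end Cfsg.Agent.Cit.Nil.RTwo
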