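import Cfsg.Agent.Cit.Nil.RTwo.AFour
import Cfsg.Agent.Cit.Nil.RTwo.Trans
import Cfsg.Agent.Cit.Nil.RTwo.SLEnd
import Cfsg.Agent.Cit.Nil.RTwo.NineB

/-!
# (6.4), and the case (A), `k = 1`

* `hasLine` : (6.4);
* `AW.of` : the world (A), `k = 1`;
* `AW.eqEps` : its end.
-/

set_option autoImplicit false
set_option linter.style.haveILetI false
set_option linter.unusedSectionVars false
set_option maxHeartbeats 400000

namespace Cfsg.Agent.Cit.Nil.RTwo

open Subgroup Cfsg Cit

variable {G : Type*} [Group G]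

section

variable [Finite G] {Om : Set (Subgroup G)} {K K1 K2 L M L1 L2 : Subgroup G} {z t u g r s s' x y w c c' : G}
  {a b p q : Fin 3 → G}

theorem fin3_cases : ∀ m : Fin 3, m = 0 ∨ m = 1 ∨ m = 2 := by decide

/-! ### (6.4) -/

/-- an element of `Z ∩ C(z)` of type p or f centralises the direction it fixes -/
theorem cent_dir (h : W2 Om) (F : Frame Om z K1 K2 a b) (ht : InZ Om t) (hzt : z * t = t * z) (hni : ¬ Inn Om z t)
    {i j : Fin 3} (hw : Dir z a b w i j) (hfix : Dir z a b (t * w * t⁻¹) i j) : t * w = w * t := by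
  have hne : z ≠ t := by
    rintro rfl
    apply hni
    intro K hK k hk
    left
    rw [← hK.comm_z h hk, mul_inv_cancel_right]
  have htz : t * z = z * t := hzt.symm
  have htz' : t * z * t⁻¹ = z := by rw [htz, mul_inv_cancel_right]
  have ht2 := ht.z2 h
  have hmz : ∀ k : G, t * (z * k) * t⁻¹ = z * (t * k * t⁻¹) := by
    intro k
    calc t * (z * k) * t⁻¹ = (t * z * t⁻¹) * (t * k * t⁻¹) := by group
      _ = _ := by rw [htz']
  have hzz := F.qa.zzx
  -- it is enough to treat `a i b j`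
  have hred : t * (a i * b j) * t⁻¹ = a i * b j → t * w = w * t := by
    intro h1
    rw [← mul_inv_eq_iff_eq_mul]
    rcases hw with hw | hw
    · rw [hw, h1]
    · rw [hw, hmz, h1]
  apply hred
  rcases F.act_cases h htz with ⟨h1, h2, σ, τ, h3, h4⟩ | ⟨h1, h2, σ, τ, h3, h4⟩
  · -- type f
    have h5 := F.dir_conj htz h3 h4 hw
    obtain ⟨e1, e2⟩ := F.dir_unique h h5 hfix
    have hF : FT Om z t := by
      rcases tcases h F.k1.inZ ht hne hzt with h6 | h6 | h6
      · exact absurd h1 (h6.sw K1 F.k1)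
      · exact h6
      · exact absurd h6.2.2.2.2 hni
    -- on a member
    have key : ∀ {K : Subgroup G} {a : Fin 3 → G} {i : Fin 3}, Mem Om z K → Q3 K z a →
        (t * a i * t⁻¹ = a i ∨ t * a i * t⁻¹ = z * a i) → t * a i * t⁻¹ = z * a i := by
      intro K a i hK Q hi
      obtain ⟨x, qx, x0, x1, x2⟩ := hF.coord h hK
      obtain ⟨m, hm⟩ := qx.of_sq (Q.mem i) (Q.sq i)
      -- `m = 2`
      have h7 : t * x m * t⁻¹ = x m ∨ t * x m * t⁻¹ = z * x m := by
        rcases hm with hm | hm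
        · rw [← hm]; exact hi
        · have h8 : x m = z * a i := by rw [hm, hzz]
          rw [h8, hmz]
          rcases hi with hi | hi
          · left; rw [hi]
          · right; rw [hi]
      have hm2 : m = 2 := by
        rcases fin3_cases m with rfl | rfl | rfl
        · rw [x0] at h7
          exact absurd (qx.inj h7) (by decide)
        · rw [x1] at h7
          exact absurd (qx.inj h7) (by decide)
        · rfl
      subst hm2
      rcases hm with hm | hm
      · rw [hm, x2]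
      · rw [hm, hmz, x2]
    have e3 := h3 i
    rw [e1] at e3
    have e4 := h4 j
    rw [e2] at e4
    have k1 := key F.k1 F.qa e3
    have k2 := key F.k2 F.qb e4
    calc t * (a i * b j) * t⁻¹ = (t * a i * t⁻¹) * (t * b j * t⁻¹) := by group
      _ = z * a i * (z * b j) := by rw [k1, k2]
      _ = z * (a i * z) * b j := by group
      _ = z * (z * a i) * b j := by rw [F.qa.zc]
      _ = _ := by rw [hzz]
  · -- type p
    have h5 := F.dir_conj' h htz h3 h4 hw
    obtain ⟨e1, e2⟩ := F.dir_unique h h5 hfix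
    have e3 := h3 i
    rw [e2] at e3
    have ett : ∀ k : G, t * (t * k * t⁻¹) * t⁻¹ = k := by
      intro k
      calc t * (t * k * t⁻¹) * t⁻¹ = (t * t) * k * (t * t)⁻¹ := by group
        _ = k := by rw [ht2]; group
    rcases e3 with e3 | e3
    · have e4 : t * b j * t⁻¹ = a i := by rw [← e3, ett]
      calc t * (a i * b j) * t⁻¹ = (t * a i * t⁻¹) * (t * b j * t⁻¹) := by group
        _ = b j * a i := by rw [e3, e4]
        _ = _ := (F.ab h i j).symm
    · have e4 : t * b j * t⁻¹ = z * a i := by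
        have e5 : b j = z * (t * a i * t⁻¹) := by rw [e3, hzz]
        rw [e5, hmz, ett]
      calc t * (a i * b j) * t⁻¹ = (t * a i * t⁻¹) * (t * b j * t⁻¹) := by group
        _ = z * b j * (z * a i) := by rw [e3, e4]
        _ = z * (b j * z) * a i := by group
        _ = z * (z * b j) * a i := by rw [← F.qb.zc]
        _ = b j * a i := by rw [hzz]
        _ = _ := (F.ab h i j).symm

/-- (6.4) -/
theorem hasLine (h : W2 Om) (hn : ∀ z, InZ Om z → (CC Om z).Nonempty) : HasLine Om := by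
  intro z t hz ht hc
  by_cases hti : TI Om z t
  · exact ⟨t, hti, rfl⟩
  by_cases hzt : z = t
  · obtain ⟨c, s, l⟩ := hn z hz
    exact ⟨s, l.ti, by rw [← hzt]; exact l.ti.2.2.2.1.symm⟩
  have hni : ¬ Inn Om z t := fun h1 => hti ⟨hz, ht, hzt, hc, h1⟩
  have hP : IsPGroup 2 (zpowers t) := isPGroup_zpowers_of_sq (ht.z2 h)
  have hPz : ∀ s ∈ zpowers t, s * z = z * s := by
    intro s hs
    obtain ⟨n, rfl⟩ := mem_zpowers_iff.1 hs
    exact (Commute.zpow_left (show Commute t z from hc.symm) n).eq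
  obtain ⟨T, -, -, c, hcc, -, hct⟩ := CC.exists_comm h hP hPz (hn z hz)
  obtain ⟨K1, K2, a, b, F⟩ := hz.exists_frame h
  obtain ⟨p, hp, hfix⟩ := DC.exists_fixed h F hcc hP hPz hct
  obtain ⟨s, l, hd⟩ := hp
  have h1 := hfix t (mem_zpowers t) _ hd
  have h2 := cent_dir h F ht hc hni hd h1
  refine ⟨s, l.ti, ?_⟩
  have h3 : t * c = c * t := hct t (mem_zpowers t)
  have e : s = s * c * c := by rw [mul_assoc, l.sq, mul_one]
  calc s * t = (s * c) * (c * t) := by
        calc s * t = s * c * c * t := by rw [← e]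
          _ = _ := by group
    _ = (s * c) * t * c := by rw [← h3]; group
    _ = t * (s * c) * c := by rw [← h2]
    _ = t * (s * c * c) := by group
    _ = t * s := by rw [← e]

/-! ### The world (A), `k = 1` -/

/-- diagonal coordinates for a diagonal line of directions -/
theorem Frame.exists_diag (F : Frame Om z K1 K2 a b) (p v : Fin 3 × Fin 3) (h1 : v.1 ≠ 0) (h2 : v.2 ≠ 0) :
    ∃ a' b', Frame Om z K1 K2 a' b' ∧ ∀ w, (∃ i, w = a' i * b' i ∨ w = z * (a' i * b' i)) ↔
      (Dir z a b w p.1 p.2 ∨ Dir z a b w (p.1 + v.1) (p.2 + v.2) ∨ Dir z a b w (p.1 - v.1) (p.2 - v.2)) := by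
  have hzz := F.qa.zzx
  -- one factor
  have key : ∀ {K : Subgroup G} {a : Fin 3 → G}, Q3 K z a → ∀ p v : Fin 3, v ≠ 0 → ∃ a', Q3 K z a' ∧
      (a' 0 = a p ∨ a' 0 = z * a p) ∧ (a' 1 = a (p + v) ∨ a' 1 = z * a (p + v)) ∧
      (a' 2 = a (p - v) ∨ a' 2 = z * a (p - v)) := by
    intro K a Q p v hv
    have hc : v = 1 ∨ v = 2 := by revert v; decide
    rcases hc with rfl | rfl
    · refine ⟨_, Q.rot p, Or.inl ?_, Or.inl ?_, Or.inl ?_⟩
      · show a (0 + p) = a p
        rw [zero_add]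
      · show a (1 + p) = a (p + 1)
        rw [add_comm]
      · show a (2 + p) = a (p - 1)
        have : ∀ p : Fin 3, 2 + p = p - 1 := by decide
        rw [this]
    · refine ⟨_, Q.refl p, Or.inr ?_, Or.inr ?_, Or.inr ?_⟩
      · show z * a (p - 0) = z * a p
        rw [sub_zero]
      · show z * a (p - 1) = z * a (p + 2)
        have : ∀ p : Fin 3, p - 1 = p + 2 := by decide
        rw [this]
      · rfl
  obtain ⟨a', qa, a0, a1, a2⟩ := key F.qa p.1 v.1 h1
  obtain ⟨b', qb, b0, b1, b2⟩ := key F.qb p.2 v.2 h2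
  refine ⟨a', b', ⟨F.k1, F.k2, F.ne, qa, qb⟩, ?_⟩
  have hdir : ∀ {x y : G} {i j : Fin 3}, (x = a i ∨ x = z * a i) → (y = b j ∨ y = z * b j) → ∀ w,
      (w = x * y ∨ w = z * (x * y)) ↔ Dir z a b w i j := by
    intro x y i j hx hy w
    have e : x * y = a i * b j ∨ x * y = z * (a i * b j) := by
      rcases hx with rfl | rfl <;> rcases hy with rfl | rfl
      · exact Or.inl rfl
      · right; rw [← mul_assoc, ← F.qa.zc, mul_assoc]
      · right; rw [mul_assoc]
      · left; rw [mul_assoc, ← mul_assoc (a i), ← F.qa.zc, mul_assoc, hzz]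
    unfold Dir
    rcases e with e | e <;> rw [e]
    rw [hzz]
    exact or_comm
  intro w
  constructor
  · rintro ⟨i, hi⟩
    rcases fin3_cases i with rfl | rfl | rfl
    · exact Or.inl ((hdir a0 b0 w).1 hi)
    · exact Or.inr (Or.inl ((hdir a1 b1 w).1 hi))
    · exact Or.inr (Or.inr ((hdir a2 b2 w).1 hi))
  · rintro (hi | hi | hi)
    · exact ⟨0, (hdir a0 b0 w).2 hi⟩
    · exact ⟨1, (hdir a1 b1 w).2 hi⟩
    · exact ⟨2, (hdir a2 b2 w).2 hi⟩

instance decWOne : DecidablePred WOne := fun v => by unfold WOne; infer_instance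

/-- two independent vectors give a vector of weight one -/
theorem wOne_key : ∀ v u : Fin 3 × Fin 3, v ≠ 0 → u ≠ 0 → u ≠ v → u ≠ -v →
    WOne v ∨ WOne u ∨ WOne (u + v) ∨ WOne (u - v) := by
  decide

theorem wOne_key' : ∀ v : Fin 3 × Fin 3, v ≠ 0 → ¬ WOne v → v.1 ≠ 0 ∧ v.2 ≠ 0 := by
  decide

/-- in case (A) the type I neighbours are given by the directions in `DC 1` -/
theorem ti_iff_dir (h : W2 Om) (F : Frame Om z K1 K2 a b) (hA : CC Om z = {1}) :
    TI Om z t ↔ ∃ p ∈ DC Om z a b 1, Dir z a b t p.1 p.2 := by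
  constructor
  · intro hti
    obtain ⟨c, l⟩ := hti.exists_lab h
    have hc : c = 1 := by
      have h1 : c ∈ CC Om z := l.mem_CC
      rw [hA] at h1
      exact h1
    subst hc
    obtain ⟨i, j, hij⟩ : ∃ i j, Dir z a b (t * 1) i j := by
      obtain ⟨th, i, j, -, -, -, -, hd, -⟩ := l.theta h F
      exact ⟨i, j, hd⟩
    refine ⟨(i, j), ⟨t, l, hij⟩, ?_⟩
    rwa [mul_one] at hij
  · rintro ⟨p, ⟨t', l, hd⟩, hd'⟩
    have hd'' : Dir z a b (t * 1) p.1 p.2 := by rwa [mul_one]
    rcases F.eq_of_dir hd hd'' with h1 | h1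
    · rw [h1]; exact l.ti
    · rw [h1]; exact l.ti.mul h

/-- the world (A), `k = 1` -/
theorem AW.of (h : W2 Om) (hcls : ∀ z t, InZ Om z → InZ Om t → ∃ g, g * z * g⁻¹ = t)
    (hA : ∀ z, InZ Om z → CC Om z = {1})
    (hD : ∀ z K1 K2 a b, Frame Om z K1 K2 a b → ∃ v, v ≠ 0 ∧ v ∈ D0 Om z a b)
    (hno : ∀ z K1 K2 a b, Frame Om z K1 K2 a b → ∀ v ∈ D0 Om z a b, ¬ WOne v) : AW Om := by
  have hn : ∀ z, InZ Om z → (CC Om z).Nonempty := fun z hz => by rw [hA z hz]; exact ⟨1, rfl⟩
  refine ⟨h, hasLine h hn, hcls, ?_, ?_⟩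
  · intro z hz
    obtain ⟨K1, K2, a, b, F⟩ := hz.exists_frame h
    obtain ⟨v, hv0, hv⟩ := hD z K1 K2 a b F
    obtain ⟨hv1, hv2⟩ := wOne_key' v hv0 (hno z K1 K2 a b F v hv)
    obtain ⟨p, hp⟩ := CC.exists_dir h F (c := 1) (by rw [hA z hz]; rfl)
    obtain ⟨a', b', F', hdir⟩ := F.exists_diag p v hv1 hv2
    refine ⟨K1, K2, a', b', F', ?_⟩
    intro t
    rw [hdir, ti_iff_dir h F (hA z hz)]
    have hpv : p + v ∈ DC Om z a b 1 := (D0.iff h F hp).1 hv
    have hpv' : p - v ∈ DC Om z a b 1 := by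
      rw [sub_eq_add_neg]; exact (D0.iff h F hp).1 (D0.neg hv)
    constructor
    · rintro ⟨q, hq, hd⟩
      have h1 : q - p ∈ D0 Om z a b := D0.sub_mem hp hq
      by_cases e0 : q - p = 0
      · left; rwa [sub_eq_zero.1 e0] at hd
      by_cases e1 : q - p = v
      · right; left
        have : q = p + v := by rw [← e1]; abel
        rwa [this] at hd
      by_cases e2 : q - p = -v
      · right; right
        have : q = p - v := by rw [sub_eq_add_neg, ← e2]; abel
        rwa [this] at hd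
      exfalso
      rcases wOne_key v (q - p) hv0 e0 e1 e2 with h2 | h2 | h2 | h2
      · exact hno z K1 K2 a b F _ hv h2
      · exact hno z K1 K2 a b F _ h1 h2
      · exact hno z K1 K2 a b F _ (D0.add h F h1 hv) h2
      · exact hno z K1 K2 a b F _ (by rw [sub_eq_add_neg]; exact D0.add h F h1 (D0.neg hv)) h2
    · rintro (hd | hd | hd)
      · exact ⟨p, hp, hd⟩
      · exact ⟨_, hpv, hd⟩
      · exact ⟨_, hpv', hd⟩
  · intro z hz
    obtain ⟨K1, K2, a, b, F⟩ := hz.exists_frame h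
    obtain ⟨v, hv0, hv⟩ := hD z K1 K2 a b F
    obtain ⟨p, hp⟩ := CC.exists_dir h F (c := 1) (by rw [hA z hz]; rfl)
    have hpv : p + v ∈ DC Om z a b 1 := (D0.iff h F hp).1 hv
    obtain ⟨d, hd, ⟨n, hn⟩, -, hdX⟩ := DC.exists_tra h F hp hpv
    rw [add_sub_cancel_left] at hd
    refine ⟨d, hd.comm, ⟨3 ^ n, Odd.pow (by decide), hn⟩, fun x hx => hdX x hx (by simp), ?_⟩
    intro s hs
    obtain ⟨q, -, hq⟩ := (ti_iff_dir h F (hA z hz)).1 hs
    have h1 := hd.dir F hq
    have hne : q + v ≠ q := by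
      intro e
      exact hv0 (by simpa using e)
    constructor
    · intro e
      rw [e] at h1
      obtain ⟨e1, e2⟩ := F.dir_unique h h1 hq
      exact hne (Prod.ext e1 e2)
    · intro e
      rw [e] at h1
      have h2 : Dir z a b (z * s) q.1 q.2 := by
        rcases hq with hq | hq
        · exact Or.inr (by rw [hq])
        · exact Or.inl (by rw [hq, F.qa.zzx])
      obtain ⟨e1, e2⟩ := F.dir_unique h h1 h2
      exact hne (Prod.ext e1 e2)

namespace AW

variable (W : AW Om)

include W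

/-- a property of the lines on `z` which is invariant under `d` holds for all lines if it holds for one -/
theorem spread (hz : InZ Om z) (Pr : G → Prop) (h1 : ∀ s, TI Om z s → Pr s → Pr (z * s))
    (h2 : ∀ g, g * z = z * g → ∀ s, TI Om z s → Pr s → Pr (g * s * g⁻¹)) (hti : TI Om z s) (hti' : TI Om z s')
    (hs : Pr s) : Pr s' := by
  have h := W.w
  obtain ⟨d, hdz, -, -, hmv⟩ := W.d3 z hz
  have hdti : ∀ {s}, TI Om z s → TI Om z (d * s * d⁻¹) := by
    intro s hs
    have := hs.conj h d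
    rwa [hdz, mul_inv_cancel_right] at this
  obtain ⟨K1, K2, a, b, D⟩ := W.dg z hti.1
  have hwti : ∀ i, TI Om z (a i * b i) := fun i => (D.ti _).2 ⟨i, Or.inl rfl⟩
  have hd : ∀ {k : Fin 3}, Dir z a b (a k * b k) k k := Or.inl rfl
  have hf : ∀ i, ∃ j, d * (a i * b i) * d⁻¹ = a j * b j ∨ d * (a i * b i) * d⁻¹ = z * (a j * b j) :=
    fun i => (D.ti _).1 (hdti (hwti i))
  choose f hf using hf
  have hdz' : d * z * d⁻¹ = z := by rw [hdz, mul_inv_cancel_right]
  have hdmz : ∀ k : G, d * (z * k) * d⁻¹ = z * (d * k * d⁻¹) := by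
    intro k
    calc d * (z * k) * d⁻¹ = (d * z * d⁻¹) * (d * k * d⁻¹) := by group
      _ = _ := by rw [hdz']
  have hinj : Function.Injective f := by
    intro i j hij
    have h1 : d * (a i * b i) * d⁻¹ = d * (a j * b j) * d⁻¹ ∨ d * (a i * b i) * d⁻¹ = d * (z * (a j * b j)) * d⁻¹ := by
      rw [hdmz]
      rcases hf i with h3 | h3 <;> rcases hf j with h4 | h4
      · left; rw [h3, h4, hij]
      · right; rw [h3, h4, hij, D.zz]
      · right; rw [h3, h4, hij]
      · left; rw [h3, h4, hij]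
    have h2 : Dir z a b (a i * b i) j j := by
      rcases h1 with h1 | h1
      · exact Or.inl (mul_left_cancel (mul_right_cancel h1))
      · exact Or.inr (mul_left_cancel (mul_right_cancel h1))
    exact (D.fr.dir_unique h hd h2).1
  have hne : ∀ i, f i ≠ i := by
    intro i hi
    obtain ⟨h1, h2⟩ := hmv _ (hwti i)
    rcases hf i with h3 | h3 <;> rw [hi] at h3
    · exact h1 h3
    · exact h2 h3
  obtain ⟨i, hi⟩ := (D.ti s).1 hti
  obtain ⟨j, hj⟩ := (D.ti s').1 hti'
  have key0 : Pr (a i * b i) := by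
    rcases hi with hi | hi
    · rw [← hi]; exact hs
    · have : a i * b i = z * s := by rw [hi, D.zz]
      rw [this]
      exact h1 _ hti hs
  have keyf : ∀ k, Pr (a k * b k) → Pr (a (f k) * b (f k)) := by
    intro k hk
    have h3 := h2 d hdz _ (hwti k) hk
    rcases hf k with h4 | h4
    · rwa [h4] at h3
    · have : a (f k) * b (f k) = z * (d * (a k * b k) * d⁻¹) := by rw [h4, D.zz]
      rw [this]
      exact h1 _ (hdti (hwti k)) h3
  have keyj : Pr (a j * b j) := by
    rcases AW2.fin_three f hinj hne i j with h3 | h3 | h3 <;> rw [h3]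
    · exact key0
    · exact keyf _ key0
    · exact keyf _ (keyf _ key0)
  rcases hj with hj | hj
  · rw [hj]; exact keyj
  · rw [hj]; exact h1 _ (hwti j) keyj

/-- all lines have the same type -/
theorem one_or_two : (∀ z s, TI Om z s → ¬ PTwo Om z s) ∨ (∀ z s, TI Om z s → PTwo Om z s) := by
  have h := W.w
  by_cases h1 : ∀ z s, TI Om z s → ¬ PTwo Om z s
  · exact Or.inl h1
  right
  push Not at h1
  obtain ⟨z, s, hti, h2⟩ := h1
  intro z' s' hti'
  obtain ⟨g, hg⟩ := W.cls z' z hti'.1 hti.1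
  have hti'' := hti'.conj h g
  rw [hg] at hti''
  have h3 : PTwo Om z (g * s' * g⁻¹) := by
    refine W.spread hti.1 (PTwo Om z) (fun s hs h3 => h3.mul h hs) (fun g hg s hs h3 => ?_) hti hti'' h2
    have := h3.conj h g
    rwa [hg, mul_inv_cancel_right] at this
  have h4 := h3.conj h g⁻¹
  have e1 : g⁻¹ * z * g⁻¹⁻¹ = z' := by rw [← hg]; group
  have e2 : g⁻¹ * (g * s' * g⁻¹) * g⁻¹⁻¹ = s' := by group
  rwa [e1, e2] at h4

/-- **(A), `k = 1`**: all the characters `eps` agree -/
theorem eqEps (hSC : SCe Om) (hz : InZ Om z) : EqEps Om := by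
  have h := W.w
  rcases W.one_or_two with h1 | h1
  · rcases W.pone h1 with h2 | h2
    · exfalso
      have h3 := hSC (AS Om) (fun g z _ => (AS_conj h g).symm) (fun z hz x hx => by
        rw [mem_centralizer_singleton_iff]
        exact W.AS_comm hz hx z_mem_AS) h2 z hz
      have h4 : z ∈ AS Om z := z_mem_AS
      rw [h3, mem_bot] at h4
      exact hz.z1 h h4
    · exact h2
  · exact (AW2.false_of ⟨W, h1⟩ hSC hz).elim

end AW

end

end Cfsg.Agent.Cit.Nil.RTwo
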