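import Cfsg.Agent.Cit.Nil.RTwo.TPair

/-!
# Elements centralising a line of type I: (6.5)-(6.7), (9.1) of the blueprint
-/

set_option autoImplicit false
set_option linter.style.haveILetI false
set_option linter.unusedSectionVars false
set_option maxHeartbeats 400000

namespace Cfsg.Agent.Cit.Nil.RTwo

open Subgroup Cfsg Cit

variable {G : Type*} [Group G]

section

variable [Finite G] {Om : Set (Subgroup G)} {K K1 K2 L M L1 L2 : Subgroup G} {z t u v g r s x y w c c' : G}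
  {a b p q : Fin 3 → G}

/-! ### The component -/

theorem DI.conj (h : W2 Om) (hd : DI Om z t) (g : G) : DI Om (g * z * g⁻¹) (g * t * g⁻¹) := by
  induction hd with
  | refl => exact Relation.ReflTransGen.refl
  | tail _ h2 ih => exact Relation.ReflTransGen.tail ih (h2.conj h g)

theorem DI.symm (h : W2 Om) (hd : DI Om z t) : DI Om t z := by
  induction hd with
  | refl => exact Relation.ReflTransGen.refl
  | tail _ h2 ih => exact Relation.ReflTransGen.head (h2.symm h) ih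

theorem DI.trans (h1 : DI Om z t) (h2 : DI Om t s) : DI Om z s := Relation.ReflTransGen.trans h1 h2

theorem TI.di (hti : TI Om z t) : DI Om z t := Relation.ReflTransGen.single hti

/-- if `s` is a type I neighbour of `z` and `r` commutes with `s`: `t` and `r t r⁻¹` are in `Δ_I(z)` together -/
theorem di_conj_iff (h : W2 Om) (hs : DI Om z s) (hr : r * s = s * r) : DI Om z t ↔ DI Om z (r * t * r⁻¹) := by
  have hrs : r * s * r⁻¹ = s := by rw [hr, mul_inv_cancel_right]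
  constructor
  · intro h1
    have h2 := ((hs.symm h).trans h1).conj h r
    rw [hrs] at h2
    exact hs.trans h2
  · intro h1
    have h2 := ((hs.symm h).trans h1).conj h r⁻¹
    have e1 : r⁻¹ * s * r⁻¹⁻¹ = s := by rw [inv_inv, mul_assoc, ← hr]; group
    have e2 : r⁻¹ * (r * t * r⁻¹) * r⁻¹⁻¹ = t := by group
    rw [e1, e2] at h2
    exact hs.trans h2

/-! ### (6.6) -/

namespace Cf

variable (C : Cf Om z s K1 K2 L1 L2 a b p q) (h : W2 Om)

include C h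

/-- in its own frame `p 0` acts as the reflection at `0` -/
theorem act_p0 : Act z a a (p 0) (rf 0) := by
  obtain ⟨i, hi, hact⟩ := C.act_theta h C.qa
  have h1 : (0 : Fin 3) = i := C.qa.inj hi
  rwa [← h1] at hact

theorem p0z : p 0 * z = z * p 0 := C.symm.ta0.symm

/-- `t` of type f with respect to `s`, commuting with `z` -/
theorem star (ht : FT Om s t) (htz : t * z = z * t) : t * p 0 * t⁻¹ = s * p 0 ∧ ∃ r ∈ L1, r * t * r⁻¹ = t * p 0 :=
  ht.inv_axis h C.l1 (C.qc.mem 0) (C.qc.sq 0) (C.fix_or htz (ht.fr.fx L1 C.l1))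

theorem star_inZ (ht : FT Om s t) (htz : t * z = z * t) : InZ Om (t * p 0) := by
  obtain ⟨-, r, -, hr⟩ := C.star h ht htz
  rw [← hr]; exact ht.fr.ht.conj h r

theorem star_z (htz : t * z = z * t) : t * p 0 * z = z * (t * p 0) := by
  rw [mul_assoc, C.p0z h, ← mul_assoc, htz, mul_assoc]

theorem star_s (hts : t * s = s * t) : t * p 0 * s = s * (t * p 0) := by
  rw [mul_assoc, ← C.qc.zc, ← mul_assoc, hts, mul_assoc]

theorem star_di (ht : FT Om s t) (htz : t * z = z * t) (hti : TI Om z s) : DI Om z t ↔ DI Om z (t * p 0) := by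
  obtain ⟨-, r, hr, hrt⟩ := C.star h ht htz
  rw [← hrt]
  exact di_conj_iff h hti.di (C.l1.comm_z h hr)

theorem star_ne (ht : FT Om s t) : z ≠ t * p 0 := by
  intro e
  have h1 : t = z * (p 0)⁻¹ := by rw [e]; group
  have h2 := ht.fr.ht.z2 h
  have hpz := C.p0z h
  have h3 : t * t = s := by
    rw [h1, C.qc.inv]
    calc z * (s * p 0) * (z * (s * p 0)) = z * s * (p 0 * z) * (s * p 0) := by group
      _ = z * s * (z * p 0) * (s * p 0) := by rw [hpz]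
      _ = z * (s * z) * (p 0 * s) * p 0 := by group
      _ = z * (z * s) * (s * p 0) * p 0 := by rw [C.comm, ← C.qc.zc]
      _ = (z * z) * (s * s) * (p 0 * p 0) := by group
      _ = s := by rw [C.z2, C.t2, C.qc.sq]; group
  exact C.qc.z1 (h3.symm.trans h2)

end Cf

/-- (6.6) -/
theorem f_twice (h : W2 Om) (hti : TI Om z s) (h1 : FT Om z t) (h2 : FT Om s t) : DI Om z t := by
  obtain ⟨K1, K2, L1, L2, a, b, p, q, C⟩ := hti.exists_cf h
  have htz : t * z = z * t := h1.fr.comm.symm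
  have hts : t * s = s * t := h2.fr.comm.symm
  rw [C.star_di h h2 htz hti]
  obtain ⟨σ, hσ, e1, e2⟩ := h1.act h C.k1 C.qa
  -- `σ` fixes `0`
  have hK1 : cj t K1 = K1 := h1.fr.fx K1 C.k1
  have e3 : σ 0 = 0 := by
    rcases C.symm.fix_or hts hK1 with e4 | e4 <;> rcases hσ 0 with e5 | e5
    · exact (C.qa.inj (Or.inl (e4.symm.trans e5))).symm
    · exact (C.qa.inj (Or.inr (e4.symm.trans e5))).symm
    · exact C.qa.inj (Or.inr (e5.symm.trans e4))
    · exact (C.qa.inj (Or.inl (mul_left_cancel (e4.symm.trans e5)))).symm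
  have e4 := rf_of e3 e2
  rw [e4] at hσ
  have e5 := (C.act_p0 h).comp C.z2 hσ htz
  have e6 : rf 0 * rf 0 = 1 := by decide
  rw [e6] at e5
  have hz' := C.star_z h htz
  have e7 := h.inn_both C.k1 (C.star_inZ h h2 htz) (C.star_ne h h2).symm (e5.inner C.qa hz')
  exact TI.di ⟨C.k1.inZ, C.star_inZ h h2 htz, C.star_ne h h2, hz'.symm, e7.1⟩

/-! ### (9.1) -/

namespace Cf

variable (C : Cf Om z s K1 K2 L1 L2 a b p q) (h : W2 Om)

include C h

theorem fx_a0 : Fx Om s (a 0) := fun _ hM => h.h3 C.k1 hM (C.qa.mem 0) (C.qa.sq 0) C.ta0.symm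

theorem fx_z : Fx Om s z := fun M hM => by
  have h1 := C.fx_a0 h M hM
  rw [← C.qa.sq 0, cj_mul, h1, h1]

/-- the elements of `K1` commuting with `s` fix the members over `s` -/
theorem fx_of_pow {k : G} (hk : k ∈ K1) (hks : k * s = s * k) : Fx Om s k ∧ (k = 1 ∨ k = z ∨ k = a 0 ∨ k = z * a 0) := by
  have key : ∀ i, i ≠ 0 → a i * s ≠ s * a i := by
    intro i hi e
    have h1 := C.ta (a i) (C.qa.mem i)
    rw [← e, mul_inv_cancel_right, C.qa.conj_ne (Ne.symm hi)] at h1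
    exact C.qa.zne _ h1.symm
  have hzs := C.comm
  rcases C.qa.cov k hk with rfl | rfl | ⟨i, rfl | rfl⟩
  · exact ⟨fun _ _ => cj_one _, Or.inl rfl⟩
  · exact ⟨C.fx_z h, Or.inr (Or.inl rfl)⟩
  · by_cases hi : i = 0
    · subst hi; exact ⟨C.fx_a0 h, Or.inr (Or.inr (Or.inl rfl))⟩
    · exact absurd hks (key i hi)
  · by_cases hi : i = 0
    · subst hi; exact ⟨(C.fx_z h).mul (C.fx_a0 h), Or.inr (Or.inr (Or.inr rfl))⟩
    · exfalso
      apply key i hi
      rw [mul_assoc] at hks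
      have h1 : z * (a i * s) = z * (s * a i) := by
        rw [hks, ← mul_assoc, ← hzs, mul_assoc]
      exact mul_left_cancel h1

theorem sw_iff_of_fx {g g' : G} (hf : Fx Om s g) : Sw Om s (g * g') ↔ Sw Om s g' := by
  constructor
  · intro h1 M hM h2
    apply h1 M hM
    rw [cj_mul, h2, hf M hM]
  · exact fun h1 => hf.mul_sw h1

/-- `P2` in terms of `a 1 b 1` -/
theorem pTwo_iff : PTwo Om z s ↔ Sw Om s (a 1 * b 1) := by
  constructor
  · rintro ⟨r, hr, hrs, hsw⟩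
    obtain ⟨k, hk, l, hl, rfl⟩ := (mem_RZ C.k1 C.k2 h C.kne).1 hr
    -- `[s, k] = [s, l]⁻¹ ∈ ⟨z⟩`
    have hinn : ∀ {K : Subgroup G} {x : Fin 3 → G}, Q3 K z x → (∀ k ∈ K, s * k * s⁻¹ = x 0 * k * (x 0)⁻¹) →
        ∀ k ∈ K, (s * k * s⁻¹ = k ∨ (s * k * s⁻¹ = z * k ∧ s * ((x 1)⁻¹ * k) * s⁻¹ = (x 1)⁻¹ * k)) := by
      intro K x Q hx k hk
      have c0 : s * x 0 * s⁻¹ = x 0 := by rw [hx _ (Q.mem 0), Q3.conj_self]
      have cne : ∀ i, i ≠ 0 → s * x i * s⁻¹ = z * x i := fun i hi => by rw [hx _ (Q.mem i), Q.conj_ne (Ne.symm hi)]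
      have cz : s * z * s⁻¹ = z := by rw [← C.comm, mul_inv_cancel_right]
      have hmul : ∀ u v : G, s * (u * v) * s⁻¹ = (s * u * s⁻¹) * (s * v * s⁻¹) := fun u v => by group
      have cneg : ∀ i, i ≠ 0 → s * ((x 1)⁻¹ * x i) * s⁻¹ = (x 1)⁻¹ * x i := by
        intro i hi
        have h1 : s * (x 1)⁻¹ * s⁻¹ = (s * x 1 * s⁻¹)⁻¹ := by group
        rw [hmul, h1, cne 1 (by decide), cne i hi, mul_inv_rev, mul_assoc, inv_mul_cancel_left]
      rcases Q.cov k hk with rfl | rfl | ⟨i, rfl | rfl⟩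
      · left; group
      · left; exact cz
      · by_cases hi : i = 0
        · subst hi; left; exact c0
        · right; exact ⟨cne i hi, cneg i hi⟩
      · by_cases hi : i = 0
        · subst hi; left; rw [hmul, cz, c0]
        · right
          refine ⟨by rw [hmul, cz, cne i hi], ?_⟩
          have e : (x 1)⁻¹ * (z * x i) = z * ((x 1)⁻¹ * x i) := by
            rw [← mul_assoc, ← Q.zcomm (inv_mem (Q.mem 1)), mul_assoc]
          rw [e, hmul, cz, cneg i hi]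
    have hs : s * (k * l) * s⁻¹ = k * l := by rw [← hrs, mul_inv_cancel_right]
    have hs' : (s * k * s⁻¹) * (s * l * s⁻¹) = k * l := by rw [← hs]; group
    have hzne := C.qa.zne
    rcases hinn C.qa C.ta k hk with h1 | ⟨h1, h1'⟩ <;> rcases hinn C.qb C.tb l hl with h2 | ⟨h2, h2'⟩
    · exfalso
      rw [mul_inv_eq_iff_eq_mul] at h1 h2
      have f1 := (C.fx_of_pow h hk h1.symm).1
      have f2 := (C.swk.fx_of_pow h hl h2.symm).1
      exact fx_sw_false C.l1.inZ (f1.mul f2) hsw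
    · exfalso
      rw [h1, h2, ← mul_assoc, ← C.qa.zcomm hk, mul_assoc] at hs'
      exact hzne _ hs'
    · exfalso
      rw [h1, h2, mul_assoc] at hs'
      exact hzne _ hs'
    · -- `k = a 1 k'`, `l = b 1 l'`
      rw [mul_inv_eq_iff_eq_mul] at h1' h2'
      have f1 := (C.fx_of_pow h (mul_mem (inv_mem (C.qa.mem 1)) hk) h1'.symm).1
      have f2 := (C.swk.fx_of_pow h (mul_mem (inv_mem (C.qb.mem 1)) hl) h2'.symm).1
      have e : k * l = (a 1 * b 1) * (((a 1)⁻¹ * k) * ((b 1)⁻¹ * l)) := by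
        have e1 := C.k1.comm C.k2 h C.kne hk (inv_mem (C.qb.mem 1))
        have e2 := C.k1.comm C.k2 h C.kne (inv_mem (C.qa.mem 1)) (C.qb.mem 1)
        calc k * l = a 1 * ((a 1)⁻¹ * k) * l := by group
          _ = a 1 * (b 1 * (b 1)⁻¹) * ((a 1)⁻¹ * k) * l := by group
          _ = a 1 * b 1 * ((b 1)⁻¹ * (a 1)⁻¹ * k) * l := by group
          _ = a 1 * b 1 * ((a 1)⁻¹ * (b 1)⁻¹ * k) * l := by
            rw [C.k1.comm C.k2 h C.kne (inv_mem (C.qa.mem 1)) (inv_mem (C.qb.mem 1))]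
          _ = a 1 * b 1 * ((a 1)⁻¹ * ((b 1)⁻¹ * k)) * l := by group
          _ = a 1 * b 1 * ((a 1)⁻¹ * (k * (b 1)⁻¹)) * l := by rw [e1]
          _ = _ := by group
      intro M hM h3
      apply hsw M hM
      rw [e, cj_mul, (f1.mul f2) M hM, h3]
  · intro h1
    exact ⟨a 1 * b 1, mul_mem (C.k1.le_RZ (C.qa.mem 1)) (C.k2.le_RZ (C.qb.mem 1)), C.vt h, h1⟩

/-- the action of `g ∈ C(z, s)` on the members over `z s` -/
theorem sw_zs (hgz : g * z = z * g) (hgs : g * s = s * g) :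
    Sw Om (z * s) g ↔ ((Fx Om z g ∧ Sw Om s g) ∨ (Sw Om z g ∧ Sw Om s (a 1 * b 1 * g))) := by
  -- `Sw (z s) g ↔ Sw s ((a 1)⁻¹ g a 1)`
  have h0 : Sw Om (z * s) g ↔ Sw Om s ((a 1)⁻¹ * g * a 1) := by
    have e1 : a 1 * s * (a 1)⁻¹ = z * s := C.a1t
    have e2 : a 1 * ((a 1)⁻¹ * g * a 1) * (a 1)⁻¹ = g := by group
    constructor
    · intro h1
      have h2 := h1.conj h (a 1)⁻¹
      have e3 : (a 1)⁻¹ * (z * s) * (a 1)⁻¹⁻¹ = s := by rw [← e1]; group
      have e4 : (a 1)⁻¹ * g * (a 1)⁻¹⁻¹ = (a 1)⁻¹ * g * a 1 := by group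
      rwa [e3, e4] at h2
    · intro h1
      have h2 := h1.conj h (a 1)
      rwa [e1, e2] at h2
  have e0 : (a 1)⁻¹ * g * a 1 = ((a 1)⁻¹ * (g * a 1 * g⁻¹)) * g := by group
  have hga1s : ∀ (x : G), s * x * s⁻¹ = z * x → s * (g * x * g⁻¹) * s⁻¹ = z * (g * x * g⁻¹) := by
    intro x hx
    calc s * (g * x * g⁻¹) * s⁻¹ = (s * g) * x * (s * g)⁻¹ := by group
      _ = (g * s) * x * (g * s)⁻¹ := by rw [hgs]
      _ = g * (s * x * s⁻¹) * g⁻¹ := by group
      _ = (g * z) * x * g⁻¹ := by rw [hx]; group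
      _ = _ := by rw [hgz]; group
  have h1 := hga1s _ C.ta1
  have hinv : s * (a 1)⁻¹ * s⁻¹ = z * (a 1)⁻¹ := by
    have : s * (a 1)⁻¹ * s⁻¹ = (s * a 1 * s⁻¹)⁻¹ := by group
    rw [this, C.ta1, mul_inv_rev, C.zinv, C.qa.zcomm (inv_mem (C.qa.mem 1))]
  have hcomm : ((a 1)⁻¹ * (g * a 1 * g⁻¹)) * s = s * ((a 1)⁻¹ * (g * a 1 * g⁻¹)) := by
    have : s * ((a 1)⁻¹ * (g * a 1 * g⁻¹)) * s⁻¹ = (a 1)⁻¹ * (g * a 1 * g⁻¹) := by
      calc s * ((a 1)⁻¹ * (g * a 1 * g⁻¹)) * s⁻¹ = (s * (a 1)⁻¹ * s⁻¹) * (s * (g * a 1 * g⁻¹) * s⁻¹) := by group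
        _ = z * (a 1)⁻¹ * (z * (g * a 1 * g⁻¹)) := by rw [hinv, h1]
        _ = z * ((a 1)⁻¹ * z) * (g * a 1 * g⁻¹) := by group
        _ = z * (z * (a 1)⁻¹) * (g * a 1 * g⁻¹) := by rw [← C.qa.zcomm (inv_mem (C.qa.mem 1))]
        _ = (z * z) * ((a 1)⁻¹ * (g * a 1 * g⁻¹)) := by group
        _ = _ := by rw [C.z2, one_mul]
    rw [mul_inv_eq_iff_eq_mul] at this
    exact this.symm
  rw [h0, e0]
  rcases fx_or_sw h C.k1.inZ hgz with hf | hf
  · -- `g` fixes `K1`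
    have h2 : (a 1)⁻¹ * (g * a 1 * g⁻¹) ∈ K1 := by
      refine mul_mem (inv_mem (C.qa.mem 1)) ?_
      have := conj_mem_cj (g := g) (C.qa.mem 1)
      rwa [hf K1 C.k1] at this
    have h3 := (C.fx_of_pow h h2 hcomm).1
    rw [C.sw_iff_of_fx h h3]
    constructor
    · exact fun h4 => Or.inl ⟨hf, h4⟩
    · rintro (⟨-, h4⟩ | ⟨h4, -⟩)
      · exact h4
      · exact (fx_sw_false C.k1.inZ hf h4).elim
  · -- `g` interchanges `K1` and `K2`
    have hK : cj g K1 = K2 := by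
      rcases C.k1.cases C.k2 h C.kne (C.k1.cj_comm h hgz) with h2 | h2
      · exact absurd h2 (hf K1 C.k1)
      · exact h2
    have h2 : g * a 1 * g⁻¹ ∈ K2 := by rw [← hK]; exact conj_mem_cj (C.qa.mem 1)
    -- `(g a 1 g⁻¹) (b 1)⁻¹` commutes with `s`
    have hb1 : s * (b 1)⁻¹ * s⁻¹ = z * (b 1)⁻¹ := by
      have : s * (b 1)⁻¹ * s⁻¹ = (s * b 1 * s⁻¹)⁻¹ := by group
      rw [this, C.swk.ta1, mul_inv_rev, C.zinv, C.qb.zcomm (inv_mem (C.qb.mem 1))]
    have h3 : ((g * a 1 * g⁻¹) * (b 1)⁻¹) * s = s * ((g * a 1 * g⁻¹) * (b 1)⁻¹) := by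
      have : s * ((g * a 1 * g⁻¹) * (b 1)⁻¹) * s⁻¹ = (g * a 1 * g⁻¹) * (b 1)⁻¹ := by
        calc s * ((g * a 1 * g⁻¹) * (b 1)⁻¹) * s⁻¹ = (s * (g * a 1 * g⁻¹) * s⁻¹) * (s * (b 1)⁻¹ * s⁻¹) := by group
          _ = z * (g * a 1 * g⁻¹) * (z * (b 1)⁻¹) := by rw [hb1, h1]
          _ = z * ((g * a 1 * g⁻¹) * z) * (b 1)⁻¹ := by group
          _ = z * (z * (g * a 1 * g⁻¹)) * (b 1)⁻¹ := by rw [C.qb.zcomm h2]
          _ = (z * z) * ((g * a 1 * g⁻¹) * (b 1)⁻¹) := by group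
          _ = _ := by rw [C.z2, one_mul]
      rw [mul_inv_eq_iff_eq_mul] at this
      exact this.symm
    have h4 := (C.swk.fx_of_pow h (mul_mem h2 (inv_mem (C.qb.mem 1))) h3).1
    -- `(a 1)⁻¹ (g a 1 g⁻¹) g = z ((g a 1 g⁻¹) (b 1)⁻¹) (a 1 b 1 g)`
    have e1 : (a 1)⁻¹ * (g * a 1 * g⁻¹) * g = (z * ((g * a 1 * g⁻¹) * (b 1)⁻¹)) * (a 1 * b 1 * g) := by
      have e2 := C.k1.comm C.k2 h C.kne (C.qa.mem 1) h2
      have e3 := C.k1.comm C.k2 h C.kne (C.qa.mem 1) (C.qb.mem 1)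
      rw [C.qa.inv]
      calc z * a 1 * (g * a 1 * g⁻¹) * g = z * (a 1 * (g * a 1 * g⁻¹)) * g := by group
        _ = z * ((g * a 1 * g⁻¹) * a 1) * g := by rw [e2]
        _ = z * ((g * a 1 * g⁻¹) * (b 1)⁻¹) * (b 1 * a 1) * g := by group
        _ = z * ((g * a 1 * g⁻¹) * (b 1)⁻¹) * (a 1 * b 1) * g := by rw [e3]
        _ = _ := by group
    rw [e1, C.sw_iff_of_fx h ((C.fx_z h).mul h4)]
    constructor
    · exact fun h5 => Or.inr ⟨hf, h5⟩
    · rintro (⟨h5, -⟩ | ⟨-, h5⟩)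
      · exact (fx_sw_false C.k1.inZ h5 hf).elim
      · exact h5

end Cf

/-! ### `P1` and `P2` -/

theorem PTwo.conj (h : W2 Om) (h2 : PTwo Om z s) (g : G) : PTwo Om (g * z * g⁻¹) (g * s * g⁻¹) := by
  obtain ⟨r, hr, hrs, hsw⟩ := h2
  refine ⟨g * r * g⁻¹, RZ_conj h g hr, ?_, hsw.conj h g⟩
  calc g * r * g⁻¹ * (g * s * g⁻¹) = g * (r * s) * g⁻¹ := by group
    _ = g * (s * r) * g⁻¹ := by rw [hrs]
    _ = _ := by group

/-- an element interchanging `z` and `s` -/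
theorem TI.exists_swap (h : W2 Om) (hti : TI Om z s) : ∃ g, g * z * g⁻¹ = s ∧ g * s * g⁻¹ = z := by
  obtain ⟨K1, K2, L1, L2, a, b, p, q, C⟩ := hti.exists_cf h
  have h1 : a 1 * s * (a 1)⁻¹ = z * s := C.a1t
  have h2 : a 1 * z * (a 1)⁻¹ = z := by rw [C.a1z, mul_inv_cancel_right]
  have h3 : p 1 * z * (p 1)⁻¹ = s * z := C.symm.a1t
  have h4 : p 1 * s * (p 1)⁻¹ = s := by rw [C.symm.a1z, mul_inv_cancel_right]
  refine ⟨a 1 * p 1 * a 1, ?_, ?_⟩
  · calc a 1 * p 1 * a 1 * z * (a 1 * p 1 * a 1)⁻¹ = a 1 * (p 1 * (a 1 * z * (a 1)⁻¹) * (p 1)⁻¹) * (a 1)⁻¹ := by group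
      _ = a 1 * (s * z) * (a 1)⁻¹ := by rw [h2, h3]
      _ = (a 1 * s * (a 1)⁻¹) * (a 1 * z * (a 1)⁻¹) := by group
      _ = z * s * z := by rw [h1, h2]
      _ = s := by rw [C.comm, mul_assoc, C.z2, mul_one]
  · calc a 1 * p 1 * a 1 * s * (a 1 * p 1 * a 1)⁻¹ = a 1 * (p 1 * (a 1 * s * (a 1)⁻¹) * (p 1)⁻¹) * (a 1)⁻¹ := by group
      _ = a 1 * ((p 1 * z * (p 1)⁻¹) * (p 1 * s * (p 1)⁻¹)) * (a 1)⁻¹ := by rw [h1]; group
      _ = a 1 * (s * z * s) * (a 1)⁻¹ := by rw [h3, h4]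
      _ = a 1 * z * (a 1)⁻¹ := by rw [← C.comm, mul_assoc z, C.t2, mul_one]
      _ = z := h2

theorem PTwo.symm (h : W2 Om) (hti : TI Om z s) (h2 : PTwo Om z s) : PTwo Om s z := by
  obtain ⟨g, h3, h4⟩ := hti.exists_swap h
  have := h2.conj h g
  rwa [h3, h4] at this

theorem pTwo_comm (h : W2 Om) (hti : TI Om z s) : PTwo Om z s ↔ PTwo Om s z :=
  ⟨fun h2 => h2.symm h hti, fun h2 => h2.symm h (hti.symm h)⟩

theorem TI.mul (h : W2 Om) (hti : TI Om z s) : TI Om z (z * s) := by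
  obtain ⟨c, l⟩ := hti.exists_lab h
  exact (l.mul h).ti

theorem PTwo.mul (h : W2 Om) (hti : TI Om z s) (h2 : PTwo Om z s) : PTwo Om z (z * s) := by
  obtain ⟨K1, K2, L1, L2, a, b, p, q, C⟩ := hti.exists_cf h
  have := h2.conj h (a 1)
  rwa [C.a1t, C.a1z, mul_inv_cancel_right] at this

/-- (9.1) for `P2` -/
theorem eps_two (h : W2 Om) (hti : TI Om z s) (h2 : PTwo Om z s) (hgz : g * z = z * g) (hgs : g * s = s * g) :
    (Fx Om z g ∧ Fx Om s g ∧ Fx Om (z * s) g) ∨ (Sw Om z g ∧ Sw Om s g ∧ Fx Om (z * s) g) ∨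
      (Sw Om z g ∧ Fx Om s g ∧ Sw Om (z * s) g) ∨ (Fx Om z g ∧ Sw Om s g ∧ Sw Om (z * s) g) := by
  obtain ⟨K1, K2, L1, L2, a, b, p, q, C⟩ := hti.exists_cf h
  have h3 := (C.pTwo_iff h).1 h2
  have h4 := C.sw_zs h hgz hgs
  have hzs : InZ Om (z * s) := (hti.mul h).2.1
  have hgzs : g * (z * s) = z * s * g := by rw [← mul_assoc, hgz, mul_assoc, hgs, ← mul_assoc]
  have hv := C.vt h
  rcases fx_or_sw h hti.1 hgz with h5 | h5 <;> rcases fx_or_sw h hti.2.1 hgs with h6 | h6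
  · left
    refine ⟨h5, h6, ?_⟩
    rcases fx_or_sw h hzs hgzs with h7 | h7
    · exact h7
    · exfalso
      rcases h4.1 h7 with ⟨-, h8⟩ | ⟨h8, -⟩
      · exact fx_sw_false hti.2.1 h6 h8
      · exact fx_sw_false hti.1 h5 h8
  · exact Or.inr (Or.inr (Or.inr ⟨h5, h6, h4.2 (Or.inl ⟨h5, h6⟩)⟩))
  · exact Or.inr (Or.inr (Or.inl ⟨h5, h6, h4.2 (Or.inr ⟨h5, h3.mul_fx h6⟩)⟩))
  · right; left
    refine ⟨h5, h6, ?_⟩
    rcases fx_or_sw h hzs hgzs with h7 | h7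
    · exact h7
    · exfalso
      rcases h4.1 h7 with ⟨h8, -⟩ | ⟨-, h8⟩
      · exact fx_sw_false hti.1 h8 h5
      · exact fx_sw_false hti.2.1 (h3.mul h h6 hv hgs) h8

/-- (9.1) for `P1` -/
theorem eps_one (h : W2 Om) (hti : TI Om z s) (h2 : ¬ PTwo Om z s) (hgz : g * z = z * g) (hgs : g * s = s * g) :
    (Fx Om z g ∧ Fx Om s g ∧ Fx Om (z * s) g) ∨ (Sw Om z g ∧ Sw Om s g ∧ Sw Om (z * s) g) := by
  have key : ∀ {z s : G}, TI Om z s → ¬ PTwo Om z s → g * z = z * g → g * s = s * g →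
      (Sw Om (z * s) g ↔ Sw Om s g) := by
    intro z s hti h2 hgz hgs
    obtain ⟨K1, K2, L1, L2, a, b, p, q, C⟩ := hti.exists_cf h
    have h3 : Fx Om s (a 1 * b 1) := by
      rcases fx_or_sw h hti.2.1 (C.vt h) with h3 | h3
      · exact h3
      · exact absurd ((C.pTwo_iff h).2 h3) h2
    rw [C.sw_zs h hgz hgs, C.sw_iff_of_fx h h3]
    rcases fx_or_sw h hti.1 hgz with h5 | h5
    · exact ⟨fun h6 => h6.elim (fun h7 => h7.2) (fun h7 => h7.2), fun h6 => Or.inl ⟨h5, h6⟩⟩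
    · exact ⟨fun h6 => h6.elim (fun h7 => h7.2) (fun h7 => h7.2), fun h6 => Or.inr ⟨h5, h6⟩⟩
  have k1 := key hti h2 hgz hgs
  have k2 := key (hti.symm h) (fun h3 => h2 (h3.symm h (hti.symm h))) hgs hgz
  rw [hti.2.2.2.1.symm] at k2
  have hzs : InZ Om (z * s) := (hti.mul h).2.1
  have hgzs : g * (z * s) = z * s * g := by rw [← mul_assoc, hgz, mul_assoc, hgs, ← mul_assoc]
  rcases fx_or_sw h hzs hgzs with h7 | h7
  · left
    refine ⟨?_, ?_, h7⟩
    · rcases fx_or_sw h hti.1 hgz with h5 | h5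
      · exact h5
      · exact (fx_sw_false hzs h7 (k2.2 h5)).elim
    · rcases fx_or_sw h hti.2.1 hgs with h5 | h5
      · exact h5
      · exact (fx_sw_false hzs h7 (k1.2 h5)).elim
  · right
    exact ⟨k2.1 h7, k1.1 h7, h7⟩

/-- `P1` implies `c = 1` -/
theorem Lab.eq_one (h : W2 Om) (l : Lab Om z s c) (h2 : ¬ PTwo Om z s) : c = 1 := by
  obtain ⟨K1, K2, L1, L2, a, b, p, q, C⟩ := l.ti.exists_cf h
  have h3 : Fx Om s (a 1 * b 1) := by
    rcases fx_or_sw h l.ti.2.1 (C.vt h) with h3 | h3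
    · exact h3
    · exact absurd ((C.pTwo_iff h).2 h3) h2
  have h4 : s ∈ RZ Om z := by
    have h5 : a 0 * b 0 ∈ RZ Om z := mul_mem (C.k1.le_RZ (C.qa.mem 0)) (C.k2.le_RZ (C.qb.mem 0))
    rcases C.p1 h (h3 L1 C.l1) with h6 | h6
    · rw [h6]; exact h5
    · rw [h6]; exact mul_mem (C.k1.le_RZ C.qa.zmem) h5
  have h5 : c ∈ RZ Om z := by
    have := mul_mem (inv_mem h4) l.wz
    rwa [inv_mul_cancel_left] at this
  rcases RZ_inf_CX h l.ti.1 h5 l.cz with h6 | h6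
  · exact h6
  · exact absurd h6 (l.ne_z h)

/-! ### (6.7): the types of `t` with respect to a line centralised by `t` -/

theorem tp_or_f (h : W2 Om) (hz : InZ Om z) (ht : InZ Om t) (hc : z * t = t * z) (hnd : ¬ DI Om z t) :
    PR Om z t ∨ FT Om z t := by
  have hne : z ≠ t := by
    rintro rfl; exact hnd Relation.ReflTransGen.refl
  rcases tcases h hz ht hne hc with h1 | h1 | h1
  · exact Or.inl h1
  · exact Or.inr h1
  · exact absurd h1.di hnd

/-- the types of `t` with respect to the points of a line `⟨z, s⟩` centralised by `t`, if `t ∉ Δ_I(z)` -/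
theorem status (h : W2 Om) (hti : TI Om z s) (ht : InZ Om t) (hzt : z * t = t * z) (hst : s * t = t * s)
    (hnd : ¬ DI Om z t) :
    (¬ PTwo Om z s → PR Om z t ∧ PR Om s t ∧ PR Om (z * s) t) ∧
    (PTwo Om z s → (PR Om z t ∧ PR Om s t ∧ FT Om (z * s) t) ∨ (PR Om z t ∧ FT Om s t ∧ PR Om (z * s) t) ∨
      (FT Om z t ∧ PR Om s t ∧ PR Om (z * s) t)) := by
  have hti2 := hti.mul h
  have hzst : z * s * t = t * (z * s) := by rw [mul_assoc, hst, ← mul_assoc, hzt, mul_assoc]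
  have hnd1 : ¬ DI Om s t := fun h1 => hnd (hti.di.trans h1)
  have hnd2 : ¬ DI Om (z * s) t := fun h1 => hnd (hti2.di.trans h1)
  have c1 := tp_or_f h hti.1 ht hzt hnd
  have c2 := tp_or_f h hti.2.1 ht hst hnd1
  have c3 := tp_or_f h hti2.2.1 ht hzst hnd2
  -- not f with respect to `z` and `s`
  have n1 : ¬ (FT Om z t ∧ FT Om s t) := fun h1 => hnd (f_twice h hti h1.1 h1.2)
  constructor
  · intro h2
    rcases eps_one h hti h2 hzt.symm hst.symm with ⟨e1, e2, e3⟩ | ⟨e1, e2, e3⟩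
    · exfalso
      apply n1
      constructor
      · rcases c1 with c1 | c1
        · exact (fx_sw_false hti.1 e1 c1.sw).elim
        · exact c1
      · rcases c2 with c2 | c2
        · exact (fx_sw_false hti.2.1 e2 c2.sw).elim
        · exact c2
    · refine ⟨?_, ?_, ?_⟩
      · rcases c1 with c1 | c1
        · exact c1
        · exact (fx_sw_false hti.1 c1.fr.fx e1).elim
      · rcases c2 with c2 | c2
        · exact c2
        · exact (fx_sw_false hti.2.1 c2.fr.fx e2).elim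
      · rcases c3 with c3 | c3
        · exact c3
        · exact (fx_sw_false hti2.2.1 c3.fr.fx e3).elim
  · intro h2
    rcases c1 with c1 | c1 <;> rcases c2 with c2 | c2 <;> rcases c3 with c3 | c3
    · exfalso
      rcases eps_two h hti h2 hzt.symm hst.symm with ⟨e1, e2, e3⟩ | ⟨e1, e2, e3⟩ | ⟨e1, e2, e3⟩ | ⟨e1, e2, e3⟩
      · exact fx_sw_false hti.1 e1 c1.sw
      · exact fx_sw_false hti2.2.1 e3 c3.sw
      · exact fx_sw_false hti.2.1 e2 c2.sw
      · exact fx_sw_false hti.1 e1 c1.sw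
    · exact Or.inl ⟨c1, c2, c3⟩
    · exact Or.inr (Or.inl ⟨c1, c2, c3⟩)
    · exfalso
      rcases eps_two h hti h2 hzt.symm hst.symm with ⟨e1, e2, e3⟩ | ⟨e1, e2, e3⟩ | ⟨e1, e2, e3⟩ | ⟨e1, e2, e3⟩
      · exact fx_sw_false hti.1 e1 c1.sw
      · exact fx_sw_false hti.2.1 c2.fr.fx e2
      · exact fx_sw_false hti2.2.1 c3.fr.fx e3
      · exact fx_sw_false hti.1 e1 c1.sw
    · exact Or.inr (Or.inr ⟨c1, c2, c3⟩)
    · exfalso
      rcases eps_two h hti h2 hzt.symm hst.symm with ⟨e1, e2, e3⟩ | ⟨e1, e2, e3⟩ | ⟨e1, e2, e3⟩ | ⟨e1, e2, e3⟩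
      · exact fx_sw_false hti.2.1 e2 c2.sw
      · exact fx_sw_false hti.1 c1.fr.fx e1
      · exact fx_sw_false hti.1 c1.fr.fx e1
      · exact fx_sw_false hti2.2.1 c3.fr.fx e3
    · exact absurd ⟨c1, c2⟩ n1
    · exact absurd ⟨c1, c2⟩ n1

/-- (6.4) as a property of the world: every `t ∈ Z ∩ C(z)` centralises a type I line on `z` -/
def HasLine (Om : Set (Subgroup G)) : Prop :=
  ∀ z t : G, InZ Om z → InZ Om t → z * t = t * z → ∃ s, TI Om z s ∧ s * t = t * s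

/-- (6.7), all lines of type `P1`: commuting pairs are connected by type I edges -/
theorem di_of_one (h : W2 Om) (hline : HasLine Om) (h1 : ∀ z s, TI Om z s → ¬ PTwo Om z s) (hz : InZ Om z)
    (ht : InZ Om t) (hc : z * t = t * z) : DI Om z t := by
  by_contra hnd
  obtain ⟨s, hti, hst⟩ := hline z t hz ht hc
  have hti2 := hti.mul h
  have hzst : z * s * t = t * (z * s) := by rw [mul_assoc, hst, ← mul_assoc, hc, mul_assoc]
  have hnd1 : ¬ DI Om s t := fun h1 => hnd (hti.di.trans h1)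
  have hnd2 : ¬ DI Om (z * s) t := fun h1 => hnd (hti2.di.trans h1)
  -- some `v ∈ {z, s, z s}` is of type f with respect to `t`
  have key : ∀ v, DI Om z v → FT Om t v → False := by
    intro v hv hf
    obtain ⟨s', hti', hs'⟩ := hline t v ht hf.fr.ht hf.fr.comm
    have hnd' : ¬ DI Om t v := fun h3 => hnd (hv.trans (h3.symm h))
    have := (status h hti' hf.fr.ht hf.fr.comm hs' hnd').1 (h1 t s' hti')
    exact this.1.not_fr hf.fr
  have ne1 : t ≠ z := by rintro rfl; exact hnd Relation.ReflTransGen.refl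
  have ne2 : t ≠ s := by rintro rfl; exact hnd1 Relation.ReflTransGen.refl
  have ne3 : t ≠ z * s := by rintro rfl; exact hnd2 Relation.ReflTransGen.refl
  have hzs := hti.2.2.2.1
  rcases four h hz hti.2.1 hti2.2.1 ht hzs hc.symm hst.symm ne1 ne2 ne3
    (fun h3 => hnd (h3.symm h).di) (fun h3 => hnd1 (h3.symm h).di) (fun h3 => hnd2 (h3.symm h).di) with
    ⟨-, -, h3⟩ | ⟨-, h3, -⟩ | ⟨h3, -, -⟩
  · exact key _ hti2.di h3
  · exact key _ hti.di h3
  · exact key _ Relation.ReflTransGen.refl h3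

end

end Cfsg.Agent.Cit.Nil.RTwo
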