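import Cfsg.Agent.Cit.Nil.RTwo.SLEnd
import Cfsg.Agent.Cit.Nil.RTwo.TLine
import Cfsg.Agent.Cit.Nil.RTwo.UOne

/-!
# The shape of `D0`; the worlds (U) and (S)

* `Frame.cj`, `Dir.cj`, `DC.cj`, `Tra.cj`, `D0.cj`, `CaseS.cj` : conjugation;
* `D0.sub` : `D0` as a subgroup; `D0.swp` : an element of `C(z)` interchanging the members over `z`;
* `D0.cases` : `D0` is everything or contains no vector of weight one; `D0.diag` : `U10.diag`;
* `UU Om z` : (U) at `z`; `SB Om` : the world (S); `dichotomy` : (U) everywhere or `SB`;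
* `CaseS.exists_diag` : a transversal of diagonal direction.
-/

set_option autoImplicit false
set_option linter.style.haveILetI false
set_option linter.unusedSectionVars false
set_option maxHeartbeats 400000

namespace Cfsg.Agent.Cit.Nil.RTwo

open Subgroup Cfsg Cit

variable {G : Type*} [Group G]

section

variable [Finite G] {Om : Set (Subgroup G)} {K K1 K2 L L1 L2 : Subgroup G} {z t g k x y w c c' u d : G}
  {a b : Fin 3 → G} {v v' p q : Fin 3 × Fin 3}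

/-! ### Conjugation -/

theorem Frame.cj (F : Frame Om z K1 K2 a b) (h : W2 Om) (g : G) :
    Frame Om (g * z * g⁻¹) (Cit.cj g K1) (Cit.cj g K2) (fun i => g * a i * g⁻¹) (fun i => g * b i * g⁻¹) :=
  ⟨F.k1.cj h g, F.k2.cj h g, fun e => F.ne (cj_inj.1 e), F.qa.conj g, F.qb.conj g⟩

theorem Dir.cj {i j : Fin 3} (hd : Dir z a b w i j) (g : G) :
    Dir (g * z * g⁻¹) (fun i => g * a i * g⁻¹) (fun i => g * b i * g⁻¹) (g * w * g⁻¹) i j := by
  rcases hd with rfl | rfl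
  · left; group
  · right; group

theorem DC.cj (h : W2 Om) (hp : p ∈ DC Om z a b c) (g : G) :
    p ∈ DC Om (g * z * g⁻¹) (fun i => g * a i * g⁻¹) (fun i => g * b i * g⁻¹) (g * c * g⁻¹) := by
  obtain ⟨t, l, hd⟩ := hp
  refine ⟨_, l.conj h g, ?_⟩
  have h1 := hd.cj g
  have e : g * t * g⁻¹ * (g * c * g⁻¹) = g * (t * c) * g⁻¹ := by group
  rw [e]; exact h1

theorem conj_conj_inv (g x : G) : g⁻¹ * (g * x * g⁻¹) * g⁻¹⁻¹ = x := by group

theorem DC.cj_iff (h : W2 Om) (g : G) :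
    p ∈ DC Om (g * z * g⁻¹) (fun i => g * a i * g⁻¹) (fun i => g * b i * g⁻¹) (g * c * g⁻¹) ↔ p ∈ DC Om z a b c := by
  refine ⟨fun hp => ?_, fun hp => DC.cj h hp g⟩
  have h1 := DC.cj h hp g⁻¹
  simp only [conj_conj_inv] at h1
  exact h1

theorem Act.cj {x y : Fin 3 → G} {σ : Equiv.Perm (Fin 3)} (ha : Act z x y k σ) (g : G) :
    Act (g * z * g⁻¹) (fun i => g * x i * g⁻¹) (fun i => g * y i * g⁻¹) (g * k * g⁻¹) σ := by
  intro i
  have e : g * k * g⁻¹ * (g * x i * g⁻¹) * (g * k * g⁻¹)⁻¹ = g * (k * x i * k⁻¹) * g⁻¹ := by group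
  show g * k * g⁻¹ * (g * x i * g⁻¹) * (g * k * g⁻¹)⁻¹ = g * y (σ i) * g⁻¹ ∨ g * k * g⁻¹ * (g * x i * g⁻¹) *
    (g * k * g⁻¹)⁻¹ = g * z * g⁻¹ * (g * y (σ i) * g⁻¹)
  rw [e]
  rcases ha i with h1 | h1
  · left; rw [h1]
  · right; rw [h1]; group

theorem Tra.cj (ht : Tra z a b k v) (g : G) :
    Tra (g * z * g⁻¹) (fun i => g * a i * g⁻¹) (fun i => g * b i * g⁻¹) (g * k * g⁻¹) v where
  comm := by
    calc g * k * g⁻¹ * (g * z * g⁻¹) = g * (k * z) * g⁻¹ := by group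
      _ = g * (z * k) * g⁻¹ := by rw [ht.comm]
      _ = _ := by group
  a := ht.a.cj g
  b := ht.b.cj g

theorem Tra.of_cj (g : G) (ht : Tra (g * z * g⁻¹) (fun i => g * a i * g⁻¹) (fun i => g * b i * g⁻¹) k v) :
    Tra z a b (g⁻¹ * k * g⁻¹⁻¹) v := by
  have h1 := ht.cj g⁻¹
  simp only [conj_conj_inv] at h1
  exact h1

theorem D0.cj_iff (h : W2 Om) (g : G) :
    v ∈ D0 Om (g * z * g⁻¹) (fun i => g * a i * g⁻¹) (fun i => g * b i * g⁻¹) ↔ v ∈ D0 Om z a b := by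
  constructor
  · rintro ⟨c, p, hp, hq⟩
    obtain ⟨c', rfl⟩ : ∃ c', c = g * c' * g⁻¹ := ⟨g⁻¹ * c * g, by group⟩
    exact ⟨c', p, (DC.cj_iff h g).1 hp, (DC.cj_iff h g).1 hq⟩
  · rintro ⟨c, p, hp, hq⟩
    exact ⟨_, p, DC.cj h hp g, DC.cj h hq g⟩

theorem CC.cj_iff (h : W2 Om) (g : G) : g * c * g⁻¹ ∈ CC Om (g * z * g⁻¹) ↔ c ∈ CC Om z := by
  refine ⟨fun hc => ?_, fun hc => CC.conj h hc g⟩
  have h1 := CC.conj h hc g⁻¹
  rwa [conj_conj_inv, conj_conj_inv] at h1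

theorem CaseS.cj {c0 c1 c2 : G} (S : CaseS Om z a b c0 c1 c2) (h : W2 Om) (g : G) :
    CaseS Om (g * z * g⁻¹) (fun i => g * a i * g⁻¹) (fun i => g * b i * g⁻¹) (g * c0 * g⁻¹) (g * c1 * g⁻¹)
      (g * c2 * g⁻¹) where
  cc := by
    ext c
    obtain ⟨c', rfl⟩ : ∃ c', c = g * c' * g⁻¹ := ⟨g⁻¹ * c * g, by group⟩
    rw [CC.cj_iff h, S.cc]
    simp only [Set.mem_insert_iff, Set.mem_singleton_iff, mul_left_inj, mul_right_inj]
  n01 := fun e => S.n01 (mul_left_cancel (mul_right_cancel e))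
  n02 := fun e => S.n02 (mul_left_cancel (mul_right_cancel e))
  n12 := fun e => S.n12 (mul_left_cancel (mul_right_cancel e))
  mul := by
    rw [← S.mul]; group
  cen := by
    intro c hc x hx
    obtain ⟨c', rfl⟩ : ∃ c', c = g * c' * g⁻¹ := ⟨g⁻¹ * c * g, by group⟩
    obtain ⟨x', rfl⟩ : ∃ x', x = g * x' * g⁻¹ := ⟨g⁻¹ * x * g, by group⟩
    rw [CC.cj_iff h] at hc
    rw [CX_conj h] at hx
    have h1 := S.cen c' hc x' hx
    calc g * x' * g⁻¹ * (g * c' * g⁻¹) = g * (x' * c') * g⁻¹ := by group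
      _ = g * (c' * x') * g⁻¹ := by rw [h1]
      _ = _ := by group
  ex := by
    obtain ⟨k, v, h1, h2, h3, h4, h5, h6⟩ := S.ex
    refine ⟨g * k * g⁻¹, v, h1.cj g, ?_, ?_, ?_, fun h7 => h5 ((D0.cj_iff h g).1 h7), ?_⟩
    · rw [← h2]; group
    · rw [← h3]; group
    · rw [← h4]; group
    · intro k' v' hk'
      rw [D0.cj_iff h, D0.cj_iff h, D0.cj_iff h]
      exact h6 _ v' (Tra.of_cj g hk')

/-! ### `D0` as a subgroup -/

/-- `D0` -/
def D0.sub (h : W2 Om) (F : Frame Om z K1 K2 a b) (hn : (CC Om z).Nonempty) : AddSubgroup (Fin 3 × Fin 3) where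
  carrier := D0 Om z a b
  add_mem' := fun h1 h2 => D0.add h F h1 h2
  zero_mem' := D0.zero h F hn
  neg_mem' := fun h1 => D0.neg h1

theorem D0.mem_sub (h : W2 Om) (F : Frame Om z K1 K2 a b) (hn : (CC Om z).Nonempty) :
    v ∈ D0.sub h F hn ↔ v ∈ D0 Om z a b := Iff.rfl

/-- the directions of all lines -/
def DT (Om : Set (Subgroup G)) (z : G) (a b : Fin 3 → G) : Set (Fin 3 × Fin 3) := {p | ∃ c, p ∈ DC Om z a b c}

/-- `id` or `-` on `Fin 3` -/
def Sg (f : Fin 3 → Fin 3) : Prop := (∀ x, f x = x) ∨ ∀ x, f x = -x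

theorem sg_perm : ∀ σ : Equiv.Perm (Fin 3), (∀ x y, σ (x + y) - σ x = y) ∨ (∀ x y, σ (x + y) - σ x = -y) := by
  decide

theorem exists_sg (σ : Equiv.Perm (Fin 3)) : ∃ f, Sg f ∧ ∀ x y, σ y - σ x = f (y - x) := by
  rcases sg_perm σ with h | h
  · refine ⟨fun x => x, Or.inl fun _ => rfl, fun x y => ?_⟩
    have := h x (y - x)
    rwa [add_sub_cancel] at this
  · refine ⟨fun x => -x, Or.inr fun _ => rfl, fun x y => ?_⟩
    have := h x (y - x)
    rwa [add_sub_cancel] at this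

/-- an element of `C(z)` interchanging the members over `z` -/
theorem D0.swp (h : W2 Om) (F : Frame Om z K1 K2 a b) (hg : g * z = z * g) (hsw : Sw Om z g) :
    ∃ f e, Sg f ∧ Sg e ∧ (∀ v ∈ D0 Om z a b, (f v.2, e v.1) ∈ D0 Om z a b) ∧
      ∀ p ∈ DT Om z a b, ∀ q ∈ DT Om z a b, ∃ p' ∈ DT Om z a b, ∃ q' ∈ DT Om z a b,
        q' - p' = (f (q - p).2, e (q - p).1) := by
  rcases F.act_cases h hg with ⟨h1, -⟩ | ⟨-, -, σ, τ, h1, h2⟩
  · exact absurd h1 (hsw _ F.k1)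
  obtain ⟨e, he, he'⟩ := exists_sg σ
  obtain ⟨f, hf, hf'⟩ := exists_sg τ
  have key : ∀ {p : Fin 3 × Fin 3} {c : G}, p ∈ DC Om z a b c → (τ p.2, σ p.1) ∈ DC Om z a b (g * c * g⁻¹) := by
    rintro p c ⟨t, l, hd⟩
    refine ⟨_, l.conj_comm h hg, ?_⟩
    have h3 := F.dir_conj' h hg h1 h2 hd
    have e1 : g * t * g⁻¹ * (g * c * g⁻¹) = g * (t * c) * g⁻¹ := by group
    rw [e1]; exact h3
  refine ⟨f, e, hf, he, ?_, ?_⟩
  · rintro v ⟨c, p, hp, hq⟩
    have h3 := D0.sub_mem (key hp) (key hq)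
    have e1 : ((τ (p + v).2, σ (p + v).1) : Fin 3 × Fin 3) - (τ p.2, σ p.1) = (f v.2, e v.1) := by
      refine Prod.ext ?_ ?_
      · show τ (p + v).2 - τ p.2 = f v.2
        rw [hf']
        have : (p + v).2 - p.2 = v.2 := add_sub_cancel_left _ _
        rw [this]
      · show σ (p + v).1 - σ p.1 = e v.1
        rw [he']
        have : (p + v).1 - p.1 = v.1 := add_sub_cancel_left _ _
        rw [this]
    rwa [e1] at h3
  · rintro p ⟨c, hp⟩ q ⟨c', hq⟩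
    refine ⟨_, ⟨_, key hp⟩, _, ⟨_, key hq⟩, ?_⟩
    refine Prod.ext ?_ ?_
    · show τ q.2 - τ p.2 = f (q - p).2
      rw [hf']; rfl
    · show σ q.1 - σ p.1 = e (q - p).1
      rw [he']; rfl

theorem Sg.ne {f : Fin 3 → Fin 3} (hf : Sg f) {x : Fin 3} (hx : x ≠ 0) : f x ≠ 0 := by
  rcases hf with h | h
  · rw [h]; exact hx
  · rw [h]; exact neg_ne_zero.2 hx

theorem Sg.zero {f : Fin 3 → Fin 3} (hf : Sg f) : f 0 = 0 := by
  rcases hf with h | h
  · rw [h]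
  · rw [h, neg_zero]

theorem Sg.or {f : Fin 3 → Fin 3} (hf : Sg f) (x : Fin 3) : f x = x ∨ f x = -x := by
  rcases hf with h | h
  · left; exact h x
  · right; exact h x

theorem gen_key : ∀ x y : Fin 3, x ≠ 0 → y ≠ 0 → ∀ w : Fin 3 × Fin 3, ∃ m n : Fin 3,
    w = (m : ℕ) • ((x, 0) : Fin 3 × Fin 3) + (n : ℕ) • ((0, y) : Fin 3 × Fin 3) := by decide

/-- `D0` is everything or contains no vector of weight one -/
theorem D0.cases (h : W2 Om) (F : Frame Om z K1 K2 a b) (hn : (CC Om z).Nonempty)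
    (hg : ∃ g, g * z = z * g ∧ Sw Om z g) :
    (∀ v, v ∈ D0 Om z a b) ∨ ∀ v ∈ D0 Om z a b, v = 0 ∨ (v.1 ≠ 0 ∧ v.2 ≠ 0) := by
  obtain ⟨g, hg1, hg2⟩ := hg
  obtain ⟨f, e, hf, he, hD, -⟩ := D0.swp h F hg1 hg2
  have key : ∀ x y : Fin 3, x ≠ 0 → y ≠ 0 → (x, 0) ∈ D0 Om z a b → (0, y) ∈ D0 Om z a b →
      ∀ v, v ∈ D0 Om z a b := by
    intro x y hx hy h1 h2 w
    obtain ⟨m, n, hw⟩ := gen_key x y hx hy w
    rw [hw]
    exact (D0.sub h F hn).add_mem ((D0.sub h F hn).nsmul_mem h1 _) ((D0.sub h F hn).nsmul_mem h2 _)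
  by_cases hw : ∃ v ∈ D0 Om z a b, ¬ (v = 0 ∨ (v.1 ≠ 0 ∧ v.2 ≠ 0))
  · left
    obtain ⟨⟨x, y⟩, hv, hv'⟩ := hw
    have h1 := hD _ hv
    push Not at hv'
    obtain ⟨hv0, hv1⟩ := hv'
    by_cases hx : x = 0
    · have hy : y ≠ 0 := fun e => hv0 (by rw [hx, e]; rfl)
      subst hx
      have h2 : ((f y, (0 : Fin 3)) : Fin 3 × Fin 3) ∈ D0 Om z a b := by
        have := h1
        simp only [he.zero] at this
        exact this
      exact key _ _ (hf.ne hy) hy h2 hv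
    · have hy : y = 0 := hv1 hx
      subst hy
      have h2 : (((0 : Fin 3), e x) : Fin 3 × Fin 3) ∈ D0 Om z a b := by
        have := h1
        simp only [hf.zero] at this
        exact this
      exact key _ _ hx (he.ne hx) hv h2
  · right
    push Not at hw
    exact hw

theorem diag_mul_key : ∀ v : Fin 3 × Fin 3, v.1 ≠ 0 → v.2 ≠ 0 → (∀ i : Fin 3, ∃ n : Fin 3, (i, i) = (n : ℕ) • v) ∨
    (∀ i : Fin 3, ∃ n : Fin 3, ((i, -i) : Fin 3 × Fin 3) = (n : ℕ) • v) := by decide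

/-- `U10.diag` of section 10 -/
theorem D0.diag (h : W2 Om) (F : Frame Om z K1 K2 a b) (hg : ∃ g, g * z = z * g ∧ Sw Om z g)
    (hv : v ∈ D0 Om z a b) (hv0 : v ≠ 0) (hp : p ∈ DC Om z a b c) :
    (∀ i, (p.1 + i, p.2 + i) ∈ DC Om z a b c) ∨ (∀ i, (p.1 + i, p.2 - i) ∈ DC Om z a b c) := by
  have hn : (CC Om z).Nonempty := ⟨c, DC.mem_CC hp⟩
  rcases D0.cases h F hn hg with h1 | h1
  · left
    intro i
    exact (D0.iff h F hp).1 (h1 (i, i))
  · rcases h1 v hv with h2 | ⟨h2, h3⟩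
    · exact absurd h2 hv0
    rcases diag_mul_key v h2 h3 with h4 | h4
    · left
      intro i
      obtain ⟨n, hn'⟩ := h4 i
      refine (D0.iff h F hp (v := (i, i))).1 ?_
      rw [hn']; exact (D0.sub h F hn).nsmul_mem hv _
    · right
      intro i
      obtain ⟨n, hn'⟩ := h4 i
      have h5 := (D0.iff h F hp (v := (i, -i))).1 (by rw [hn']; exact (D0.sub h F hn).nsmul_mem hv _)
      have e : ((p.1 + i, p.2 - i) : Fin 3 × Fin 3) = p + (i, -i) := by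
        refine Prod.ext rfl ?_
        show p.2 - i = p.2 + -i
        rw [sub_eq_add_neg]
      rw [e]; exact h5

/-- in the presence of a nontrivial label an element of `C(z)` interchanges the members over `z` -/
theorem exists_swap_of_ne (h : W2 Om) (l : Lab Om z t c) (hc : c ≠ 1) : ∃ g, g * z = z * g ∧ Sw Om z g := by
  have h1 : PTwo Om z t := by
    by_contra h2
    exact hc (l.eq_one h h2)
  obtain ⟨r, -, h3, h4⟩ := h1.symm h l.ti
  exact ⟨r, h3, h4⟩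

/-! ### The dichotomy -/

/-- (U) at `z` -/
def UU (Om : Set (Subgroup G)) (z : G) : Prop :=
  ∀ K1 K2 a b g v, Frame Om z K1 K2 a b → Tra z a b g v → v ∈ D0 Om z a b

/-- the world (S) -/
structure SB (Om : Set (Subgroup G)) : Prop where
  w : W2 Om
  cf : CF Om
  cls : ∀ z t, InZ Om z → InZ Om t → ∃ g, g * z * g⁻¹ = t
  s : ∀ z, InZ Om z → ∃ K1 K2 a b c0 c1 c2, Frame Om z K1 K2 a b ∧ CaseS Om z a b c0 c1 c2

/-- (U) everywhere or (S) everywhere -/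
theorem dichotomy (h : W2 Om) (hF : CF Om) (hcls : ∀ z t, InZ Om z → InZ Om t → ∃ g, g * z * g⁻¹ = t)
    (hI : ∃ z t, TI Om z t) : (∀ z, InZ Om z → UU Om z) ∨ SB Om := by
  by_cases hU : ∀ z, InZ Om z → UU Om z
  · exact Or.inl hU
  right
  push Not at hU
  obtain ⟨z0, hz0, hU⟩ := hU
  unfold UU at hU
  push Not at hU
  obtain ⟨K1, K2, a, b, g, v, F, ht, hv⟩ := hU
  have hn : (CC Om z0).Nonempty := by
    obtain ⟨z, t, hti⟩ := hI
    obtain ⟨c, l⟩ := hti.exists_lab h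
    obtain ⟨k, hk⟩ := hcls z z0 hti.1 hz0
    exact ⟨_, _, hk ▸ l.conj h k⟩
  rcases thm_one h hF F hn with h1 | ⟨c0, c1, c2, S⟩
  · exact absurd (h1 g v ht) hv
  · refine ⟨h, hF, hcls, fun z hz => ?_⟩
    obtain ⟨k, rfl⟩ := hcls z0 z hz0 hz
    exact ⟨_, _, _, _, _, _, _, F.cj h k, S.cj h k⟩

/-! ### (S): a diagonal transversal -/

theorem diag_key (P : AddSubgroup (Fin 3 × Fin 3)) (v : Fin 3 × Fin 3) (hv : v ∉ P) {f e : Fin 3 → Fin 3} (hf : Sg f)
    (he : Sg e) (hP : ∀ u ∈ P, (f u.2, e u.1) ∈ P)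
    (hE : (f v.2, e v.1) ∈ P ∨ (f v.2, e v.1) - v ∈ P ∨ (f v.2, e v.1) + v ∈ P) :
    ∃ u ∈ P, (v + u).1 ≠ 0 ∧ (v + u).2 ≠ 0 := by
  obtain ⟨x, y⟩ := v
  have two : ∀ x : Fin 3, x ≠ 0 → x + x ≠ 0 := by decide
  have hneg : ∀ {w : Fin 3 × Fin 3}, -w ∈ P → w ∈ P := fun {w} hw => by
    have := P.neg_mem hw; rwa [neg_neg] at this
  by_cases hx : x = 0 <;> by_cases hy : y = 0
  · exact absurd (by rw [hx, hy]; exact P.zero_mem) hv
  · subst hx
    simp only [he.zero] at hE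
    rcases hE with h1 | h1 | h1
    · exfalso
      have h2 := hP _ h1
      simp only [hf.zero] at h2
      apply hv
      rcases he.or (f y) with h3 | h3 <;> rcases hf.or y with h4 | h4 <;> rw [h3, h4] at h2
      · exact h2
      · have e1 : (((0 : Fin 3), -y) : Fin 3 × Fin 3) = -(0, y) := by simp
        rw [e1] at h2; exact hneg h2
      · have e1 : (((0 : Fin 3), -y) : Fin 3 × Fin 3) = -(0, y) := by simp
        rw [e1] at h2; exact hneg h2
      · rwa [neg_neg] at h2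
    · refine ⟨-((f y, 0) - (0, y)), P.neg_mem h1, ?_, ?_⟩
      · show 0 + -(f y - 0) ≠ 0
        rw [zero_add, sub_zero]; exact neg_ne_zero.2 (hf.ne hy)
      · show y + -(0 - y) ≠ 0
        rw [zero_sub, neg_neg]; exact two y hy
    · refine ⟨(f y, 0) + (0, y), h1, ?_, ?_⟩
      · show 0 + (f y + 0) ≠ 0
        rw [zero_add, add_zero]; exact hf.ne hy
      · show y + (0 + y) ≠ 0
        rw [zero_add]; exact two y hy
  · subst hy
    simp only [hf.zero] at hE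
    rcases hE with h1 | h1 | h1
    · exfalso
      have h2 := hP _ h1
      simp only [he.zero] at h2
      apply hv
      rcases hf.or (e x) with h3 | h3 <;> rcases he.or x with h4 | h4 <;> rw [h3, h4] at h2
      · exact h2
      · have e1 : ((-x, (0 : Fin 3)) : Fin 3 × Fin 3) = -(x, 0) := by simp
        rw [e1] at h2; exact hneg h2
      · have e1 : ((-x, (0 : Fin 3)) : Fin 3 × Fin 3) = -(x, 0) := by simp
        rw [e1] at h2; exact hneg h2
      · rwa [neg_neg] at h2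
    · refine ⟨-((0, e x) - (x, 0)), P.neg_mem h1, ?_, ?_⟩
      · show x + -(0 - x) ≠ 0
        rw [zero_sub, neg_neg]; exact two x hx
      · show 0 + -(e x - 0) ≠ 0
        rw [zero_add, sub_zero]; exact neg_ne_zero.2 (he.ne hx)
    · refine ⟨(0, e x) + (x, 0), h1, ?_, ?_⟩
      · show x + (0 + x) ≠ 0
        rw [zero_add]; exact two x hx
      · show 0 + (e x + 0) ≠ 0
        rw [zero_add, add_zero]; exact he.ne hx
  · exact ⟨0, P.zero_mem, by simpa using hx, by simpa using hy⟩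

end

end Cfsg.Agent.Cit.Nil.RTwo
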