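import Cfsg.Agent.Cit.Nil.RTwo.AThree

/-!
# (A), `k = 1`, all lines of type `P2`: (6.8) and the end of (9.3)
-/

set_option autoImplicit false
set_option linter.style.haveILetI false
set_option linter.unusedSectionVars false
set_option maxHeartbeats 400000

namespace Cfsg.Agent.Cit.Nil.RTwo

open Subgroup Cfsg Cit

variable {G : Type*} [Group G]

section

variable [Finite G] {Om : Set (Subgroup G)} {K K1 K2 L M L1 L2 : Subgroup G} {z t u v g r s s' x y w c c' : G}
  {a b p q : Fin 3 → G}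

namespace AW

variable (W : AW Om)

include W

theorem exists_ti (hz : InZ Om z) : ∃ s, TI Om z s := by
  obtain ⟨K1, K2, a, b, D⟩ := W.dg z hz
  exact ⟨_, (D.ti _).2 ⟨0, Or.inl rfl⟩⟩

/-- an element of `Z` centralising `A_z` is in the component -/
theorem di_of_cent (hz : InZ Om z) (ht : InZ Om t) (hc : ∀ x ∈ AS Om z, t * x = x * t) : DI Om z t := by
  have h := W.w
  by_cases hA : t ∈ AS Om z
  · rcases (W.mem_AS hz).1 hA with h1 | h1 | h1
    · exact absurd h1 (ht.z1 h)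
    · rw [h1]; exact Relation.ReflTransGen.refl
    · exact h1.di
  obtain ⟨K1, K2, a, b, D⟩ := W.dg z hz
  have hti : ∀ i, TI Om z (a i * b i) := fun i => (D.ti _).2 ⟨i, Or.inl rfl⟩
  have hd : ∀ {k : Fin 3}, Dir z a b (a k * b k) k k := Or.inl rfl
  obtain ⟨x, hx, hx1, hxt⟩ := oct h (A := AS Om z) (u := z) (v := a 0 * b 0) (w := a 1 * b 1) (t := t)
    (fun x hx h1 => W.inZ_of_AS hz hx h1) (fun x hx y hy => W.AS_comm hz hx hy) z_mem_AS (hti 0).mem_AS
    (hti 1).mem_AS (hz.z1 h) ((hti 0).2.1.z1 h) (hti 0).2.2.1.symm ((hti 1).2.1.z1 h) (hti 1).2.2.1.symm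
    (fun e => absurd (D.fr.dir_unique h (show Dir z a b (a 1 * b 1) 0 0 from Or.inl e) hd).1 (by decide))
    (fun e => absurd (D.fr.dir_unique h (show Dir z a b (a 1 * b 1) 0 0 from Or.inr e) hd).1 (by decide))
    ht hA hc
  have h2 : DI Om x t := (hxt.symm h).di
  rcases (W.mem_AS hz).1 hx with h1 | h1 | h1
  · exact absurd h1 hx1
  · rwa [h1] at h2
  · exact h1.di.trans h2

theorem AS_le_RZ (hz : InZ Om z) : AS Om z ≤ RZ Om z := by
  have h := W.w
  obtain ⟨K1, K2, a, b, D⟩ := W.dg z hz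
  rw [AS, closure_le]
  rintro x (rfl | hx)
  · exact z_mem_RZ hz h
  · obtain ⟨i, hi⟩ := (D.ti x).1 hx
    have h1 : a i * b i ∈ RZ Om z := mul_mem (D.fr.k1.le_RZ (D.fr.qa.mem i)) (D.fr.k2.le_RZ (D.fr.qb.mem i))
    rcases hi with hi | hi
    · rw [hi]; exact h1
    · rw [hi]; exact mul_mem (z_mem_RZ hz h) h1

/-- the centraliser of `A_z` in `N(K1)` is `A_z X_z` -/
theorem exists_wy (hz : InZ Om z) (huz : u * z = z * u) (hfx : Fx Om z u) (hc : ∀ x ∈ AS Om z, u * x = x * u) :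
    ∃ w ∈ AS Om z, ∃ y ∈ CX Om z, u = w * y := by
  have h := W.w
  obtain ⟨K1, K2, a, b, D⟩ := W.dg z hz
  have hti : ∀ i, TI Om z (a i * b i) := fun i => (D.ti _).2 ⟨i, Or.inl rfl⟩
  have hd : ∀ {k : Fin 3}, Dir z a b (a k * b k) k k := Or.inl rfl
  rcases D.fr.act_cases h huz with ⟨-, -, σ, τ, h3, h4⟩ | ⟨h1, -, -⟩
  swap
  · exact absurd (h1.symm.trans (hfx K1 D.fr.k1)) D.fr.ne.symm
  have hw : ∀ j, u * (a j * b j) * u⁻¹ = a j * b j := by
    intro j
    rw [mul_inv_eq_iff_eq_mul]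
    exact hc _ (hti j).mem_AS
  have h5 : ∀ j, σ j = j ∧ τ j = j := by
    intro j
    have h6 := D.fr.dir_conj huz h3 h4 (show Dir z a b (a j * b j) j j from Or.inl rfl)
    rw [hw] at h6
    exact D.fr.dir_unique h h6 hd
  have hσ : σ = 1 := Equiv.ext fun j => (h5 j).1
  have hτ : τ = 1 := Equiv.ext fun j => (h5 j).2
  rw [hσ] at h3
  rw [hτ] at h4
  -- the signs agree
  have hsign : ∀ j, (u * a j * u⁻¹ = a j ↔ u * b j * u⁻¹ = b j) := by
    intro j
    have e : (u * a j * u⁻¹) * (u * b j * u⁻¹) = a j * b j := by rw [← hw j]; group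
    constructor
    · intro h6
      rw [h6] at e
      exact mul_left_cancel e
    · intro h6
      rw [h6] at e
      exact mul_right_cancel e
  rcases D.fr.qa.inner_cases (h3.inner D.fr.qa huz) with h6 | ⟨m, h6⟩ <;>
  rcases D.fr.qb.inner_cases (h4.inner D.fr.qb huz) with h7 | ⟨n, h7⟩
  · refine ⟨1, one_mem _, u, ?_, (one_mul u).symm⟩
    rw [mem_CX]
    intro K hK k hk
    rcases D.fr.k1.cases D.fr.k2 h D.fr.ne hK with rfl | rfl
    · rw [← mul_inv_eq_iff_eq_mul]; exact h6 k hk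
    · rw [← mul_inv_eq_iff_eq_mul]; exact h7 k hk
  · exfalso
    have h8 := (hsign (n + 1)).1 (h6 _ (D.fr.qa.mem _))
    rw [h7 _ (D.fr.qb.mem _), D.fr.qb.conj_ne (i_ne1 n)] at h8
    exact D.fr.qb.zne _ h8
  · exfalso
    have h8 := (hsign (m + 1)).2 (h7 _ (D.fr.qb.mem _))
    rw [h6 _ (D.fr.qa.mem _), D.fr.qa.conj_ne (i_ne1 m)] at h8
    exact D.fr.qa.zne _ h8
  · have hmn : n = m := by
      by_contra hne
      have h8 := (hsign m).1 (by rw [h6 _ (D.fr.qa.mem _), Q3.conj_self])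
      rw [h7 _ (D.fr.qb.mem _), D.fr.qb.conj_ne hne] at h8
      exact D.fr.qb.zne _ h8
    subst hmn
    refine ⟨a n * b n, (hti n).mem_AS, (a n * b n)⁻¹ * u, ?_, by group⟩
    rw [mem_CX]
    intro K hK k hk
    have hwk : (a n * b n) * k * (a n * b n)⁻¹ = u * k * u⁻¹ := by
      rcases D.fr.k1.cases D.fr.k2 h D.fr.ne hK with rfl | rfl
      · rw [h6 k hk]
        have hc' : b n * k = k * b n := (D.fr.k1.comm D.fr.k2 h D.fr.ne hk (D.fr.qb.mem n)).symm
        calc (a n * b n) * k * (a n * b n)⁻¹ = a n * (b n * k) * (b n)⁻¹ * (a n)⁻¹ := by group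
          _ = a n * (k * b n) * (b n)⁻¹ * (a n)⁻¹ := by rw [hc']
          _ = _ := by group
      · rw [h7 k hk]
        have hmem : b n * k * (b n)⁻¹ ∈ K := mul_mem (mul_mem (D.fr.qb.mem n) hk) (inv_mem (D.fr.qb.mem n))
        have hc' : a n * (b n * k * (b n)⁻¹) = b n * k * (b n)⁻¹ * a n :=
          D.fr.k1.comm D.fr.k2 h D.fr.ne (D.fr.qa.mem n) hmem
        calc (a n * b n) * k * (a n * b n)⁻¹ = a n * (b n * k * (b n)⁻¹) * (a n)⁻¹ := by group
          _ = _ := by rw [hc']; group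
    calc (a n * b n)⁻¹ * u * k = (a n * b n)⁻¹ * (u * k * u⁻¹) * u := by group
      _ = (a n * b n)⁻¹ * ((a n * b n) * k * (a n * b n)⁻¹) * u := by rw [hwk]
      _ = _ := by group

end AW

namespace AW2

variable (W : AW2 Om)

include W

/-- (6.8) for `P2`, main case -/
theorem di_aux (hti : TI Om z s) (hp : PR Om z t) (hf : FT Om s t) : DI Om z t := by
  have h := W.w
  obtain ⟨K1, K2, L1, L2, a', b', p, q, C⟩ := hti.exists_cf h
  obtain ⟨a, b, D⟩ := W.exists_dg C.k1 C.k2 C.kne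
  have htz : t * z = z * t := hp.comm.symm
  have hts : t * s = s * t := hf.fr.comm.symm
  have hd : ∀ {k : Fin 3}, Dir z a b (a k * b k) k k := Or.inl rfl
  rcases D.fr.act_cases h htz with ⟨h1, -, -⟩ | ⟨h1, h2, σ, τ, h3, h4⟩
  · exact absurd h1 (hp.sw K1 C.k1)
  obtain ⟨i, hi⟩ := (D.ti s).1 hti
  have hσi : σ i = i := by
    have h5 := D.fr.dir_conj' h htz h3 h4 (show Dir z a b s i i from hi)
    rw [hts, mul_inv_cancel_right] at h5
    exact (D.fr.dir_unique h h5 (show Dir z a b s i i from hi)).2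
  by_cases hσ : σ = 1
  · rw [hσ] at h3
    exact W.di_of_cent hti.1 hp.ht fun x hx => D.comm_of_act h htz (hp.ht.z2 h) h3 hx
  · have hrf := rf_of hσi hσ
    obtain ⟨i', hi', hact⟩ := C.act_theta h D.fr.qa
    have hii : i' = i := by
      by_contra hne
      have h5 := (D.conj_ne' h (Ne.symm hne) hi).1
      have h6 : s * a' 0 * s⁻¹ = a' 0 := by rw [C.ta0, mul_inv_cancel_right]
      have h7 : s * a i' * s⁻¹ = a i' := by
        rcases hi' with hi' | hi'
        · rw [← hi']; exact h6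
        · have h8 : a i' = z * a' 0 := by rw [hi', D.zz]
          have h9 : s * z * s⁻¹ = z := by rw [← C.comm, mul_inv_cancel_right]
          calc s * a i' * s⁻¹ = (s * z * s⁻¹) * (s * a' 0 * s⁻¹) := by rw [h8]; group
            _ = a i' := by rw [h9, h6, h8]
      rw [h5] at h7
      exact D.fr.qa.zne _ h7
    rw [hii] at hact
    have h5 := hact.comp C.z2 h3 htz
    have h6 : σ * rf i = 1 := by
      rw [hrf]
      have : ∀ i, rf i * rf i = 1 := by decide
      exact this i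
    rw [h6] at h5
    have h7 := C.star_inZ h hf htz
    have h8 := C.star_z h htz
    rw [C.star_di h hf htz hti]
    exact W.di_of_cent hti.1 h7 fun x hx => D.comm_of_act h h8 (h7.z2 h) h5 hx

/-- (6.8) for `P2` -/
theorem di (hz : InZ Om z) (ht : InZ Om t) (hc : z * t = t * z) : DI Om z t := by
  by_contra hnd
  have h := W.w
  obtain ⟨s, hti, hst⟩ := W.line z t hz ht hc
  rcases (status h hti ht hc hst hnd).2 (W.two z s hti) with ⟨h1, h2, h3⟩ | ⟨h1, h2, h3⟩ | ⟨h1, h2, h3⟩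
  · exact hnd (W.di_aux (hti.mul h) h1 h3)
  · exact hnd (W.di_aux hti h1 h2)
  · exact hnd (hti.di.trans (W.di_aux (hti.symm h) h2 h1))

/-- `d` moves `A_s` into `A_z A_s` -/
theorem d_mem (hNI : NI Om z = ⊥) {d : G} {m : ℕ} (hdz : d * z = z * d) (hm : Odd m) (hdm : d ^ m = 1)
    (hdX : ∀ x ∈ CX Om z, d * x = x * d) (hti : TI Om z s) (hx : x ∈ AS Om s) : d * x * d⁻¹ ∈ AS Om z ⊔ AS Om s := by
  have h := W.w
  have hdA : ∀ {v}, v ∈ AS Om z → d * v * d⁻¹ ∈ AS Om z := by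
    intro v hv
    have := conj_mem_cj (g := d) hv
    rwa [AS_conj_comm h hdz] at this
  rcases W.as_cases hti hx with h1 | h1
  · exact mem_sup_left (hdA (h1.mem_AS hti))
  -- `u = x (d x d⁻¹)`
  have hxz := W.comm_of_AS hti hx
  have hsq : x * x = 1 := W.sq_of_AS hti.2.1 hx
  have hti' : TI Om z (d * s * d⁻¹) := by
    have := hti.conj h d
    rwa [hdz, mul_inv_cancel_right] at this
  have hx' : d * x * d⁻¹ ∈ AS Om (d * s * d⁻¹) := by rw [← AS_conj h]; exact conj_mem_cj hx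
  have hx'z := W.comm_of_AS hti' hx'
  have hsw' : Sw Om z (d * x * d⁻¹) := by
    have := h1.conj h d
    rwa [hdz, mul_inv_cancel_right] at this
  have huz : x * (d * x * d⁻¹) * z = z * (x * (d * x * d⁻¹)) := by
    rw [mul_assoc, hx'z, ← mul_assoc, hxz, mul_assoc]
  obtain ⟨w, hw, y, hy, hwy⟩ := W.exists_wy hti.1 huz (h1.mul h hsw' hxz hx'z) (fun v hv => by
    have e1 := W.comm_two hti hv hx
    have e2 := W.comm_two hti' hv hx'
    calc x * (d * x * d⁻¹) * v = x * (v * (d * x * d⁻¹)) := by rw [e2]; group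
      _ = (v * x) * (d * x * d⁻¹) := by rw [e1]; group
      _ = _ := by group)
  have hdx : d * x * d⁻¹ = x * w * y := by
    calc d * x * d⁻¹ = (x * x) * (d * x * d⁻¹) := by rw [hsq, one_mul]
      _ = x * (x * (d * x * d⁻¹)) := by group
      _ = _ := by rw [hwy]; group
  have hwyc : ∀ {v}, v ∈ AS Om z → ∀ n : ℕ, v * y ^ n = y ^ n * v := by
    intro v hv n
    have h2 : Commute v y := (CX_comm (W.AS_le_RZ hti.1 hv) hy).symm
    exact h2.pow_right n
  have hdy : d * y = y * d := hdX y hy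
  have hpow : ∀ n : ℕ, ∃ v ∈ AS Om z, d ^ n * x * (d ^ n)⁻¹ = x * y ^ n * v := by
    intro n
    induction n with
    | zero => exact ⟨1, one_mem _, by group⟩
    | succ n ih =>
      obtain ⟨v, hv, hv'⟩ := ih
      refine ⟨w * (d * v * d⁻¹), mul_mem hw (hdA hv), ?_⟩
      have hdyn : d * y ^ n * d⁻¹ = y ^ n := by
        have h2 : Commute d y := hdy
        rw [(h2.pow_right n).eq, mul_inv_cancel_right]
      calc d ^ (n + 1) * x * (d ^ (n + 1))⁻¹ = d * (d ^ n * x * (d ^ n)⁻¹) * d⁻¹ := by rw [pow_succ']; group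
        _ = (d * x * d⁻¹) * (d * y ^ n * d⁻¹) * (d * v * d⁻¹) := by rw [hv']; group
        _ = x * w * (y * y ^ n) * (d * v * d⁻¹) := by rw [hdx, hdyn]; group
        _ = x * (w * y ^ (n + 1)) * (d * v * d⁻¹) := by rw [← pow_succ']; group
        _ = x * (y ^ (n + 1) * w) * (d * v * d⁻¹) := by rw [hwyc hw]
        _ = _ := by group
  obtain ⟨v, hv, hv'⟩ := hpow m
  rw [hdm] at hv'
  have h2 : y ^ m * v = 1 := by
    have : x * (y ^ m * v) = x * 1 := by rw [← mul_assoc, ← hv']; group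
    exact mul_left_cancel this
  have h3 : y ^ m ∈ AS Om z := by
    rw [eq_inv_of_mul_eq_one_left h2]; exact inv_mem hv
  have h4 : y ^ m = 1 ∨ y ^ m = z := RZ_inf_CX h hti.1 (W.AS_le_RZ hti.1 h3) (pow_mem hy m)
  have hyz : y = 1 ∨ y = z := by
    have h5 : (y ^ 2) ^ m = 1 := by
      rw [← pow_mul, mul_comm, pow_mul]
      rcases h4 with h4 | h4
      · rw [h4, one_pow]
      · rw [h4, pow_two, hti.1.z2 h]
    have h6 : y ^ 2 = 1 := by
      have h7 : y ^ 2 ∈ NI Om z := by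
        rw [mem_NI]
        refine ⟨pow_mem hy 2, fun s' hs' => ?_⟩
        refine CX_of_odd h hs' (pow_mem hy 2) ?_ hm h5
        exact CX_comm (W.AS_le_RZ hti.1 hs'.mem_AS) (pow_mem hy 2)
      rw [hNI] at h7
      exact mem_bot.1 h7
    obtain ⟨n, hn⟩ := hm
    have h8 : y ^ m = y := by rw [hn, pow_add, pow_mul, h6, one_pow, one_mul, pow_one]
    rwa [h8] at h4
  rw [hdx]
  refine mul_mem (mul_mem (mem_sup_right hx) (mem_sup_left hw)) ?_
  rcases hyz with h5 | h5 <;> rw [h5]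
  · exact one_mem _
  · exact mem_sup_left z_mem_AS

omit W in
theorem fin_three : ∀ f : Fin 3 → Fin 3, Function.Injective f → (∀ i, f i ≠ i) → ∀ i j, j = i ∨ j = f i ∨ j = f (f i) := by
  decide

/-- `A_{s'} ≤ A_z A_s` for all type I neighbours `s'` of `z` -/
theorem AS_le (hNI : NI Om z = ⊥) (hti : TI Om z s) (hti' : TI Om z s') : AS Om s' ≤ AS Om z ⊔ AS Om s := by
  have h := W.w
  obtain ⟨d, hdz, ⟨m, hm, hdm⟩, hdX, hmv⟩ := W.d3 z hti.1
  have hdP : ∀ {x}, x ∈ AS Om z ⊔ AS Om s → d * x * d⁻¹ ∈ AS Om z ⊔ AS Om s := by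
    intro x hx
    have h1 : AS Om z ⊔ AS Om s ≤ (AS Om z ⊔ AS Om s).comap (MulAut.conj d).toMonoidHom := by
      refine sup_le ?_ ?_
      · intro v hv
        have := conj_mem_cj (g := d) hv
        rw [AS_conj_comm h hdz] at this
        exact mem_sup_left this
      · intro v hv
        exact W.d_mem hNI hdz hm hdm hdX hti hv
    exact h1 hx
  have hdti : ∀ {s}, TI Om z s → TI Om z (d * s * d⁻¹) := by
    intro s hs
    have := hs.conj h d
    rwa [hdz, mul_inv_cancel_right] at this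
  -- `A_{d s d⁻¹} ≤ P` if `A_s ≤ P`
  have hstep : ∀ {s'}, AS Om s' ≤ AS Om z ⊔ AS Om s → AS Om (d * s' * d⁻¹) ≤ AS Om z ⊔ AS Om s := by
    intro s' hs'
    rw [← AS_conj h]
    rintro _ ⟨x, hx, rfl⟩
    exact hdP (hs' hx)
  have hz' : ∀ {s'}, TI Om z s' → AS Om s' ≤ AS Om z ⊔ AS Om s → AS Om (z * s') ≤ AS Om z ⊔ AS Om s := by
    intro s' h1 h2
    exact (W.AS_mul_le h1).trans (sup_le le_sup_left h2)
  -- indices
  obtain ⟨K1, K2, a, b, D⟩ := W.dg z hti.1
  have hwti : ∀ i, TI Om z (a i * b i) := fun i => (D.ti _).2 ⟨i, Or.inl rfl⟩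
  have hd : ∀ {k : Fin 3}, Dir z a b (a k * b k) k k := Or.inl rfl
  have hf : ∀ i, ∃ j, d * (a i * b i) * d⁻¹ = a j * b j ∨ d * (a i * b i) * d⁻¹ = z * (a j * b j) :=
    fun i => (D.ti _).1 (hdti (hwti i))
  choose f hf using hf
  have hdz' : d * z * d⁻¹ = z := by rw [hdz, mul_inv_cancel_right]
  have hdmz : ∀ k : G, d * (z * k) * d⁻¹ = z * (d * k * d⁻¹) := by
    intro k
    calc d * (z * k) * d⁻¹ = (d * z * d⁻¹) * (d * k * d⁻¹) := by group
      _ = _ := by rw [hdz']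
  have hinj : Function.Injective f := by
    intro i j hij
    have h1 : d * (a i * b i) * d⁻¹ = d * (a j * b j) * d⁻¹ ∨ d * (a i * b i) * d⁻¹ = d * (z * (a j * b j)) * d⁻¹ := by
      rw [hdmz]
      rcases hf i with h3 | h3 <;> rcases hf j with h4 | h4
      · left; rw [h3, h4, hij]
      · right; rw [h3, h4, hij, D.zz]
      · right; rw [h3, h4, hij]
      · left; rw [h3, h4, hij]
    have h2 : Dir z a b (a i * b i) j j := by
      rcases h1 with h1 | h1
      · exact Or.inl (mul_left_cancel (mul_right_cancel h1))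
      · exact Or.inr (mul_left_cancel (mul_right_cancel h1))
    exact (D.fr.dir_unique h hd h2).1
  have hne : ∀ i, f i ≠ i := by
    intro i hi
    obtain ⟨h1, h2⟩ := hmv _ (hwti i)
    rcases hf i with h3 | h3 <;> rw [hi] at h3
    · exact h1 h3
    · exact h2 h3
  obtain ⟨i, hi⟩ := (D.ti s).1 hti
  obtain ⟨j, hj⟩ := (D.ti s').1 hti'
  -- `A_{w_i} ≤ P`
  have key0 : AS Om (a i * b i) ≤ AS Om z ⊔ AS Om s := by
    rcases hi with hi | hi
    · rw [← hi]; exact le_sup_right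
    · have : a i * b i = z * s := by rw [hi, D.zz]
      rw [this]
      exact hz' hti le_sup_right
  have keyf : ∀ k, AS Om (a k * b k) ≤ AS Om z ⊔ AS Om s → AS Om (a (f k) * b (f k)) ≤ AS Om z ⊔ AS Om s := by
    intro k hk
    have h1 := hstep hk
    rcases hf k with h2 | h2
    · rwa [h2] at h1
    · have : a (f k) * b (f k) = z * (d * (a k * b k) * d⁻¹) := by rw [h2, D.zz]
      rw [this]
      exact hz' (hdti (hwti k)) h1
  have keyj : AS Om (a j * b j) ≤ AS Om z ⊔ AS Om s := by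
    rcases fin_three f hinj hne i j with h1 | h1 | h1 <;> rw [h1]
    · exact key0
    · exact keyf _ key0
    · exact keyf _ (keyf _ key0)
  rcases hj with hj | hj
  · rw [hj]; exact keyj
  · rw [hj]; exact hz' (hwti j) keyj

end AW2

/-- `P_z` -/
def PZ (Om : Set (Subgroup G)) (z : G) : Subgroup G := ⨆ s, ⨆ (_ : TI Om z s), (AS Om z ⊔ AS Om s)

theorem PZ_conj (h : W2 Om) (g z : G) : PZ Om (g * z * g⁻¹) = cj g (PZ Om z) := by
  have key : ∀ (g z : G), cj g (PZ Om z) ≤ PZ Om (g * z * g⁻¹) := by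
    intro g z
    have h1 : PZ Om z ≤ (PZ Om (g * z * g⁻¹)).comap (MulAut.conj g).toMonoidHom := by
      refine iSup_le fun s => iSup_le fun hs => ?_
      have h2 : AS Om (g * z * g⁻¹) ⊔ AS Om (g * s * g⁻¹) ≤ PZ Om (g * z * g⁻¹) :=
        le_iSup_of_le (g * s * g⁻¹) (le_iSup_of_le (hs.conj h g) le_rfl)
      refine sup_le ?_ ?_
      · intro x hx
        exact h2 (mem_sup_left (by rw [← AS_conj h]; exact conj_mem_cj hx))
      · intro x hx
        exact h2 (mem_sup_right (by rw [← AS_conj h]; exact conj_mem_cj hx))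
    rintro _ ⟨x, hx, rfl⟩
    exact h1 hx
  refine le_antisymm ?_ (key g z)
  have h1 := cj_mono g (key g⁻¹ (g * z * g⁻¹))
  rw [cj_cj_inv] at h1
  have h2 : g⁻¹ * (g * z * g⁻¹) * g⁻¹⁻¹ = z := by group
  rwa [h2] at h1

/-- SC' (e): an equivariant `z ↦ N_z ≤ C(z)` which is constant on commuting pairs is trivial -/
def SCe (Om : Set (Subgroup G)) : Prop :=
  ∀ N : G → Subgroup G, (∀ g z, InZ Om z → N (g * z * g⁻¹) = cj g (N z)) → (∀ z, InZ Om z → N z ≤ centralizer {z}) →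
    (∀ z t, InZ Om z → InZ Om t → z * t = t * z → N z = N t) → ∀ z, InZ Om z → N z = ⊥

namespace AW2

variable (W : AW2 Om)

include W

theorem PZ_eq (hNI : NI Om z = ⊥) (hti : TI Om z s) : PZ Om z = AS Om z ⊔ AS Om s := by
  refine le_antisymm (iSup_le fun s' => iSup_le fun hs' => ?_) (le_iSup_of_le s (le_iSup_of_le hti le_rfl))
  exact sup_le le_sup_left (W.AS_le hNI hti hs')

/-- **(A), `k = 1`, `P2` is impossible** -/
theorem false_of (hSC : SCe Om) (hz : InZ Om z) : False := by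
  have h := W.w
  have hconstNI : ∀ z, InZ Om z → NI Om z = ⊥ := hSC (NI Om) (fun g z _ => NI_conj h g z) (fun z hz => NI_le h hz)
    (fun z t hz ht hc => NI_const_di h (W.di hz ht hc))
  have hstep : ∀ z s, TI Om z s → PZ Om z = PZ Om s := by
    intro z s hti
    rw [W.PZ_eq (hconstNI z hti.1) hti, W.PZ_eq (hconstNI s hti.2.1) (hti.symm h), sup_comm]
  have hdi : ∀ z t, DI Om z t → PZ Om z = PZ Om t := by
    intro z t hd
    induction hd with
    | refl => rfl
    | tail _ h2 ih => exact ih.trans (hstep _ _ h2)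
  have hconst : ∀ z, InZ Om z → PZ Om z = ⊥ := by
    refine hSC (PZ Om) (fun g z _ => PZ_conj h g z) ?_ ?_
    · intro z hz
      refine iSup_le fun s => iSup_le fun hs => sup_le ?_ ?_
      · intro x hx
        rw [mem_centralizer_singleton_iff]
        exact W.AS_comm hz hx z_mem_AS
      · intro x hx
        rw [mem_centralizer_singleton_iff]
        exact W.comm_of_AS hs hx
    · intro z t hz ht hc
      exact hdi z t (W.di hz ht hc)
  obtain ⟨s, hs⟩ := W.toAW.exists_ti hz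
  have h1 : z ∈ PZ Om z := by
    rw [W.PZ_eq (hconstNI z hz) hs]
    exact mem_sup_left z_mem_AS
  rw [hconst z hz, mem_bot] at h1
  exact hz.z1 h h1

end AW2

end

end Cfsg.Agent.Cit.Nil.RTwo
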