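import Cfsg.Agent.Cit.Nil.RTwo.Def
import Cfsg.Agent.Cit.Commute
import Cfsg.Agent.Cit.OneBasic
import Cfsg.Prelude.Def_TwoFusion

/-!
# S1309, `r = 2`, `m = 1`: PRINCIPLE SC' (section 0)

* `W2.exists_member_central` : every Sylow 2-subgroup `S` has a central element `z ∈ Z` (and `S` contains the members over `z`);
* `Eqv Om N` : `N z` (`z ∈ Z`) is equivariant and `N z ∩ C(t) ≤ N t` for commuting `z`, `t ∈ Z` (SC'(f));
* `Eqv.strong` : then `N z ∩ S` is strongly closed in `S` (`z ∈ Z(S)`).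
* `Eqv.of_const` : constant on commuting pairs.
-/

set_option autoImplicit false
set_option linter.unusedSectionVars false

namespace Cfsg.Agent.Cit.Nil.RTwo

open Subgroup Cfsg Cfsg.Agent.Cit

variable {G : Type*} [Group G] {Om : Set (Subgroup G)}

theorem mem_OmS_of_le {S K : Subgroup G} (hK : K ∈ Om) (hKS : K ≤ S) : K ∈ OmS Om S := by
  refine ⟨hK, ?_⟩
  rw [relIndex_eq_one.2 hKS]
  norm_num

/-- SC'(f) -/
structure Eqv (Om : Set (Subgroup G)) (N : G → Subgroup G) : Prop where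
  conj : ∀ z, InZ Om z → ∀ g, N (g * z * g⁻¹) = cj g (N z)
  comm : ∀ z t, InZ Om z → InZ Om t → z * t = t * z → ∀ a ∈ N z, a * t = t * a → a ∈ N t

theorem Eqv.of_const {N : G → Subgroup G} (hc : ∀ z, InZ Om z → ∀ g, N (g * z * g⁻¹) = cj g (N z))
    (hN : ∀ z t, InZ Om z → InZ Om t → z * t = t * z → N z = N t) : Eqv Om N :=
  ⟨hc, fun z t hz ht hzt a ha _ => by rw [← hN z t hz ht hzt]; exact ha⟩

variable [Finite G] {K L M : Subgroup G} {g t x y z : G}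

/-- the members over a `z` which lie in a 2-group `S` are permuted by `S`: `z ∈ Z(S)` -/
theorem Mem.central (hK : Mem Om z K) (h : W2 Om) {S : Subgroup G} (hS : IsPGroup 2 S) (hKS : K ≤ S) {s : G}
    (hs : s ∈ S) : s * z = z * s := by
  have h1 := hK.cj h s
  have hle : Cit.cj s K ≤ S := by
    rintro _ ⟨k, hk, rfl⟩
    exact mul_mem (mul_mem hs (hKS hk)) (inv_mem hs)
  by_cases hne : K = Cit.cj s K
  · exact hK.of_cj h hne.symm
  · have h2 := h.one K hK.1 _ h1.1 (fun k hk l hl =>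
      h.hyp.comm hS (mem_OmS_of_le hK.1 hKS) (mem_OmS_of_le h1.1 hle) hne ⟨hk, hKS hk⟩ ⟨hl, hle hl⟩)
    rw [hK.2, h1.2] at h2
    rw [← mul_inv_eq_iff_eq_mul]
    exact h2.symm

/-- every Sylow 2-subgroup contains a member, with `z ∈ Z(S)` -/
theorem W2.exists_member_central (h : W2 Om) (hne : Om.Nonempty) (S : Sylow 2 G) :
    ∃ z K, Mem Om z K ∧ K ≤ (S : Subgroup G) ∧ ∀ s ∈ S, s * z = z * s := by
  haveI : Fact (Nat.Prime 2) := ⟨Nat.prime_two⟩
  obtain ⟨K, hK⟩ := hne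
  obtain ⟨P, hP⟩ := (h.isPGroup hK).exists_le_sylow
  obtain ⟨g, hg⟩ := MulAction.exists_smul_eq G P S
  have h1 : Mem Om (g * zz K * g⁻¹) (cj g K) := Mem.cj ⟨hK, rfl⟩ h g
  have hle : cj g K ≤ (S : Subgroup G) := by
    rw [← hg]
    rintro _ ⟨k, hk, rfl⟩
    rw [Sylow.coe_subgroup_smul]
    exact Subgroup.smul_mem_pointwise_smul k (MulAut.conj g) _ (hP hk)
  exact ⟨_, _, h1, hle, fun s hs => h1.central h S.isPGroup' hle hs⟩

/-- two elements of `Z` centralising the 2-element `b`: after conjugation in `C(b)` they commute with a common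
`z₁ ∈ Z` which commutes with `b` -/
theorem W2.exists_link (h : W2 Om) {b z' : G} {n : ℕ} (hb : b ^ 2 ^ n = 1) (hz : InZ Om z) (hz' : InZ Om z')
    (hbz : b * z = z * b) (hbz' : b * z' = z' * b) :
    ∃ c z₁, c * b = b * c ∧ InZ Om z₁ ∧ z₁ * b = b * z₁ ∧ z₁ * z = z * z₁ ∧
      z₁ * (c * z' * c⁻¹) = c * z' * c⁻¹ * z₁ := by
  haveI : Fact (Nat.Prime 2) := ⟨Nat.prime_two⟩
  have hpow : ∀ (u : G) (n : ℕ), u ^ 2 ^ n = 1 → IsPGroup 2 (zpowers u) := by
    intro u n hu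
    refine IsPGroup.of_card (n := Nat.log 2 (orderOf u)) ?_
    rw [Nat.card_zpowers]
    obtain ⟨k, -, hk⟩ := (Nat.dvd_prime_pow Nat.prime_two).1 (orderOf_dvd_of_pow_eq_one hu)
    rw [hk, Nat.log_pow (by norm_num)]
  have key : ∀ u, InZ Om u → b * u = u * b → ∃ T, Syl T (centralizer {b}) ∧ u ∈ T ∧ b ∈ T := by
    intro u hu hbu
    have hcomm : Commute u b := hbu.symm
    have hA : IsPGroup 2 ↥(zpowers u ⊔ zpowers b) := by
      have hn : zpowers b ≤ normalizer (zpowers u : Set G) := by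
        rw [zpowers_le, mem_normalizer_iff]
        intro v
        constructor
        · intro hv
          obtain ⟨k, rfl⟩ := mem_zpowers_iff.1 hv
          rw [(hcomm.symm.zpow_right k).eq, mul_inv_cancel_right]
          exact hv
        · intro hv
          obtain ⟨k, hk⟩ := mem_zpowers_iff.1 hv
          have h3 : v = b⁻¹ * (b * v * b⁻¹) * b := by group
          rw [h3, ← hk, mul_assoc, ← (hcomm.symm.zpow_right k).eq, inv_mul_cancel_left, hk]
          exact hv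
      exact IsPGroup.to_sup_of_normal_left' (hpow u 1 (by rw [pow_one, pow_two]; exact hu.z2 h)) (hpow b n hb) hn
    obtain ⟨T, hT, hle⟩ := OneBasic.exists_syl_ge (M := centralizer {b}) hA (by
      rw [sup_le_iff, zpowers_le, zpowers_le]
      exact ⟨mem_centralizer_singleton_iff.2 hbu.symm, mem_centralizer_singleton_iff.2 rfl⟩)
    exact ⟨T, hT, hle (mem_sup_left (mem_zpowers u)), hle (mem_sup_right (mem_zpowers b))⟩
  obtain ⟨T, hT, hzT, hbT⟩ := key z hz hbz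
  obtain ⟨T', hT', hzT', -⟩ := key z' hz' hbz'
  obtain ⟨c, hc, hcT⟩ := hT'.exists_conj hT
  obtain ⟨P, hP⟩ := hT.2.1.exists_le_sylow
  obtain ⟨z₁, K, hK, -, hcen⟩ := h.exists_member_central ⟨_, hz.choose_spec.1⟩ P
  refine ⟨c, z₁, mem_centralizer_singleton_iff.1 hc, hK.inZ, (hcen b (hP hbT)).symm, (hcen z (hP hzT)).symm, ?_⟩
  have h1 : c * z' * c⁻¹ ∈ T := by rw [← hcT]; exact conj_mem_cj hzT'
  exact (hcen _ (hP h1)).symm

/-- **SC'(f)** -/
theorem Eqv.strong {N : G → Subgroup G} (e : Eqv Om N) (h : W2 Om) (S : Sylow 2 G) (hz : InZ Om z)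
    (hc : ∀ s ∈ S, s * z = z * s) : IsStronglyClosed (N z ⊓ (S : Subgroup G)) (S : Subgroup G) := by
  haveI : Fact (Nat.Prime 2) := ⟨Nat.prime_two⟩
  refine ⟨inf_le_right, fun a ha g hg => ⟨?_, hg⟩⟩
  obtain ⟨n, hn⟩ := S.isPGroup' ⟨_, hg⟩
  have hb : (g * a * g⁻¹) ^ 2 ^ n = 1 := congrArg Subtype.val hn
  have haz := hc a ha.2
  have hbz' : g * a * g⁻¹ * (g * z * g⁻¹) = g * z * g⁻¹ * (g * a * g⁻¹) := by
    calc g * a * g⁻¹ * (g * z * g⁻¹) = g * (a * z) * g⁻¹ := by group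
      _ = g * (z * a) * g⁻¹ := by rw [haz]
      _ = _ := by group
  obtain ⟨c, z₁, hcb, hz₁, hz₁b, hz₁z, hz₁z'⟩ := h.exists_link hb hz (hz.conj h g) (hc _ hg) hbz'
  obtain ⟨b, hbdef⟩ : ∃ b, b = g * a * g⁻¹ := ⟨_, rfl⟩
  rw [← hbdef] at hcb hz₁b ⊢
  have hz₂ : c * (g * z * g⁻¹) * c⁻¹ = (c * g) * z * (c * g)⁻¹ := by group
  have hb2 : b ∈ N ((c * g) * z * (c * g)⁻¹) := by
    rw [e.conj z hz]
    have h1 : b = (c * g) * a * (c * g)⁻¹ := by
      have h2 : c * b * c⁻¹ = b := by rw [hcb, mul_inv_cancel_right]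
      rw [← h2, hbdef]; group
    rw [h1]
    exact conj_mem_cj ha.1
  rw [hz₂] at hz₁z'
  have h3 := e.comm _ z₁ (hz.conj h _) hz₁ hz₁z'.symm b hb2 hz₁b.symm
  refine e.comm z₁ z hz₁ hz hz₁z b h3 ?_
  rw [hbdef]
  exact hc _ hg

end Cfsg.Agent.Cit.Nil.RTwo
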