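import Cfsg.Agent.Cit.Nil.RTwo.ElevenA
import Cfsg.Agent.Cit.Nil.RTwo.SC
import Cfsg.Agent.Cit.Nil.RTwo.AFour
import Cfsg.Agent.Cit.Nil.AbSyl
import Cfsg.Agent.Lib.KleinGen

/-!
# Section 11 of the blueprint: the Sylow 2-subgroups of `L` are not abelian; `SCe`

* `EL.not_ab` (11.4);
* `EL.closed` : no abelian strongly closed subgroup `≠ 1` in `L`;
* `EL.sce` : `SCe Om`.
-/

set_option autoImplicit false
set_option linter.style.haveILetI false
set_option linter.unusedSectionVars false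
set_option maxHeartbeats 400000

namespace Cfsg.Agent.Cit.Nil.RTwo

open Subgroup Cfsg Cit

variable {G : Type*} [Group G] [Finite G] {Om : Set (Subgroup G)} {z t s g : G} {K L K1 : Subgroup G} {x : Fin 3 → G}

namespace EL

variable (E : EL Om L)

include E

theorem perfect : ⁅L, L⁆ = L := by
  haveI := E.f.nor
  refine le_antisymm (commutator_le_right L L) ?_
  refine E.f.le (fun g _ n hn => (inferInstance : (⁅L, L⁆).Normal).conj_mem n hn g) ?_
  intro h1
  apply E.f.na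
  intro x hx y hy
  have h2 : x * y * x⁻¹ * y⁻¹ ∈ ⁅L, L⁆ := commutator_mem_commutator hx hy
  rw [h1, mem_bot, mul_inv_eq_one, mul_inv_eq_iff_eq_mul] at h2
  exact h2

/-- an element of `L ∩ C(z)` fixing `K` is inner on `K` -/
theorem act_one (hK : Mem Om z K) (Q : Q3 K z x) {l : G} (hl : l ∈ L) (hf : cj l K = K) : Act z x x l 1 := by
  intro i
  have h1 : l * x i * l⁻¹ * (x i)⁻¹ ∈ K := by
    refine K.mul_mem ?_ (K.inv_mem (Q.mem i))
    have h2 := conj_mem_cj (g := l) (Q.mem i)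
    rwa [hf] at h2
  have h2 : l * x i * l⁻¹ * (x i)⁻¹ ∈ L := by
    have h3 := L.mul_mem hl (E.f.nor.conj_mem _ (L.inv_mem hl) (x i))
    have h4 : l * (x i * l⁻¹ * (x i)⁻¹) = l * x i * l⁻¹ * (x i)⁻¹ := by group
    rwa [h4] at h3
  rcases E.small z K hK _ h1 h2 with h3 | h3
  · left; exact mul_inv_eq_one.1 h3
  · right; rw [mul_inv_eq_iff_eq_mul] at h3; exact h3

/-- a rotation normalising the Sylow 2-subgroup `V` of `L` -/
theorem exists_rotV {V : Subgroup G} (hV : Syl V L) (hzV : ∀ v ∈ V, v * z = z * v) (hK : Mem Om z K)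
    (Q : Q3 K z x) : ∃ n σ, cj n V = V ∧ n * z = z * n ∧ Act z x x n σ ∧ ∀ i, σ i ≠ i := by
  have h := E.w
  have hn := E.f.nor
  obtain ⟨c, hcK, h3, hq⟩ := E.rot K hK.1
  have hcK' := mem_normalizer_iff_cj.1 hcK
  have hcz := hK.of_cj h hcK'
  obtain ⟨σ, hσ, hσ1⟩ := exists_rot Q hcz hcK' h3 hq
  obtain ⟨C, hC⟩ : ∃ C, C = centralizer {z} ⊓ L := ⟨_, rfl⟩
  have hcC : cj c C = C := by
    rw [hC, cj_inf, cj_centralizer, hcz, mul_inv_cancel_right,
      mem_normalizer_iff_cj.1 (by rw [normalizer_eq_top_iff.2 hn]; exact mem_top c)]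
  have hVC : Syl V C := by
    rw [hC]
    refine LB.syl_of_le hV (le_inf (fun v hv => mem_centralizer_singleton_iff.2 (hzV v hv)) hV.1) inf_le_right
  have hVC' : Syl (cj c V) C := by
    have := hVC.cj c
    rwa [hcC] at this
  obtain ⟨l, hl, hlV⟩ := hVC'.exists_conj hVC
  rw [hC] at hl
  have hlz : l * z = z * l := mem_centralizer_singleton_iff.1 hl.1
  have hnV : cj (l * c) V = V := by rw [cj_mul]; exact hlV
  have hnz : l * c * z = z * (l * c) := by rw [mul_assoc, hcz, ← mul_assoc, hlz, mul_assoc]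
  rcases fx_or_sw h hK.inZ hlz with hf | hs
  · have h1 := E.act_one hK Q hl.2 (hf K hK)
    have h2 := hσ.comp Q.z2 h1 hlz
    exact ⟨l * c, 1 * σ, hnV, hnz, h2, by rw [one_mul]; exact hσ1⟩
  · -- `(l c)² = l (c l c⁻¹) c²`
    have hs' : Sw Om z (c * l * c⁻¹) := by
      have h1 := hs.conj h c
      rwa [hcz, mul_inv_cancel_right] at h1
    have hlz' : c * l * c⁻¹ * z = z * (c * l * c⁻¹) := by
      have e1 : Commute c z := hcz
      have e2 : Commute l z := hlz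
      exact ((e1.mul_left e2).mul_left e1.inv_left).eq
    have hf : Fx Om z (l * (c * l * c⁻¹)) := hs.mul h hs' hlz hlz'
    have hl2 : l * (c * l * c⁻¹) ∈ L := L.mul_mem hl.2 (hn.conj_mem _ hl.2 c)
    have hlz2 : l * (c * l * c⁻¹) * z = z * (l * (c * l * c⁻¹)) := by
      have e2 : Commute l z := hlz
      exact (e2.mul_left hlz').eq
    have h1 := E.act_one hK Q hl2 (hf K hK)
    have h2 := hσ.comp Q.z2 hσ hcz
    have h3 := h2.comp Q.z2 h1 hlz2
    have e : l * (c * l * c⁻¹) * (c * c) = (l * c) * (l * c) := by group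
    rw [e] at h3
    refine ⟨(l * c) * (l * c), 1 * (σ * σ), ?_, ?_, h3, ?_⟩
    · rw [cj_mul, hnV, hnV]
    · rw [mul_assoc, hnz, ← mul_assoc, hnz, mul_assoc]
    · rw [one_mul]
      have key : ∀ σ : Equiv.Perm (Fin 3), (∀ i, σ i ≠ i) → ∀ i, (σ * σ) i ≠ i := by decide
      exact key σ hσ1

/-- (11.4) -/
theorem not_ab (S : Sylow 2 G) (hVc : ∀ a ∈ (S : Subgroup G) ⊓ L, ∀ b ∈ (S : Subgroup G) ⊓ L, a * b = b * a) :
    False := by
  haveI : Fact (Nat.Prime 2) := ⟨Nat.prime_two⟩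
  have h := E.w
  have hn := E.f.nor
  obtain ⟨V, hVdef⟩ : ∃ V, V = (S : Subgroup G) ⊓ L := ⟨_, rfl⟩
  have hV : Syl V L := by rw [hVdef]; exact E.syl S
  rw [← hVdef] at hVc
  obtain ⟨z, K, hK, hKS, hzS⟩ := h.exists_member_central E.ne S
  have hz := hK.inZ
  have hzV : z ∈ V := by rw [hVdef]; exact ⟨hKS (hK.zmem h), E.mem z hz⟩
  have hVz : ∀ v ∈ V, v * z = z * v := fun v hv => hVc v hv z hzV
  have hSV : (S : Subgroup G) ≤ normalizer (V : Set G) := by
    intro s hs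
    rw [mem_normalizer_iff_cj, hVdef, cj_inf, mem_normalizer_iff_cj.1 (le_normalizer hs),
      mem_normalizer_iff_cj.1 (by rw [normalizer_eq_top_iff.2 hn]; exact mem_top s)]
  obtain ⟨n0, hn0, hn0V, hn0z⟩ : ∃ n ∈ L, n ∈ normalizer (V : Set G) ∧ n * z ≠ z * n := by
    by_contra hcon
    push Not at hcon
    refine hz.z1 h (AbSyl.eq_one_of_syl hV hVc hzV hcon ?_)
    rw [E.perfect]; exact E.mem z hz
  obtain ⟨x, Q⟩ := h.exists_q3 hK
  obtain ⟨n, σ, hnV, hnz, hσ, hσ1⟩ := E.exists_rotV hV hVz hK Q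
  -- `K / ⟨z⟩` acts faithfully on `V`
  have hfaith : ∀ i, ∃ v ∈ V, x i * v ≠ v * x i := by
    intro i
    by_contra hcon
    push Not at hcon
    have hcC : ∀ c : G, (∀ v ∈ V, c * v = v * c) → ∀ v ∈ V, (n * c * n⁻¹) * v = v * (n * c * n⁻¹) := by
      intro c hc v hv
      have h1 : n⁻¹ * v * n ∈ V := by rw [← mem_cj, hnV]; exact hv
      have h2 := hc _ h1
      calc (n * c * n⁻¹) * v = n * (c * (n⁻¹ * v * n)) * n⁻¹ := by group
        _ = n * ((n⁻¹ * v * n) * c) * n⁻¹ := by rw [h2]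
        _ = _ := by group
    have h1 := hcC _ hcon
    have h2 : ∀ v ∈ V, x (σ i) * v = v * x (σ i) := by
      intro v hv
      rcases hσ i with h3 | h3
      · have := h1 v hv; rwa [h3] at this
      · have h4 := h1 v hv
        rw [h3] at h4
        have e1 : Commute z v := (hVz v hv).symm
        have e2 : Commute (z * x (σ i)) v := h4
        have e3 := e1.mul_left e2
        rw [Q.zzx] at e3
        exact e3.eq
    have h3 : K ≤ centralizer (V : Set G) := by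
      refine Q.le_of_mem (Ne.symm (hσ1 i)) ?_ ?_
      · rw [mem_centralizer_iff]; exact fun v hv => (hcon v hv).symm
      · rw [mem_centralizer_iff]; exact fun v hv => (h2 v hv).symm
    have h4 : n0 * z * n0⁻¹ ∈ V := (mem_normalizer_iff.1 hn0V z).1 hzV
    have h5 := (hz.conj h n0).eq_of_cent hK h fun k hk => mem_centralizer_iff.1 (h3 hk) _ h4
    exact hn0z (mul_inv_eq_iff_eq_mul.1 h5)
  -- the group of automorphisms
  obtain ⟨B, hB⟩ : ∃ B, B = (L.subgroupOf (normalizer (V : Set G))).map V.normalizerMonoidHom := ⟨_, rfl⟩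
  have hodd : Odd (Nat.card B) := by rw [hB]; exact AbSyl.odd_aut hV hVc
  let θ := V.normalizerMonoidHom
  have hxN : ∀ i, x i ∈ normalizer (V : Set G) := fun i => hSV (hKS (Q.mem i))
  have hθ : ∀ (g : G) (hg : g ∈ normalizer (V : Set G)) (v : V), ((θ ⟨g, hg⟩ v : V) : G) = g * v * g⁻¹ :=
    fun g hg v => rfl
  have hθz : ∀ hzN : z ∈ normalizer (V : Set G), θ ⟨z, hzN⟩ = 1 := by
    intro hzN
    ext v
    rw [hθ, ← hVz v v.2, mul_inv_cancel_right]
    rfl
  have hzN : z ∈ normalizer (V : Set G) := le_normalizer hzV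
  let T : Fin 3 → MulAut V := fun i => θ ⟨x i, hxN i⟩
  have hT2 : ∀ i, T i * T i = 1 := by
    intro i
    rw [← hθz hzN]
    show θ _ * θ _ = _
    rw [← map_mul]
    congr 1
    exact Subtype.ext (Q.sq i)
  have hT01 : T 0 * T 1 = T 2 := by
    show θ _ * θ _ = θ _
    rw [← map_mul]
    congr 1
    exact Subtype.ext (Q.mul 0)
  have hT10 : T 1 * T 0 = T 2 := by
    show θ _ * θ _ = θ _
    rw [← map_mul]
    have e : (⟨x 1, hxN 1⟩ : normalizer (V : Set G)) * ⟨x 0, hxN 0⟩ = ⟨z, hzN⟩ * ⟨x 2, hxN 2⟩ :=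
      Subtype.ext (Q.mul' 0)
    rw [e, map_mul, hθz, one_mul]
  let zV : V := ⟨z, hzV⟩
  have key : ∀ i, B ⊓ centralizer {T i} ≤ MulAction.stabilizer (MulAut V) zV := by
    rintro i α ⟨hα, hαi⟩
    rw [hB] at hα
    obtain ⟨⟨m, hmN⟩, hmL, rfl⟩ := hα
    have hmL' : m ∈ L := hmL
    replace hαi : V.normalizerMonoidHom ⟨m, hmN⟩ * T i = T i * V.normalizerMonoidHom ⟨m, hmN⟩ :=
      mem_centralizer_singleton_iff.1 hαi
    rw [MulAction.mem_stabilizer_iff]
    -- `z` is a commutator `v x v⁻¹ x⁻¹`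
    obtain ⟨v, hv, hvz⟩ : ∃ v ∈ V, v * x i * v⁻¹ * (x i)⁻¹ = z := by
      obtain ⟨v0, hv0, hv0x⟩ := hfaith i
      rcases fx_or_sw h hz (hVz v0 hv0) with hf | hs
      · refine ⟨v0, hv0, ?_⟩
        rcases E.act_one hK Q (hV.1 hv0) (hf K hK) i with h1 | h1
        · exact absurd (mul_inv_eq_iff_eq_mul.1 h1).symm hv0x
        · rw [h1]
          show z * x i * (x i)⁻¹ = z
          rw [mul_inv_cancel_right]
      · have hij : i + 1 ≠ i := (i_ne1 i).symm
        refine ⟨v0 * x (i + 1) * v0⁻¹ * (x (i + 1))⁻¹, ?_, ?_⟩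
        · have h1 := V.mul_mem hv0 ((mem_normalizer_iff.1 (hxN (i + 1)) _).1 (V.inv_mem hv0))
          have h2 : v0 * (x (i + 1) * v0⁻¹ * (x (i + 1))⁻¹) = v0 * x (i + 1) * v0⁻¹ * (x (i + 1))⁻¹ := by group
          rwa [h2] at h1
        · obtain ⟨l, hl⟩ : ∃ l, l = v0 * x (i + 1) * v0⁻¹ := ⟨_, rfl⟩
          have hlK : l ∈ cj v0 K := by rw [hl]; exact conj_mem_cj (Q.mem _)
          have hK' : Mem Om z (cj v0 K) := hK.cj_comm h (hVz v0 hv0)
          have hne : K ≠ cj v0 K := fun e => hs K hK e.symm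
          have hlx : ∀ k ∈ K, k * l = l * k := fun k hk => hK.comm hK' h hne hk hlK
          rw [← hl]
          have e1 : (x (i + 1))⁻¹ * x i * x (i + 1) = z * x i := by
            have h3 := Q.conj_ne hij
            have h4 : x i = (x (i + 1))⁻¹ * (z * x i) * x (i + 1) := by rw [← h3]; group
            have h5 : (x (i + 1))⁻¹ * (z * x i) * x (i + 1) = z * ((x (i + 1))⁻¹ * x i * x (i + 1)) := by
              have h6 : (x (i + 1))⁻¹ * z = z * (x (i + 1))⁻¹ := by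
                rw [inv_mul_eq_iff_eq_mul, ← mul_assoc, ← Q.zc, mul_inv_cancel_right]
              calc (x (i + 1))⁻¹ * (z * x i) * x (i + 1) = (x (i + 1))⁻¹ * z * x i * x (i + 1) := by group
                _ = z * (x (i + 1))⁻¹ * x i * x (i + 1) := by rw [h6]
                _ = _ := by group
            rw [h5] at h4
            rw [h4, Q.zzx, ← h4]
          have e2 : l * (z * x i) * l⁻¹ = z * x i := by
            rw [← hlx _ (K.mul_mem (hK.zmem h) (Q.mem i)), mul_inv_cancel_right]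
          calc l * (x (i + 1))⁻¹ * x i * (l * (x (i + 1))⁻¹)⁻¹ * (x i)⁻¹
              = l * ((x (i + 1))⁻¹ * x i * x (i + 1)) * l⁻¹ * (x i)⁻¹ := by group
            _ = z := by rw [e1, e2, mul_inv_cancel_right]
    -- the image of `z`
    obtain ⟨w, hw⟩ : ∃ w, w = m * v * m⁻¹ := ⟨_, rfl⟩
    have hwV : w ∈ V := by rw [hw]; exact (mem_normalizer_iff.1 hmN v).1 hv
    have hmz : m * z * m⁻¹ = w * x i * w⁻¹ * (x i)⁻¹ := by
      -- `m (x v⁻¹ x⁻¹) m⁻¹ = x (m v⁻¹ m⁻¹) x⁻¹`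
      have h1 : m * (x i * v⁻¹ * (x i)⁻¹) * m⁻¹ = x i * (m * v⁻¹ * m⁻¹) * (x i)⁻¹ := by
        have h2 := congrArg (fun β : MulAut V => ((β ⟨v⁻¹, V.inv_mem hv⟩ : V) : G)) hαi
        exact h2
      calc m * z * m⁻¹ = (m * v * m⁻¹) * (m * (x i * v⁻¹ * (x i)⁻¹) * m⁻¹) := by rw [← hvz]; group
        _ = _ := by rw [h1, hw]; group
    have hR : m * z * m⁻¹ ∈ RZ Om z := by
      rw [hmz]
      refine mul_mem ?_ (hK.le_RZ (K.inv_mem (Q.mem i)))
      exact (hK.cj_comm h (hVz w hwV)).le_RZ (conj_mem_cj (Q.mem i))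
    apply Subtype.ext
    show m * z * m⁻¹ = z
    by_contra hne
    exact E.not_ti (g := m) ⟨hz, hz.conj h m, Ne.symm hne, (RZ_le_centralizer h hR).symm, Inn.of_RZ hz h hR⟩ hmL' rfl
  have hBn : ∀ i, ∀ α ∈ B, T i * α * (T i)⁻¹ ∈ B := by
    intro i α hα
    rw [hB] at hα ⊢
    obtain ⟨m, hm, rfl⟩ := hα
    refine ⟨⟨x i, hxN i⟩ * m * ⟨x i, hxN i⟩⁻¹, ?_, ?_⟩
    · exact hn.conj_mem _ hm (x i)
    · rw [map_mul, map_mul, map_inv]
  have hBM : B ≤ MulAction.stabilizer (MulAut V) zV :=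
    Cfsg.Agent.Lib.KleinGen.le_of_klein B _ hodd (T 0) (T 1) (hT2 0) (hT2 1) (by rw [hT01, hT10]) (hBn 0) (hBn 1)
      (key 0) (key 1) (by rw [hT01]; exact key 2)
  have h1 : θ ⟨n0, hn0V⟩ ∈ MulAction.stabilizer (MulAut V) zV := by
    apply hBM
    rw [hB]
    exact ⟨⟨n0, hn0V⟩, hn0, rfl⟩
  rw [MulAction.mem_stabilizer_iff] at h1
  have h2 : n0 * z * n0⁻¹ = z := congrArg Subtype.val h1
  exact hn0z (mul_inv_eq_iff_eq_mul.1 h2)

/-- no abelian strongly closed subgroup -/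
theorem closed (S : Sylow 2 G) (A : Subgroup G) (hA : A ≠ ⊥) (hAL : A ≤ L)
    (hc : ∀ x ∈ A, ∀ y ∈ A, x * y = y * x) : ¬ IsStronglyClosed A (S : Subgroup G) := by
  intro hsc
  obtain ⟨P, hP⟩ := (E.syl S).exists_sylow
  have hA' : A.subgroupOf L ≠ ⊥ := by
    intro h1
    apply hA
    rw [← map_subgroupOf_eq_of_le hAL, h1, Subgroup.map_bot]
  have hc' : IsMulCommutative ↥(A.subgroupOf L) :=
    ⟨⟨fun x y => Subtype.ext (Subtype.ext (hc _ x.2 _ y.2))⟩⟩
  have hsc' : IsStronglyClosed (A.subgroupOf L) (P : Subgroup L) := by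
    refine ⟨?_, ?_⟩
    · rw [hP]; exact fun x hx => ⟨hsc.1 hx, x.2⟩
    · intro x hx g hg
      rw [hP, mem_subgroupOf] at hg
      exact hsc.2 x hx g hg.1
  rcases E.gold P (A.subgroupOf L) hA' hc' hsc' with h1 | ⟨H, hH⟩
  · refine E.not_ab S ?_
    have e : ∀ x ∈ (S : Subgroup G) ⊓ L, ∃ hx : x ∈ L, (⟨x, hx⟩ : L) ∈ (P : Subgroup L) := by
      intro x hx
      refine ⟨hx.2, ?_⟩
      rw [hP]; exact hx
    intro x hx y hy
    obtain ⟨hx1, hx2⟩ := e x hx
    obtain ⟨hy1, hy2⟩ := e y hy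
    have h2 := h1.is_comm.comm (⟨_, hx2⟩ : (P : Subgroup L)) ⟨_, hy2⟩
    have h3 := congrArg Subtype.val h2
    exact congrArg Subtype.val h3
  · exact E.not_se H hH

/-- **`SCe`** -/
theorem sce (h1173 : ∀ (S : Sylow 2 G) (T : Subgroup G), IsStronglyClosed T (S : Subgroup G) →
      ((⨅ n : ℕ, derivedSeries ↥(centralizer (T : Set G)) n).map (centralizer (T : Set G)).subtype).Normal)
    (cores : ∀ z, InZ Om z → OO (centralizer {z}) = ⊥) : SCe Om := by
  have h := E.w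
  intro N h1 h2 h3 z hz
  have hsit : SC.Sit {z | InZ Om z} L N :=
    { sq := fun z hz => InZ.z2 hz h
      ne := fun z hz => InZ.z1 hz h
      conj := fun z hz g => InZ.conj hz h g
      fs := E.f
      sub := fun z hz => E.mem z hz
      syl := fun S => by
        obtain ⟨t, ht, htS⟩ := h.exists_central E.ne S
        exact ⟨t, ht, htS⟩
      cores := fun z hz => cores z hz
      closed := fun S A hA hAL hc => E.closed S A hA hAL hc
      eqv := fun z hz g => h1 g z hz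
      cent := fun z hz n hn => mem_centralizer_singleton_iff.1 (h2 z hz hn)
      comm := fun z hz t ht hc => h3 z t hz ht hc }
  exact hsit.eq_bot h1173 hz

end EL

end Cfsg.Agent.Cit.Nil.RTwo
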