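import Cfsg.Agent.Cit.Nil.RTwo.SWorld
import Cfsg.Agent.Cit.Nil.RTwo.TenP
import Cfsg.Agent.Cit.Nil.RTwo.SC
import Cfsg.Agent.Cit.CoreTools

/-!
# Case (S) of S1309, `r = 2`, `m = 1`: the members of `Z_c` commute (`abel`)

* `SW.u10` : the world (S) is a world of section 10;
* `PPAll.del_iff` : `Z_c ∩ C(z) = Δ_c(z)`;
* `SW.core_label` : `O(C(c)) = 1` for labels `c`;
* `PPAll.mem_pCore` : `z ∈ O_2(C(c))` if the components of `C(c)` are in `M_c`;
* `PPAll.abel` : `c ∈ CC z`, `c ∈ CC t` implies `z t = t z`.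
-/

set_option autoImplicit false
set_option linter.style.haveILetI false
set_option linter.unusedSectionVars false

namespace Cfsg.Agent.Cit.Nil.RTwo

open Subgroup Cfsg Cit

variable {G : Type*} [Group G] [Finite G] {Om : Set (Subgroup G)} {K L M : Subgroup G}
  {z t u v g r s x y w c c' : G}

theorem diag_fin3 : ∀ (v p : Fin 3 × Fin 3), v.1 ≠ 0 → v.2 ≠ 0 →
    (∀ i : Fin 3, (p.1 + i, p.2 + i) = p ∨ (p.1 + i, p.2 + i) = p + v ∨ (p.1 + i, p.2 + i) = p - v) ∨
    (∀ i : Fin 3, (p.1 + i, p.2 - i) = p ∨ (p.1 + i, p.2 - i) = p + v ∨ (p.1 + i, p.2 - i) = p - v) := by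
  decide

/-- the world (S) is a world of section 10 -/
theorem SW.u10 (S : SW Om) : U10 Om := by
  refine ⟨S.w, fun z h1 => S.ne z 1 h1 rfl, ?_⟩
  intro z K1 K2 a b F c p hp
  obtain ⟨v, hv1, hv2, hall⟩ := S.line z K1 K2 a b F
  obtain ⟨c', hc'⟩ := hall p
  have h1 : c = c' := S.uniq z K1 K2 a b F c c' p hp ((hc' p).2 (Or.inl rfl))
  subst h1
  rcases diag_fin3 v p hv1 hv2 with h2 | h2
  · exact Or.inl fun i => (hc' _).2 (h2 i)
  · exact Or.inr fun i => (hc' _).2 (h2 i)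

/-! ### `PP = Δ_c` -/

namespace PPAll

variable (P : PPAll Om)

include P

theorem pp_subset (hc : c ∈ CC Om z) (hs : s ∈ PP Om c z) : PP Om c z ⊆ PP Om c s := fun t ht =>
  ⟨ht.1, ht.2.1, P.comm c z hc s hs t ht⟩

theorem pp_eq (h : W2 Om) (hc : c ∈ CC Om z) (hs : s ∈ PP Om c z) : PP Om c z = PP Om c s :=
  (P.pp_subset hc hs).antisymm (P.pp_subset hs.2.1 ⟨CC.inZ hc, hc, hs.2.2.symm⟩)

theorem pp_eq_of_del (h : W2 Om) (hc : c ∈ CC Om z) (hd : DelC Om c z t) : PP Om c z = PP Om c t := by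
  induction hd with
  | refl => rfl
  | tail h1 h2 ih =>
    rw [ih]
    exact P.pp_eq h (DelC.mem_CC h h1 hc) ⟨CC.inZ (h2.symm h).mem_CC, (h2.symm h).mem_CC, h2.ti.2.2.2.1⟩

theorem del_iff (S : SW Om) (hc : c ∈ CC Om z) : DelC Om c z t ↔ t ∈ PP Om c z := by
  constructor
  · intro h1
    rw [P.pp_eq_of_del S.w hc h1]
    exact ⟨CC.inZ (h1.mem_CC S.w hc), h1.mem_CC S.w hc, rfl⟩
  · intro h1
    exact S.u10.conn hc h1.2.1 h1.2.2

end PPAll

/-! ### `O(C(c)) = 1` -/

/-- `z` normalises `N` and acts on it without fixed points: `z` inverts `N` -/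
theorem inverts_of_fpf {N : Subgroup G} (hz2 : z * z = 1) (hn : ∀ x ∈ N, z * x * z⁻¹ ∈ N)
    (hf : ∀ x ∈ N, x * z = z * x → x = 1) (hx : x ∈ N) : z * x * z⁻¹ = x⁻¹ := by
  have hzi : z⁻¹ = z := inv_eq_of_mul_eq_one_right hz2
  let f : N → N := fun x => ⟨(x : G)⁻¹ * (z * x * z⁻¹), mul_mem (inv_mem x.2) (hn x x.2)⟩
  have hinj : Function.Injective f := by
    rintro ⟨u, hu⟩ ⟨v, hv⟩ huv
    have h1 : u⁻¹ * (z * u * z⁻¹) = v⁻¹ * (z * v * z⁻¹) := congrArg Subtype.val huv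
    have h2 : v * u⁻¹ * z = z * (v * u⁻¹) := by
      calc v * u⁻¹ * z = v * (u⁻¹ * (z * u * z⁻¹)) * (z * u⁻¹) := by group
        _ = v * (v⁻¹ * (z * v * z⁻¹)) * (z * u⁻¹) := by rw [h1]
        _ = _ := by group
    have h3 := hf _ (mul_mem hv (inv_mem hu)) h2
    exact Subtype.ext (mul_inv_eq_one.1 h3).symm
  obtain ⟨⟨u, hu⟩, hfu⟩ := (Finite.injective_iff_surjective.1 hinj) ⟨x, hx⟩
  have h1 : u⁻¹ * (z * u * z⁻¹) = x := congrArg Subtype.val hfu
  rw [← h1, hzi]
  calc z * (u⁻¹ * (z * u * z)) * z = z * u⁻¹ * z * u * (z * z) := by group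
    _ = z * u⁻¹ * z * u := by rw [hz2, mul_one]
    _ = (u⁻¹ * (z⁻¹ * u * z⁻¹))⁻¹ := by group
    _ = _ := by rw [hzi]

/-- the elements of `O(C(c))` commuting with `z` are trivial -/
theorem SW.eq_one_of_core (S : SW Om) (hc : c ∈ CC Om z) (hx : x ∈ OO (centralizer {c}))
    (hxz : x * z = z * x) : x = 1 := by
  have h := S.w
  have hz := CC.inZ hc
  have hRc : ∀ r ∈ RZ Om z, r ∈ centralizer {c} := fun r hr =>
    mem_centralizer_singleton_iff.2 (CX_comm hr (CC.mem_CX hc)).symm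
  have hcx : x ∈ CX Om z := by
    rw [mem_CX]
    intro K hK k hk
    have hkR := hK.le_RZ hk
    have h1 : x * k * x⁻¹ * k⁻¹ ∈ RZ Om z := mul_mem (RZ_conj_comm h hxz hkR) (inv_mem hkR)
    have h2 : x * k * x⁻¹ * k⁻¹ ∈ OO (centralizer {c}) := by
      have h3 := (mem_normalizer_iff.1 (le_normalizer_OO _ (hRc k hkR)) _).1 (inv_mem hx)
      have h4 : x * k * x⁻¹ * k⁻¹ = x * (k * x⁻¹ * k⁻¹) := by group
      rw [h4]
      exact mul_mem hx h3
    have h3 := eq_one_of_mem_odd (isPGroup_RZ h hz) (odd_OO _) h1 h2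
    rwa [mul_inv_eq_one, mul_inv_eq_iff_eq_mul] at h3
  have hx2 : x * x = 1 := by
    rcases S.cx z hz x hcx with h1 | h1 | h1 | h1
    · rw [h1, one_mul]
    · rw [h1, hz.z2 h]
    · exact CC.sq h1
    · have h2 := CC.sq h1
      have h3 : z * x * (z * x) = z * z * (x * x) := by
        calc z * x * (z * x) = z * (x * z) * x := by group
          _ = z * (z * x) * x := by rw [hxz]
          _ = _ := by group
      rwa [h3, hz.z2 h, one_mul] at h2
  refine eq_one_of_mem_odd (isPGroup_zpowers_of_sq hx2) (odd_OO _) (mem_zpowers x) hx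

/-- the core of the centraliser of a label is trivial -/
theorem SW.core_label (S : SW Om) (hc : c ∈ CC Om z) : OO (centralizer {c}) = ⊥ := by
  have h := S.w
  have key : ∀ {z : G}, c ∈ CC Om z → ∀ x ∈ OO (centralizer {c}), z * x * z⁻¹ = x⁻¹ := by
    intro z hc x hx
    have hzc : z ∈ centralizer {c} := mem_centralizer_singleton_iff.2 (CC.comm_z h hc).symm
    refine inverts_of_fpf ((CC.inZ hc).z2 h) (fun x hx => ?_) (fun x hx hxz => S.eq_one_of_core hc hx hxz) hx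
    exact (mem_normalizer_iff.1 (le_normalizer_OO _ hzc) _).1 hx
  rw [eq_bot_iff]
  intro x hx
  obtain ⟨s, l⟩ := hc
  have h1 := key l.mem_CC
  have h2 := key (l.symm h).mem_CC
  have h3 := key ((l.mul h).symm h).mem_CC
  have h4 := h3 x hx
  have h5 : z * s * x * (z * s)⁻¹ = z * (s * x * s⁻¹) * z⁻¹ := by group
  rw [h5, h2 x hx, h1 _ (inv_mem hx), inv_inv] at h4
  have h6 : x * x = 1 := by
    nth_rewrite 1 [h4]
    exact inv_mul_cancel x
  rw [mem_bot]
  exact eq_one_of_mem_odd (isPGroup_zpowers_of_sq h6) (odd_OO _) (mem_zpowers x) hx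

theorem SW.core_label' (S : SW Om) (hc : c ∈ CC Om z) : pPrimeCore 2 (centralizer ({c} : Set G)) = ⊥ := by
  have h1 := S.core_label hc
  rw [OO_def] at h1
  exact (Subgroup.map_eq_bot_iff_of_injective _ (centralizer ({c} : Set G)).subtype_injective).1 h1

/-! ### `⟨Z_c ∩ C(z)⟩` -/

/-- `⟨Z_c ∩ C(z)⟩` -/
def AC (Om : Set (Subgroup G)) (c z : G) : Subgroup G := closure (PP Om c z)

namespace PPAll

variable (P : PPAll Om)

include P

theorem ac_comm (hc : c ∈ CC Om z) (hx : x ∈ AC Om c z) (hy : y ∈ AC Om c z) : x * y = y * x := by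
  have h1 : AC Om c z ≤ centralizer (PP Om c z) := by
    rw [AC, closure_le]
    intro u hu
    rw [SetLike.mem_coe, mem_centralizer_iff]
    exact fun v hv => P.comm c z hc v hv u hu
  have h2 : x ∈ centralizer (centralizer (PP Om c z) : Set G) := closure_le_centralizer_centralizer _ hx
  exact (mem_centralizer_iff.1 h2 y (h1 hy)).symm

theorem ac_sq (h : W2 Om) (hc : c ∈ CC Om z) (hx : x ∈ AC Om c z) : x * x = 1 := by
  induction hx using closure_induction with
  | mem u hu => exact hu.1.z2 h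
  | one => exact one_mul 1
  | mul u v hu hv ihu ihv =>
    have h1 := P.ac_comm hc hu hv
    calc u * v * (u * v) = u * (v * u) * v := by group
      _ = u * (u * v) * v := by rw [← h1]
      _ = (u * u) * (v * v) := by group
      _ = 1 := by rw [ihu, ihv, one_mul]
  | inv u hu ih => rw [← mul_inv_rev, ih, inv_one]

theorem ac_isPGroup (h : W2 Om) (hc : c ∈ CC Om z) : IsPGroup 2 (AC Om c z) := by
  rintro ⟨x, hx⟩
  refine ⟨1, Subtype.ext ?_⟩
  show x ^ 2 ^ 1 = 1
  rw [pow_one, pow_two]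
  exact P.ac_sq h hc hx

theorem z_mem_ac (hc : c ∈ CC Om z) : z ∈ AC Om c z := subset_closure ⟨CC.inZ hc, hc, rfl⟩

theorem ac_le (S : SW Om) (hc : c ∈ CC Om z) : AC Om c z ≤ MC S.w c z := by
  rw [AC, closure_le]
  intro t ht
  exact del_mem_MC S.w hc ((P.del_iff S hc).2 ht)

theorem pp_conj (S : SW Om) (hc : c ∈ CC Om z) (hg : g ∈ MC S.w c z) (ht : t ∈ PP Om c z) :
    g * t * g⁻¹ ∈ PP Om c z := by
  rw [← P.del_iff S hc] at ht ⊢
  have h1 := mem_MC.1 hg
  exact h1.2.trans (ht.conj S.w h1.1)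

theorem MC_le_normalizer_ac (S : SW Om) (hc : c ∈ CC Om z) : MC S.w c z ≤ normalizer (AC Om c z : Set G) := by
  have key : ∀ g ∈ MC S.w c z, ∀ x ∈ AC Om c z, g * x * g⁻¹ ∈ AC Om c z := by
    intro g hg x hx
    have h1 : AC Om c z ≤ (AC Om c z).comap (MulAut.conj g).toMonoidHom := by
      conv_lhs => rw [AC]
      rw [closure_le]
      intro t ht
      exact subset_closure (P.pp_conj S hc hg ht)
    exact h1 hx
  intro g hg
  rw [mem_normalizer_iff]
  intro x
  refine ⟨key g hg x, fun hx => ?_⟩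
  have h1 := key g⁻¹ (inv_mem hg) _ hx
  have h2 : g⁻¹ * (g * x * g⁻¹) * g⁻¹⁻¹ = x := by group
  rwa [h2] at h1

/-- `z ∈ O_2(C(c))` -/
theorem mem_pCore (S : SW Om) (hc : c ∈ CC Om z)
    (hE : ∀ L : Subgroup (centralizer ({c} : Set G)), IsComponent L →
      L ≤ (MC S.w c z).subgroupOf (centralizer ({c} : Set G)))
    (hzc : z ∈ centralizer ({c} : Set G)) : (⟨z, hzc⟩ : centralizer ({c} : Set G)) ∈ pCore 2 (centralizer ({c} : Set G)) := by
  haveI : Fact (Nat.Prime 2) := ⟨Nat.prime_two⟩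
  have h := S.w
  have hz := CC.inZ hc
  have hAM := P.ac_le S hc
  have hMn := P.MC_le_normalizer_ac S hc
  have hMH : MC S.w c z ≤ centralizer {c} := MC_le h
  by_contra hcon
  apply hcon
  refine OneComp.centralizer_genFit_le (S.core_label' hc) (OneComp.mem_centralizer_genFit (S.core_label' hc) ?_ ?_)
  · intro L hL
    have hLM := hE L hL
    let MH : Subgroup (centralizer ({c} : Set G)) := (MC S.w c z).subgroupOf (centralizer ({c} : Set G))
    let AH : Subgroup (centralizer ({c} : Set G)) := (AC Om c z).subgroupOf (centralizer ({c} : Set G))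
    have hAMH : AH ≤ MH := fun x hx => hAM hx
    have hn : (AH.subgroupOf MH).Normal := by
      refine ⟨fun x hx g => ?_⟩
      have h1 : ((x : centralizer ({c} : Set G)) : G) ∈ AC Om c z := hx
      have h2 : ((g : centralizer ({c} : Set G)) : G) ∈ MC S.w c z := g.2
      exact (mem_normalizer_iff.1 (hMn h2) _).1 h1
    have hp : IsPGroup 2 (AH.subgroupOf MH) := by
      rintro ⟨⟨⟨x, hx1⟩, hx2⟩, hx3⟩
      refine ⟨1, Subtype.ext (Subtype.ext (Subtype.ext ?_))⟩
      show x ^ 2 ^ 1 = 1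
      rw [pow_one, pow_two]
      exact P.ac_sq h hc hx3
    have h1 := Lib.Cores.le_pCore hn hp
    have h2 := CoreTools.component_le_centralizer_pCore
      (SignalizersComponents.Components.isComponent_subgroupOf hLM hL)
    rw [mem_centralizer_iff]
    intro l hl
    have hzM : (⟨z, hzc⟩ : centralizer ({c} : Set G)) ∈ MH := hAMH (show z ∈ AC Om c z from P.z_mem_ac hc)
    have h3 : (⟨⟨z, hzc⟩, hzM⟩ : MH) ∈ pCore 2 MH := h1 (show z ∈ AC Om c z from P.z_mem_ac hc)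
    have h4 := mem_centralizer_iff.1 (h2 (show (⟨l, hLM hl⟩ : MH) ∈ L.subgroupOf MH from hl)) _ h3
    exact (congrArg Subtype.val h4).symm
  · obtain ⟨K, hK⟩ := hz
    set N := (pCore 2 (centralizer ({c} : Set G))).map (centralizer ({c} : Set G)).subtype with hN
    have hN2 : IsPGroup 2 N := (Lib.Cores.pCore_isPGroup 2).map _
    have hKc : K ≤ centralizer {c} := fun k hk =>
      mem_centralizer_singleton_iff.2 (mem_CX.1 (CC.mem_CX hc) K hK k hk).symm
    have hKN : K ≤ normalizer (N : Set G) := by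
      have key : ∀ k ∈ K, ∀ x ∈ N, k * x * k⁻¹ ∈ N := by
        rintro k hk _ ⟨x, hx, rfl⟩
        exact ⟨⟨k, hKc hk⟩ * x * ⟨k, hKc hk⟩⁻¹, (Lib.Cores.pCore_normal 2).conj_mem _ hx _, rfl⟩
      intro k hk
      rw [mem_normalizer_iff]
      intro x
      refine ⟨key k hk x, fun hx => ?_⟩
      have h1 := key k⁻¹ (inv_mem hk) _ hx
      have h2 : k⁻¹ * (k * x * k⁻¹) * k⁻¹⁻¹ = x := by group
      rwa [h2] at h1
    have hzN : zz K ∉ N := by
      rw [hK.2]
      rintro ⟨x, hx, hxz⟩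
      apply hcon
      have h1 : x = ⟨z, hzc⟩ := Subtype.ext hxz
      rwa [← h1]
    have h1 := h.hyp.lemma_one hK.1 (h.isPGroup hK.1) hN2 hKN hzN z (hK.zmem h)
    rw [mem_centralizer_iff]
    intro x hx
    exact Subtype.ext (h1 x ⟨x, hx, rfl⟩).symm

/-- **the members of `Z_c` commute** -/
theorem abel (S : SW Om)
    (hE : ∀ c z : G, c ∈ CC Om z → ∀ L : Subgroup (centralizer ({c} : Set G)), IsComponent L →
      L ≤ (MC S.w c z).subgroupOf (centralizer ({c} : Set G)))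
    (hc : c ∈ CC Om z) (ht : c ∈ CC Om t) : z * t = t * z := by
  haveI : Fact (Nat.Prime 2) := ⟨Nat.prime_two⟩
  have h := S.w
  obtain ⟨Q, hQ, hQz, -⟩ := exists_sylC h (CC.inZ hc) (CC.mem_CX hc)
  have htc : t ∈ centralizer ({c} : Set G) := mem_centralizer_singleton_iff.2 (CC.comm_z h ht).symm
  have h1 := P.mem_pCore S ht (hE c t ht) htc
  obtain ⟨T, hT⟩ := hQ.exists_sylow
  have h2 := Lib.Cores.pCore_le_sylow T h1
  rw [← SetLike.mem_coe, hT] at h2
  exact (hQz t h2).symm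

end PPAll

end Cfsg.Agent.Cit.Nil.RTwo
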