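import Cfsg.Agent.Cit.Nil.RTwo.AFour
import Cfsg.Agent.Cit.Nil.SCW

/-!
# `SCe` from the SC principle (`Nil/SCW.lean`)
-/

set_option autoImplicit false
set_option linter.style.haveILetI false
set_option linter.unusedSectionVars false
set_option maxHeartbeats 400000

namespace Cfsg.Agent.Cit.Nil.RTwo

open Subgroup Cfsg Cit

variable {G : Type*} [Group G] [Finite G] {Om : Set (Subgroup G)} {G0 : Subgroup G}

/-- the world of `SCW` -/
theorem W2.toWd (h : W2 Om) (hne : Om.Nonempty) : SC.Wd Om where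
  hyp := h.hyp
  two := fun K hK => h.isPGroup hK
  one := h.one
  dbl := fun K hK => by
    obtain ⟨L, hL, hne, hz, -⟩ := h.two K hK
    exact ⟨L, hL, hne, hz⟩
  ne := hne

theorem SCe.of_wd (h : W2 Om) (hne : Om.Nonempty) (f : Nil.ROne.FSimp G0) (hle : ∀ K ∈ Om, K ≤ G0) (gold : Cit.ROne.Gold G0)
    (hB : CloEnd.Bend G0)
    (h1173 : ∀ (S : Sylow 2 G) (T : Subgroup G), IsStronglyClosed T (S : Subgroup G) →
      ((⨅ n : ℕ, derivedSeries ↥(centralizer (T : Set G)) n).map (centralizer (T : Set G)).subtype).Normal)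
    (cores : ∀ z, InZ Om z → OO (centralizer {z}) = ⊥) : SCe Om := by
  intro N h1 h2 h3 z hz
  obtain ⟨K, hK, rfl⟩ := hz
  refine (h.toWd hne).eq_bot f hle gold hB h1173 (fun K hK => cores _ ⟨K, hK, rfl⟩) (fun K hK g => h1 g _ ⟨K, hK, rfl⟩)
    (fun K hK n hn => ?_) (fun K hK L hL hc => h3 _ _ ⟨K, hK, rfl⟩ ⟨L, hL, rfl⟩ hc) hK
  exact mem_centralizer_singleton_iff.1 (h2 _ ⟨K, hK, rfl⟩ hn)

end Cfsg.Agent.Cit.Nil.RTwo
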