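import Cfsg.Agent.Cit.Nil.RTwo.SPP

/-!
# Case (S) of S1309, `r = 2`, `m = 1`: `Z_c ∩ C(z)`, the end (the file F2 of section 12)

* `SW.pp_card` : `Z_c ∩ C(z)` has 15 elements: `z`, six lines over `c`, eight p-neighbours;
* `SW.l3` : hyperbolic lines;
* `SW.ppAll (S : SW Om) (D : DchAll Om) : PPAll Om`.
-/

set_option autoImplicit false
set_option linter.style.haveILetI false
set_option linter.unusedSectionVars false
set_option maxHeartbeats 400000

namespace Cfsg.Agent.Cit.Nil.RTwo

open Subgroup Cfsg Cit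

variable {G : Type*} [Group G]

section

variable [Finite G] {Om : Set (Subgroup G)} {K K1 K2 L M L1 L2 : Subgroup G} {z t u v g r s s' y w w' c c' n : G}
  {a b x l : Fin 3 → G} {i j i' j' : Fin 3}

/-- the elements `e_i` are independent -/
theorem HP.e_ne_zmul (h : W2 Om) (P : HP Om z t K x) (i j : Fin 3) : ee z t x i ≠ z * ee z t x j := by
  intro e
  by_cases hij : i = j
  · subst hij
    exact P.q.zne _ e.symm
  · have h1 := P.ee_ne h hij
    rw [e, mul_assoc, P.e_sq h, mul_one] at h1
    exact P.e_ne_one h _ (mul_eq_left.1 h1.symm)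

namespace SW

variable (S : SW Om) (D : DchAll Om)

include S D

/-- the lines over `c` -/
theorem lab_ncard (hc : c ∈ CC Om z) : {u | Lab Om z u c}.ncard = 6 := by
  have h := S.w
  obtain ⟨t, hp, ht⟩ := S.exists_p D hc
  obtain ⟨K, x, P⟩ := hp.exists_hp h
  obtain ⟨f, hf⟩ : ∃ f : Fin 3 × Fin 2 → G, f = fun m => (if m.2 = 0 then z * ee z t x m.1 else ee z t x m.1) * c :=
    ⟨_, rfl⟩
  have hinj : Function.Injective f := by
    rintro ⟨i, a⟩ ⟨j, b⟩ e
    rw [hf] at e
    have e1 := mul_right_cancel e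
    have key : ∀ a b : Fin 2, a = b ∨ (a = 0 ∧ b = 1) ∨ (a = 1 ∧ b = 0) := by decide
    rcases key a b with rfl | ⟨rfl, rfl⟩ | ⟨rfl, rfl⟩
    · have key2 : ∀ a : Fin 2, a = 0 ∨ a = 1 := by decide
      rcases key2 a with rfl | rfl
      · have e2 : z * ee z t x i = z * ee z t x j := e1
        rw [P.e_inj h (mul_left_cancel e2)]
      · have e2 : ee z t x i = ee z t x j := e1
        rw [P.e_inj h e2]
    · exfalso
      have e2 : z * ee z t x i = ee z t x j := e1
      exact P.e_ne_zmul h j i e2.symm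
    · exfalso
      have e2 : ee z t x i = z * ee z t x j := e1
      exact P.e_ne_zmul h i j e2
  have hrange : {u | Lab Om z u c} = Set.range f := by
    ext u
    constructor
    · intro lu
      obtain ⟨i, hi | hi⟩ := S.lab_cases D P hc ht lu
      · exact ⟨(i, 0), by rw [hf, hi]; rfl⟩
      · exact ⟨(i, 1), by rw [hf, hi]; rfl⟩
    · rintro ⟨⟨i, a⟩, rfl⟩
      have key2 : ∀ a : Fin 2, a = 0 ∨ a = 1 := by decide
      rw [hf]
      rcases key2 a with rfl | rfl
      · exact (S.lab_e D P hc ht i).1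
      · exact (S.lab_e D P hc ht i).2
  rw [hrange, Set.ncard_range_of_injective hinj]
  simp

/-- the p-neighbours over `c` -/
theorem p_ncard (hc : c ∈ CC Om z) :
    {s | c ∈ CC Om s ∧ z * s = s * z ∧ Sw Om z s}.ncard = 8 := by
  classical
  have h := S.w
  have hzZ := CC.inZ hc
  obtain ⟨t, hp, ht⟩ := S.exists_p D hc
  have hzt : z * t = t * z := hp.comm
  obtain ⟨-, hnzt, hztc, hcztc, -, htu⟩ := S.pr_of' D hc ht hp.comm hp.sw
  have t2 : t * t = 1 := hp.t2 h
  have hct : c * t = t * c := CC.comm_z h ht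
  have c2 : c * c = 1 := CC.sq hc
  have hcz : c * z = z * c := CC.comm_z h hc
  have hcF : Fx Om z c := (Inn.of_CX (CC.mem_CX hc)).fx h
  obtain ⟨T, hT⟩ : ∃ T : Set G, T = {1, z} ∪ {u | Lab Om z u c} := ⟨_, rfl⟩
  have hTc : T.ncard = 8 := by
    rw [hT, Set.ncard_union_eq, S.lab_ncard D hc, Set.ncard_pair (hzZ.z1 h).symm]
    rw [Set.disjoint_left]
    rintro u (rfl | rfl) hu
    · exact hu.ti.2.1.z1 h rfl
    · exact hu.ne_zt rfl
  rw [← hTc]
  symm
  -- facts on the elements of `T`
  have hTF : ∀ n ∈ T, Fx Om z n ∧ n * z = z * n := by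
    intro n hn
    rw [hT] at hn
    rcases hn with (rfl | rfl) | hu
    · exact ⟨(Inn.one).fx h, by rw [one_mul, mul_one]⟩
    · exact ⟨(Inn.of_CX (z_mem_CX h)).fx h, rfl⟩
    · exact ⟨hu.ti.2.2.2.2.fx h, hu.ti.2.2.2.1.symm⟩
  have hTt : ∀ n ∈ T, n * t = t * n := by
    intro n hn
    rw [hT] at hn
    rcases hn with (rfl | rfl) | hu
    · rw [one_mul, mul_one]
    · exact hzt
    · exact (htu n hu).symm
  have hTalt : ∀ n ∈ T, (InZ Om (n * t) ∧ c ∈ CC Om (n * t)) ∨ (¬ InZ Om (n * t) ∧ InZ Om (n * t * c) ∧ c ∈ CC Om (n * t * c)) := by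
    intro n hn
    have hn' := hn
    rw [hT] at hn
    rcases hn with (rfl | rfl) | hu
    · left; rw [one_mul]; exact ⟨hp.ht, ht⟩
    · exact Or.inr ⟨hnzt, hztc, hcztc⟩
    · have hcn : c ∈ CC Om n := (Lab.symm h hu).mem_CC
      have hne : n ≠ t := by
        rintro rfl
        exact fx_sw_false hzZ (hTF n hn').1 hp.sw
      rcases (S.dch D hcn ht hne (hTt n hn')).alt with h1 | h1
      · left; exact ⟨h1.2.2.2.1, (((h1.1).mul h).symm h).mem_CC⟩
      · right; exact ⟨h1.2.2.1, h1.2.2.2.1, h1.2.2.2.2.1⟩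
  have hTc' : ∀ n ∈ T, n * c = c * n := by
    intro n hn
    rw [hT] at hn
    rcases hn with (rfl | rfl) | hu
    · rw [one_mul, mul_one]
    · exact hcz.symm
    · exact (hu.comm_t h).symm
  have hdiff : ∀ a ∈ T, ∀ b ∈ T, a ≠ b * c := by
    intro a ha b hb e
    rw [hT] at ha hb
    rcases hb with (rfl | rfl) | hb
    · rw [one_mul] at e
      rcases ha with (rfl | rfl) | ha
      · exact S.ne z c hc e.symm
      · exact CC.ne_z h hc e.symm
      · exact ha.ne_t h e.symm
    · rcases ha with (rfl | rfl) | ha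
      · apply CC.ne_z h hc
        have h1 := eq_inv_of_mul_eq_one_right e.symm
        rw [h1, hzZ.inv h]
      · exact S.ne _ c hc (mul_eq_left.1 e.symm)
      · apply ha.ne_zmt h
        rw [e, ← mul_assoc, hzZ.z2 h, one_mul]
    · have hw : b * c ∈ RZ Om z := hb.wz
      rcases ha with (rfl | rfl) | ha
      · apply hb.ne_t h
        have h1 := eq_inv_of_mul_eq_one_right e.symm
        rw [h1, hb.tinv h]
      · apply hb.ne_zmt h
        calc c = (b * b) * c := by rw [hb.t2 h, one_mul]
          _ = b * (b * c) := by group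
          _ = b * (c * b) := by rw [hb.comm_t h]
          _ = (b * c) * b := by group
          _ = a * b := by rw [← e]
      · have h1 := S.hn.eq_of_RZ h hzZ ha.ti.2.1 (by rw [e]; exact hw)
        exact ha.ne_zt h1.symm
  refine Set.ncard_congr (fun n _ => if InZ Om (n * t) then n * t else n * t * c) ?_ ?_ ?_
  · intro n hn
    have hF := hTF n hn
    have hsw : Sw Om z (n * t) := hF.1.mul_sw hp.sw
    have hcomm : z * (n * t) = n * t * z := by
      rw [← mul_assoc, ← hF.2, mul_assoc, hzt, mul_assoc]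
    show (if InZ Om (n * t) then n * t else n * t * c) ∈ {s | c ∈ CC Om s ∧ z * s = s * z ∧ Sw Om z s}
    rcases hTalt n hn with ⟨h1, h2⟩ | ⟨h1, h2, h3⟩
    · rw [if_pos h1]
      exact ⟨h2, hcomm, hsw⟩
    · rw [if_neg h1]
      refine ⟨h3, ?_, hsw.mul_fx hcF⟩
      calc z * (n * t * c) = z * (n * t) * c := by group
        _ = n * t * (z * c) := by rw [hcomm]; group
        _ = _ := by rw [← hcz]; group
  · intro a b ha hb e
    have e1 : (if InZ Om (a * t) then a * t else a * t * c) = if InZ Om (b * t) then b * t else b * t * c := e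
    have hcc : ∀ n, n * t * c = n * c * t := fun n => by rw [mul_assoc, ← hct, mul_assoc]
    split_ifs at e1 with h1 h2 h2
    · exact mul_right_cancel e1
    · rw [hcc] at e1
      exact (hdiff a ha b hb (mul_right_cancel e1)).elim
    · rw [hcc] at e1
      exact (hdiff b hb a ha (mul_right_cancel e1).symm).elim
    · exact mul_right_cancel (mul_right_cancel e1)
  · rintro s ⟨hs, hzs, hsw⟩
    by_cases hst : s = t
    · refine ⟨1, by rw [hT]; exact Or.inl (Or.inl rfl), ?_⟩
      show (if InZ Om (1 * t) then 1 * t else 1 * t * c) = s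
      rw [one_mul, if_pos hp.ht, hst]
    have hsp : s ∈ PP Om c z := ⟨CC.inZ hs, hs, hzs⟩
    have htp : t ∈ PP Om c z := ⟨hp.ht, ht, hzt⟩
    have hstc : s * t = t * s := S.pp_comm D hc hsp htp
    have hcs : c * s = s * c := CC.comm_z h hs
    have hF : Fx Om z (s * t) := hsw.mul h hp.sw hzs.symm hzt.symm
    have hcomm : z * (s * t) = s * t * z := by
      rw [← mul_assoc, hzs, mul_assoc, hzt, mul_assoc]
    have hmem : ∀ n, c ∈ CC Om n → z * n = n * z → Fx Om z n → n ∈ T := by
      intro n hn hzn hfn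
      rw [hT]
      by_cases hne : z = n
      · rw [← hne]; exact Or.inl (Or.inr rfl)
      · exact Or.inr (S.lab_of D hc hn hne hzn hfn).1
    rcases (S.dch D hs ht hst hstc).alt with h1 | h1
    · have hn : c ∈ CC Om (s * t) := (((h1.1).mul h).symm h).mem_CC
      refine ⟨s * t, hmem _ hn hcomm hF, ?_⟩
      show (if InZ Om (s * t * t) then s * t * t else s * t * t * c) = s
      have e : s * t * t = s := by rw [mul_assoc, t2, mul_one]
      rw [e, if_pos (CC.inZ hs)]
    · refine ⟨s * t * c, hmem _ h1.2.2.2.2.1 ?_ (hF.mul hcF), ?_⟩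
      · calc z * (s * t * c) = z * (s * t) * c := by group
          _ = s * t * (z * c) := by rw [hcomm]; group
          _ = _ := by rw [← hcz]; group
      · show (if InZ Om (s * t * c * t) then s * t * c * t else s * t * c * t * c) = s
        have e : s * t * c * t = s * c := by
          rw [mul_assoc, hct]
          calc s * t * (t * c) = s * (t * t) * c := by group
            _ = _ := by rw [t2, mul_one]
        rw [e, if_neg (S.mul_not_inZ hs), mul_assoc, c2, mul_one]

theorem pp_card (hc : c ∈ CC Om z) : (PP Om c z).ncard = 15 := by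
  have h := S.w
  have hzZ := CC.inZ hc
  have e : PP Om c z = {z} ∪ {u | Lab Om z u c} ∪ {s | c ∈ CC Om s ∧ z * s = s * z ∧ Sw Om z s} := by
    ext t
    constructor
    · rintro ⟨h1, h2, h3⟩
      by_cases hne : z = t
      · exact Or.inl (Or.inl hne.symm)
      rcases (S.dch D hc h2 hne h3).alt with h4 | h4
      · exact Or.inl (Or.inr h4.1)
      · exact Or.inr ⟨h2, h3, h4.1⟩
    · rintro ((rfl | h1) | ⟨h1, h2, -⟩)
      · exact ⟨hzZ, hc, rfl⟩
      · exact ⟨h1.ti.2.1, (Lab.symm h h1).mem_CC, h1.ti.2.2.2.1⟩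
      · exact ⟨CC.inZ h1, h1, h2⟩
  have d1 : Disjoint ({z} : Set G) {u | Lab Om z u c} := by
    rw [Set.disjoint_left]
    rintro u rfl hu
    exact hu.ne_zt rfl
  have d2 : Disjoint (({z} : Set G) ∪ {u | Lab Om z u c}) {s | c ∈ CC Om s ∧ z * s = s * z ∧ Sw Om z s} := by
    rw [Set.disjoint_left]
    rintro u (rfl | hu) ⟨-, -, hs⟩
    · exact fx_sw_false hzZ ((Inn.of_CX (z_mem_CX h)).fx h) hs
    · exact fx_sw_false hzZ (hu.ti.2.2.2.2.fx h) hs
  rw [e, Set.ncard_union_eq d2, Set.ncard_union_eq d1, S.lab_ncard D hc, S.p_ncard D hc, Set.ncard_singleton]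

/-- the common neighbours of a hyperbolic pair separate -/
theorem l3_aux (huc : c ∈ CC Om u) (hvc : c ∈ CC Om v) (hwc : c ∈ CC Om w) (huv : u * v = v * u) (huw : u * w = w * u)
    (hne : u ≠ v) (hnot : ¬ InZ Om (u * v))
    (hall : ∀ n, InZ Om n → c ∈ CC Om n → u * n = n * u → InZ Om (u * n) → InZ Om (v * n) → w = n ∨ InZ Om (w * n))
    (hI : InZ Om (u * w)) : False := by
  have h := S.w
  obtain ⟨hp, -, -, -, hvu⟩ := S.pr_of D huc hvc hne huv hnot
  obtain ⟨K, x, P⟩ := hp.exists_hp h
  have u2 : u * u = 1 := hp.hz.z2 h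
  have v2 : v * v = 1 := hp.t2 h
  have hcu : c * u = u * c := CC.comm_z h huc
  have hcv : c * v = v * c := CC.comm_z h hvc
  have c2 : c * c = 1 := CC.sq huc
  have hne' : u ≠ w := by
    rintro rfl
    rw [u2] at hI
    exact hI.z1 h rfl
  have lw : Lab Om u w c := by
    rcases (S.dch D huc hwc hne' huw).alt with h1 | h1
    · exact h1.1
    · exact (h1.2.2.1 hI).elim
  have hcF : Fx Om v c := (Inn.of_CX (CC.mem_CX hvc)).fx h
  have ece : ∀ i, c * ee u v x i = ee u v x i * c := fun i => CX_comm (P.e_mem h i) (CC.mem_CX huc)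
  -- the common neighbours `n_i = u e_i c`
  have hn : ∀ i, w = u * ee u v x i * c ∨ InZ Om (w * (u * ee u v x i * c)) := by
    intro i
    have li := (S.lab_e D P huc hvc i).1
    have hcn : c ∈ CC Om (u * ee u v x i * c) := (li.symm h).mem_CC
    have hvn : v * (u * ee u v x i * c) = u * ee u v x i * c * v := hvu _ li
    have hvne : v ≠ u * ee u v x i * c := by
      intro e
      refine fx_sw_false hp.hz (li.ti.2.2.2.2.fx h) ?_
      rw [← e]; exact hp.sw
    have hF : Fx Om v (u * ee u v x i * c) := (P.fx_ze h S.hn i).mul hcF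
    exact hall _ li.ti.2.1 hcn li.ti.2.2.2.1 (li.mul h).ti.2.1 (S.lab_of D hvc hcn hvne hvn hF).2
  obtain ⟨i, hi⟩ := S.lab_cases D P huc hvc lw
  obtain ⟨j, hij⟩ : ∃ j, i ≠ j := ⟨i + 1, i_ne1 i⟩
  have hnR : ∀ k e : G, (e = 1 ∨ e = u) → k ∈ RZ Om u → k ≠ 1 → k ≠ u → ¬ InZ Om (e * k) := by
    intro k e he hk h1 h2 h3
    rcases he with rfl | rfl
    · rw [one_mul] at h3
      exact h2 (S.hn.eq_of_RZ h hp.hz h3 hk)
    · have h4 := S.hn.eq_of_RZ h hp.hz h3 (mul_mem (z_mem_RZ hp.hz h) hk)
      exact h1 (mul_eq_left.1 h4)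
  have hprod : ∀ e : G, (e = 1 ∨ e = u) → w = e * (u * ee u v x i * c) → False := by
    intro e he hw
    rcases hn j with h1 | h1
    · rw [hw] at h1
      have h2 : e * (u * ee u v x i * c) = u * (e * ee u v x i) * c := by
        rcases he with rfl | rfl
        · rw [one_mul, one_mul]
        · group
      rw [h2] at h1
      have h3 := mul_left_cancel (mul_right_cancel h1)
      rcases he with rfl | rfl
      · rw [one_mul] at h3
        exact hij (P.e_inj h h3)
      · exact P.e_ne_zmul h j i h3.symm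
    · have h2 : w * (u * ee u v x j * c) = e * (u * ee u v x (th3 i j)) := by
        rw [hw]
        calc e * (u * ee u v x i * c) * (u * ee u v x j * c) =
            e * (u * ee u v x i * (c * u) * ee u v x j * c) := by group
          _ = e * (u * (ee u v x i * u) * (c * ee u v x j) * c) := by rw [hcu]; group
          _ = e * (u * u * (ee u v x i * ee u v x j) * (c * c)) := by rw [P.e_z h, ece]; group
          _ = e * (u * ee u v x (th3 i j)) := by rw [u2, one_mul, c2, mul_one, P.ee_ne h hij]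
      rw [h2] at h1
      refine hnR _ e he (P.c_mem h _) (P.c_ne_one h _) ?_ h1
      intro h3
      exact P.e_ne_one h _ (mul_eq_left.1 h3)
  rcases hi with h1 | h1
  · exact hprod 1 (Or.inl rfl) (by rw [one_mul]; exact h1)
  · refine hprod u (Or.inr rfl) ?_
    rw [h1]
    calc ee u v x i * c = (u * u) * ee u v x i * c := by rw [u2, one_mul]
      _ = _ := by group

theorem l3 (huc : c ∈ CC Om u) (hvc : c ∈ CC Om v) (hwc : c ∈ CC Om w) (huv : u * v = v * u) (huw : u * w = w * u)
    (hne : u ≠ v) (hnot : ¬ InZ Om (u * v))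
    (hall : ∀ n, InZ Om n → c ∈ CC Om n → u * n = n * u → InZ Om (u * n) → InZ Om (v * n) → w = n ∨ InZ Om (w * n)) :
    w = u ∨ w = v ∨ w = u * v * c := by
  have h := S.w
  by_contra hcon
  push Not at hcon
  obtain ⟨hwu, hwv, hwy⟩ := hcon
  have huZ := CC.inZ huc
  have hvZ := CC.inZ hvc
  have u2 : u * u = 1 := huZ.z2 h
  have v2 : v * v = 1 := hvZ.z2 h
  have c2 : c * c = 1 := CC.sq huc
  have hcu : c * u = u * c := CC.comm_z h huc
  have hcv : c * v = v * c := CC.comm_z h hvc
  have hcw : c * w = w * c := CC.comm_z h hwc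
  have hvw : v * w = w * v := S.pp_comm D huc ⟨hvZ, hvc, huv⟩ ⟨CC.inZ hwc, hwc, huw⟩
  obtain ⟨hp, hyZ, hyc, -, -⟩ := S.pr_of D huc hvc hne huv hnot
  have hcF : ∀ s, c ∈ CC Om s → Fx Om s c := fun s hs => (Inn.of_CX (CC.mem_CX hs)).fx h
  -- a commuting element of order 2 with product of order 2
  have hcomm : ∀ a b : G, InZ Om a → InZ Om b → InZ Om (a * b) → a * b = b * a := by
    intro a b ha hb hab
    have h1 := hab.z2 h
    have h2 := eq_inv_of_mul_eq_one_left h1
    rw [mul_inv_rev, ha.inv h, hb.inv h] at h2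
    exact h2
  -- type I with respect to `u`, `v`
  have hIu : ¬ InZ Om (u * w) := fun hI => S.l3_aux D huc hvc hwc huv huw hne hnot hall hI
  have hIv : ¬ InZ Om (v * w) := by
    intro hI
    refine S.l3_aux D hvc huc hwc huv.symm hvw hne.symm ?_ ?_ hI
    · rw [← huv]; exact hnot
    · intro n hn hnc hvn h1 h2
      exact hall n hn hnc (hcomm u n huZ hn h2) h2 h1
  have swwu : Sw Om w u := by
    rcases (S.dch D hwc huc hwu huw.symm).alt with h1 | h1
    · exact (hIu (by rw [huw]; exact h1.2.2.2.1)).elim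
    · exact h1.1
  have swwv : Sw Om w v := by
    rcases (S.dch D hwc hvc hwv hvw.symm).alt with h1 | h1
    · exact (hIv (by rw [hvw]; exact h1.2.2.2.1)).elim
    · exact h1.1
  obtain ⟨y, hy⟩ : ∃ y, y = u * v * c := ⟨_, rfl⟩
  rw [← hy] at hyZ hyc hwy
  have hwZ := CC.inZ hwc
  have fxwy : Fx Om w y := by rw [hy]; exact (swwu.mul h swwv huw hvw).mul (hcF w hwc)
  have hyw : y * w = w * y := by
    rw [hy]
    calc u * v * c * w = u * v * (c * w) := by group
      _ = u * (v * w) * c := by rw [hcw]; group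
      _ = (u * w) * v * c := by rw [hvw]; group
      _ = _ := by rw [huw]; group
  have hIy : InZ Om (y * w) := by
    rw [hyw]
    exact (S.lab_of D hwc hyc hwy hyw.symm fxwy).2
  have hyv : y * v = u * c := by
    rw [hy]
    calc u * v * c * v = u * v * (c * v) := by group
      _ = u * (v * v) * c := by rw [hcv]; group
      _ = _ := by rw [v2, mul_one]
  have hvy : v * y = u * c := by
    rw [hy]
    calc v * (u * v * c) = (v * u) * v * c := by group
      _ = u * (v * v) * c := by rw [← huv]; group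
      _ = _ := by rw [v2, mul_one]
  have huyv : u = y * v * c := by rw [hyv, mul_assoc, c2, mul_one]
  refine S.l3_aux D hyc hvc hwc (hyv.trans hvy.symm) hyw ?_ ?_ ?_ hIy
  · intro e
    rw [e, v2] at hyv
    apply CC.ne_z h huc
    have h1 := eq_inv_of_mul_eq_one_right hyv.symm
    rw [h1, huZ.inv h]
  · rw [hyv]; exact S.mul_not_inZ huc
  · intro n hn hnc hyn h1 h2
    have hvn : v * n = n * v := hcomm v n hvZ hn h2
    have hcn : c * n = n * c := CC.comm_z h hnc
    have hun : u * n = n * u := by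
      rw [huyv]
      calc y * v * c * n = y * v * (c * n) := by group
        _ = y * (v * n) * c := by rw [hcn]; group
        _ = (y * n) * v * c := by rw [hvn]; group
        _ = _ := by rw [hyn]; group
    have fxv : Fx Om n v := by
      by_cases e : n = v
      · rw [e]; exact (Inn.of_CX (z_mem_CX h)).fx h
      rcases (S.dch D hnc hvc e hvn.symm).alt with h3 | h3
      · exact h3.2.1
      · exact (h3.2.2.1 (by rw [← hvn]; exact h2)).elim
    have fxy : Fx Om n y := by
      by_cases e : n = y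
      · rw [e]; exact (Inn.of_CX (z_mem_CX h)).fx h
      rcases (S.dch D hnc hyc e hyn.symm).alt with h3 | h3
      · exact h3.2.1
      · exact (h3.2.2.1 (by rw [← hyn]; exact h1)).elim
    have fxu : Fx Om n u := by rw [huyv]; exact (fxy.mul fxv).mul (hcF n hnc)
    have hnu : n ≠ u := by
      rintro rfl
      apply hnot
      rw [huv]; exact h2
    have h4 := (S.lab_of D hnc huc hnu hun.symm fxu).2
    exact hall n hn hnc hun (by rw [hun]; exact h4) h2

/-- **the file F2** -/
theorem ppAll : PPAll Om where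
  comm _ _ hc _ hu _ hv := S.pp_comm D hc hu hv
  card _ _ hc := S.pp_card D hc
  loc _ _ _ l := S.loc D l
  l3 _ _ _ _ h1 h2 h3 h4 h5 h6 h7 h8 := S.l3 D h1 h2 h3 h4 h5 h6 h7 h8

end SW

end

end Cfsg.Agent.Cit.Nil.RTwo
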