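import Cfsg.Agent.Cit.Nil.RTwo.Weight
import Cfsg.Agent.Cit.Nil.RTwo.SC

/-!
# S1309, `r = 2`, `m = 1`: the T-only world, (8.10)-(8.13) and the end

* `HP.eq_cases` (8.10) : `t'` of type p with the same graph as `t`: `t' ∈ {t, t e_i}`;
* `HP.exists_rot` (8.11) : an element of order 3 (modulo inner) on both members, centralising `X_z`;
* `HP.pi_inn` (8.12), (8.13) : all neighbours of type p have the same graph (weight one);
* `FR.false` : there are no pairs of type f;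
* `t_world` : **the T-only world is empty**.
-/

set_option autoImplicit false
set_option linter.unusedSectionVars false

namespace Cfsg.Agent.Cit.Nil.RTwo

open Subgroup Cfsg Cfsg.Agent.Cit

variable {G : Type*} [Group G] [Finite G] {Om : Set (Subgroup G)} {K L M : Subgroup G} {g t x y z s : G}

theorem PR.eq_of (hp : PR Om z t) (h : W2 Om) (hT : TO Om) {t' : G} (ht' : InZ Om t') (hc : t * t' = t' * t)
    (hm : t * t' ∈ CX Om z) : t' = t := by
  obtain ⟨K, x, L, l, F⟩ := hp.exists_fp h hT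
  exact F.eq_of h hT ht' hc hm

namespace HP

variable {x : Fin 3 → G} {i j : Fin 3} {t' : G}

/-- (8.10) -/
theorem eq_cases (P : HP Om z t K x) (h : W2 Om) (hT : TO Om) (hF : CF Om) (hp' : PR Om z t')
    (hi : Inn Om z (t * t')) : t' = t ∨ ∃ i, t' = t * ee z t x i := by
  have t2 : t * t = 1 := P.t2 h
  have tinv : t⁻¹ = t := P.tinv h
  obtain ⟨u, hu, v, hv, hu', hv', hc⟩ := hi.exists_mul P.hK (P.hK' h) h P.ne' P.q P.q'
  obtain ⟨c, hcd⟩ : ∃ c, c = (u * v)⁻¹ * (t * t') := ⟨_, rfl⟩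
  rw [← hcd] at hc
  have htt' : t * t' = u * v * c := by rw [hcd]; group
  have ht' : t' = t * (u * v * c) := by rw [← htt', ← mul_assoc, t2, one_mul]
  have hct : c * t = t * c := P.pr.cent h hT hF hc
  have hcu : c * u = u * c := mem_CX.1 hc _ P.hK u hu
  have hcv : c * v = v * c := mem_CX.1 hc _ (P.hK' h) v hv
  have huK' : t * u * t⁻¹ ∈ cj t K := conj_mem_cj hu
  have hvK : t * v * t⁻¹ ∈ K := by
    have h1 := (P.hK' h).cj_comm h P.pr.comm.symm
    rcases P.cases h h1 with h2 | h2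
    · rw [← h2]; exact conj_mem_cj hv
    · exact absurd (cj_inj.1 h2).symm P.ne'
  -- `t'² = 1`
  have hsq : (t * v * t⁻¹ * u) * (t * u * t⁻¹ * v) * (c * c) = 1 := by
    have h1 : t' * t' = 1 := hp'.t2 h
    have e1 : t * v * t⁻¹ * (t * u * t⁻¹) = t * u * t⁻¹ * (t * v * t⁻¹) :=
      P.hK.comm (P.hK' h) h P.ne' hvK huK'
    have e2 : (t * u * t⁻¹) * u = u * (t * u * t⁻¹) := (P.hK.comm (P.hK' h) h P.ne' hu huK').symm
    calc (t * v * t⁻¹ * u) * (t * u * t⁻¹ * v) * (c * c)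
        = t * v * t⁻¹ * (u * (t * u * t⁻¹)) * v * (c * c) := by group
      _ = (t * v * t⁻¹ * (t * u * t⁻¹)) * u * v * (c * c) := by rw [← e2]; group
      _ = t * u * t⁻¹ * (t * v * t⁻¹) * u * v * (c * c) := by rw [e1]
      _ = t * (u * v) * t⁻¹ * (u * v) * (c * c) := by group
      _ = t * (u * v) * t * (u * v) * (c * c) := by rw [tinv]
      _ = t * u * v * t * u * (v * c) * c := by group
      _ = t * u * v * t * (u * c) * v * c := by rw [← hcv]; group
      _ = t * u * v * (t * c) * u * v * c := by rw [← hcu]; group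
      _ = (t * (u * v * c)) * (t * (u * v * c)) := by rw [← hct]; group
      _ = 1 := by rw [← ht', h1]
  have hA : ∀ k ∈ K, (t * v * t⁻¹ * u) * k = k * (t * v * t⁻¹ * u) := by
    intro k hk
    have h1 : t * v * t⁻¹ * u = (c * c)⁻¹ * (t * u * t⁻¹ * v)⁻¹ := by
      rw [← mul_inv_rev, eq_inv_iff_mul_eq_one, ← mul_assoc]; exact hsq
    have h2 : t * u * t⁻¹ * v ∈ cj t K := mul_mem huK' hv
    have h3 : (t * u * t⁻¹ * v)⁻¹ * k = k * (t * u * t⁻¹ * v)⁻¹ :=
      (P.hK.comm (P.hK' h) h P.ne' hk (inv_mem h2)).symm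
    have h4 : (c * c)⁻¹ * k = k * (c * c)⁻¹ := mem_CX.1 (inv_mem (mul_mem hc hc)) _ P.hK k hk
    rw [h1, mul_assoc, h3, ← mul_assoc, h4, mul_assoc]
  have hB : t * v * t⁻¹ * u = 1 ∨ t * v * t⁻¹ * u = z :=
    P.q.cent (mul_mem hvK hu) (i_ne1 0) (hA _ (P.q.mem _)) (hA _ (P.q.mem _))
  rcases hu' with rfl | ⟨i, rfl⟩ <;> rcases hv' with rfl | ⟨j, rfl⟩
  · left
    refine P.pr.eq_of h hT hp'.ht ?_ ?_
    · rw [ht', mul_one, one_mul, mul_assoc t c t, hct]
    · rw [htt', mul_one, one_mul]; exact hc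
  · exfalso
    rw [mul_one, P.tt h] at hB
    rcases hB with h1 | h1
    · exact P.q.ne_one j h1
    · exact P.q.ne_z j h1
  · exfalso
    rw [mul_one, mul_inv_cancel, one_mul] at hB
    rcases hB with h1 | h1
    · exact P.q.ne_one i h1
    · exact P.q.ne_z i h1
  · right
    rw [P.tt h] at hB
    have hji : j = i := by
      rcases hB with h1 | h1
      · refine P.q.inj (Or.inr ?_)
        rw [eq_inv_of_mul_eq_one_left h1, P.q.inv]
      · refine P.q.inj (Or.inl ?_)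
        have h2 : x j = z * (x i)⁻¹ := by rw [← h1]; group
        rw [h2, P.q.inv, P.q.zzx]
    subst hji
    refine ⟨j, ?_⟩
    have hs := P.pr_te h j
    have hzc : z * c ∈ CX Om z := mul_mem (z_mem_CX h) hc
    have h1 : t' = t * ee z t x j * (z * c) := by
      rw [ht', P.xx_eq, ← P.e_z h]; group
    refine hs.eq_of h hT hp'.ht ?_ ?_
    · rw [h1, mul_assoc _ (z * c), hs.cent h hT hF hzc]
    · rw [h1, ← mul_assoc, hs.t2 h, one_mul]; exact hzc

/-- `g` commuting with `z`, `t`, fixing `K` and mapping `e_i` to `e_j` maps `x i` to `x j` modulo `z` -/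
theorem act_of_e (P : HP Om z t K x) (h : W2 Om) (hgz : g * z = z * g) (hgt : g * t = t * g) (hf : cj g K = K)
    (he : g * ee z t x i * g⁻¹ = ee z t x j) : g * x i * g⁻¹ = x j ∨ g * x i * g⁻¹ = z * x j := by
  obtain ⟨y, hy⟩ : ∃ y, y = g * x i * g⁻¹ := ⟨_, rfl⟩
  have hyK : y ∈ K := by rw [hy, ← hf]; exact conj_mem_cj (P.q.mem i)
  have h1 : g * (t * x i * t⁻¹) * g⁻¹ = t * y * t⁻¹ := by
    have h2 : t⁻¹ * g⁻¹ = g⁻¹ * t⁻¹ := by rw [← mul_inv_rev, ← mul_inv_rev, hgt]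
    calc g * (t * x i * t⁻¹) * g⁻¹ = (g * t) * x i * (t⁻¹ * g⁻¹) := by group
      _ = (t * g) * x i * (g⁻¹ * t⁻¹) := by rw [hgt, h2]
      _ = _ := by rw [hy]; group
  have h3 : y * (t * y * t⁻¹) = x j * (t * x j * t⁻¹) := by
    have h4 : g * (z * ee z t x i) * g⁻¹ = z * ee z t x j := by
      calc g * (z * ee z t x i) * g⁻¹ = (g * z) * ee z t x i * g⁻¹ := by group
        _ = z * (g * ee z t x i * g⁻¹) := by rw [hgz]; group
        _ = _ := by rw [he]
    rw [← P.xx_eq, ← P.xx_eq] at h4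
    rw [← h4, ← h1, hy]; group
  have h5 : (x j)⁻¹ * y = (t * x j * t⁻¹) * (t * y * t⁻¹)⁻¹ := by
    rw [eq_mul_inv_iff_mul_eq, mul_assoc, h3, inv_mul_cancel_left]
  have h6 : (x j)⁻¹ * y = 1 ∨ (x j)⁻¹ * y = z := by
    refine P.hK.inf (P.hK' h) h P.ne' (mul_mem (inv_mem (P.q.mem j)) hyK) ?_
    rw [h5]
    exact mul_mem (P.q'.mem j) (inv_mem (conj_mem_cj hyK))
  rw [← hy]
  rcases h6 with h6 | h6
  · left
    exact (inv_mul_eq_one.1 h6).symm
  · right
    rw [inv_mul_eq_iff_eq_mul, ← P.q.zc] at h6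
    exact h6

/-- conjugation by `x i` on `t e_j` -/
theorem x_s_self (P : HP Om z t K x) (h : W2 Om) (i : Fin 3) :
    x i * (t * ee z t x i) * (x i)⁻¹ = t := by
  calc x i * (t * ee z t x i) * (x i)⁻¹ = (x i * t * (x i)⁻¹) * (x i * ee z t x i * (x i)⁻¹) := by group
    _ = t * ee z t x i * ee z t x i := by rw [P.conj_t h, P.x_e_self h]
    _ = t := by rw [mul_assoc, P.e_sq h, mul_one]

theorem x_s_one (P : HP Om z t K x) (h : W2 Om) (i : Fin 3) :
    x i * (t * ee z t x (i + 1)) * (x i)⁻¹ = t * ee z t x (i + 2) := by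
  calc x i * (t * ee z t x (i + 1)) * (x i)⁻¹
      = (x i * t * (x i)⁻¹) * (x i * ee z t x (i + 1) * (x i)⁻¹) := by group
    _ = t * ee z t x i * (z * ee z t x (i + 1)) := by rw [P.conj_t h, P.x_e_ne h (i_ne1 i)]
    _ = t * (ee z t x i * z) * ee z t x (i + 1) := by group
    _ = t * z * (ee z t x i * ee z t x (i + 1)) := by rw [P.e_z h]; group
    _ = _ := by rw [P.e_mul h, mul_assoc, P.q.zzx]

theorem x_s_two (P : HP Om z t K x) (h : W2 Om) (i : Fin 3) :
    x i * (t * ee z t x (i + 2)) * (x i)⁻¹ = t * ee z t x (i + 1) := by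
  calc x i * (t * ee z t x (i + 2)) * (x i)⁻¹
      = (x i * t * (x i)⁻¹) * (x i * ee z t x (i + 2) * (x i)⁻¹) := by group
    _ = t * ee z t x i * (z * ee z t x (i + 2)) := by rw [P.conj_t h, P.x_e_ne h (i_ne2 i)]
    _ = t * (ee z t x i * z) * ee z t x (i + 2) := by group
    _ = t * z * (ee z t x (i + 2) * ee z t x i) := by rw [P.e_z h, P.e_comm h (i + 2)]; group
    _ = _ := by
      have h1 := P.e_mul h (i + 2)
      rw [i21, i22] at h1
      rw [h1, mul_assoc, P.q.zzx]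

/-- conjugation by the inverse of an `x` whose square is central -/
theorem x_inv (P : HP Om z t K x) (h : W2 Om) {a b : G} (ha : a * z = z * a) (hab : x i * b * (x i)⁻¹ = a) :
    (x i)⁻¹ * a * x i = b ∧ (x i)⁻¹ * b * x i = x i * b * (x i)⁻¹ := by
  have h1 : (x i)⁻¹ * a * x i = b := by rw [← hab]; group
  refine ⟨h1, ?_⟩
  have hbz : b * z = z * b := by
    rw [← h1]
    have h2 : (x i)⁻¹ * z = z * (x i)⁻¹ := by
      rw [inv_mul_eq_iff_eq_mul, ← mul_assoc, ← P.q.zc, mul_inv_cancel_right]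
    calc (x i)⁻¹ * a * x i * z = (x i)⁻¹ * a * (z * x i) := by rw [P.q.zc]; group
      _ = (x i)⁻¹ * z * a * x i := by rw [mul_assoc, mul_assoc, ← mul_assoc a, ha]; group
      _ = _ := by rw [h2]; group
  have h3 : x i * x i * b * (x i * x i)⁻¹ = b := by rw [P.q.sq, ← hbz, mul_inv_cancel_right]
  calc (x i)⁻¹ * b * x i = (x i)⁻¹ * (x i * x i * b * (x i * x i)⁻¹) * x i := by rw [h3]
    _ = _ := by group

end HP

namespace FP

variable {x l : Fin 3 → G} {i j : Fin 3}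

/-- `n_i = x_i l_i x_i⁻¹` -/
theorem n_z (F : FP Om z t K x L l) (h : W2 Om) (i : Fin 3) :
    (x i * l i * (x i)⁻¹) * z * (x i * l i * (x i)⁻¹)⁻¹ = t := by
  have h1 : (x i)⁻¹ * z * x i = z := by rw [mul_assoc, F.P.q.zc, inv_mul_cancel_left]
  calc (x i * l i * (x i)⁻¹) * z * (x i * l i * (x i)⁻¹)⁻¹
      = x i * (l i * ((x i)⁻¹ * z * x i) * (l i)⁻¹) * (x i)⁻¹ := by group
    _ = x i * (x i * t * (x i)⁻¹) * (x i)⁻¹ := by rw [h1, F.conj_eq h]
    _ = t := by rw [F.P.conj_t h, F.P.x_s_self h]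

theorem n_t (F : FP Om z t K x L l) (h : W2 Om) (i : Fin 3) :
    (x i * l i * (x i)⁻¹) * t * (x i * l i * (x i)⁻¹)⁻¹ = z := by
  have h1 : (x i)⁻¹ * t * x i = x i * t * (x i)⁻¹ := by
    have h2 := F.P.x_s_self h i
    rw [← F.P.conj_t h] at h2
    calc (x i)⁻¹ * t * x i = (x i)⁻¹ * (x i * (x i * t * (x i)⁻¹) * (x i)⁻¹) * x i := by rw [h2]
      _ = _ := by group
  have h3 : l i * (l i * z * (l i)⁻¹) * (l i)⁻¹ = z := by
    have h2 := F.Q.x_s_self h i
    rwa [← F.Q.conj_t h] at h2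
  calc (x i * l i * (x i)⁻¹) * t * (x i * l i * (x i)⁻¹)⁻¹
      = x i * (l i * ((x i)⁻¹ * t * x i) * (l i)⁻¹) * (x i)⁻¹ := by group
    _ = x i * (l i * (l i * z * (l i)⁻¹) * (l i)⁻¹) * (x i)⁻¹ := by rw [h1, ← F.conj_eq h]
    _ = x i * z * (x i)⁻¹ := by rw [h3]
    _ = z := by rw [← F.P.q.zc, mul_inv_cancel_right]

/-- `s_i` -/
theorem n_self (F : FP Om z t K x L l) (h : W2 Om) (i : Fin 3) :
    (x i * l i * (x i)⁻¹) * (t * ee z t x i) * (x i * l i * (x i)⁻¹)⁻¹ = t * ee z t x i := by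
  have h1 : (x i)⁻¹ * (t * ee z t x i) * x i = t := by rw [← F.P.conj_t h]; group
  have h2 : l i * t * (l i)⁻¹ = t := by rw [← F.Q.q.zc, mul_inv_cancel_right]
  calc (x i * l i * (x i)⁻¹) * (t * ee z t x i) * (x i * l i * (x i)⁻¹)⁻¹
      = x i * (l i * ((x i)⁻¹ * (t * ee z t x i) * x i) * (l i)⁻¹) * (x i)⁻¹ := by group
    _ = x i * t * (x i)⁻¹ := by rw [h1, h2]
    _ = _ := F.P.conj_t h i

theorem n_one (F : FP Om z t K x L l) (h : W2 Om) (i : Fin 3) :
    (x i * l i * (x i)⁻¹) * (t * ee z t x (i + 1)) * (x i * l i * (x i)⁻¹)⁻¹ = t * ee z t x (i + 2) := by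
  have h1 : (x i)⁻¹ * (t * ee z t x (i + 1)) * x i = t * ee z t x (i + 2) := by
    rw [← F.P.x_s_two h i]; group
  calc (x i * l i * (x i)⁻¹) * (t * ee z t x (i + 1)) * (x i * l i * (x i)⁻¹)⁻¹
      = x i * (l i * ((x i)⁻¹ * (t * ee z t x (i + 1)) * x i) * (l i)⁻¹) * (x i)⁻¹ := by group
    _ = x i * (l i * (z * ee t z l (i + 2)) * (l i)⁻¹) * (x i)⁻¹ := by rw [h1, F.eq]
    _ = x i * (t * ee z t x (i + 1)) * (x i)⁻¹ := by rw [F.Q.x_s_two h, ← F.eq]
    _ = _ := F.P.x_s_one h i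

theorem n_two (F : FP Om z t K x L l) (h : W2 Om) (i : Fin 3) :
    (x i * l i * (x i)⁻¹) * (t * ee z t x (i + 2)) * (x i * l i * (x i)⁻¹)⁻¹ = t * ee z t x (i + 1) := by
  have h1 : (x i)⁻¹ * (t * ee z t x (i + 2)) * x i = t * ee z t x (i + 1) := by
    rw [← F.P.x_s_one h i]; group
  calc (x i * l i * (x i)⁻¹) * (t * ee z t x (i + 2)) * (x i * l i * (x i)⁻¹)⁻¹
      = x i * (l i * ((x i)⁻¹ * (t * ee z t x (i + 2)) * x i) * (l i)⁻¹) * (x i)⁻¹ := by group
    _ = x i * (l i * (z * ee t z l (i + 1)) * (l i)⁻¹) * (x i)⁻¹ := by rw [h1, F.eq]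
    _ = x i * (t * ee z t x (i + 2)) * (x i)⁻¹ := by rw [F.Q.x_s_one h, ← F.eq]
    _ = _ := F.P.x_s_two h i

end FP

/-- (8.11) an element of order 3 on both members, centralising `X_z` and `t` -/
theorem FP.exists_rot {x l : Fin 3 → G} (F : FP Om z t K x L l) (h : W2 Om) (hT : TO Om) (hF : CF Om) :
    ∃ d, d * z = z * d ∧ d * t = t * d ∧ (∀ y ∈ CX Om z, d * y = y * d) ∧ cj d K = K ∧
      ∀ i, d * x i * d⁻¹ = x (i + 2) ∨ d * x i * d⁻¹ = z * x (i + 2) := by
  obtain ⟨n0, h0⟩ : ∃ n0, n0 = x 0 * l 0 * (x 0)⁻¹ := ⟨_, rfl⟩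
  obtain ⟨n1, h1⟩ : ∃ n1, n1 = x 1 * l 1 * (x 1)⁻¹ := ⟨_, rfl⟩
  have a0 := F.n_z h 0
  have a1 := F.n_z h 1
  have b0 := F.n_t h 0
  have b1 := F.n_t h 1
  have c0 := F.n_self h 0
  have c1 := F.n_self h 1
  have d0 := F.n_one h 0
  have d1 := F.n_one h 1
  have e0 := F.n_two h 0
  have e1 := F.n_two h 1
  rw [← h0] at a0 b0 c0 d0 e0
  rw [← h1] at a1 b1 c1 d1 e1
  rw [zero_add] at d0 e0
  rw [show (1 : Fin 3) + 1 = 2 from rfl, show (1 : Fin 3) + 2 = 0 from rfl] at d1 e1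
  rw [zero_add] at d0 e0
  obtain ⟨D, hD⟩ : ∃ D, D = n0 * n1 := ⟨_, rfl⟩
  have hcomp : ∀ a, D * a * D⁻¹ = n0 * (n1 * a * n1⁻¹) * n0⁻¹ := fun a => by rw [hD]; group
  have hDz : D * z * D⁻¹ = z := by rw [hcomp, a1, b0]
  have hDt : D * t * D⁻¹ = t := by rw [hcomp, b1, a0]
  have hDs : ∀ i, D * (t * ee z t x i) * D⁻¹ = t * ee z t x (i + 1) := by
    intro i
    fin_cases i
    · show D * (t * ee z t x 0) * D⁻¹ = t * ee z t x 1
      rw [hcomp, e1, e0]
    · show D * (t * ee z t x 1) * D⁻¹ = t * ee z t x 2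
      rw [hcomp, c1, d0]
    · show D * (t * ee z t x 2) * D⁻¹ = t * ee z t x 0
      rw [hcomp, d1, c0]
  have hDe : ∀ i, D * ee z t x i * D⁻¹ = ee z t x (i + 1) := by
    intro i
    have h2 := hDs i
    have h3 : D * (t * ee z t x i) * D⁻¹ = (D * t * D⁻¹) * (D * ee z t x i * D⁻¹) := by group
    rw [h3, hDt] at h2
    exact mul_left_cancel h2
  have hDzc : D * z = z * D := by rwa [mul_inv_eq_iff_eq_mul] at hDz
  have hDtc : D * t = t * D := by rwa [mul_inv_eq_iff_eq_mul] at hDt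
  -- `D` centralises `X_z`
  have hcen : ∀ y ∈ CX Om z, y ∈ CX Om t → D * y = y * D := by
    intro y hy hy'
    have h2 : ∀ i, y * (x i * l i * (x i)⁻¹) = (x i * l i * (x i)⁻¹) * y := by
      intro i
      have e1 : y * x i = x i * y := mem_CX.1 hy K F.P.hK _ (F.P.q.mem i)
      have e2 : y * l i = l i * y := mem_CX.1 hy' L F.Q.hK _ (F.Q.q.mem i)
      have e3 : y * (x i)⁻¹ = (x i)⁻¹ * y := by
        rw [eq_inv_mul_iff_mul_eq, ← mul_assoc, ← e1, mul_inv_cancel_right]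
      calc y * (x i * l i * (x i)⁻¹) = (y * x i) * l i * (x i)⁻¹ := by group
        _ = x i * (y * l i) * (x i)⁻¹ := by rw [e1]; group
        _ = x i * l i * (y * (x i)⁻¹) := by rw [e2]; group
        _ = _ := by rw [e3]; group
    rw [hD, h0, h1]
    rw [mul_assoc, ← h2 1, ← mul_assoc, ← h2 0, mul_assoc]
  have hDX : ∀ y ∈ CX Om z, D * y = y * D := by
    intro y hy
    rcases F.cases h hT hy (F.P.pr.cent h hT hF hy) with h2 | h2
    · exact hcen y hy h2
    · have h3 := hcen _ (mul_mem hy (z_mem_CX h)) h2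
      rw [← mul_assoc, mul_assoc y z D, ← hDzc, ← mul_assoc] at h3
      exact mul_right_cancel h3
  refine ⟨D * D, by rw [mul_assoc, hDzc, ← mul_assoc, hDzc, mul_assoc], by
    rw [mul_assoc, hDtc, ← mul_assoc, hDtc, mul_assoc], fun y hy => by
    rw [mul_assoc, hDX y hy, ← mul_assoc, hDX y hy, mul_assoc], ?_, ?_⟩
  · rw [cj_mul]
    rcases F.P.cases h (F.P.hK.cj_comm h hDzc) with h2 | h2
    · rw [h2, h2]
    · rw [h2]
      rcases F.P.cases h ((F.P.hK' h).cj_comm h hDzc) with h3 | h3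
      · exact h3
      · exact absurd (cj_inj.1 (h2.trans h3.symm)) F.P.ne'
  · intro i
    have hDDz : D * D * z = z * (D * D) := by rw [mul_assoc, hDzc, ← mul_assoc, hDzc, mul_assoc]
    have hDDt : D * D * t = t * (D * D) := by rw [mul_assoc, hDtc, ← mul_assoc, hDtc, mul_assoc]
    refine F.P.act_of_e h hDDz hDDt ?_ ?_
    · rw [cj_mul]
      rcases F.P.cases h (F.P.hK.cj_comm h hDzc) with h2 | h2
      · rw [h2, h2]
      · rw [h2]
        rcases F.P.cases h ((F.P.hK' h).cj_comm h hDzc) with h3 | h3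
        · exact h3
        · exact absurd (cj_inj.1 (h2.trans h3.symm)) F.P.ne'
    · have h2 : D * D * ee z t x i * (D * D)⁻¹ = D * (D * ee z t x i * D⁻¹) * D⁻¹ := by group
      rw [h2, hDe, hDe, i11]

/-- the rotation `i ↦ i + 2` -/
def rho : Equiv.Perm (Fin 3) := Equiv.addRight 2

theorem rho_apply (i : Fin 3) : rho i = i + 2 := rfl

theorem PR.exists_rot (hp : PR Om z t) {x : Fin 3 → G} (hK : Mem Om z K) (hx : Q3 K z x) (h : W2 Om) (hT : TO Om)
    (hF : CF Om) : ∃ d, d * z = z * d ∧ (∀ y ∈ CX Om z, d * y = y * d) ∧ Act z x x d rho ∧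
      Act z (fun i => t * x i * t⁻¹) (fun i => t * x i * t⁻¹) d rho := by
  have P : HP Om z t K x := ⟨hp, hK, hx⟩
  obtain ⟨L, l, Q⟩ := (hp.symm h hT).exists_hp h
  obtain ⟨l', F⟩ := P.exists_fp Q h hT
  obtain ⟨d, hdz, hdt, hdX, -, hd⟩ := F.exists_rot h hT hF
  refine ⟨d, hdz, hdX, hd, fun i => ?_⟩
  have h2 : t⁻¹ * d⁻¹ = d⁻¹ * t⁻¹ := by rw [← mul_inv_rev, ← mul_inv_rev, hdt]
  have h1 : d * (t * x i * t⁻¹) * d⁻¹ = t * (d * x i * d⁻¹) * t⁻¹ := by
    calc d * (t * x i * t⁻¹) * d⁻¹ = (d * t) * x i * (t⁻¹ * d⁻¹) := by group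
      _ = (t * d) * x i * (d⁻¹ * t⁻¹) := by rw [hdt, h2]
      _ = _ := by group
  show d * (t * x i * t⁻¹) * d⁻¹ = t * x (i + 2) * t⁻¹ ∨ d * (t * x i * t⁻¹) * d⁻¹ = z * (t * x (i + 2) * t⁻¹)
  rw [h1]
  rcases hd i with h3 | h3
  · left; rw [h3]
  · right
    rw [h3]
    calc t * (z * x (i + 2)) * t⁻¹ = (t * z) * x (i + 2) * t⁻¹ := by group
      _ = (z * t) * x (i + 2) * t⁻¹ := by rw [hp.comm]
      _ = _ := by group

theorem Act.inv' {a b : Fin 3 → G} {σ : Equiv.Perm (Fin 3)} (hz : z * z = 1) (ha : Act z a b g σ)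
    (hg : g * z = z * g) : Act z b a g⁻¹ σ⁻¹ := by
  intro j
  have h1 := ha (σ⁻¹ j)
  rw [show σ (σ⁻¹ j) = j from σ.apply_symm_apply j] at h1
  have hgi : g⁻¹ * z = z * g⁻¹ := by
    rw [inv_mul_eq_iff_eq_mul, ← mul_assoc, hg, mul_inv_cancel_right]
  rcases h1 with h1 | h1
  · left; rw [← h1]; group
  · right
    have h2 : b j = z * (g * a (σ⁻¹ j) * g⁻¹) := by rw [h1, ← mul_assoc, hz, one_mul]
    rw [h2]
    calc g⁻¹ * (z * (g * a (σ⁻¹ j) * g⁻¹)) * g⁻¹⁻¹ = (g⁻¹ * z) * g * a (σ⁻¹ j) := by group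
      _ = _ := by rw [hgi]; group

theorem perm_pi : ∀ π : Equiv.Perm (Fin 3), π = 1 ∨ rho * (π * (rho * π⁻¹)) = 1 ∨ π = rho ∨ π = rho * rho := by
  decide

theorem rho_facts : rho * rho * (rho * rho) * (rho * rho) = 1 ∧ rho * rho ≠ 1 ∧ rho * rho * rho = 1 ∧ rho ≠ 1 ∧
    rho * (rho * (rho * rho)) = rho ∧ rho * (rho * (rho * rho)⁻¹) = 1 := by decide

/-- (8.12), (8.13) : all neighbours of type p have the same graph -/
theorem HP.pi_inn {x : Fin 3 → G} {t' : G} (P : HP Om z t K x) (h : W2 Om) (hT : TO Om) (hF : CF Om)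
    (hp' : PR Om z t') (hncl : ¬ ClM Om) : Inn Om z (t * t') := by
  have hcj : cj t' K = cj t K := by
    rcases P.cases h (P.hK.cj_comm h hp'.comm.symm) with h1 | h1
    · exact absurd h1 (hp'.sw K P.hK)
    · exact h1
  have z2 := P.q.z2
  have htz : t * z = z * t := P.pr.comm.symm
  have htz' : t' * z = z * t' := hp'.comm.symm
  obtain ⟨b, hb⟩ : ∃ b : Fin 3 → G, b = fun i => t * x i * t⁻¹ := ⟨_, rfl⟩
  have hq' : Q3 (cj t K) z b := by rw [hb]; exact P.q'
  obtain ⟨π, hπ⟩ := P.q.exists_act hq' hcj htz'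
  have hxb : Act z x b t 1 := fun i => Or.inl (by rw [hb]; rfl)
  have hbx : Act z b x t 1 := fun i => Or.inl (by rw [hb]; exact P.tt h (x i))
  have hA : Act z x x (t * t') π := by
    have := hπ.comp z2 hbx htz
    rwa [one_mul] at this
  have hπ' : Act z b x t' π⁻¹ := by
    have := hπ.inv' z2 htz'
    rwa [hp'.tinv h] at this
  have hB : Act z b b (t * t') π⁻¹ := by
    have := hπ'.comp z2 hxb htz
    rwa [one_mul] at this
  have htt : t * t' * z = z * (t * t') := by rw [mul_assoc, htz', ← mul_assoc, htz, mul_assoc]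
  have httX : ∀ y ∈ CX Om z, t * t' * y = y * (t * t') := by
    intro y hy
    have h1 := P.pr.cent h hT hF hy
    have h2 := hp'.cent h hT hF hy
    rw [mul_assoc, ← h2, ← mul_assoc, ← h1, mul_assoc]
  obtain ⟨d, hdz, hdX, hdx, hdb⟩ := P.pr.exists_rot P.hK P.q h hT hF
  rw [← hb] at hdb
  have hr := rho_facts
  rcases perm_pi π with h1 | h1 | h1 | h1
  · -- same graph
    rw [h1] at hA hB
    rw [inv_one] at hB
    intro M hM
    rcases P.cases h hM with rfl | rfl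
    · exact hA.inner P.q htt
    · exact hB.inner hq' htt
  · exfalso
    obtain ⟨d', hdz', hdX', hdx', hdb'⟩ := hp'.exists_rot P.hK P.q h hT hF
    have e1 : Act z (fun i => t' * x i * t'⁻¹) b 1 π := by
      intro i
      have h2 := hπ i
      rw [one_mul, inv_one, mul_one]
      exact h2
    have e2 : Act z b (fun i => t' * x i * t'⁻¹) 1 π⁻¹ := by
      have := e1.inv' z2 (by rw [one_mul, mul_one])
      rwa [inv_one] at this
    have e3 := (e2.comp z2 hdb' hdz').comp z2 e1 (by rw [one_mul, mul_one])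
    rw [one_mul, mul_one] at e3
    have e4 := e3.comp z2 hdb hdz
    have e5 := hdx'.comp z2 hdx hdz
    rw [h1] at e4
    have hdd : d * d' * z = z * (d * d') := by rw [mul_assoc, hdz', ← mul_assoc, hdz, mul_assoc]
    exact hncl (Wt.clm (g := d * d') (σ := rho * rho)
      ⟨P.hK, P.hK' h, P.ne', P.q, e5, hr.1, hr.2.1, hdd, fun y hy => by
        rw [mul_assoc, hdX' y hy, ← mul_assoc, hdX y hy, mul_assoc], e4.inner hq' hdd⟩ h hF)
  · exfalso
    rw [h1] at hA hB
    have e4 := hB.comp z2 hdb hdz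
    have e5 := hA.comp z2 hdx hdz
    rw [mul_inv_cancel] at e4
    have hdd : d * (t * t') * z = z * (d * (t * t')) := by rw [mul_assoc, htt, ← mul_assoc, hdz, mul_assoc]
    exact hncl (Wt.clm (g := d * (t * t')) (σ := rho * rho)
      ⟨P.hK, P.hK' h, P.ne', P.q, e5, hr.1, hr.2.1, hdd, fun y hy => by
        rw [mul_assoc, httX y hy, ← mul_assoc, hdX y hy, mul_assoc], e4.inner hq' hdd⟩ h hF)
  · exfalso
    rw [h1] at hA hB
    have e4 := (hB.comp z2 hdb hdz).comp z2 hdb hdz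
    have e5 := (hA.comp z2 hdx hdz).comp z2 hdx hdz
    rw [hr.2.2.2.2.1] at e5
    rw [hr.2.2.2.2.2] at e4
    have hdd1 : d * (t * t') * z = z * (d * (t * t')) := by rw [mul_assoc, htt, ← mul_assoc, hdz, mul_assoc]
    have hdd : d * (d * (t * t')) * z = z * (d * (d * (t * t'))) := by
      rw [mul_assoc, hdd1, ← mul_assoc, hdz, mul_assoc]
    have hX1 : ∀ y ∈ CX Om z, d * (t * t') * y = y * (d * (t * t')) := fun y hy => by
      rw [mul_assoc, httX y hy, ← mul_assoc, hdX y hy, mul_assoc]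
    exact hncl (Wt.clm (g := d * (d * (t * t'))) (σ := rho)
      ⟨P.hK, P.hK' h, P.ne', P.q, e5, hr.2.2.1, hr.2.2.2.1, hdd, fun y hy => by
        rw [mul_assoc, hX1 y hy, ← mul_assoc, hdX y hy, mul_assoc], e4.inner hq' hdd⟩ h hF)

/-- there are no pairs of type f -/
theorem FR.false (hf : FR Om z t) (h : W2 Om) (hT : TO Om) (hF : CF Om) (hncl : ¬ ClM Om) : False := by
  have hf' := hf.symm h hT
  obtain ⟨-, w, hw, r, hr, hw1, hwt, hwz, hrz⟩ := hf'.exists_w h hT
  have hz2 : z * z = 1 := hf.hz.z2 h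
  have hrt : r * t = t * r := RZ_le_centralizer h hr
  have hzwZ : InZ Om (z * w) := by rw [← hrz]; exact hf.hz.conj h r
  have hft : FR Om t (z * w) := by
    have := hf'.conj h r
    rwa [hrt, mul_inv_cancel_right, hrz] at this
  have htzwZ : InZ Om (t * (z * w)) := (hft.exists_w h hT).1
  have hwt' : w * t = t * w := RZ_le_centralizer h hw
  have hw2 : w * w = 1 := by
    have h1 := hzwZ.z2 h
    calc w * w = (z * z) * (w * w) := by rw [hz2, one_mul]
      _ = z * (z * w) * w := by group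
      _ = z * (w * z) * w := by rw [hwz]
      _ = (z * w) * (z * w) := by group
      _ = 1 := h1
  -- first p-pair
  have p1 : PR Om z (z * w) := by
    refine pr_of h hT hf.hz hzwZ (fun h1 => hw1 (mul_eq_left.1 h1.symm)) ?_ ?_
    · calc z * (z * w) = z * (w * z) := by rw [hwz]
        _ = _ := by group
    · rw [← mul_assoc, hz2, one_mul]
      exact fun h1 => hwt (eq_of_RZ h hT hf.ht h1 hw)
  have hzt : z * t = t * z := hf.comm
  have hprod : z * (t * (z * w)) = t * w := by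
    calc z * (t * (z * w)) = (z * t) * (z * w) := by group
      _ = t * (z * z) * w := by rw [hzt]; group
      _ = t * w := by rw [hz2, mul_one]
  have p2 : PR Om z (t * (z * w)) := by
    refine pr_of h hT hf.hz htzwZ ?_ ?_ ?_
    · intro h1
      have h2 : z * z = t * w := by rw [← hprod, ← h1]
      rw [hz2] at h2
      have h3 : w = t := by
        rw [← hf.ht.inv h]
        exact eq_inv_of_mul_eq_one_right h2.symm
      exact hwt h3
    · rw [hprod]
      calc t * w = t * w * (z * z) := by rw [hz2, mul_one]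
        _ = t * (w * z) * z := by group
        _ = t * (z * w) * z := by rw [hwz]
    · rw [hprod]
      intro h1
      have h2 := eq_of_RZ h hT hf.ht h1 (mul_mem (z_mem_RZ hf.ht h) hw)
      exact hw1 (mul_eq_left.1 h2)
  obtain ⟨K, x, P⟩ := p1.exists_hp h
  have h1 := P.pi_inn h hT hF p2 hncl
  have h2 : z * w * (t * (z * w)) = t := by
    calc z * w * (t * (z * w)) = z * (w * t) * (z * w) := by group
      _ = z * (t * w) * (z * w) := by rw [hwt']
      _ = (z * t) * (w * z) * w := by group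
      _ = (t * z) * (z * w) * w := by rw [hzt, hwz]
      _ = t * (z * z) * (w * w) := by group
      _ = t := by rw [hz2, hw2, mul_one, mul_one]
  rw [h2] at h1
  exact hf.ne (hT z t hf.hz hf.ht h1).symm

/-- commuting is transitive on `Z` -/
theorem comm_transM (h : W2 Om) (hT : TO Om) (hF : CF Om) (hncl : ¬ ClM Om) {a b : G} (hz : InZ Om z)
    (ha : InZ Om a) (hb : InZ Om b) (hza : z * a = a * z) (hzb : z * b = b * z) : a * b = b * a := by
  by_cases h1 : z = a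
  · rw [← h1]; exact hzb
  by_cases h2 : z = b
  · rw [← h2]; exact hza.symm
  have pa : PR Om z a := by
    rcases pr_or_fr h hz ha h1 hza with h3 | h3
    · exact h3
    · exact (h3.false h hT hF hncl).elim
  have pb : PR Om z b := by
    rcases pr_or_fr h hz hb h2 hzb with h3 | h3
    · exact h3
    · exact (h3.false h hT hF hncl).elim
  obtain ⟨K, x, P⟩ := pa.exists_hp h
  rcases P.eq_cases h hT hF pb (P.pi_inn h hT hF pb hncl) with h3 | ⟨i, h3⟩
  · rw [h3]
  · rw [h3, mul_assoc, P.e_t h]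

/-- the closer for commutative strongly closed subgroups of `G0` (= `SC.Wd.false_of_closed`) -/
def AbC (G0 : Subgroup G) : Prop := ∀ (S : Sylow 2 G) (A : Subgroup G), A ≠ ⊥ → A ≤ G0 →
  (∀ x ∈ A, ∀ y ∈ A, x * y = y * x) → ¬ IsStronglyClosed A (S : Subgroup G)

/-- **the T-only world is empty** -/
theorem t_worldM (h : W2 Om) (hT : TO Om) (hF : CF Om) (hne : Om.Nonempty) (hncl : ¬ ClM Om) {G0 : Subgroup G}
    (hle : ∀ z, InZ Om z → z ∈ G0) (hab : AbC G0) : False := by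
  haveI : Fact (Nat.Prime 2) := ⟨Nat.prime_two⟩
  let N : G → Subgroup G := fun z => closure {t | InZ Om t ∧ z * t = t * z}
  have hNle : ∀ z g, cj g (N z) ≤ N (g * z * g⁻¹) := by
    intro z g
    show (N z).map (MulAut.conj g).toMonoidHom ≤ _
    rw [Subgroup.map_le_iff_le_comap, closure_le]
    rintro t ⟨ht, htz⟩
    show g * t * g⁻¹ ∈ N (g * z * g⁻¹)
    refine subset_closure ⟨ht.conj h g, ?_⟩
    calc g * z * g⁻¹ * (g * t * g⁻¹) = g * (z * t) * g⁻¹ := by group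
      _ = g * (t * z) * g⁻¹ := by rw [htz]
      _ = _ := by group
  have e : Eqv Om N := by
    refine Eqv.of_const (fun z hz g => ?_) (fun z t hz ht hzt => ?_)
    · refine le_antisymm ?_ (hNle z g)
      have h1 := cj_mono g (hNle (g * z * g⁻¹) g⁻¹)
      have h2 : g⁻¹ * (g * z * g⁻¹) * g⁻¹⁻¹ = z := by group
      rwa [cj_cj_inv, h2] at h1
    · show Subgroup.closure _ = Subgroup.closure _
      congr 1
      ext s
      constructor
      · rintro ⟨hs, hsz⟩
        exact ⟨hs, comm_transM h hT hF hncl hz ht hs hzt hsz⟩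
      · rintro ⟨hs, hsz⟩
        exact ⟨hs, comm_transM h hT hF hncl ht hz hs hzt.symm hsz⟩
  obtain ⟨S⟩ : Nonempty (Sylow 2 G) := inferInstance
  obtain ⟨z, K, hK, hKS, hc⟩ := h.exists_member_central hne S
  have hz := hK.inZ
  have hzN : z ∈ N z ⊓ (S : Subgroup G) := ⟨subset_closure ⟨hz, rfl⟩, hKS (hK.zmem h)⟩
  refine hab S (N z ⊓ S) ?_ (inf_le_left.trans ((closure_le _).2 fun t ht => hle t ht.1)) ?_ (e.strong h S hz hc)
  · intro h1
    rw [h1, Subgroup.mem_bot] at hzN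
    exact hz.z1 h hzN
  · have h1 : ∀ b, InZ Om b → z * b = b * z → N z ≤ centralizer {b} := by
      intro b hb hbz
      refine (closure_le _).2 ?_
      rintro a ⟨ha, haz⟩
      exact mem_centralizer_singleton_iff.2 (comm_transM h hT hF hncl hz ha hb haz hbz)
    have h2 : ∀ a ∈ N z, N z ≤ centralizer {a} := by
      intro a ha
      refine (closure_le _).2 ?_
      rintro b ⟨hb, hbz⟩
      exact mem_centralizer_singleton_iff.2 (mem_centralizer_singleton_iff.1 (h1 b hb hbz ha)).symm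
    intro a ha b hb
    exact (mem_centralizer_singleton_iff.1 (h2 b hb.1 ha.1))

/-- commuting is transitive on `Z` -/
theorem comm_trans (h : W2 Om) (hT : TO Om) (hF : CF Om) (hncl : ¬ ClSL G) {a b : G} (hz : InZ Om z)
    (ha : InZ Om a) (hb : InZ Om b) (hza : z * a = a * z) (hzb : z * b = b * z) : a * b = b * a :=
  comm_transM h hT hF (fun c => hncl (c.clSL h)) hz ha hb hza hzb

/-- **the T-only world is empty** -/
theorem t_world (h : W2 Om) (hT : TO Om) (hF : CF Om) (hne : Om.Nonempty) (hncl : ¬ ClSL G) {G0 : Subgroup G}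
    (hle : ∀ z, InZ Om z → z ∈ G0) (hab : AbC G0) : False :=
  t_worldM h hT hF hne (fun c => hncl (c.clSL h)) hle hab

/-- **the T-only world is empty**, with the hypothesis of the frame: no member has `Three` -/
theorem t_world_three (h : W2 Om) (hT : TO Om) (hF : CF Om) (hne : Om.Nonempty)
    (h3 : ∀ K ∈ Om, ¬ IndDefs.Three K) {G0 : Subgroup G} (hle : ∀ z, InZ Om z → z ∈ G0) (hab : AbC G0) : False :=
  t_worldM h hT hF hne (fun c => by
    obtain ⟨K, hK, h4⟩ := c.three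
    exact h3 K hK h4) hle hab

end Cfsg.Agent.Cit.Nil.RTwo
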