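import Cfsg.Agent.Cit.Nil.RTwo.TenP
import Cfsg.Agent.Cit.CloEnd
import Cfsg.Agent.Cit.Comp
import Cfsg.Agent.SignalizersComponents.QsBasic
import Cfsg.Agent.SignalizersComponents.DistinctComponents
import Cfsg.Agent.TwoFusion.StronglyEmbeddedBasic
import Cfsg.Agent.FixBN.SylSub

/-!
# (O'): the components of `C(c)` are in `M_c`
-/

set_option autoImplicit false
set_option linter.style.haveILetI false
set_option linter.unusedSectionVars false
set_option maxHeartbeats 400000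

namespace Cfsg.Agent.Cit.Nil.RTwo

open Subgroup Cfsg Cfsg.Agent.Cit

variable {G : Type*} [Group G]

/-- `L` is a component of the subgroup `H` -/
structure CompOf (H L : Subgroup G) : Prop where
  le : L ≤ H
  sub : (L.subgroupOf H).IsSubnormal
  q : IsQuasisimple L

namespace CompOf

variable {H L T P : Subgroup G} {g : G}

theorem isComponent (C : CompOf H L) : IsComponent (L.subgroupOf H) :=
  ⟨C.sub, Cfsg.Agent.SignalizersComponents.QsBasic.isQuasisimple_of_mulEquiv (subgroupOfEquivOfLe C.le).symm C.q⟩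

theorem cj (C : CompOf H L) (hg : g ∈ H) : Cit.cj g L = L ∨ ∀ x ∈ Cit.cj g L, ∀ y ∈ L, x * y = y * x := by
  have h1 := C.isComponent
  have h2 := Comp.isComponent_cj h1 ⟨g, hg⟩
  have h3 : Cit.cj (⟨g, hg⟩ : H) (L.subgroupOf H) = (Cit.cj g L).subgroupOf H := by
    ext x; rw [mem_cj, mem_subgroupOf, mem_subgroupOf, mem_cj]; rfl
  have h6 : Cit.cj g L ≤ H := by
    intro x hx
    rw [mem_cj] at hx
    have e : x = g * (g⁻¹ * x * g) * g⁻¹ := by group
    rw [e]
    exact mul_mem (mul_mem hg (C.le hx)) (inv_mem hg)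
  by_cases h4 : Cit.cj (⟨g, hg⟩ : H) (L.subgroupOf H) = L.subgroupOf H
  · left
    rw [h3] at h4
    have h5 := congrArg (Subgroup.map H.subtype) h4
    rwa [map_subgroupOf_eq_of_le h6, map_subgroupOf_eq_of_le C.le] at h5
  · right
    intro x hx y hy
    have h5 := Comp.comm_of_ne h2 h1 h4 (x := ⟨x, h6 hx⟩) (y := ⟨y, C.le hy⟩) (by rw [h3]; exact hx) hy
    exact congrArg Subtype.val h5

variable [Finite G]

/-- `P ∩ L` is a Sylow 2-subgroup of `L` -/
theorem syl_inf (C : CompOf H L) (hP : Syl P H) : Syl (P ⊓ L) L := by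
  haveI : Fact (Nat.Prime 2) := ⟨Nat.prime_two⟩
  obtain ⟨S, hS⟩ := hP.exists_sylow
  obtain ⟨Q, hQ⟩ := Cfsg.Agent.S0542.result 2 (L.subgroupOf H) C.sub S
  refine ⟨inf_le_right, hP.2.1.to_le inf_le_left, ?_⟩
  have h1 := Q.not_dvd_index
  rw [hQ, hS] at h1
  have h2 : ((P.subgroupOf H).subgroupOf (L.subgroupOf H)).index = (P ⊓ L).relIndex L := by
    rw [inf_relIndex_right]
    exact relIndex_subgroupOf C.le
  rwa [h2] at h1

/-- normal subgroups -/
theorem eq_or_le (C : CompOf H L) {N : Subgroup G} (hN : N ≤ L) (hn : L ≤ normalizer (N : Set G)) :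
    N = L ∨ ∀ x ∈ N, ∀ y ∈ L, x * y = y * x := by
  have h1 : (N.subgroupOf L).Normal := (normal_subgroupOf_iff_le_normalizer hN).2 hn
  rcases Cfsg.Agent.SignalizersComponents.Components.quasisimple_normal C.q _ h1 with h2 | h2
  · left
    exact le_antisymm hN (subgroupOf_eq_top.1 h2)
  · right
    intro x hx y hy
    have h3 : (⟨x, hN hx⟩ : ↥L) ∈ center ↥L := h2 hx
    exact (congrArg Subtype.val (mem_center_iff.1 h3 ⟨y, hy⟩)).symm

theorem not_comm (C : CompOf H L) (hc : ∀ x ∈ L, ∀ y ∈ L, x * y = y * x) : False := by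
  have h1 : center ↥L = ⊤ := by
    rw [eq_top_iff]
    intro x _
    rw [mem_center_iff]
    intro y
    exact Subtype.ext (hc _ y.2 _ x.2)
  have h2 := C.q.2
  have h3 : Subsingleton (↥L ⧸ center ↥L) := by
    rw [QuotientGroup.subsingleton_iff]
    exact h1
  exact not_subsingleton _ h3

/-- Burnside: a Sylow 2-subgroup is not central -/
theorem not_central (C : CompOf H L) (hO : OO L = ⊥) (hT : Syl T L) (hc : ∀ t ∈ T, ∀ l ∈ L, t * l = l * t) :
    False := by
  haveI : Fact (Nat.Prime 2) := ⟨Nat.prime_two⟩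
  obtain ⟨S, hS⟩ := hT.exists_sylow
  have hSc : ∀ s ∈ (S : Subgroup ↥L), ∀ l : ↥L, s * l = l * s := by
    intro s hs l
    rw [hS] at hs
    exact Subtype.ext (hc _ hs _ l.2)
  have hN : normalizer ((S : Subgroup ↥L) : Set ↥L) ≤ centralizer ((S : Subgroup ↥L) : Set ↥L) := by
    intro x _
    rw [mem_centralizer_iff]
    intro s hs
    exact hSc s hs x
  have h1 := MonoidHom.not_dvd_card_ker_transferSylow S hN
  have h2 : (MonoidHom.transferSylow S hN).ker = ⊤ := by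
    have h3 := C.q.1
    rw [eq_top_iff, ← h3.commutator_eq_top]
    rw [commutator_def, Subgroup.commutator_le]
    intro x _ y _
    rw [MonoidHom.mem_ker, map_commutatorElement, commutatorElement_eq_one_iff_mul_comm]
    exact Subtype.ext (hSc _ (MonoidHom.transferSylow S hN x).2 _)
  rw [h2] at h1
  have h4 : L ≤ OO L := by
    refine le_OO le_rfl le_normalizer ?_
    intro h5
    apply h1
    rwa [card_top]
  rw [hO, le_bot_iff] at h4
  subst h4
  exact C.not_comm fun x hx y hy => by rw [mem_bot.1 hx, mem_bot.1 hy]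

end CompOf


/-- the situation of (O'): a component of `C(c)` which is not in `M_c` -/
structure OP [Finite G] (Om : Set (Subgroup G)) (c z : G) (L : Subgroup G) : Prop where
  u : U10 Om
  hc : c ∈ CC Om z
  C : CompOf (centralizer {c}) L
  hO : OO L = ⊥
  nle : ¬ L ≤ MC u.w c z

namespace OP

variable [Finite G] {Om : Set (Subgroup G)} {K1 K2 L : Subgroup G} {c z t g m b : G} {a b' : Fin 3 → G}

theorem lc (O : OP Om c z L) {l : G} (hl : l ∈ L) : l * c = c * l :=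
  mem_centralizer_singleton_iff.1 (O.C.le hl)

theorem zH (O : OP Om c z L) : z ∈ centralizer {c} := by
  rw [mem_centralizer_singleton_iff]
  exact (CC.comm_z O.u.w O.hc).symm

theorem z2 (O : OP Om c z L) : z * z = 1 := (CC.inZ O.hc).z2 O.u.w

theorem z1 (O : OP Om c z L) : z ≠ 1 := (CC.inZ O.hc).z1 O.u.w

theorem del (O : OP Om c z L) (hd : DelC Om c z t) : OP Om c t L :=
  ⟨O.u, hd.mem_CC O.u.w O.hc, O.C, O.hO, by rw [← MC_eq_of_del O.u.w hd]; exact O.nle⟩

theorem mem_of_comm (O : OP Om c z L) {l : G} (hl : l ∈ L) (hz : l * z = z * l) : l ∈ MC O.u.w c z :=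
  mem_MC_of_comm O.u.w (O.lc hl) hz

/-- `z` does not centralise `L` -/
theorem not_cent (O : OP Om c z L) (h1 : ∀ l ∈ L, l * z = z * l) : False :=
  O.nle fun _ hl => O.mem_of_comm hl (h1 _ hl)

/-- `z` normalises `L` -/
theorem norm_z (O : OP Om c z L) : Cit.cj z L = L := by
  have h := O.u.w
  have hz2 := O.z2
  have hzi : z⁻¹ = z := inv_eq_of_mul_eq_one_right hz2
  rcases O.C.cj O.zH with h1 | h1
  · exact h1
  exfalso
  obtain ⟨P, hP, hPz, hR⟩ := exists_sylC h (CC.inZ O.hc) (CC.mem_CX O.hc)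
  let N : Subgroup G :=
    { carrier := {x | x ∈ L ∧ ∀ l ∈ L, l * x * l⁻¹ ∈ MC h c z}
      one_mem' := ⟨L.one_mem, fun l _ => by rw [mul_one, mul_inv_cancel]; exact one_mem _⟩
      mul_mem' := by
        rintro x y ⟨hx, hx'⟩ ⟨hy, hy'⟩
        refine ⟨L.mul_mem hx hy, fun l hl => ?_⟩
        have e : l * (x * y) * l⁻¹ = (l * x * l⁻¹) * (l * y * l⁻¹) := by group
        rw [e]; exact mul_mem (hx' l hl) (hy' l hl)
      inv_mem' := by
        rintro x ⟨hx, hx'⟩
        refine ⟨L.inv_mem hx, fun l hl => ?_⟩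
        have e : l * x⁻¹ * l⁻¹ = (l * x * l⁻¹)⁻¹ := by group
        rw [e]; exact inv_mem (hx' l hl) }
  have hNm : ∀ x, x ∈ N ↔ x ∈ L ∧ ∀ l ∈ L, l * x * l⁻¹ ∈ MC h c z := fun x => Iff.rfl
  have hNL : N ≤ L := fun x hx => hx.1
  have hNn : L ≤ normalizer (N : Set G) := by
    intro y hy
    rw [mem_normalizer_iff_cj]
    have key : ∀ y ∈ L, Cit.cj y N ≤ N := by
      intro y hy x hx
      rw [mem_cj, hNm] at hx
      refine ⟨?_, fun l hl => ?_⟩
      · have h2 := mul_mem (mul_mem hy hx.1) (inv_mem hy)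
        have e : y * (y⁻¹ * x * y) * y⁻¹ = x := by group
        rwa [e] at h2
      · have h2 := hx.2 (l * y) (mul_mem hl hy)
        have e : l * y * (y⁻¹ * x * y) * (l * y)⁻¹ = l * x * l⁻¹ := by group
        rwa [e] at h2
    refine le_antisymm (key y hy) ?_
    have h2 := cj_mono y (key y⁻¹ (inv_mem hy))
    rwa [cj_cj_inv] at h2
  have hT : P ⊓ L ≤ N := by
    rintro t ⟨htP, htL⟩
    refine ⟨htL, fun l hl => ?_⟩
    have hl' : z * l * z⁻¹ ∈ Cit.cj z L := conj_mem_cj hl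
    have h2 := h1 _ hl' _ hl
    have h3 := h1 _ hl' _ htL
    have hd : l * (z * l * z⁻¹) ∈ MC h c z := by
      refine mem_MC_of_comm h ?_ ?_
      · have h4 := O.lc hl
        have h5 : z * c = c * z := mem_centralizer_singleton_iff.1 O.zH
        have h6 : l * (z * l * z⁻¹) ∈ centralizer {c} := by
          have h7 := O.C.le hl
          exact mul_mem h7 (mul_mem (mul_mem O.zH h7) (inv_mem O.zH))
        exact mem_centralizer_singleton_iff.1 h6
      · calc l * (z * l * z⁻¹) * z = l * z * l := by group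
          _ = (z * z) * (l * z * l) := by rw [hz2, one_mul]
          _ = z * ((z * l * z⁻¹) * (z * z) * l) := by group
          _ = z * ((z * l * z⁻¹) * l) := by rw [hz2, mul_one]
          _ = z * (l * (z * l * z⁻¹)) := by rw [h2]
    have ht : t ∈ MC h c z := mem_MC_of_comm h (mem_centralizer_singleton_iff.1 (hP.1 htP)) (hPz t htP)
    have e : l * t * l⁻¹ = (l * (z * l * z⁻¹)) * t * (l * (z * l * z⁻¹))⁻¹ := by
      calc l * t * l⁻¹ = l * (t * (z * l * z⁻¹)) * (z * l * z⁻¹)⁻¹ * l⁻¹ := by group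
        _ = l * ((z * l * z⁻¹) * t) * (z * l * z⁻¹)⁻¹ * l⁻¹ := by rw [h3]
        _ = _ := by group
    rw [e]
    exact mul_mem (mul_mem hd ht) (inv_mem hd)
  rcases O.C.eq_or_le hNL hNn with h2 | h2
  · apply O.nle
    intro l hl
    rw [← h2] at hl
    have h3 := hl.2 1 (one_mem _)
    rwa [one_mul, inv_one, mul_one] at h3
  · exact O.C.not_central O.hO (O.C.syl_inf hP) fun t ht l hl => h2 t (hT ht) l hl

theorem mul_conj_mem (O : OP Om c z L) (hg : g ∈ L) : z * (g * z * g⁻¹) ∈ L := by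
  have hzi : z⁻¹ = z := inv_eq_of_mul_eq_one_right O.z2
  have h1 : z * g * z⁻¹ ∈ L := by
    have h2 := conj_mem_cj (g := z) hg
    rwa [O.norm_z] at h2
  have e : z * (g * z * g⁻¹) = (z * g * z⁻¹) * g⁻¹ := by rw [hzi]; group
  rw [e]
  exact mul_mem h1 (inv_mem hg)

/-- Z* in `L⟨z⟩` -/
theorem exists_g (O : OP Om c z L) : ∃ g ∈ L, g * z * g⁻¹ ≠ z ∧ z * (g * z * g⁻¹) = g * z * g⁻¹ * z := by
  have hn : zpowers z ≤ normalizer (L : Set G) := by
    rw [zpowers_le, mem_normalizer_iff_cj]; exact O.norm_z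
  rcases zstar_sub (X := L ⊔ zpowers z) (u := z) (mem_sup_right (mem_zpowers z)) O.z2 O.z1 with
    ⟨x, hx, hne, hc⟩ | ⟨N, hNX, hodd, hNn, hN⟩
  · obtain ⟨y, hy, u, hu, rfl⟩ := LB.exists_mul_of_mem_sup hn hx
    have h1 : y * u * z * (y * u)⁻¹ = y * z * y⁻¹ := by
      obtain ⟨k, rfl⟩ := mem_zpowers_iff.1 hu
      calc y * z ^ k * z * (y * z ^ k)⁻¹ = y * (z ^ k * z * (z ^ k)⁻¹) * y⁻¹ := by group
        _ = _ := by rw [((Commute.refl z).zpow_left k).eq, mul_inv_cancel_right]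
    rw [h1] at hne hc
    exact ⟨y, hy, hne, hc⟩
  · exfalso
    have h1 : N ⊓ L = ⊥ := by
      rw [eq_bot_iff, ← O.hO]
      refine le_OO inf_le_right ?_ ?_
      · intro g hg
        rw [mem_normalizer_iff_cj, cj_inf, mem_normalizer_iff_cj.1 (le_normalizer hg)]
        congr 1
        refine le_antisymm ?_ ?_
        · rintro _ ⟨n, hn, rfl⟩
          exact hNn g (mem_sup_left hg) n hn
        · intro n hn
          rw [mem_cj]
          have h2 := hNn g⁻¹ (mem_sup_left (L.inv_mem hg)) n hn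
          rwa [inv_inv] at h2
      · intro h2
        rw [← Nat.not_even_iff_odd, even_iff_two_dvd] at hodd
        exact hodd (h2.trans (card_dvd_of_le inf_le_left))
    apply O.not_cent
    intro l hl
    have h2 : z * l * z⁻¹ * l⁻¹ ∈ N ⊓ L := by
      refine ⟨hN l (mem_sup_left hl), L.mul_mem ?_ (L.inv_mem hl)⟩
      have h2 := conj_mem_cj (g := z) hl
      rwa [O.norm_z] at h2
    rw [h1, mem_bot, mul_inv_eq_one, mul_inv_eq_iff_eq_mul] at h2
    exact h2.symm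

/-- `M_c` normalises `L` -/
theorem norm (O : OP Om c z L) (hm : m ∈ MC O.u.w c z) : Cit.cj m L = L := by
  obtain ⟨g, hg, hne, hc⟩ := O.exists_g
  rcases O.C.cj (MC_le O.u.w hm) with h1 | h1
  · exact h1
  exfalso
  have hgc := O.lc hg
  have h2 : c ∈ CC Om (g * z * g⁻¹) := by
    have h3 := CC.conj O.u.w O.hc g
    rwa [hgc, mul_inv_cancel_right] at h3
  apply O.nle
  intro l hl
  have h3 : m * l * m⁻¹ ∈ MC O.u.w c z := by
    refine O.u.factP O.hc h2 hne.symm hc ?_ ?_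
    · have h4 : m * l * m⁻¹ ∈ centralizer {c} :=
        mul_mem (mul_mem (MC_le O.u.w hm) (O.C.le hl)) (inv_mem (MC_le O.u.w hm))
      exact mem_centralizer_singleton_iff.1 h4
    · exact h1 _ (conj_mem_cj hl) _ (O.mul_conj_mem hg)
  have h4 := mul_mem (mul_mem (inv_mem hm) h3) hm
  have e : m⁻¹ * (m * l * m⁻¹) * m = l := by group
  rwa [e] at h4

/-- `Δ_c ≤ L` -/
theorem mem (O : OP Om c z L) (hd : DelC Om c z b) : b ∈ L := by
  have h := O.u.w
  have O' := O.del hd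
  obtain ⟨K, hK⟩ := CC.inZ O'.hc
  by_contra hb
  have h1 : L ≤ centralizer {zz K} := by
    refine h.hyp.lemma_two (fun L hL => h.isPGroup hL) hK.1 ?_ O.hO (by rwa [hK.2])
    intro k hk
    rw [mem_normalizer_iff_cj]
    exact O.norm (RZ_le_MC h O.hc hd (hK.le_RZ hk))
  apply O'.not_cent
  intro l hl
  have h2 := mem_centralizer_singleton_iff.1 (h1 hl)
  rwa [hK.2] at h2

theorem zL (O : OP Om c z L) : z ∈ L := O.mem (DelC.refl c z)

theorem cent_mem (O : OP Om c z L) {x : G} (hx : x ∈ L) (hx' : ∀ l ∈ L, x * l = l * x) : x ∈ MC O.u.w c z :=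
  O.mem_of_comm hx (hx' z O.zL)

theorem not_cen_prod (O : OP Om c z L) (ht : c ∈ CC Om t) (hne : z ≠ t) (hzt : z * t = t * z)
    (h1 : ∀ l ∈ L, l * (z * t) = z * t * l) : False :=
  O.nle fun l hl => O.u.factP O.hc ht hne hzt (O.lc hl) (h1 l hl)

theorem pi_one {x : ↥L} (h : QuotientGroup.mk' (center ↥L) x = 1) : ∀ l ∈ L, (x : G) * l = l * x := by
  have h1 := (QuotientGroup.eq_one_iff _).1 h
  intro l hl
  exact (congrArg Subtype.val (mem_center_iff.1 h1 ⟨l, hl⟩)).symm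

theorem pi_eq {x y : ↥L} (h : QuotientGroup.mk' (center ↥L) x = QuotientGroup.mk' (center ↥L) y) :
    ∀ l ∈ L, (x : G) * (y : G)⁻¹ * l = l * ((x : G) * (y : G)⁻¹) := by
  have h1 : QuotientGroup.mk' (center ↥L) (x * y⁻¹) = 1 := by rw [map_mul, map_inv, h, mul_inv_cancel]
  exact pi_one h1

theorem pi_z (O : OP Om c z L) (hz : z ∈ L) : QuotientGroup.mk' (center ↥L) ⟨z, hz⟩ ≠ 1 := by
  intro h1
  exact O.not_cent fun l hl => (pi_one h1 l hl).symm

theorem order_pi (O : OP Om c z L) (hz : z ∈ L) : orderOf (QuotientGroup.mk' (center ↥L) ⟨z, hz⟩) = 2 := by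
  refine orderOf_eq_prime ?_ (O.pi_z hz)
  rw [pow_two, ← map_mul]
  have e : (⟨z, hz⟩ : ↥L) * ⟨z, hz⟩ = 1 := Subtype.ext O.z2
  rw [e, map_one]

theorem conj_CC (O : OP Om c z L) (hg : g ∈ L) : c ∈ CC Om (g * z * g⁻¹) := by
  have h3 := CC.conj O.u.w O.hc g
  rwa [O.lc hg, mul_inv_cancel_right] at h3

/-- S1175 -/
theorem exists_se (O : OP Om c z L) (hcrit : CloEnd.Crit1175 (↥L ⧸ center ↥L)) :
    ∃ H : Subgroup (↥L ⧸ center ↥L), IsStronglyEmbedded H := by
  haveI : Fact (Nat.Prime 2) := ⟨Nat.prime_two⟩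
  have h := O.u.w
  have hzL := O.zL
  have hz2 := O.z2
  have hzi : z⁻¹ = z := inv_eq_of_mul_eq_one_right hz2
  set π := QuotientGroup.mk' (center ↥L) with hπ
  have hsur : Function.Surjective π := QuotientGroup.mk'_surjective _
  set M := (MC O.u.w c z).subgroupOf L with hM
  have hmem : ∀ d : ↥L, π d ∈ M.map π → (d : G) ∈ MC O.u.w c z := by
    rintro d ⟨m, hm, hmd⟩
    have h1 := pi_eq hmd.symm
    have h2 := O.cent_mem (mul_mem d.2 (inv_mem m.2)) h1
    have e : (d : G) = (d : G) * (m : G)⁻¹ * m := by group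
    rw [e]
    exact mul_mem h2 hm
  obtain ⟨P, hP, hPz, hR⟩ := exists_sylC h (CC.inZ O.hc) (CC.mem_CX O.hc)
  obtain ⟨S, hS⟩ := (O.C.syl_inf hP).exists_sylow
  have hzP : z ∈ P := by
    obtain ⟨K, hK⟩ := CC.inZ O.hc
    exact hR (hK.le_RZ (by rw [← hK.2]; exact h.hyp.zz_mem hK.1))
  refine hcrit (M.map π) ?_ (π ⟨z, hzL⟩) (O.order_pi hzL) ⟨⟨z, hzL⟩, mem_MC_of_comm h (CC.comm_z h O.hc).symm rfl, rfl⟩ ?_ ?_ ?_
  · intro h1
    apply O.nle
    intro l hl
    exact hmem ⟨l, hl⟩ (by rw [h1]; exact mem_top _)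
  · refine ⟨S.mapSurjective hsur, ?_, ?_⟩
    · show π ⟨z, hzL⟩ ∈ ((S.mapSurjective hsur : Sylow 2 _) : Subgroup _)
      rw [Sylow.coe_mapSurjective]
      refine ⟨⟨z, hzL⟩, ?_, rfl⟩
      show _ ∈ (S : Subgroup ↥L)
      rw [hS]
      exact ⟨hzP, hzL⟩
    · intro s hs
      have hs' : s ∈ (S : Subgroup ↥L).map π := by
        rw [← Sylow.coe_mapSurjective hsur S]; exact hs
      obtain ⟨t, ht, rfl⟩ := hs'
      have ht' : t ∈ (S : Subgroup ↥L) := ht
      rw [hS] at ht'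
      show π t * π ⟨z, hzL⟩ = π ⟨z, hzL⟩ * π t
      rw [← map_mul, ← map_mul]
      congr 1
      exact Subtype.ext (hPz _ ht'.1)
  · intro g hg
    obtain ⟨d, rfl⟩ := hsur g
    rw [← map_inv, ← map_mul, ← map_mul] at hg
    have h1 := hmem _ hg
    exact ⟨d, O.u.mem_MC_of_conj O.hc (DelC.refl _ _) (O.lc d.2) h1, rfl⟩
  · intro g hg hne y hy
    obtain ⟨d, rfl⟩ := hsur g
    obtain ⟨x, rfl⟩ := hsur y
    rw [← map_inv, ← map_mul, ← map_mul] at hg hne hy
    rw [mem_centralizer_singleton_iff] at hy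
    have hcb := O.conj_CC d.2
    have hbL : (d : G) * z * (d : G)⁻¹ ∈ L := mul_mem (mul_mem d.2 hzL) (inv_mem d.2)
    set b := (d : G) * z * (d : G)⁻¹ with hb
    have hbd : d * ⟨z, hzL⟩ * d⁻¹ = (⟨b, hbL⟩ : ↥L) := rfl
    rw [hbd] at hg hne hy
    have hzb : z ≠ b := by
      intro h1
      apply hne
      congr 1
      exact Subtype.ext h1.symm
    by_cases hc : z * b = b * z
    · -- commuting
      refine ⟨x, ?_, rfl⟩
      have h1 : π (x * (⟨z, hzL⟩ * ⟨b, hbL⟩)) = π ((⟨z, hzL⟩ * ⟨b, hbL⟩) * x) := by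
        rw [map_mul, map_mul, map_mul, map_mul]
        exact hy
      -- `ζ = x (z b) x⁻¹ (z b)⁻¹` is central
      have h2 := pi_eq h1
      have hζL : (x : G) * (z * b) * (z * b * (x : G))⁻¹ ∈ L :=
        mul_mem (mul_mem x.2 (mul_mem hzL hbL)) (inv_mem (mul_mem (mul_mem hzL hbL) x.2))
      have hζ := O.cent_mem hζL h2
      have hxc : (x : G) * c = c * x := O.lc x.2
      have hxi : (x : G)⁻¹ * c = c * (x : G)⁻¹ := by
        rw [inv_mul_eq_iff_eq_mul, ← mul_assoc, hxc, mul_inv_cancel_right]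
      rcases O.u.prod_del O.hc hcb hzb hc with h3 | h3
      · refine O.u.mem_MC_of_conj O.hc h3 hxc ?_
        show (x : G) * (z * b) * (x : G)⁻¹ ∈ _
        have e : (x : G) * (z * b) * (x : G)⁻¹ = (x : G) * (z * b) * (z * b * (x : G))⁻¹ * (z * b) := by group
        rw [e]
        exact mul_mem hζ (del_mem_MC h O.hc h3)
      · refine O.u.mem_MC_of_conj O.hc h3 hxc ?_
        show (x : G) * (z * b * c) * (x : G)⁻¹ ∈ _
        have e : (x : G) * (z * b * c) * (x : G)⁻¹ = (x : G) * (z * b) * (z * b * (x : G))⁻¹ * (z * b * c) := by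
          calc (x : G) * (z * b * c) * (x : G)⁻¹ = (x : G) * (z * b) * (c * (x : G)⁻¹) := by group
            _ = (x : G) * (z * b) * ((x : G)⁻¹ * c) := by rw [hxi]
            _ = _ := by group
        rw [e]
        exact mul_mem hζ (del_mem_MC h O.hc h3)
    · exfalso
      have h1 : π (⟨z, hzL⟩ * ⟨b, hbL⟩) = π (⟨b, hbL⟩ * ⟨z, hzL⟩) := by
        rw [map_mul, map_mul]
        exact hg
      have h2 := pi_eq h1
      have h3 : z * (b * z * b⁻¹) = z * b * (b * z)⁻¹ := by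
        calc z * (b * z * b⁻¹) = z * b * z * b⁻¹ := by group
          _ = z * b * z⁻¹ * b⁻¹ := by rw [hzi]
          _ = _ := by group
      have hne' : z ≠ b * z * b⁻¹ := by
        intro h4
        apply hc
        rw [eq_mul_inv_iff_mul_eq] at h4
        exact h4
      refine O.not_cen_prod (O.conj_CC hbL) hne' ?_ ?_
      · have h4 : z * (b * z * b⁻¹) * z = z * (z * (b * z * b⁻¹)) := by
          rw [h3]; exact h2 z hzL
        rw [mul_assoc] at h4
        exact (mul_left_cancel h4).symm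
      · intro l hl
        rw [h3]
        exact (h2 l hl).symm

/-- one class of involutions -/
theorem exists_conj (O : OP Om c z L) {H : Subgroup (↥L ⧸ center ↥L)} (hH : IsStronglyEmbedded H)
    (hd : DelC Om c z b) : ∃ d ∈ L, d * z * d⁻¹ = b := by
  have hzL := O.zL
  have hbL := O.mem hd
  have O' := O.del hd
  obtain ⟨g, hg⟩ := isConj_iff.1 (Cfsg.Agent.TwoFusion.StronglyEmbeddedBasic.isConj_of_involutions hH _ _
    (O.order_pi hzL) (O'.order_pi hbL))
  obtain ⟨d, rfl⟩ := QuotientGroup.mk'_surjective _ g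
  rw [← map_mul, ← map_inv, ← map_mul] at hg
  have h1 := pi_eq hg
  refine ⟨d, d.2, ?_⟩
  by_contra hne
  have h2 : b * ((d : G) * z * (d : G)⁻¹) = (d : G) * z * (d : G)⁻¹ * b := by
    have h3 := h1 b hbL
    change (d : G) * z * (d : G)⁻¹ * b⁻¹ * b = b * ((d : G) * z * (d : G)⁻¹ * b⁻¹) at h3
    have h4 : b * ((d : G) * z * (d : G)⁻¹ * b⁻¹) * b = (d : G) * z * (d : G)⁻¹ * b⁻¹ * b * b := by rw [h3]
    calc b * ((d : G) * z * (d : G)⁻¹) = b * ((d : G) * z * (d : G)⁻¹ * b⁻¹) * b := by group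
      _ = (d : G) * z * (d : G)⁻¹ * b⁻¹ * b * b := h4
      _ = _ := by group
  refine O'.not_cen_prod (O.conj_CC d.2) (Ne.symm hne) h2 ?_
  intro l hl
  have h3 := h1 l hl
  change (d : G) * z * (d : G)⁻¹ * b⁻¹ * l = l * ((d : G) * z * (d : G)⁻¹ * b⁻¹) at h3
  have h5 : b * ((d : G) * z * (d : G)⁻¹) = (d : G) * z * (d : G)⁻¹ * b⁻¹ := by
    have hbi : b⁻¹ = b := inv_eq_of_mul_eq_one_right O'.z2
    rw [hbi, h2]
  rw [h5]
  exact h3.symm

theorem norm_mem (O : OP Om c z L) {r l : G} (hr : r ∈ RZ Om z) (hl : l ∈ L) : r * l * r⁻¹ ∈ L := by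
  have h1 := O.norm (RZ_le_MC O.u.w O.hc (DelC.refl c z) hr)
  have h2 := conj_mem_cj (g := r) hl
  rwa [h1] at h2

/-- `R_z` and its conjugates under `L` commute modulo `L` -/
theorem comm_mem (O : OP Om c z L) (F : Frame Om z K1 K2 a b') {d r x : G} (hd : d ∈ L) (hr : r ∈ RZ Om z)
    (hx : x ∈ RZ Om z) (hrx : r * x * r⁻¹ = x ∨ r * x * r⁻¹ = z * x) :
    (d * r * d⁻¹) * x * (d * r * d⁻¹)⁻¹ * x⁻¹ ∈ L := by
  have h1 : d⁻¹ * (x * d * x⁻¹) ∈ L := mul_mem (inv_mem hd) (O.norm_mem hx hd)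
  have h2 := O.norm_mem hr h1
  have h3 : r * x * r⁻¹ * x⁻¹ ∈ L := by
    rcases hrx with h4 | h4
    · rw [h4, mul_inv_cancel]; exact one_mem _
    · rw [h4, mul_inv_cancel_right]; exact O.zL
  have h4 := O.norm_mem hx (inv_mem hd)
  have e : (d * r * d⁻¹) * x * (d * r * d⁻¹)⁻¹ * x⁻¹ =
      d * (r * (d⁻¹ * (x * d * x⁻¹)) * r⁻¹) * (r * x * r⁻¹ * x⁻¹) * (x * d⁻¹ * x⁻¹) := by group
  rw [e]
  exact mul_mem (mul_mem (mul_mem hd h2) h3) h4

/-- the axis of a line over `c` is in `L` -/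
theorem a_mem (O : OP Om c z L) {H : Subgroup (↥L ⧸ center ↥L)} (hH : IsStronglyEmbedded H)
    (F : Frame Om z K1 K2 a b') {s : G} (l : Lab Om z s c) {p : Fin 3 × Fin 3}
    (hp : Dir z a b' (s * c) p.1 p.2) : a p.1 ∈ L ∧ b' p.2 ∈ L := by
  have h := O.u.w
  obtain ⟨d, hd, hds⟩ := O.exists_conj hH l.del
  obtain ⟨th, -, hz, -, ⟨L1, hL1, hth⟩, ha, hb, -⟩ := l.exists_theta h F hp
  have hr : d⁻¹ * th * d ∈ RZ Om z := by
    have h1 := RZ_conj h d⁻¹ (hL1.le_RZ hth)
    rw [inv_inv, ← hds] at h1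
    have e : d⁻¹ * (d * z * d⁻¹) * d = z := by group
    rwa [e] at h1
  have hdr : d * (d⁻¹ * th * d) * d⁻¹ = th := by group
  have hinn := Inn.of_RZ (CC.inZ O.hc) h hr
  have key : ∀ {K : Subgroup G} {x : Fin 3 → G} {i : Fin 3}, Mem Om z K → Q3 K z x → Act z x x th (rf i) →
      x i ∈ L := by
    intro K x i hK q hA
    have h1 := O.comm_mem F hd hr (hK.le_RZ (q.mem (i + 1))) (hinn K hK _ (q.mem (i + 1)))
    rw [hdr] at h1
    have h2 : rf i (i + 1) = i + 2 := by rw [rf, Equiv.swap_apply_left]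
    have h3 := hA (i + 1)
    rw [h2] at h3
    have h4 : x (i + 2) * (x (i + 1))⁻¹ ∈ L := by
      rcases h3 with h5 | h5
      · rwa [h5] at h1
      · rw [h5] at h1
        have h6 := mul_mem O.zL h1
        rwa [mul_assoc, q.zzx] at h6
    rw [q.inv, ← mul_assoc, ← q.zc, mul_assoc, q.mul21, q.zzx] at h4
    exact h4
  exact ⟨key F.k1 F.qa ha, key F.k2 F.qb hb⟩

theorem k_le (O : OP Om c z L) {H : Subgroup (↥L ⧸ center ↥L)} (hH : IsStronglyEmbedded H)
    (F : Frame Om z K1 K2 a b') : K1 ≤ L ∧ K2 ≤ L := by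
  have h := O.u.w
  obtain ⟨s, l⟩ := O.hc
  obtain ⟨-, i, j, -, -, -, -, hd1, -⟩ := l.theta h F
  have hp : ((i, j) : Fin 3 × Fin 3) ∈ DC Om z a b' c := ⟨s, l, hd1⟩
  have key : ∀ p : Fin 3 × Fin 3, p ∈ DC Om z a b' c → a p.1 ∈ L ∧ b' p.2 ∈ L := by
    rintro p ⟨s, l, hs⟩
    exact O.a_mem hH F l hs
  rcases O.u.diag F c _ hp with h1 | h1
  · have h2 := key _ (h1 0)
    have h3 := key _ (h1 1)
    refine ⟨F.qa.le_of_mem ?_ h2.1 h3.1, F.qb.le_of_mem ?_ h2.2 h3.2⟩
    · simp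
    · simp
  · have h2 := key _ (h1 0)
    have h3 := key _ (h1 1)
    refine ⟨F.qa.le_of_mem ?_ h2.1 h3.1, F.qb.le_of_mem ?_ h2.2 h3.2⟩
    · simp
    · show j - 0 ≠ j - 1
      clear h1 h2 h3 hp hd1
      revert j; decide

theorem false (O : OP Om c z L) (hcrit : CloEnd.Crit1175 (↥L ⧸ center ↥L)) (hbend : CloEnd.Bend (↥L ⧸ center ↥L)) :
    False := by
  have h := O.u.w
  obtain ⟨H, hH⟩ := O.exists_se hcrit
  obtain ⟨K1, K2, a, b, F⟩ := (CC.inZ O.hc).exists_frame h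
  obtain ⟨hK1, hK2⟩ := O.k_le hH F
  have hR : IsPGroup 2 (RZ Om z) := isPGroup_RZ h (CC.inZ O.hc)
  set π := QuotientGroup.mk' (center ↥L) with hπ
  have hnc : ∀ {K : Subgroup G} {x : Fin 3 → G}, Q3 K z x → (hK : K ≤ L) →
      ∃ u ∈ (K.subgroupOf L).map π, ∃ v ∈ (K.subgroupOf L).map π, u * v ≠ v * u := by
    intro K x q hK
    refine ⟨π ⟨x 0, hK (q.mem 0)⟩, ⟨⟨x 0, hK (q.mem 0)⟩, q.mem 0, rfl⟩, π ⟨x 1, hK (q.mem 1)⟩,
      ⟨⟨x 1, hK (q.mem 1)⟩, q.mem 1, rfl⟩, ?_⟩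
    rw [← map_mul, ← map_mul]
    intro h1
    have h2 := pi_eq h1
    have e : x 0 * x 1 * (x 1 * x 0)⁻¹ = z := by
      have h3 : x 0 * x 1 = z * x 1 * x 0 := q.anti (by decide)
      rw [h3]; group
    apply O.not_cent
    intro l hl
    have h3 := h2 l hl
    change x 0 * x 1 * (x 1 * x 0)⁻¹ * l = l * (x 0 * x 1 * (x 1 * x 0)⁻¹) at h3
    rw [e] at h3
    exact h3.symm
  refine CloBen.false_of_concl (hbend H hH) (P := ((RZ Om z).subgroupOf L).map π)
    (Q := (K1.subgroupOf L).map π) (R := (K2.subgroupOf L).map π) (hR.comap_subtype.map π) ?_ ?_ ?_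
    (hnc F.qa hK1) (hnc F.qb hK2)
  · exact Subgroup.map_mono (comap_mono F.k1.le_RZ)
  · exact Subgroup.map_mono (comap_mono F.k2.le_RZ)
  · rintro _ ⟨u, hu, rfl⟩ _ ⟨v, hv, rfl⟩
    rw [← map_mul, ← map_mul]
    congr 1
    exact Subtype.ext (F.k1.comm F.k2 h F.ne hu hv)

end OP

/-- `O(L) = 1` for the components of a group with `O(H) = 1` -/
theorem CompOf.OO_eq_bot [Finite G] {H L : Subgroup G} (C : CompOf H L) (hO : OO H = ⊥) : OO L = ⊥ := by
  rw [eq_bot_iff, ← hO]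
  refine LB.le_OO_of_subnormal ((OO_le L).trans C.le) ?_ (odd_OO L)
  refine Cfsg.Agent.FixBN.SylSub.subnormal_trans (OO_le L) C.le ?_ C.sub
  intro h hh a ha
  have h1 := LB.cj_OO_eq (mem_normalizer_iff_cj.1 (le_normalizer hh) : Cit.cj h L = L)
  rw [← h1]
  exact conj_mem_cj ha

/-- **(O')** -/
theorem U10.comp_le [Finite G] {Om : Set (Subgroup G)} {c z : G} {L : Subgroup G} (U : U10 Om) (hc : c ∈ CC Om z)
    (C : CompOf (centralizer {c}) L) (hO : OO (centralizer {c}) = ⊥)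
    (hcrit : CloEnd.Crit1175 (↥L ⧸ center ↥L)) (hbend : CloEnd.Bend (↥L ⧸ center ↥L)) : L ≤ MC U.w c z := by
  by_contra hn
  exact (⟨U, hc, C, C.OO_eq_bot hO, hn⟩ : OP Om c z L).false hcrit hbend

/-- a component of the group `H` -/
theorem CompOf.of_isComponent {H : Subgroup G} {L : Subgroup ↥H} (hL : IsComponent L) : CompOf H (L.map H.subtype) where
  le := map_subtype_le L
  sub := by
    have e : (L.map H.subtype).subgroupOf H = L := comap_map_eq_self_of_injective H.subtype_injective L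
    rw [e]; exact hL.1
  q := Cfsg.Agent.SignalizersComponents.QsBasic.isQuasisimple_of_mulEquiv
    (L.equivMapOfInjective H.subtype H.subtype_injective) hL.2

universe u

/-- **(O')** for all components -/
theorem U10.comp_le' {G : Type u} [Group G] [Finite G] {Om : Set (Subgroup G)} {c z : G}
    (hB : ∀ (X : Type u) [Group X] [Finite X] [IsSimpleGroup X], CloEnd.Bend X)
    (hC : ∀ (X : Type u) [Group X] [Finite X] [IsSimpleGroup X], CloEnd.Crit1175 X) (U : U10 Om) (hc : c ∈ CC Om z)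
    (hO : OO (centralizer {c}) = ⊥) (L : Subgroup (centralizer {c})) (hL : IsComponent L) :
    L.map (centralizer {c}).subtype ≤ MC U.w c z := by
  have C := CompOf.of_isComponent hL
  haveI := C.q.2
  exact U.comp_le hc C hO (hC _) (hB _)

end Cfsg.Agent.Cit.Nil.RTwo
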