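import Cfsg.Agent.Cit.Nil.RTwo.UFiveB

/-!
# The case (U), `k = 1`: section U6 of `CIT-6b-r2m1-U-helper141.md`, the end

* `UW.no_comm` : the labels on `z` do not commute pairwise; `UW.unique` : there is exactly one label on `z`;
* `UW.cc_ti`, `UW.cc_pr` : commuting elements of `Z` have the same label;
* `UW.false_of` : **the case (U), `k = 1` is impossible**.
-/

set_option autoImplicit false
set_option linter.style.haveILetI false
set_option linter.unusedSectionVars false
set_option maxHeartbeats 400000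

namespace Cfsg.Agent.Cit.Nil.RTwo

open Subgroup Cfsg Cit

variable {G : Type*} [Group G]

section

variable [Finite G] {Om : Set (Subgroup G)} {K K1 K2 L M L1 L2 : Subgroup G} {z t u v g r s s' y w c c' : G}
  {a b p q x l : Fin 3 → G} {i j : Fin 3}

namespace UW

variable (W : UW Om) (hSC : SCe Om)

include W hSC

theorem pr_jn (hp : PR Om z t) : JN Om z t := by
  rcases hp.jn_or_dj W.w W.no with h1 | h1
  · exact h1
  · exact (W.no_dj hSC h1).elim

theorem six (hp : PR Om z t) (hc : c ∈ CC Om z) (hct : c * t = t * c) :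
    c ∈ CX Om t ∧ ∃ K x, HP Om z t K x := by
  have h := W.w
  have hn := W.no
  obtain ⟨K, x, P⟩ := hp.exists_hp h
  have lab := (W.lab_e P hc 0).1
  have hr : z * ee z t x 0 * c * c = z * ee z t x 0 := by rw [mul_assoc, CC.sq hc, mul_one]
  have hrt : z * ee z t x 0 * t = t * (z * ee z t x 0) := by
    calc z * ee z t x 0 * t = z * (ee z t x 0 * t) := by group
      _ = (z * t) * ee z t x 0 := by rw [P.e_t h]; group
      _ = _ := by rw [hp.comm]; group
  rcases (W.pr_jn hSC hp).six_seven h hn lab hct (Or.inl hr) hrt (P.fx_ze h hn 0) with ⟨h1, -⟩ | ⟨-, h1⟩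
  · exact ⟨h1, K, x, P⟩
  · exact (W.no_dj hSC h1).elim

/-- two different labels on `z` do not commute -/
theorem no_comm (hc : c ∈ CC Om z) (hc' : c' ∈ CC Om z) (hcc : c * c' = c' * c) : c = c' := by
  by_contra hne
  have h := W.w
  have hn := W.no
  have hzZ : InZ Om z := CC.inZ hc
  obtain ⟨K1, K2, a, b, F⟩ := hzZ.exists_frame h
  obtain ⟨p, hp⟩ := CC.exists_dir h F hc
  obtain ⟨t, lt, hd⟩ := hp
  have hp' := W.dc_eq F ⟨t, lt, hd⟩ hc'
  obtain ⟨t', lt', hd'⟩ := hp'
  -- normalise: `t' c' = t c`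
  obtain ⟨s, ls, hs⟩ : ∃ s, Lab Om z s c' ∧ s * c' = t * c := by
    have zz : z * z = 1 := lt.z2 h
    rcases hd with h1 | h1 <;> rcases hd' with h2 | h2
    · exact ⟨t', lt', by rw [h1, h2]⟩
    · refine ⟨z * t', lt'.mul h, ?_⟩
      rw [mul_assoc, h2, ← mul_assoc z z, zz, one_mul, h1]
    · refine ⟨z * t', lt'.mul h, ?_⟩
      rw [mul_assoc, h2, h1]
    · exact ⟨t', lt', by rw [h1, h2]⟩
  obtain ⟨w, hw⟩ : ∃ w, w = t * c := ⟨_, rfl⟩
  have hwR : w ∈ RZ Om z := by rw [hw]; exact lt.wz
  have hcw : c * w = w * c := CX_comm hwR lt.cz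
  have hcw' : c' * w = w * c' := CX_comm hwR ls.cz
  have hct : c * t = t * c := lt.comm_t h
  have t2 : t * t = 1 := lt.t2 h
  have hww : w * w = 1 := by
    rw [hw]
    calc t * c * (t * c) = t * (c * t) * c := by group
      _ = (t * t) * (c * c) := by rw [hct]; group
      _ = 1 := by rw [t2, lt.sq, one_mul]
  have ht : t = w * c := by rw [hw, mul_assoc, lt.sq, mul_one]
  have hs' : s = w * c' := by rw [hw, ← hs, mul_assoc, ls.sq, mul_one]
  have hts : t * s = c * c' := by
    rw [ht, hs']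
    calc w * c * (w * c') = w * (c * w) * c' := by group
      _ = (w * w) * (c * c') := by rw [hcw]; group
      _ = _ := by rw [hww, one_mul]
  have hst : t * s = s * t := by
    rw [ht, hs']
    calc w * c * (w * c') = w * (c * w) * c' := by group
      _ = w * w * (c * c') := by rw [hcw]; group
      _ = w * (w * c') * c := by rw [hcc]; group
      _ = w * (c' * w) * c := by rw [hcw']
      _ = _ := by group
  have htne : t ≠ s := by
    intro e
    rw [ht, hs'] at e
    exact hne (mul_left_cancel e)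
  have hnot : ¬ InZ Om (t * s) := by
    intro h1
    have h2 := eq_of_CX' h hzZ h1 (by rw [hts]; exact mul_mem lt.cz ls.cz)
    apply CC.not_mul h hc
    have h3 : z * c = c' := by
      rw [← h2, hts, hcc, mul_assoc, lt.sq, mul_one]
    rw [h3]; exact hc'
  have hp : PR Om t s := pr_of_not h lt.ti.2.1 ls.ti.2.1 htne hst hnot
  have hcs : c * s = s * c := by
    rw [hs', ← mul_assoc, hcw, mul_assoc, hcc, mul_assoc]
  obtain ⟨h1, -⟩ := W.six hSC hp (lt.symm h).mem_CC hcs
  -- `w = s c' ∈ X_s`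
  have hwX : w ∈ CX Om s := by
    rw [hw, ← hs]; exact mul_mem (z_mem_CX h) ls.ct
  have h2 : t ∈ CX Om s := by rw [ht]; exact mul_mem hwX h1
  exact z_not_CX h lt.ti.2.1 ls.ti.2.1 htne h2

/-- every label on `z` is central in `X_z` -/
theorem central (hc : c ∈ CC Om z) (hy : y ∈ CX Om z) : c * y = y * c := by
  have h := W.w
  have hzZ : InZ Om z := CC.inZ hc
  rcases zstar_sub (CC.mem_CX hc) (CC.sq hc) (W.no z c hc) with ⟨g, hg, hne, hcg⟩ | ⟨N, hNX, hodd, hNn, hN⟩
  · exact (hne (W.no_comm hSC (CC.conj_comm h hc (CX_le hzZ h hg)) hc hcg.symm)).elim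
  · have h1 : N = ⊥ := by
      refine CX_odd h W.cf hzZ hNX ?_ ?_
      · intro g hg
        rw [mem_normalizer_iff_cj]
        refine le_antisymm ?_ ?_
        · rintro _ ⟨n, hn, rfl⟩
          exact hNn g hg n hn
        · intro n hn
          rw [mem_cj]
          have := hNn g⁻¹ ((CX Om z).inv_mem hg) n hn
          rwa [inv_inv] at this
      · intro h2
        rw [← Nat.not_even_iff_odd, even_iff_two_dvd] at hodd
        exact hodd h2
    have h2 := hN y hy
    rwa [h1, Subgroup.mem_bot, mul_inv_eq_one, mul_inv_eq_iff_eq_mul] at h2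

/-- there is exactly one label on `z` -/
theorem unique (hc : c ∈ CC Om z) (hc' : c' ∈ CC Om z) : c = c' :=
  W.no_comm hSC hc hc' (W.central hSC hc (CC.mem_CX hc'))

theorem cc_ti (hti : TI Om z t) (hc : c ∈ CC Om z) : c ∈ CC Om t := by
  obtain ⟨c', l⟩ := hti.exists_lab W.w
  rw [W.unique hSC hc l.mem_CC]
  exact (l.symm W.w).mem_CC

theorem cc_pr (hp : PR Om z s) (hc : c ∈ CC Om z) : c ∈ CC Om s := by
  have h := W.w
  have hn := W.no
  have hcs : c * s = s * c := by
    have h1 := W.unique hSC (CC.conj_comm h hc hp.comm.symm) hc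
    rw [mul_inv_eq_iff_eq_mul] at h1
    exact h1.symm
  obtain ⟨h1, K, x, P⟩ := W.six hSC hp hc hcs
  have lab := (W.lab_e P hc 0).1
  have hrs : z * ee z s x 0 * s = s * (z * ee z s x 0) := by
    calc z * ee z s x 0 * s = z * (ee z s x 0 * s) := by group
      _ = (z * s) * ee z s x 0 := by rw [P.e_t h]; group
      _ = _ := by rw [hp.comm]; group
  have h2 : z * ee z s x 0 ∈ RZ Om s :=
    (W.pr_jn hSC hp).mem_RZ h hn (P.c_mem h 0) hrs (P.fx_ze h hn 0)
  have hti : TI Om s (z * ee z s x 0 * c) := by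
    refine ⟨hp.ht, lab.ti.2.1, ?_, ?_, (Inn.of_RZ hp.ht h h2).mul (Inn.of_CX h1) hp.ht h⟩
    · intro e
      have h3 : Fx Om z s := by rw [e]; exact lab.ti.2.2.2.2.fx h
      obtain ⟨K', hK'⟩ := hp.hz
      exact hp.sw K' hK' (h3 K' hK')
    · calc s * (z * ee z s x 0 * c) = s * (z * ee z s x 0) * c := by group
        _ = z * ee z s x 0 * (s * c) := by rw [← hrs]; group
        _ = _ := by rw [← hcs]; group
  obtain ⟨c', l'⟩ := hti.exists_lab h
  have h3 : c' = c := W.unique hSC (l'.symm h).mem_CC (lab.symm h).mem_CC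
  rw [← h3]; exact l'.mem_CC

theorem cc_sub (hz : InZ Om z) (ht : InZ Om t) (hzt : z * t = t * z) (hc : c ∈ CC Om z) : c ∈ CC Om t := by
  by_cases hne : z = t
  · rw [← hne]; exact hc
  rcases W.pr_or_ti hz ht hne hzt with h1 | h1
  · exact W.cc_pr hSC h1 hc
  · exact W.cc_ti hSC h1 hc

/-- **the case (U), `k = 1` is impossible** -/
theorem false_of : False := by
  have h := W.w
  obtain ⟨z, t, hti⟩ := W.ti
  obtain ⟨c, l⟩ := hti.exists_lab h
  have hbot : closure (CC Om z) = ⊥ := by
    refine hSC (fun u => closure (CC Om u)) ?_ ?_ ?_ z hti.1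
    · intro g u hu
      show closure (CC Om (g * u * g⁻¹)) = cj g (closure (CC Om u))
      rw [cj_closureU]
      congr 1
      ext s
      constructor
      · intro h1
        refine ⟨g⁻¹ * s * g, ?_, ?_⟩
        · have h2 := CC.conj h h1 g⁻¹
          have e1 : g⁻¹ * s * g⁻¹⁻¹ = g⁻¹ * s * g := by rw [inv_inv]
          have e2 : g⁻¹ * (g * u * g⁻¹) * g⁻¹⁻¹ = u := by group
          rwa [e1, e2] at h2
        · show g * (g⁻¹ * s * g) * g⁻¹ = s
          group
      · rintro ⟨r, h1, rfl⟩
        exact CC.conj h h1 g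
    · intro u hu
      show closure (CC Om u) ≤ centralizer {u}
      rw [closure_le]
      intro s hs
      show s ∈ centralizer {u}
      rw [mem_centralizer_singleton_iff]
      first
        | exact CC.comm_z h hs
        | exact (CC.comm_z h hs).symm
    · intro u w hu hw huw
      show closure (CC Om u) = closure (CC Om w)
      congr 1
      ext s
      exact ⟨fun hs => W.cc_sub hSC hu hw huw hs, fun hs => W.cc_sub hSC hw hu huw.symm hs⟩
  have h1 : c ∈ closure (CC Om z) := subset_closure l.mem_CC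
  rw [hbot, mem_bot] at h1
  exact W.no z c l.mem_CC h1

end UW

end

end Cfsg.Agent.Cit.Nil.RTwo
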