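import Cfsg.Agent.Cit.Nil.RTwo.World
import Cfsg.Agent.Cit.Nil.RTwo.ElevenB
import Cfsg.Agent.Cit.Nil.RTwo.AFive
import Cfsg.Agent.Cit.Nil.RTwo.USix
import Cfsg.Agent.Cit.Nil.RTwo.SMain
import Cfsg.Agent.Cit.Nil.RTwo.SPPTwo
import Cfsg.Agent.Cit.Nil.RTwo.SAbel
import Cfsg.Agent.Cit.Nil.RTwo.TenO
import Cfsg.Agent.Cit.Nil.RTwo.TEnd
import Cfsg.Agent.Cit.Nil.RTwo.Diag
import Cfsg.Agent.Cit.Nil.RTwo.SCeq

/-!
# `r = 2`, `m = 1`: the assembly

* `LIn` : the external inputs (S1169, Bender's theorem, S1173, S1175), all proved in `Cit/ExtIn.lean`, `Cit/CoreOneFull.lean`;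
* `closer` : `AbC F*(G)` and `SCe Om` for every world;
* `exists_tra` : some element of `C(z)` acts as a translation with first coordinate `≠ 0`;
* `main_of` : `LeafR2One` for one group from (11.5), (U) `k = 2`, and `SB → SW`.
-/

set_option autoImplicit false
set_option linter.style.haveILetI false
set_option linter.unusedSectionVars false

namespace Cfsg.Agent.Cit.Nil.RTwo

open Subgroup Cfsg Cfsg.Agent.Cit

universe u

/-- the external inputs -/
structure LIn : Prop where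
  /-- S1169 -/
  gold : ∀ (X : Type u) [Group X] [Finite X] [IsSimpleGroup X] (S : Sylow 2 X) (A : Subgroup X), A ≠ ⊥ →
    IsMulCommutative A → IsStronglyClosed A (S : Subgroup X) →
    IsMulCommutative (S : Subgroup X) ∨ ∃ H : Subgroup X, IsStronglyEmbedded H
  /-- Bender's theorem -/
  bend : ∀ (X : Type u) [Group X] [Finite X] [IsSimpleGroup X], CloEnd.Bend X
  /-- S1175 -/
  crit : ∀ (X : Type u) [Group X] [Finite X] [IsSimpleGroup X], CloEnd.Crit1175 X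
  /-- S1173 -/
  h1173 : ∀ (G : Type u) [Group G] [Finite G], oddCore G = ⊥ → OneF.H1173 G

section

variable {G : Type u} [Group G] [Finite G] {Om : Set (Subgroup G)} {K K1 K2 L M X : Subgroup G} {g g' t x y z s d k : G}
  {a b : Fin 3 → G} {v : Fin 3 × Fin 3}

theorem oddCore_eq_bot (f : ROne.FSimp X) (h2 : 2 ∣ Nat.card X) : oddCore G = ⊥ := by
  by_contra hb
  have h3 := f.le (N := oddCore G) (fun g _ n hn => (Lib.Cores.pPrimeCore_normal 2 (G := G)).conj_mem n hn g) hb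
  have h4 := h2.trans (card_dvd_of_le h3)
  have h5 := Lib.Cores.pPrimeCore_coprime (G := G) 2
  have h6 := Nat.dvd_gcd h4 (dvd_refl 2)
  rw [h5] at h6
  omega

theorem rot_cls {K : Subgroup G} (h : W2 (cls K)) (h3 : Nil.C3 K) : Rot (cls K) := by
  obtain ⟨Q, hQ, hQ8, c, hcK, hcQ, hc3, q, hq, hcq⟩ := h3
  have hQK : Q = K := eq_of_le_of_card_ge hQ.1 (by rw [hQ8, h.card K (self_mem_cls K)])
  subst hQK
  rintro L ⟨g, rfl⟩
  refine ⟨g * c * g⁻¹, ?_, ?_, g * q * g⁻¹, conj_mem_cj hq, ?_⟩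
  · rw [mem_normalizer_iff_cj, cj_mul, cj_mul, cj_inv_cj, mem_normalizer_iff_cj.1 hcK]
  · intro ⟨y, hy⟩
    obtain ⟨n, rfl⟩ := mem_zpowers_iff.1 hy
    obtain ⟨m, hm⟩ := hc3 ⟨c ^ n, zpow_mem (mem_zpowers c) n⟩
    have hm' : (c ^ n) ^ 3 ^ m = 1 := congrArg Subtype.val hm
    refine ⟨m, Subtype.ext ?_⟩
    show ((g * c * g⁻¹) ^ n) ^ 3 ^ m = 1
    rw [conj_zpow, conj_pow, hm']
    group
  · intro e
    apply hcq
    have h1 : g * (c * q) * g⁻¹ = g * (q * c) * g⁻¹ := by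
      calc g * (c * q) * g⁻¹ = g * c * g⁻¹ * (g * q * g⁻¹) := by group
        _ = g * q * g⁻¹ * (g * c * g⁻¹) := e
        _ = g * (q * c) * g⁻¹ := by group
    exact mul_left_cancel (mul_right_cancel h1)

/-- all members lie in `X`, or `EL` -/
theorem le_or_el (h : W2 Om) (hc : OneCls Om) (c3 : C3E Om) (hr : Rot Om) (hne : Om.Nonempty) (f : ROne.FSimp X)
    (gold : Cit.ROne.Gold ↥X) (h2 : 2 ∣ Nat.card X) : (∀ K ∈ Om, K ≤ X) ∨ EL Om X := by
  by_cases h1 : ∃ K ∈ Om, K ≤ X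
  · left
    obtain ⟨K, hK, h3⟩ := h1
    intro L hL
    obtain ⟨g, rfl⟩ := hc K hK L hL
    intro x hx
    have h4 := f.nor.conj_mem _ (h3 (mem_cj.1 hx)) g
    have e : g * (g⁻¹ * x * g) * g⁻¹ = x := by group
    rwa [e] at h4
  · right
    push Not at h1
    refine ⟨h, f, gold, fun z hz => h.mem_of_fsimp f h2 hz, fun z K hK => ?_, hr, hne⟩
    exact (h.inf_cases c3 f.nor hK).resolve_left (h1 K hK.1)

/-- the closers -/
theorem closer (h : W2 Om) (hc : OneCls Om) (c3 : C3E Om) (hr : Rot Om) (hne : Om.Nonempty) (f : ROne.FSimp X)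
    (gold : Cit.ROne.Gold ↥X) (hB : CloEnd.Bend ↥X) (h1173 : OneF.H1173 G) (hF : CF Om) (h2 : 2 ∣ Nat.card X) :
    AbC X ∧ SCe Om := by
  rcases le_or_el h hc c3 hr hne f gold h2 with h1 | E
  · exact ⟨fun S A hA hAX hcA => (h.toWd hne).false_of_closed f h1 gold hB S hA hAX hcA,
      SCe.of_wd h hne f h1 gold hB h1173 hF⟩
  · exact ⟨fun S A hA hAX hcA => E.closed S A hA hAX hcA, E.sce h1173 hF⟩

/-! ### a translation with first coordinate `≠ 0` -/

theorem asm_key1 : ∀ σ : Equiv.Perm (Fin 3), (∀ i, σ i ≠ i) → σ * σ * (σ * σ) = σ ∧ σ = Equiv.addRight (σ 0) ∧ σ 0 ≠ 0 := by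
  decide

set_option maxRecDepth 10000 in
theorem asm_key2 : ∀ τ : Equiv.Perm (Fin 3), ∃ j : Fin 3, τ * τ * (τ * τ) = Equiv.addRight j := by
  decide

theorem exists_tra (h : W2 Om) (hr : Rot Om) (F : Frame Om z K1 K2 a b) : ∃ g v, Tra z a b g v ∧ v.1 ≠ 0 := by
  obtain ⟨c, hcK, hc3, hq⟩ := hr K1 F.k1.1
  have hcK' := mem_normalizer_iff_cj.1 hcK
  have hcz := F.k1.of_cj h hcK'
  obtain ⟨σ, hσ, hσ0⟩ := exists_rot F.qa hcz hcK' hc3 hq
  have hcK2 : cj c K2 = K2 := by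
    rcases F.k1.cases F.k2 h F.ne (F.k2.cj_comm h hcz) with h1 | h1
    · exact absurd (cj_inj.1 (h1.trans hcK'.symm)).symm F.ne
    · exact h1
  obtain ⟨τ, hτ⟩ := F.qb.exists_act F.qb hcK2 hcz
  have hccz : c * c * z = z * (c * c) := by rw [mul_assoc, hcz, ← mul_assoc, hcz, mul_assoc]
  have h1 : Act z a a (c * c) (σ * σ) := hσ.comp F.qa.z2 hσ hcz
  have h2 : Act z b b (c * c) (τ * τ) := hτ.comp F.qa.z2 hτ hcz
  have h3 : Act z a a (c * c * (c * c)) (σ * σ * (σ * σ)) := h1.comp F.qa.z2 h1 hccz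
  have h4 : Act z b b (c * c * (c * c)) (τ * τ * (τ * τ)) := h2.comp F.qa.z2 h2 hccz
  obtain ⟨e1, e2, e3⟩ := asm_key1 σ hσ0
  obtain ⟨j, e4⟩ := asm_key2 τ
  refine ⟨c * c * (c * c), (σ 0, j), ⟨?_, ?_, ?_⟩, e3⟩
  · rw [mul_assoc, hccz, ← mul_assoc, hccz, mul_assoc]
  · rw [e1, e2] at h3
    exact h3
  · rw [e4] at h4
    exact h4

/-! ### exits -/

theorem SLSub.cl (h : W2 Om) (hz : InZ Om z) (hf : centralizerPPrimeCore 2 z = ⊥) (hs : SLSub z) : AssemblyNil.Cl G := by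
  obtain ⟨J, h2, h3, h4, ⟨e⟩⟩ := hs
  have h5 : oddCore J = ⊥ := by
    have h3 := Lib.PComponents.map_pPrimeCore_le_of_isSubnormal (p := 2) h4
    have h4 : pPrimeCore 2 ↥(centralizer ({z} : Set G)) = ⊥ := by
      unfold centralizerPPrimeCore at hf
      exact (Subgroup.map_eq_bot_iff_of_injective _ (Subgroup.subtype_injective _)).1 hf
    rw [h4, le_bot_iff, Subgroup.map_eq_bot_iff_of_injective _ (Subgroup.subtype_injective _)] at h3
    have h5 := Lib.Cores.map_equiv_pPrimeCore (subgroupOfEquivOfLe h2) 2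
    rw [h3, Subgroup.map_bot] at h5
    rw [oddCore, ← h5]
  refine ⟨z, J, hz.orderOf h, h2, h3, h4, Or.inl ⟨ZMod 3, inferInstance, inferInstance, ?_, ⟨?_⟩⟩⟩
  · rw [ZMod.card]; decide
  · exact ((QuotientGroup.quotientMulEquivOfEq h5).trans QuotientGroup.quotientBot).trans e

/-! ### the cases -/

theorem abel_of (i : LIn.{u}) (S : SW Om) (P : PPAll Om) (hF : CFA G) : Abel Om := by
  intro z t c hc ht
  refine P.abel S (fun c z hc L hL => ?_) hc ht
  have h1 := U10.comp_le' i.bend i.crit S.u10 hc (hF c (CC.sq hc) (S.ne z c hc)) L hL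
  rwa [Subgroup.map_le_iff_le_comap] at h1

theorem nonempty_cc (h : W2 Om) (hcls : ∀ z t, InZ Om z → InZ Om t → ∃ g, g * z * g⁻¹ = t) (hti : TI Om z t)
    (hy : InZ Om y) : (CC Om y).Nonempty := by
  obtain ⟨c, l⟩ := hti.exists_lab h
  obtain ⟨k, rfl⟩ := hcls z y hti.1 hy
  exact ⟨_, _, l.conj h k⟩

/-- the case (A) -/
theorem case_A (h : W2 Om) (hF : CF Om) (hr : Rot Om) (hcls : ∀ z t, InZ Om z → InZ Om t → ∃ g, g * z * g⁻¹ = t)
    (hSC : SCe Om) (hsl : ∀ z, InZ Om z → ¬ SLSub z) (hz : InZ Om z) (h1 : (1 : G) ∈ CC Om z) : EqEps Om := by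
  have hA1 : ∀ t, InZ Om t → (1 : G) ∈ CC Om t := by
    intro t ht
    obtain ⟨k, rfl⟩ := hcls z t hz ht
    have h2 := (CC.cj_iff h k).2 h1
    rwa [mul_one, mul_inv_cancel] at h2
  have hA : ∀ t, InZ Om t → CC Om t = {1} := fun t ht => CC.eq_singleton h (hA1 t ht)
  have hno : ∀ z K1 K2 a b, Frame Om z K1 K2 a b → ∀ v ∈ D0 Om z a b, ¬ WOne v := by
    intro z K1 K2 a b F v hv hw
    exact hsl z F.k1.inZ (sl_end_of_D0 h hF F (hA1 z F.k1.inZ) (fun x _ => by rw [mul_one, one_mul]) hv hw)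
  have hD : ∀ z K1 K2 a b, Frame Om z K1 K2 a b → ∃ v, v ≠ 0 ∧ v ∈ D0 Om z a b := by
    intro z K1 K2 a b F
    obtain ⟨g, v, ht, hv⟩ := exists_tra h hr F
    refine ⟨v, fun e => hv (by rw [e]; rfl), ?_⟩
    obtain ⟨p, hp⟩ := CC.exists_dir h F (hA1 z F.k1.inZ)
    have h2 := ht.dc h F hp
    rw [mul_one, mul_inv_cancel] at h2
    exact (D0.iff h F hp).2 h2
  exact (AW.of h hcls hA hD hno).eqEps hSC hz

/-- the case (S) -/
theorem case_S (i : LIn.{u}) (S : SW Om) (hF : CFA G) (hne : Om.Nonempty)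
    (hs : IsSimpleGroup ↥(generalizedFittingSubgroup G)) (hna : ¬ IsMulCommutative ↥(generalizedFittingSubgroup G)) :
    AssemblyNil.Concl ↥(generalizedFittingSubgroup G) := by
  have P := S.ppAll S.dich
  obtain ⟨F, i1, i2, hF, ⟨e⟩⟩ := S.main P (abel_of i S P hF) hF hne hs hna
  exact Or.inr (Or.inr (Or.inr ⟨F, i1, i2, hF, Or.inl ⟨e⟩⟩))

/-- the case (U) -/
theorem case_U (h : W2 Om) (hF : CF Om) (hn : NoOne Om) (hcls : ∀ z t, InZ Om z → InZ Om t → ∃ g, g * z * g⁻¹ = t)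
    (hti : TI Om z t) (hSC : SCe Om) (hU : ∀ z, InZ Om z → UU Om z)
    (h2 : ∀ z K1 K2 a b, Frame Om z K1 K2 a b → (∀ v, v ∈ D0 Om z a b) → False) : False := by
  refine UW.false_of (Om := Om) ⟨h, hF, hn, hcls, ⟨z, t, hti⟩, ?_, ?_⟩ hSC
  · intro z K1 K2 a b F g v ht
    exact hU z F.k1.inZ K1 K2 a b g v F ht
  · intro z K1 K2 a b F
    by_contra hcon
    push Not at hcon
    exact h2 z K1 K2 a b F hcon

end

/-- **the assembly** -/
theorem main_of {G : Type u} [Group G] [Finite G] {K : Subgroup G} (i : LIn.{u}) (w : AssemblyNil.W3 G K)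
    (hf : ∀ t : G, orderOf t = 2 → centralizerPPrimeCore 2 t = ⊥) (h2 : (AssemblyNil.ovr K).ncard = 2)
    (hm : MOne (cls K))
    (heq : W2 (cls K) → EqEps (cls K) → AssemblyNil.Concl ↥(generalizedFittingSubgroup G))
    (hU : W2 (cls K) → CFA G → NoOne (cls K) → (∀ z, InZ (cls K) z → UU (cls K) z) → ∀ z K1 K2 a b,
      Frame (cls K) z K1 K2 a b → (∀ v, v ∈ D0 (cls K) z a b) → AssemblyNil.Cl G)
    (hS : SB (cls K) → NoOne (cls K) → (∀ z, InZ (cls K) z → ¬ SLSub z) → SCe (cls K) → SW (cls K)) :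
    AssemblyNil.Concl ↥(generalizedFittingSubgroup G) := by
  have h := W2.of_w3 w h2 hf hm
  have hc := oneCls_cls K
  have hcls : ∀ z t, InZ (cls K) z → InZ (cls K) t → ∃ g, g * z * g⁻¹ = t := fun z t hz ht => hc.conj h hz ht
  have c3 := C3E.of_c3 h w.c3
  have hr := rot_cls h w.c3
  have cf := CF.of_free h hf
  have f := ROne.fsimp_of w.simple w.na
  haveI := f.sim
  have hne : (cls K).Nonempty := ⟨K, self_mem_cls K⟩
  have hF : CFA G := by
    intro j hj hj1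
    haveI : Fact (Nat.Prime 2) := ⟨Nat.prime_two⟩
    exact hf j (orderOf_eq_prime (by rw [pow_two]; exact hj) hj1)
  have gold : Cit.ROne.Gold ↥(generalizedFittingSubgroup G) := fun S A h1 h2 h3 => i.gold _ S A h1 h2 h3
  have h1173 : OneF.H1173 G := i.h1173 G (oddCore_eq_bot f w.even)
  obtain ⟨hab, hSC⟩ := closer h hc c3 hr hne f gold (i.bend _) h1173 cf w.even
  have hsl : ∀ z, InZ (cls K) z → ¬ SLSub z := fun z hz hs => w.ncl (hs.cl h hz (hf z (hz.orderOf h)))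
  by_cases hT : TO (cls K)
  · exact (t_world h hT cf hne (fun hcl => w.ncl hcl.cl) (fun z hz => h.mem_of_fsimp f w.even hz) hab).elim
  unfold TO at hT
  push Not at hT
  obtain ⟨z, t, hz, ht, hi, hne'⟩ := hT
  have hti : TI (cls K) z t := ⟨hz, ht, hne'.symm, (hi.comm_z hz h).symm, hi⟩
  by_cases hA : ∃ z, (1 : G) ∈ CC (cls K) z
  · obtain ⟨y, hy⟩ := hA
    exact heq h (case_A h cf hr hcls hSC hsl (CC.inZ hy) hy)
  have hn : NoOne (cls K) := by
    intro y c hc e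
    exact hA ⟨y, e ▸ hc⟩
  rcases dichotomy h cf hcls ⟨z, t, hti⟩ with hUU | hSB
  · exact (case_U h cf hn hcls hti hSC hUU fun z K1 K2 a b F hall => w.ncl (hU h hF hn hUU z K1 K2 a b F hall)).elim
  · exact case_S i (hS hSB hn hsl hSC) hF hne w.simple w.na

end Cfsg.Agent.Cit.Nil.RTwo
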