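import Cfsg.Agent.Cit.Nil.RTwo.Leaf

/-!
# `r = 2`, `m = 1`, the form for the frame: no hypothesis `¬ Cl G`

* `c3e_of_rot` : elementwise (C3) from `Rot`;
* `exists_three` : weight one ==> a member with `IndDefs.Three`;
* `main_three` : **a member with `Three`, or `EqEps Om`, or `SB Om`** (`SB Om` ==> `SW Om`: `main_three'`);
* `not_eqEps` : `EqEps Om` is impossible if the members generate `G`;
* `main_three_top`.
-/

set_option autoImplicit false
set_option linter.style.haveILetI false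
set_option linter.unusedSectionVars false

namespace Cfsg.Agent.Cit.Nil.RTwo

open Subgroup Cfsg Cfsg.Agent.Cit

universe u

variable {G : Type u} [Group G] [Finite G] {Om : Set (Subgroup G)} {K K1 K2 L M X : Subgroup G} {g g' t x y z s d k c : G}
  {a b : Fin 3 → G} {v : Fin 3 × Fin 3}

/-- elementwise (C3) -/
theorem c3e_of_rot (h : W2 Om) (hr : Rot Om) : C3E Om := by
  intro z K hK y hy hyy
  obtain ⟨c, hcK, hc3, hq⟩ := hr K hK.1
  have hcK' := mem_normalizer_iff_cj.1 hcK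
  have hcz := hK.of_cj h hcK'
  obtain ⟨x, Q⟩ := h.exists_q3 hK
  obtain ⟨σ, hσ, hσ0⟩ := exists_rot Q hcz hcK' hc3 hq
  obtain ⟨i, hi⟩ := Q.of_sq hy hyy
  have e3 : ∀ i, c * (z * x i) * c⁻¹ = z * (c * x i * c⁻¹) := by
    intro i
    calc c * (z * x i) * c⁻¹ = (c * z) * x i * c⁻¹ := by group
      _ = (z * c) * x i * c⁻¹ := by rw [hcz]
      _ = _ := by group
  have h5 : c * y * c⁻¹ = x (σ i) ∨ c * y * c⁻¹ = z * x (σ i) := by
    rcases hi with rfl | rfl
    · exact hσ i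
    · rw [e3]
      rcases hσ i with h6 | h6
      · right; rw [h6]
      · left; rw [h6, Q.zzx]
  have key : ∀ w, (w = x i ∨ w = z * x i) → c * y * c⁻¹ = w → False := by
    intro w hw hcy
    rw [hcy] at h5
    apply hσ0 i
    rcases hw with rfl | rfl <;> rcases h5 with h5 | h5
    · exact (Q.inj (Or.inl h5)).symm
    · exact (Q.inj (Or.inr h5)).symm
    · exact Q.inj (Or.inr h5.symm)
    · exact (Q.inj (Or.inl (mul_left_cancel h5))).symm
  refine ⟨c, hcz, hcK', fun h6 => key y hi h6, fun h6 => key (z * y) ?_ h6⟩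
  rcases hi with rfl | rfl
  · exact Or.inr rfl
  · left; exact Q.zzx _

theorem three_add : ∀ v : Fin 3, Equiv.addRight v * Equiv.addRight v * Equiv.addRight v = 1 := by decide

theorem addRight_ne_one : ∀ v : Fin 3, v ≠ 0 → Equiv.addRight v ≠ 1 := by decide

/-- weight one gives `Three` -/
theorem exists_three (h : W2 Om) (hF : CF Om) (F : Frame Om z K1 K2 a b) (hd : Tra z a b d v) (hv : WOne v)
    (hX : ∀ x ∈ CX Om z, d * x = x * d) : ∃ K ∈ Om, IndDefs.Three K := by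
  have key : ∀ {K1 K2 : Subgroup G} {a b : Fin 3 → G} {v : Fin 3 × Fin 3}, Frame Om z K1 K2 a b → Tra z a b d v →
      v.1 ≠ 0 → v.2 = 0 → ∃ K ∈ Om, IndDefs.Three K := by
    intro K1 K2 a b v F hd h1 h2
    have e : Equiv.addRight (0 : Fin 3) = 1 := by ext i; simp
    have hb := hd.b
    rw [h2, e] at hb
    exact Wt.three (K := K1) (K' := K2) (x := a) (g := d) (σ := Equiv.addRight v.1)
      ⟨F.k1, F.k2, F.ne, F.qa, hd.a, three_add _, addRight_ne_one _ h1, hd.comm, hX,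
        hb.inner F.qb hd.comm⟩ h hF
  rcases hv with ⟨h1, h2⟩ | ⟨h1, h2⟩
  · exact key F hd h1 h2
  · exact key F.swap hd.swap h2 h1

/-- **the assembly for the frame** -/
theorem main_three (i : LIn.{u}) (h : W2 Om) (hc : OneCls Om) (hr : Rot Om) (hF : CFA G) (hne : Om.Nonempty)
    (f : ROne.FSimp X) (h2 : 2 ∣ Nat.card X) : (∃ K ∈ Om, IndDefs.Three K) ∨ EqEps Om ∨ (SB Om ∧ SCe Om) := by
  by_cases h3 : ∃ K ∈ Om, IndDefs.Three K
  · exact Or.inl h3
  right
  have hcls : ∀ z t, InZ Om z → InZ Om t → ∃ g, g * z * g⁻¹ = t := fun z t hz ht => hc.conj h hz ht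
  have c3 := c3e_of_rot h hr
  have cf := hF.cf h
  haveI := f.sim
  have gold : Cit.ROne.Gold ↥X := fun S A h1 h2 h3 => i.gold _ S A h1 h2 h3
  have h1173 : OneF.H1173 G := i.h1173 G (oddCore_eq_bot f h2)
  obtain ⟨hab, hSC⟩ := closer h hc c3 hr hne f gold (i.bend _) h1173 cf h2
  by_cases hT : TO Om
  · exact (t_world_three h hT cf hne (fun K hK h4 => h3 ⟨K, hK, h4⟩) (fun z hz => h.mem_of_fsimp f h2 hz) hab).elim
  unfold TO at hT
  push Not at hT
  obtain ⟨z, t, hz, ht, hi, hne'⟩ := hT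
  have hti : TI Om z t := ⟨hz, ht, hne'.symm, (hi.comm_z hz h).symm, hi⟩
  -- no weight one vectors over a central label
  have hno : ∀ z K1 K2 a b c, Frame Om z K1 K2 a b → c ∈ CC Om z → (∀ x ∈ CX Om z, x * c = c * x) →
      ∀ v ∈ D0 Om z a b, ¬ WOne v := by
    intro z K1 K2 a b c F hc hcX v hv hw
    apply h3
    obtain ⟨p, hp⟩ := CC.exists_dir h F hc
    have hq := (D0.iff h F hp).1 hv
    obtain ⟨d, hd, -, -, hX⟩ := DC.exists_tra h F hp hq
    rw [add_sub_cancel_left] at hd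
    exact exists_three h cf F hd hw (fun x hx => hX x hx (hcX x hx))
  by_cases hA : ∃ z, (1 : G) ∈ CC Om z
  · left
    obtain ⟨y, hy⟩ := hA
    have hA1 : ∀ t, InZ Om t → (1 : G) ∈ CC Om t := by
      intro t ht
      obtain ⟨k, rfl⟩ := hcls y t (CC.inZ hy) ht
      have h2 := (CC.cj_iff h k).2 hy
      rwa [mul_one, mul_inv_cancel] at h2
    have hA : ∀ t, InZ Om t → CC Om t = {1} := fun t ht => CC.eq_singleton h (hA1 t ht)
    have hD : ∀ z K1 K2 a b, Frame Om z K1 K2 a b → ∃ v, v ≠ 0 ∧ v ∈ D0 Om z a b := by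
      intro z K1 K2 a b F
      obtain ⟨g, v, ht, hv⟩ := exists_tra h hr F
      refine ⟨v, fun e => hv (by rw [e]; rfl), ?_⟩
      obtain ⟨p, hp⟩ := CC.exists_dir h F (hA1 z F.k1.inZ)
      have h2 := ht.dc h F hp
      rw [mul_one, mul_inv_cancel] at h2
      exact (D0.iff h F hp).2 h2
    exact (AW.of h hcls hA hD (fun z K1 K2 a b F => hno z K1 K2 a b 1 F (hA1 z F.k1.inZ)
      (fun x _ => by rw [mul_one, one_mul]))).eqEps hSC hz
  have hn : NoOne Om := by
    intro y c hc e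
    exact hA ⟨y, e ▸ hc⟩
  rcases dichotomy h cf hcls ⟨z, t, hti⟩ with hUU | hSB
  · exfalso
    have U := u10_of_U h hn hr hUU
    refine case_U h cf hn hcls hti hSC hUU fun z K1 K2 a b F hall => h3 ?_
    have hO := U.oy i.bend i.crit hF z
    obtain ⟨d, hd, -, hX⟩ := exists_tra_cent (v := (1, 0)) h cf F
      (fun g v ht => hUU z F.k1.inZ K1 K2 a b g v F ht) (U.ne z) hO (hall (1, 0))
    exact exists_three h cf F hd (Or.inl ⟨by decide, rfl⟩) hX
  · exact Or.inr ⟨hSB, hSC⟩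

/-- `EqEps` is impossible if the members generate `G` -/
theorem not_eqEps (h : W2 Om) (hc : OneCls Om) (hne : Om.Nonempty) (htop : sSup Om = ⊤) : ¬ EqEps Om := by
  intro he
  obtain ⟨N, -, hle, hfix⟩ := exists_ker h hne he
  have hN : N = ⊤ := by
    rw [eq_top_iff, ← htop]
    exact sSup_le hle
  obtain ⟨K, hK⟩ := hne
  have hm : Mem Om (zz K) K := ⟨hK, rfl⟩
  obtain ⟨L, hL, hne, -⟩ := hm.other h
  obtain ⟨g, hgz, hg⟩ := hc.exists h hm hL
  exact hne ((hfix K hK g (by rw [hN]; exact mem_top g) hgz).symm.trans hg)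

/-- **the assembly for the frame, `G = ⟨Om⟩`** -/
theorem main_three_top (i : LIn.{u}) (h : W2 Om) (hc : OneCls Om) (hr : Rot Om) (hF : CFA G) (hne : Om.Nonempty)
    (f : ROne.FSimp X) (h2 : 2 ∣ Nat.card X) (htop : sSup Om = ⊤) : (∃ K ∈ Om, IndDefs.Three K) ∨ SW Om := by
  rcases main_three i h hc hr hF hne f h2 with h1 | h1 | ⟨h1, h3⟩
  · exact Or.inl h1
  · exact absurd h1 (not_eqEps h hc hne htop)
  · exact Or.inr (h1.toSW h3)

end Cfsg.Agent.Cit.Nil.RTwo
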