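import Cfsg.Agent.Cit.Nil.RTwo.LOneP
import Cfsg.Agent.Cit.Nil.RTwo.TPair

/-!
# The labels of the lines on `z`: (2.1)-(2.4)

* `CC.eq_one` (2.1), `CC.third`, `CC.eq_three` (2.2);
* `odd_card`, `CC.odd`, `CC.exists_comm` (2.3): a 2-subgroup of `C(z)` centralises a label;
* `DC.line`, `DC.par`, `DC.tr` (2.4), `Frame.exists_perm` : the action of `C(z)` on the directions, `DC.exists_fixed`.
-/

set_option autoImplicit false
set_option linter.style.haveILetI false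
set_option linter.unusedSectionVars false
set_option maxHeartbeats 400000

namespace Cfsg.Agent.Cit.Nil.RTwo

open Subgroup Cfsg Cit

theorem dir_key : ∀ p q : Fin 3 × Fin 3, -p - q = q ↔ q = p := by decide

/-- an involution with exactly one fixed point -/
theorem odd_card {α : Type*} [Finite α] (f : α → α) (hf : ∀ x, f (f x) = x) (x0 : α) (h0 : ∀ x, f x = x ↔ x = x0) :
    Odd (Nat.card α) := by
  classical
  haveI := Fintype.ofFinite α
  haveI : Fact (Nat.Prime 2) := ⟨Nat.prime_two⟩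
  let F : Function.End α := f
  have h1 : F ^ 2 ^ 1 = 1 := by
    funext x
    rw [pow_one, pow_two]
    exact hf x
  have h2 := Equiv.Perm.card_fixedPoints_modEq h1
  have h3 : Fintype.card (Function.fixedPoints f) = 1 := by
    rw [Fintype.card_eq_one_iff]
    refine ⟨⟨x0, (h0 x0).2 rfl⟩, ?_⟩
    rintro ⟨y, hy⟩
    exact Subtype.ext ((h0 y).1 hy)
  rw [Nat.card_eq_fintype_card, Nat.odd_iff]
  have h4 : Fintype.card α ≡ 1 [MOD 2] := by
    rw [← h3]; exact h2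
  exact h4

/-- a 2-group acting by conjugation on a set of odd cardinality -/
theorem exists_fixed_of_odd {G : Type*} [Group G] {P : Subgroup G} (hP : IsPGroup 2 P) {B : Set G}
    (hB : ∀ s ∈ P, ∀ c ∈ B, s * c * s⁻¹ ∈ B) (ho : Odd (Nat.card B)) : ∃ c ∈ B, ∀ s ∈ P, s * c = c * s := by
  letI : MulAction P B :=
    { smul := fun s c => ⟨s * c * (s : G)⁻¹, hB s s.2 c c.2⟩
      one_smul := fun c => Subtype.ext (by show (1 : G) * c * (1 : G)⁻¹ = c; group)
      mul_smul := fun s s' c => Subtype.ext (by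
        show ((s * s' : P) : G) * c * ((s * s' : P) : G)⁻¹ = s * (s' * c * (s' : G)⁻¹) * (s : G)⁻¹
        rw [Subgroup.coe_mul]; group) }
  haveI : Fact (Nat.Prime 2) := ⟨Nat.prime_two⟩
  obtain ⟨c, hc⟩ := hP.nonempty_fixed_point_of_prime_not_dvd_card B
    (fun h2 => (Nat.not_even_iff_odd.2 ho) (even_iff_two_dvd.2 h2))
  refine ⟨c, c.2, fun s hs => ?_⟩
  have h1 : (⟨s, hs⟩ : P) • c = c := hc ⟨s, hs⟩
  have h2 : s * (c : G) * s⁻¹ = c := congrArg Subtype.val h1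
  rw [mul_inv_eq_iff_eq_mul] at h2
  exact h2

variable {G : Type*} [Group G]

section

variable [Finite G] {Om : Set (Subgroup G)} {K K1 K2 L L1 L2 : Subgroup G} {z t g x y w c c' : G}
  {a b : Fin 3 → G}

theorem CC.third (h : W2 Om) (F : Frame Om z K1 K2 a b) (hc : c ∈ CC Om z) (hc' : c' ∈ CC Om z)
    (hcc : c * c' = c' * c) (hne : c ≠ c') : z * c * c' ∈ CC Om z := by
  obtain ⟨p, t, l, hp⟩ := CC.exists_dir h F hc
  obtain ⟨q, t', l', hq⟩ := CC.exists_dir h F hc'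
  rcases l.lone h F l' hcc hp hq with ⟨-, h1⟩ | ⟨-, h1⟩
  · exact absurd h1 hne
  · exact DC.mem_CC h1

/-- distinct commuting labels: `c'` swaps over the neighbours over `c` -/
theorem Lab.sw (h : W2 Om) (l : Lab Om z t c) (hc' : c' ∈ CC Om z) (hcc : c * c' = c' * c) (hne : c ≠ c') :
    Sw Om t c' := by
  obtain ⟨K1, K2, a, b, F⟩ := l.ti.1.exists_frame h
  obtain ⟨th, i, j, -, -, -, -, hp, -⟩ := l.theta h F
  obtain ⟨q, t', l', hq⟩ := CC.exists_dir h F hc'
  rcases l.lone h F l' hcc (p := (i, j)) hp hq with ⟨-, h1⟩ | ⟨h1, -⟩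
  · exact absurd h1 hne
  · exact h1

/-- (2.1) -/
theorem CC.eq_one (h : W2 Om) (h1 : (1 : G) ∈ CC Om z) (hc : c ∈ CC Om z) : c = 1 := by
  by_contra hne
  obtain ⟨K1, K2, a, b, F⟩ := (CC.inZ hc).exists_frame h
  have h2 := CC.third h F h1 hc (by rw [one_mul, mul_one]) (Ne.symm hne)
  rw [mul_one] at h2
  obtain ⟨t, l⟩ := hc
  have h3 := l.sw h h2 (by rw [← mul_assoc, l.comm_z h, mul_assoc]) (by
    intro e
    exact l.ti.1.z1 h (mul_eq_right.1 e.symm))
  have h4 : Inn Om t (z * c) := (l.ti.symm h).2.2.2.2.mul (Inn.of_CX l.ct) l.ti.2.1 h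
  exact h3.not_fx l.ti.2.1 (h4.fx h)

/-- (2.2) -/
theorem CC.eq_three (h : W2 Om) {c1 c2 c4 : G} (h1 : c1 ∈ CC Om z) (h2 : c2 ∈ CC Om z) (h4 : c4 ∈ CC Om z)
    (h12 : c1 * c2 = c2 * c1) (h14 : c1 * c4 = c4 * c1) (h24 : c2 * c4 = c4 * c2) (n12 : c1 ≠ c2) (n14 : c1 ≠ c4)
    (n24 : c2 ≠ c4) : c4 = z * c1 * c2 := by
  obtain ⟨K1, K2, a, b, F⟩ := (CC.inZ h1).exists_frame h
  have h3 := CC.third h F h2 h4 h24 n24
  obtain ⟨t, l⟩ := h1
  have s2 := l.sw h h2 h12 n12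
  have s4 := l.sw h h4 h14 n14
  have hz1 := l.comm_z h
  have e2 := (l.comm_iff h (CC.mem_CX h2)).1 h12.symm
  have e4 := (l.comm_iff h (CC.mem_CX h4)).1 h14.symm
  have hc : c1 * (z * c2 * c4) = z * c2 * c4 * c1 := by
    calc c1 * (z * c2 * c4) = (c1 * z) * c2 * c4 := by group
      _ = z * (c1 * c2) * c4 := by rw [hz1]; group
      _ = z * c2 * (c1 * c4) := by rw [h12]; group
      _ = _ := by rw [h14]; group
  have h5 : c1 = z * c2 * c4 := by
    by_contra hne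
    have s3 := l.sw h h3 hc hne
    have f : Fx Om t (z * c2 * c4) := by
      intro K hK
      rw [mul_assoc, cj_mul, s2.mul h s4 e2 e4 K hK]
      exact (l.ti.symm h).2.2.2.2.fx h K hK
    exact s3.not_fx l.ti.2.1 f
  have hz2 := l.z2 h
  rw [h5]
  calc c4 = (z * z) * (c2 * c2) * c4 := by rw [hz2, CC.sq h2, one_mul, one_mul]
    _ = z * (z * (c2 * c2) * c4) := by group
    _ = z * (z * c2 * (c2 * c4)) := by group
    _ = z * (z * c2 * c4) * c2 := by rw [h24]; group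

/-- (2.3), general form -/
theorem CC.odd_of (h : W2 Om) {B : Set G} (hB : B ⊆ CC Om z) (hn : B.Nonempty)
    (hcj : ∀ c ∈ B, ∀ c' ∈ B, c * c' * c⁻¹ ∈ B)
    (h3 : ∀ c ∈ B, ∀ c' ∈ B, c * c' = c' * c → c ≠ c' → z * c * c' ∈ B) : Odd (Nat.card B) := by
  classical
  obtain ⟨c0, hc0⟩ := hn
  have hz : InZ Om z := CC.inZ (hB hc0)
  have hzz : z * z = 1 := hz.z2 h
  have h0z := CC.comm_z h (hB hc0)
  have h00 := CC.sq (hB hc0)
  have h0i := CC.inv (hB hc0)
  -- the involution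
  obtain ⟨f, hf⟩ : ∃ f : B → B, ∀ c : B, ((f c : B) : G) =
      if (c : G) = c0 then c0 else if c0 * c = c * c0 then z * c0 * c else c0 * c * c0⁻¹ := by
    have : ∀ c : B, ∃ d : B, (d : G) =
        if (c : G) = c0 then c0 else if c0 * c = c * c0 then z * c0 * c else c0 * c * c0⁻¹ := by
      intro c
      by_cases h1 : (c : G) = c0
      · exact ⟨⟨c0, hc0⟩, by rw [if_pos h1]⟩
      by_cases h2 : c0 * c = c * c0
      · exact ⟨⟨_, h3 c0 hc0 c c.2 h2 (Ne.symm h1)⟩, by rw [if_neg h1, if_pos h2]⟩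
      · exact ⟨⟨_, hcj c0 hc0 c c.2⟩, by rw [if_neg h1, if_neg h2]⟩
    choose f hf using this
    exact ⟨f, hf⟩
  refine odd_card f ?_ ⟨c0, hc0⟩ ?_
  · intro c
    apply Subtype.ext
    by_cases h1 : (c : G) = c0
    · have h2 : f c = c := Subtype.ext (by rw [hf, if_pos h1, h1])
      rw [h2, h2]
    by_cases h2 : c0 * c = c * c0
    · have h4 : (f c : G) = z * c0 * c := by rw [hf, if_neg h1, if_pos h2]
      have hzc := CC.comm_z h (hB c.2)
      rw [hf, h4, if_neg, if_pos]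
      · calc z * c0 * (z * c0 * c) = z * (c0 * z) * c0 * c := by group
          _ = (z * z) * (c0 * c0) * c := by rw [h0z]; group
          _ = c := by rw [hzz, h00]; group
      · calc c0 * (z * c0 * c) = (c0 * z) * c0 * c := by group
          _ = z * c0 * (c0 * c) := by rw [h0z]; group
          _ = _ := by rw [h2]; group
      · intro e
        apply CC.ne_z h (hB c.2)
        have e1 : z * (c0 * c) = z * (c0 * z) := by rw [← mul_assoc, e, h0z, ← mul_assoc, hzz, one_mul]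
        exact mul_left_cancel (mul_left_cancel e1)
    · have h4 : (f c : G) = c0 * c * c0⁻¹ := by rw [hf, if_neg h1, if_neg h2]
      rw [hf, h4, if_neg, if_neg]
      · calc c0 * (c0 * c * c0⁻¹) * c0⁻¹ = (c0 * c0) * c * (c0 * c0)⁻¹ := by group
          _ = c := by rw [h00]; group
      · intro e
        apply h2
        have e1 : c0 * (c0 * c * c0⁻¹) * c0⁻¹ = c0 * c * c0⁻¹ := by rw [e]; group
        have e2 : c0 * c * c0⁻¹ = c := mul_left_cancel (mul_right_cancel e1)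
        rw [mul_inv_eq_iff_eq_mul] at e2
        exact e2
      · intro e
        rw [mul_inv_eq_iff_eq_mul] at e
        exact h1 (mul_left_cancel e)
  · intro c
    constructor
    · intro e
      have e1 := congrArg Subtype.val e
      rw [hf] at e1
      by_contra hne
      have h1 : (c : G) ≠ c0 := fun e2 => hne (Subtype.ext e2)
      rw [if_neg h1] at e1
      by_cases h2 : c0 * c = c * c0
      · rw [if_pos h2] at e1
        apply CC.ne_z h (hB hc0)
        have e2 : z * c0 = 1 := mul_eq_right.1 e1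
        have e3 : c0 = z⁻¹ := eq_inv_of_mul_eq_one_right e2
        rw [e3, hz.inv h]
      · rw [if_neg h2] at e1
        apply h2
        rw [mul_inv_eq_iff_eq_mul] at e1
        exact e1
    · rintro rfl
      apply Subtype.ext
      rw [hf, if_pos rfl]

/-- (2.3) -/
theorem CC.odd (h : W2 Om) {T : Subgroup G} (hzT : z ∈ T) (hn : (CC Om z ∩ T).Nonempty) :
    Odd (Nat.card (CC Om z ∩ T : Set G)) := by
  obtain ⟨c0, hc0, -⟩ := id hn
  obtain ⟨K1, K2, a, b, F⟩ := (CC.inZ hc0).exists_frame h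
  refine CC.odd_of h Set.inter_subset_left hn ?_ ?_
  · rintro c ⟨hc, hcT⟩ c' ⟨hc', hcT'⟩
    exact ⟨CC.conj_comm h hc' (CC.comm_z h hc), T.mul_mem (T.mul_mem hcT hcT') (T.inv_mem hcT)⟩
  · rintro c ⟨hc, hcT⟩ c' ⟨hc', hcT'⟩ hcc hne
    exact ⟨CC.third h F hc hc' hcc hne, T.mul_mem (T.mul_mem hzT hcT) hcT'⟩

theorem isPGroup_zpowers_of_sq {u : G} (hu : u * u = 1) : IsPGroup 2 (zpowers u) := by
  rintro ⟨x, k, rfl⟩
  refine ⟨1, ?_⟩
  apply Subtype.ext
  change (u ^ k) ^ (2 ^ 1) = 1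
  rw [pow_one, ← zpow_natCast, ← zpow_mul, mul_comm, zpow_mul, zpow_natCast, pow_two, hu, one_zpow]

theorem z_mem_of_syl (h : W2 Om) (hz : InZ Om z) {T : Subgroup G} (hT : Syl T (CX Om z)) : z ∈ T := by
  obtain ⟨n, hn, h1⟩ := LB.exists_conj_mem hT (z_mem_CX h) (isPGroup_zpowers_of_sq (hz.z2 h))
  rwa [CX_le hz h hn, mul_inv_cancel_right] at h1

/-- a label is `X_z`-conjugate to a label in a given Sylow 2-subgroup of `X_z` -/
theorem CC.exists_conj (h : W2 Om) {T : Subgroup G} (hT : Syl T (CX Om z)) (hc : c ∈ CC Om z) :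
    ∃ x ∈ CX Om z, x * c * x⁻¹ ∈ CC Om z ∧ x * c * x⁻¹ ∈ T := by
  obtain ⟨n, hn, h1⟩ := LB.exists_conj_mem hT (CC.mem_CX hc) (isPGroup_zpowers_of_sq (CC.sq hc))
  exact ⟨n, hn, CC.conj_comm h hc (CX_le (CC.inZ hc) h hn), h1⟩

/-- (2.3): a 2-subgroup of `C(z)` normalising the Sylow 2-subgroup `T` of `X_z` centralises a label in `T` -/
theorem CC.exists_comm_of (h : W2 Om) {T P : Subgroup G} (hT : Syl T (CX Om z)) (hP : IsPGroup 2 P)
    (hPz : ∀ s ∈ P, s * z = z * s) (hPT : ∀ s ∈ P, cj s T = T) (hn : (CC Om z).Nonempty) :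
    ∃ c ∈ CC Om z, c ∈ T ∧ ∀ s ∈ P, s * c = c * s := by
  obtain ⟨c0, hc0⟩ := hn
  obtain ⟨x, hx, h1, h2⟩ := CC.exists_conj h hT hc0
  obtain ⟨c, ⟨hc, hcT⟩, hcs⟩ := exists_fixed_of_odd (B := (CC Om z ∩ T : Set G)) hP (by
    rintro s hs c ⟨hc, hcT⟩
    refine ⟨CC.conj_comm h hc (hPz s hs), ?_⟩
    have := conj_mem_cj (g := s) hcT
    rwa [hPT s hs] at this) (CC.odd h (z_mem_of_syl h (CC.inZ hc0) hT) ⟨_, h1, h2⟩)
  exact ⟨c, hc, hcT, hcs⟩

theorem le_normalizer_CX (h : W2 Om) : centralizer {z} ≤ normalizer (CX Om z : Set G) := by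
  intro g hg
  have hg' := mem_centralizer_singleton_iff.1 hg
  rw [mem_normalizer_iff]
  intro x
  constructor
  · exact fun hx => CX_conj_comm h hg' hx
  · intro hx
    have h1 : g⁻¹ * z = z * g⁻¹ := by
      rw [inv_mul_eq_iff_eq_mul, ← mul_assoc, hg', mul_inv_cancel_right]
    have h2 := CX_conj_comm h h1 hx
    have e : g⁻¹ * (g * x * g⁻¹) * g⁻¹⁻¹ = x := by group
    rwa [e] at h2

/-- (2.3): a 2-subgroup of `C(z)` normalises a Sylow 2-subgroup of `X_z` and centralises a label in it -/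
theorem CC.exists_comm (h : W2 Om) {P : Subgroup G} (hP : IsPGroup 2 P)
    (hPz : ∀ s ∈ P, s * z = z * s) (hn : (CC Om z).Nonempty) :
    ∃ T, Syl T (CX Om z) ∧ (∀ s ∈ P, cj s T = T) ∧ ∃ c ∈ CC Om z, c ∈ T ∧ ∀ s ∈ P, s * c = c * s := by
  have hPn : P ≤ normalizer (CX Om z : Set G) :=
    fun s hs => le_normalizer_CX h (mem_centralizer_singleton_iff.2 (hPz s hs))
  obtain ⟨R, hR, hPR, hT⟩ := LB.exists_two_sup hP hPn
  have hPT : ∀ s ∈ P, cj s (R ⊓ CX Om z) = R ⊓ CX Om z := by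
    intro s hs
    rw [cj_inf, mem_normalizer_iff_cj.1 (hPn hs), mem_normalizer_iff_cj.1 (le_normalizer (hPR hs))]
  exact ⟨_, hT, hPT, CC.exists_comm_of h hT hP hPz hPT hn⟩

/-! ### (2.4) -/

/-- the general action -/
theorem DC.conj (h : W2 Om) (F : Frame Om z K1 K2 a b) {p : Fin 3 × Fin 3} (hp : p ∈ DC Om z a b c)
    (hg : g * z = z * g) {σ τ : Equiv.Perm (Fin 3)} (h1 : Act z a a g σ) (h2 : Act z b b g τ) :
    (σ p.1, τ p.2) ∈ DC Om z a b (g * c * g⁻¹) := by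
  obtain ⟨t, l, hd⟩ := hp
  refine ⟨_, l.conj_comm h hg, ?_⟩
  have h3 := F.dir_conj hg h1 h2 hd
  have e : g * t * g⁻¹ * (g * c * g⁻¹) = g * (t * c) * g⁻¹ := by group
  rw [e]; exact h3

theorem DC.line (h : W2 Om) (F : Frame Om z K1 K2 a b) {p q : Fin 3 × Fin 3} (hp : p ∈ DC Om z a b c)
    (hq : q ∈ DC Om z a b c) : -p - q ∈ DC Om z a b c := by
  obtain ⟨t, l, hd⟩ := hp
  obtain ⟨th, -, hz, hc, -, ha, hb, -⟩ := l.exists_theta h F hd
  have h1 := DC.conj h F hq hz ha hb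
  rw [rf_apply, rf_apply, hc, mul_inv_cancel_right] at h1
  exact h1

theorem DC.par (h : W2 Om) (F : Frame Om z K1 K2 a b) {p q r : Fin 3 × Fin 3} (hp : p ∈ DC Om z a b c)
    (hq : q ∈ DC Om z a b c) (hr : r ∈ DC Om z a b c) : p - q + r ∈ DC Om z a b c := by
  have h1 := DC.line h F hq (DC.line h F hp hr)
  have e : -q - (-p - r) = p - q + r := by abel
  rwa [e] at h1

theorem DC.third (h : W2 Om) (F : Frame Om z K1 K2 a b) {p q : Fin 3 × Fin 3} (hp : p ∈ DC Om z a b c)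
    (hq : q ∈ DC Om z a b c') (hcc : c * c' = c' * c) (hne : c ≠ c') : -p - q ∈ DC Om z a b (z * c * c') := by
  obtain ⟨t, l, hd⟩ := hp
  obtain ⟨t', l', hd'⟩ := hq
  rcases l.lone h F l' hcc hd hd' with ⟨-, h1⟩ | ⟨-, h1⟩
  · exact absurd h1 hne
  · exact h1

/-- (2.4): commuting labels have the same translations -/
theorem DC.tr (h : W2 Om) (F : Frame Om z K1 K2 a b) {p p' q : Fin 3 × Fin 3} (hp : p ∈ DC Om z a b c)
    (hp' : p' ∈ DC Om z a b c) (hq : q ∈ DC Om z a b c') (hcc : c * c' = c' * c) :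
    p - p' + q ∈ DC Om z a b c' := by
  by_cases hne : c = c'
  · subst hne; exact DC.par h F hp hp' hq
  have h1 := DC.third h F hp hq hcc hne
  have hz2 := (CC.inZ (DC.mem_CC hp)).z2 h
  have hcz := CC.comm_z h (DC.mem_CC hp)
  have e1 : c * (z * c * c') = z * c * c' * c := by
    calc c * (z * c * c') = (c * z) * c * c' := by group
      _ = z * c * (c * c') := by rw [hcz]; group
      _ = _ := by rw [hcc]; group
  have e2 : c ≠ z * c * c' := by
    intro e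
    apply CC.ne_z h (DC.mem_CC hq)
    have e3 : c = c * (z * c') := by rw [← mul_assoc, hcz]; exact e
    have e4 : z * c' = 1 := mul_eq_left.1 e3.symm
    have e5 := eq_inv_of_mul_eq_one_right e4
    rw [e5, (CC.inZ (DC.mem_CC hp)).inv h]
  have h2 := DC.third h F hp' h1 e1 e2
  have e3 : z * c * (z * c * c') = c' := by
    calc z * c * (z * c * c') = z * (c * z) * c * c' := by group
      _ = (z * z) * (c * c) * c' := by rw [hcz]; group
      _ = c' := by rw [hz2, CC.sq (DC.mem_CC hp)]; group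
  have e4 : -p' - (-p - q) = p - p' + q := by abel
  rwa [e3, e4] at h2

theorem Act.of_CX (F : Frame Om z K1 K2 a b) (hx : x ∈ CX Om z) : Act z a a x 1 ∧ Act z b b x 1 := by
  constructor
  · intro i
    left
    rw [mem_CX.1 hx _ F.k1 _ (F.qa.mem i), mul_inv_cancel_right]; rfl
  · intro i
    left
    rw [mem_CX.1 hx _ F.k2 _ (F.qb.mem i), mul_inv_cancel_right]; rfl

theorem DC.conj_CX (h : W2 Om) (F : Frame Om z K1 K2 a b) {p : Fin 3 × Fin 3} (hp : p ∈ DC Om z a b c)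
    (hx : x ∈ CX Om z) : p ∈ DC Om z a b (x * c * x⁻¹) := by
  obtain ⟨h1, h2⟩ := Act.of_CX F hx
  exact DC.conj h F hp (CX_le F.k1.inZ h hx) h1 h2

theorem DC.of_conj_CX (h : W2 Om) (F : Frame Om z K1 K2 a b) {p : Fin 3 × Fin 3}
    (hx : x ∈ CX Om z) (hp : p ∈ DC Om z a b (x * c * x⁻¹)) : p ∈ DC Om z a b c := by
  have h1 := DC.conj_CX h F hp (inv_mem hx)
  have e : x⁻¹ * (x * c * x⁻¹) * x⁻¹⁻¹ = c := by group
  rwa [e] at h1

/-- (2.4): all labels have the same translations -/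
theorem DC.tr_all (h : W2 Om) (F : Frame Om z K1 K2 a b) {p p' q : Fin 3 × Fin 3} (hp : p ∈ DC Om z a b c)
    (hp' : p' ∈ DC Om z a b c) (hq : q ∈ DC Om z a b c') : p - p' + q ∈ DC Om z a b c' := by
  obtain ⟨T, hT⟩ := Hyp.exists_syl (CX Om z)
  obtain ⟨c0, hc0, hc0T, hc0'⟩ := CC.exists_comm_of h hT hT.2.1 (fun s hs => CX_le F.k1.inZ h (hT.1 hs))
    (fun s hs => mem_normalizer_iff_cj.1 (le_normalizer hs)) ⟨c, DC.mem_CC hp⟩
  obtain ⟨q0, hq0⟩ := CC.exists_dir h F hc0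
  obtain ⟨x, hx, hx1, hx2⟩ := CC.exists_conj h hT (DC.mem_CC hp)
  obtain ⟨y, hy, hy1, hy2⟩ := CC.exists_conj h hT (DC.mem_CC hq)
  have h1 := DC.tr h F (DC.conj_CX h F hp hx) (DC.conj_CX h F hp' hx) hq0 (hc0' _ hx2)
  have h2 := DC.tr h F h1 hq0 (DC.conj_CX h F hq hy) (hc0' _ hy2).symm
  have e : p - p' + q0 - q0 + q = p - p' + q := by abel
  rw [e] at h2
  exact DC.of_conj_CX h F hy h2

/-- `C(z)` acts on the directions -/
theorem Frame.exists_perm (F : Frame Om z K1 K2 a b) (h : W2 Om) (hg : g * z = z * g) :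
    ∃ π : Equiv.Perm (Fin 3 × Fin 3), ∀ (w : G) (p : Fin 3 × Fin 3), Dir z a b w p.1 p.2 →
      Dir z a b (g * w * g⁻¹) (π p).1 (π p).2 := by
  rcases F.act_cases h hg with ⟨-, -, σ, τ, h1, h2⟩ | ⟨-, -, σ, τ, h1, h2⟩
  · exact ⟨Equiv.prodCongr σ τ, fun w p hp => F.dir_conj hg h1 h2 hp⟩
  · exact ⟨(Equiv.prodCongr σ τ).trans (Equiv.prodComm _ _), fun w p hp => F.dir_conj' h hg h1 h2 hp⟩

theorem DC.perm (h : W2 Om) {π : Equiv.Perm (Fin 3 × Fin 3)} (hg : g * z = z * g)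
    (hπ : ∀ (w : G) (p : Fin 3 × Fin 3), Dir z a b w p.1 p.2 → Dir z a b (g * w * g⁻¹) (π p).1 (π p).2)
    {p : Fin 3 × Fin 3} (hp : p ∈ DC Om z a b c) : π p ∈ DC Om z a b (g * c * g⁻¹) := by
  obtain ⟨t, l, hd⟩ := hp
  refine ⟨_, l.conj_comm h hg, ?_⟩
  have h3 := hπ _ _ hd
  have e : g * t * g⁻¹ * (g * c * g⁻¹) = g * (t * c) * g⁻¹ := by group
  rw [e]; exact h3

theorem DC.odd (h : W2 Om) (F : Frame Om z K1 K2 a b) (hc : c ∈ CC Om z) : Odd (Nat.card (DC Om z a b c)) := by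
  obtain ⟨p, hp⟩ := CC.exists_dir h F hc
  refine odd_card (fun q : DC Om z a b c => (⟨-p - q.1, DC.line h F hp q.2⟩ : DC Om z a b c)) ?_ ⟨p, hp⟩ ?_
  · intro q
    apply Subtype.ext
    show -p - (-p - q.1) = q.1
    abel
  · rintro ⟨q, hq⟩
    simp only [Subtype.mk.injEq]
    exact dir_key p q

/-- a 2-subgroup of `C(z)` centralising the label `c` fixes a direction over `c` -/
theorem DC.exists_fixed (h : W2 Om) (F : Frame Om z K1 K2 a b) (hc : c ∈ CC Om z) {P : Subgroup G}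
    (hP : IsPGroup 2 P) (hPz : ∀ s ∈ P, s * z = z * s) (hPc : ∀ s ∈ P, s * c = c * s) :
    ∃ p ∈ DC Om z a b c, ∀ s ∈ P, ∀ w, Dir z a b w p.1 p.2 → Dir z a b (s * w * s⁻¹) p.1 p.2 := by
  haveI : Fact (Nat.Prime 2) := ⟨Nat.prime_two⟩
  have h1 : ∀ s : P, ∃ π : Equiv.Perm (Fin 3 × Fin 3), ∀ (w : G) (p : Fin 3 × Fin 3), Dir z a b w p.1 p.2 →
      Dir z a b ((s : G) * w * (s : G)⁻¹) (π p).1 (π p).2 := fun s => F.exists_perm h (hPz s s.2)
  choose π hπ using h1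
  have hw : ∀ p : Fin 3 × Fin 3, Dir z a b (a p.1 * b p.2) p.1 p.2 := fun p => Or.inl rfl
  have hmem : ∀ (s : P) (p : Fin 3 × Fin 3), p ∈ DC Om z a b c → π s p ∈ DC Om z a b c := by
    intro s p hp
    have h2 := DC.perm h (hPz s s.2) (hπ s) hp
    rwa [hPc s s.2, mul_inv_cancel_right] at h2
  letI : MulAction P (DC Om z a b c) :=
    { smul := fun s p => ⟨π s p, hmem s p p.2⟩
      one_smul := fun p => Subtype.ext (by
        show π 1 p = p
        have h2 := hπ 1 _ _ (hw p)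
        rw [Subgroup.coe_one, one_mul, inv_one, mul_one] at h2
        obtain ⟨e1, e2⟩ := F.dir_unique h h2 (hw p)
        exact Prod.ext e1 e2)
      mul_smul := fun s s' p => Subtype.ext (by
        show π (s * s') p = π s (π s' p)
        have h2 := hπ (s * s') _ _ (hw p)
        have h3 := hπ s _ _ (hπ s' _ _ (hw p))
        have e : (s : G) * ((s' : G) * (a p.1.1 * b p.1.2) * (s' : G)⁻¹) * (s : G)⁻¹ =
            ((s * s' : P) : G) * (a p.1.1 * b p.1.2) * ((s * s' : P) : G)⁻¹ := by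
          rw [Subgroup.coe_mul]; group
        rw [e] at h3
        obtain ⟨e1, e2⟩ := F.dir_unique h h2 h3
        exact Prod.ext e1 e2) }
  obtain ⟨p, hp⟩ := hP.nonempty_fixed_point_of_prime_not_dvd_card (DC Om z a b c)
    (fun h2 => (Nat.not_even_iff_odd.2 (DC.odd h F hc)) (even_iff_two_dvd.2 h2))
  refine ⟨p, p.2, fun s hs w hd => ?_⟩
  have h2 : (⟨s, hs⟩ : P) • p = p := hp ⟨s, hs⟩
  have h3 : π ⟨s, hs⟩ p = p := congrArg Subtype.val h2
  have h4 := hπ ⟨s, hs⟩ _ _ hd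
  rw [h3] at h4
  exact h4

/-- two lines with the same label and the same direction -/
theorem Frame.eq_of_dir (F : Frame Om z K1 K2 a b) {t' : G}
    {p : Fin 3 × Fin 3} (hp : Dir z a b (t * c) p.1 p.2) (hp' : Dir z a b (t' * c) p.1 p.2) : t' = t ∨ t' = z * t := by
  have hzz : ∀ u : G, z * (z * u) = u := F.qa.zzx
  have h1 : t' * c = t * c ∨ t' * c = z * t * c := by
    rcases hp with e1 | e1 <;> rcases hp' with e2 | e2
    · left; rw [e1, e2]
    · right; rw [mul_assoc, e1, e2]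
    · right; rw [mul_assoc, e1, e2, hzz]
    · left; rw [e1, e2]
  rcases h1 with h1 | h1
  · exact Or.inl (mul_right_cancel h1)
  · exact Or.inr (mul_right_cancel h1)

end

end Cfsg.Agent.Cit.Nil.RTwo
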