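import Cfsg.Agent.Cit.Nil.RTwo.Trans

/-!
# Case (S) of S1309, `r = 2`, `m = 1`: the world and the interfaces between the files of section 12

* `SW Om` : the world (from THEOREM 1, (4.0)-(4.2), `N_z = 1`, `k = 2`): `CC z = {c0, c1, c2}`, `c0 c1 c2 = z`,
  `X_z = {1, z, c_i, z c_i}`, the nine directions are partitioned into three parallel diagonal lines `DC c_i`;
* `Dch Om z t c` : the dichotomy for commuting `z ≠ t` in `Z` (the output of `SDich.lean`).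
-/

set_option autoImplicit false

namespace Cfsg.Agent.Cit.Nil.RTwo

open Subgroup Cfsg Cit

variable {G : Type*} [Group G]

/-- the world (S) -/
structure SW (Om : Set (Subgroup G)) : Prop where
  w : W2 Om
  ne : ∀ z c : G, c ∈ CC Om z → c ≠ 1
  three : ∀ z, InZ Om z → ∃ c0 c1 c2, CC Om z = {c0, c1, c2} ∧ c0 ≠ c1 ∧ c0 ≠ c2 ∧ c1 ≠ c2 ∧ c0 * c1 * c2 = z
  /-- `X_z = {1, z, c_i, z c_i}` -/
  cx : ∀ z, InZ Om z → ∀ x ∈ CX Om z, x = 1 ∨ x = z ∨ x ∈ CC Om z ∨ z * x ∈ CC Om z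
  /-- a direction has one label -/
  uniq : ∀ z K1 K2 a b, Frame Om z K1 K2 a b → ∀ c c' p, p ∈ DC Om z a b c → p ∈ DC Om z a b c' → c = c'
  /-- the lines are parallel and diagonal -/
  line : ∀ z K1 K2 a b, Frame Om z K1 K2 a b → ∃ v : Fin 3 × Fin 3, v.1 ≠ 0 ∧ v.2 ≠ 0 ∧
    ∀ p, ∃ c, ∀ q, q ∈ DC Om z a b c ↔ q = p ∨ q = p + v ∨ q = p - v
  /-- (4.2) -/
  four : ∀ z z1 z2 c1 c2, Lab Om z z1 c1 → Lab Om z z2 c2 → c1 ≠ c2 → z1 * z2 = z2 * z1 → TI Om z1 z2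
  /-- the labels are conjugate in `C(z)` -/
  tr : ∀ z c c', c ∈ CC Om z → c' ∈ CC Om z → ∃ g, g * z = z * g ∧ g * c * g⁻¹ = c'

/-- the dichotomy for commuting `z ≠ t` in `Z`: exactly one common label `c`; type I over `c`, or type p over `c` -/
structure Dch (Om : Set (Subgroup G)) (z t c : G) : Prop where
  mz : c ∈ CC Om z
  mt : c ∈ CC Om t
  uq : ∀ c', c' ∈ CC Om z → c' ∈ CC Om t → c' = c
  alt : (Lab Om z t c ∧ Fx Om z t ∧ Fx Om t z ∧ InZ Om (z * t) ∧ ∀ a ∈ CC Om z, ∀ b ∈ CC Om t, a * b = b * a) ∨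
    (Sw Om z t ∧ Sw Om t z ∧ ¬ InZ Om (z * t) ∧ InZ Om (z * t * c) ∧ c ∈ CC Om (z * t * c) ∧
      (∀ a ∈ CC Om z, a ≠ c → t * a ≠ a * t) ∧ (∀ u, Lab Om z u c → t * u = u * t))

/-- the output of `SDich.lean` -/
def DchAll (Om : Set (Subgroup G)) : Prop :=
  ∀ z t : G, InZ Om z → InZ Om t → z ≠ t → z * t = t * z → ∃ c, Dch Om z t c

/-- `Z_c ∩ C(z)` -/
def PP (Om : Set (Subgroup G)) (c z : G) : Set G := {t | InZ Om t ∧ c ∈ CC Om t ∧ z * t = t * z}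

/-- the output of `SPP.lean` (`z` over `c`) -/
structure PPAll (Om : Set (Subgroup G)) : Prop where
  /-- the members of `Z_c ∩ C(z)` commute -/
  comm : ∀ c z, c ∈ CC Om z → ∀ u ∈ PP Om c z, ∀ v ∈ PP Om c z, u * v = v * u
  card : ∀ c z, c ∈ CC Om z → (PP Om c z).ncard = 15
  loc : ∀ c z t, Lab Om z t c → ∃ s, Lab Om z s c ∧ t * s = s * t ∧ s ≠ z ∧ s ≠ t ∧ ¬ InZ Om (t * s)
  l3 : ∀ c u v w, c ∈ CC Om u → c ∈ CC Om v → c ∈ CC Om w → u * v = v * u → u * w = w * u → u ≠ v →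
    ¬ InZ Om (u * v) →
    (∀ n, InZ Om n → c ∈ CC Om n → u * n = n * u → InZ Om (u * n) → InZ Om (v * n) → w = n ∨ InZ Om (w * n)) →
    w = u ∨ w = v ∨ w = u * v * c

end Cfsg.Agent.Cit.Nil.RTwo
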