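import Cfsg.Agent.Cit.Nil.RTwo.AFive
import Cfsg.Agent.Cit.Nil.RTwo.SWorld
import Cfsg.Agent.Cit.Nil.RTwo.LTwo
import Cfsg.Agent.Cit.Nil.RTwo.Asm

/-!
# `r = 2`, `m = 1`: two facts about the pairs of type I (used for the product situation in COMP)

`DQ Om` :
* `d` : an involution `g` commuting with `z` fixes a direction of type I: `g t g⁻¹ ∈ {t, z t}` for some `t` with `TI z t`;
* `q` : an involution `q ≠ z` of `R_z` is inner at some `t` with `TI z t`.

* `SW.dq` : the world (S);
* `AW.dq` : the world (A), with `SCe`.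
-/

set_option autoImplicit false
set_option linter.style.haveILetI false
set_option linter.unusedSectionVars false

namespace Cfsg.Agent.Cit.Nil.RTwo

open Subgroup Cfsg Cfsg.Agent.Cit

variable {G : Type*} [Group G]

/-- see the head of the file -/
structure DQ (Om : Set (Subgroup G)) : Prop where
  d : ∀ z g, InZ Om z → g * z = z * g → g * g = 1 → ∃ t, TI Om z t ∧ (g * t * g⁻¹ = t ∨ g * t * g⁻¹ = z * t)
  q : ∀ z q, InZ Om z → q ∈ RZ Om z → q * q = 1 → q ≠ 1 → q ≠ z → ∃ t, TI Om z t ∧ Inn Om t q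

variable [Finite G] {Om : Set (Subgroup G)} {K K1 K2 L L1 L2 M : Subgroup G} {z t g u x y w q c c' : G}
  {a b p r : Fin 3 → G}

/-- the permutation of the directions induced by an involution is an involution -/
theorem Frame.exists_perm_fix (F : Frame Om z K1 K2 a b) (h : W2 Om) (hg : g * z = z * g) (hgg : g * g = 1) :
    ∃ p : Fin 3 × Fin 3, ∀ w, Dir z a b w p.1 p.2 → Dir z a b (g * w * g⁻¹) p.1 p.2 := by
  obtain ⟨π, hπ⟩ := F.exists_perm h hg
  have h2 : π ^ 2 ^ 1 = 1 := by
    rw [pow_one, pow_two]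
    apply Equiv.ext
    intro p
    have h3 := hπ _ _ (hπ (a p.1 * b p.2) p (Or.inl rfl))
    have e : g * (g * (a p.1 * b p.2) * g⁻¹) * g⁻¹ = a p.1 * b p.2 := by
      have e1 : g⁻¹ * g⁻¹ = 1 := by rw [← mul_inv_rev, hgg, inv_one]
      calc g * (g * (a p.1 * b p.2) * g⁻¹) * g⁻¹ = (g * g) * (a p.1 * b p.2) * (g⁻¹ * g⁻¹) := by group
        _ = _ := by rw [hgg, e1, one_mul, mul_one]
    rw [e] at h3
    obtain ⟨e1, e2⟩ := F.dir_unique h (Or.inl rfl) h3
    exact (Prod.ext e1 e2).symm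
  haveI : Fact (Nat.Prime 2) := ⟨Nat.prime_two⟩
  obtain ⟨p, hp⟩ := Equiv.Perm.exists_fixed_point_of_prime (p := 2) (n := 1) (by simp) h2
  refine ⟨p, fun w hw => ?_⟩
  have h3 := hπ w p hw
  rwa [hp] at h3

namespace SW

variable (S : SW Om)

include S

theorem dq : DQ Om where
  d z g hz hg hgg := by
    have h := S.w
    obtain ⟨K1, K2, a, b, F⟩ := hz.exists_frame h
    obtain ⟨p, hp⟩ := F.exists_perm_fix h hg hgg
    obtain ⟨v, -, -, hl⟩ := S.line z K1 K2 a b F
    obtain ⟨c, hc⟩ := hl p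
    obtain ⟨t, l, hd⟩ := (hc p).2 (Or.inl rfl)
    have l' := l.conj_comm h hg
    have hd' := hp _ hd
    have e : g * (t * c) * g⁻¹ = g * t * g⁻¹ * (g * c * g⁻¹) := by group
    rw [e] at hd'
    have h1 : c = g * c * g⁻¹ := S.uniq z K1 K2 a b F _ _ p ⟨t, l, hd⟩ ⟨_, l', hd'⟩
    rw [← h1] at hd'
    exact ⟨t, l.ti, F.eq_of_dir hd hd'⟩
  q z q hz hq hqq h1 h2 := by
    have h := S.w
    obtain ⟨K1, K2, a, b, F⟩ := hz.exists_frame h
    obtain ⟨i, j, hd⟩ := F.exists_dir h hq hqq h1 h2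
    obtain ⟨v, -, -, hl⟩ := S.line z K1 K2 a b F
    obtain ⟨c, hc⟩ := hl (i, j)
    obtain ⟨t, l, hd'⟩ := (hc (i, j)).2 (Or.inl rfl)
    refine ⟨t, l.ti, ?_⟩
    have htc : Inn Om t (t * c) := Inn.of_CX (mul_mem (z_mem_CX h) l.ct)
    have hzt : Inn Om t z := (l.ti.symm h).2.2.2.2
    have hq' : q = t * c ∨ q = z * (t * c) := by
      rcases hd with e1 | e1 <;> rcases hd' with e2 | e2
      · left; rw [e1, e2]
      · right; rw [e1, e2, F.qa.zzx]
      · right; rw [e1, e2]
      · left; rw [e1, e2]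
    rcases hq' with e | e
    · rw [e]; exact htc
    · rw [e]; exact hzt.mul htc l.ti.2.1 h

end SW

/-- one side of `ft_mul_inn` -/
theorem Cf.inn_side (C : Cf Om z t K1 K2 L1 L2 a b p r) (h : W2 Om) (hf : FT Om t u) (hu : u * z = z * u) :
    ∀ k ∈ L1, u * a 0 * k * (u * a 0)⁻¹ = k ∨ u * a 0 * k * (u * a 0)⁻¹ = t * k := by
  obtain ⟨σ, hσ, e1, e2⟩ := hf.act h C.l1 C.qc
  have hL1 : cj u L1 = L1 := hf.fr.fx L1 C.l1
  have e3 : σ 0 = 0 := by
    rcases C.fix_or hu hL1 with e4 | e4 <;> rcases hσ 0 with e5 | e5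
    · exact (C.qc.inj (Or.inl (e4.symm.trans e5))).symm
    · exact (C.qc.inj (Or.inr (e4.symm.trans e5))).symm
    · exact C.qc.inj (Or.inr (e5.symm.trans e4))
    · exact (C.qc.inj (Or.inl (mul_left_cancel (e4.symm.trans e5)))).symm
  have e4 := rf_of e3 e2
  rw [e4] at hσ
  have e5 := (C.symm.act_p0 h).comp C.t2 hσ hf.fr.comm.symm
  have e6 : rf 0 * rf 0 = 1 := by decide
  rw [e6] at e5
  refine e5.inner C.qc ?_
  rw [mul_assoc, ← C.ta0, ← mul_assoc, hf.fr.comm.symm, mul_assoc]

/-- the product of an outer involution `u` at `t` with a quarter turn is inner at `t` -/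
theorem ft_mul_inn (h : W2 Om) (hti : TI Om z t) (hf : FT Om t u) (hu : u * z = z * u) (hK : Mem Om z K)
    (hy : y ∈ K) (hyy : y * y = z) (hyt : y * t = t * y) : Inn Om t (u * y) := by
  obtain ⟨K1, K2, L1, L2, a, b, p, r, C⟩ := hti.exists_cf h
  -- the statement for `K1`
  have key : ∀ {K1 K2 L1 L2 : Subgroup G} {a b p r : Fin 3 → G}, Cf Om z t K1 K2 L1 L2 a b p r → K = K1 →
      Inn Om t (u * y) := by
    intro K1 K2 L1 L2 a b p r C hKK
    subst hKK
    -- `y` is `a 0` or its inverse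
    have hy0 : y = a 0 ∨ y = z * a 0 := by
      obtain ⟨i, hi⟩ := C.qa.of_sq hy hyy
      by_cases hi0 : i = 0
      · rwa [hi0] at hi
      exfalso
      have h1 := C.ta y hy
      rw [← hyt, mul_inv_cancel_right] at h1
      have h2 : y * a 0 = a 0 * y := by
        rw [eq_mul_inv_iff_mul_eq] at h1
        exact h1
      have h3 : a i * a 0 = a 0 * a i := by
        rcases hi with e | e
        · rwa [e] at h2
        · rw [e] at h2
          have h4 : z * (a i * a 0) = z * (a 0 * a i) := by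
            calc z * (a i * a 0) = z * a i * a 0 := by group
              _ = a 0 * (z * a i) := h2
              _ = (a 0 * z) * a i := by group
              _ = (z * a 0) * a i := by rw [C.qa.zc]
              _ = _ := by group
          exact mul_left_cancel h4
      have h4 := C.qa.anti hi0
      rw [h3, mul_assoc] at h4
      exact C.qa.z1 (mul_eq_right.1 h4.symm)
    have hin : Inn Om t (u * a 0) := by
      intro M hM
      rcases C.l1.cases C.l2 h C.lne hM with e | e
      · rw [e]; exact C.inn_side h hf hu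
      · rw [e]; exact C.swl.inn_side h hf hu
    rcases hy0 with e | e
    · rw [e]; exact hin
    · have e1 : u * y = (u * a 0) * z := by rw [e, C.qa.zc]; group
      rw [e1]
      exact hin.mul (hti.symm h).2.2.2.2 hti.2.1 h
  rcases C.k1.cases C.k2 h C.kne hK with e | e
  · exact key C e
  · exact key C.swk e

namespace AW

variable (W : AW Om)

include W

/-- all pairs of type I partners are of type f -/
theorem ft_all (hSC : SCe Om) (hz : InZ Om z) :
    ∀ z s s', TI Om z s → TI Om z s' → s ≠ s' → s' ≠ z * s → FT Om s s' := by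
  have h := W.w
  rcases W.one_or_two with h1 | h1
  · have P : POne Om := ⟨W.w, W.line, h1⟩
    rcases pone_dich W P with h0 | h0
    · exfalso
      have h2 : ∀ z t, InZ Om z → InZ Om t → z * t = t * z → AS Om z = AS Om t := by
        intro z t hz ht hc
        have : {x | x = z ∨ TI Om z x} = {x | x = t ∨ TI Om t x} := by
          ext x; exact P.const h0 hz ht hc x
        rw [AS, AS, this]
      have h3 := hSC (AS Om) (fun g z _ => (AS_conj h g).symm) (fun z hz x hx => by
        rw [mem_centralizer_singleton_iff]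
        exact W.AS_comm hz hx z_mem_AS) h2 z hz
      have h4 : z ∈ AS Om z := z_mem_AS
      rw [h3, mem_bot] at h4
      exact hz.z1 h h4
    · exact h0
  · exact (AW2.false_of ⟨W, h1⟩ hSC hz).elim

theorem dq (hSC : SCe Om) : DQ Om where
  d z g hz hg hgg := by
    have h := W.w
    obtain ⟨K1, K2, a, b, D⟩ := W.dg z hz
    have hmap : ∀ i, ∃ j, g * (a i * b i) * g⁻¹ = a j * b j ∨ g * (a i * b i) * g⁻¹ = z * (a j * b j) := by
      intro i
      have h1 := ((D.ti _).2 ⟨i, Or.inl rfl⟩).conj h g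
      rw [hg, mul_inv_cancel_right] at h1
      exact (D.ti _).1 h1
    choose σ hσ using hmap
    have hss : ∀ i, σ (σ i) = i := by
      intro i
      have hz' : ∀ x, g * (z * x) * g⁻¹ = z * (g * x * g⁻¹) := by
        intro x
        calc g * (z * x) * g⁻¹ = (g * z) * x * g⁻¹ := by group
          _ = z * g * x * g⁻¹ := by rw [hg]
          _ = _ := by group
      have e : g * (g * (a i * b i) * g⁻¹) * g⁻¹ = a i * b i := by
        have e1 : g⁻¹ * g⁻¹ = 1 := by rw [← mul_inv_rev, hgg, inv_one]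
        calc g * (g * (a i * b i) * g⁻¹) * g⁻¹ = (g * g) * (a i * b i) * (g⁻¹ * g⁻¹) := by group
          _ = _ := by rw [hgg, e1, one_mul, mul_one]
      have h1 : Dir z a b (a i * b i) (σ (σ i)) (σ (σ i)) := by
        rw [← e]
        rcases hσ i with h2 | h2 <;> rw [h2]
        · exact hσ (σ i)
        · rw [hz']
          rcases hσ (σ i) with h3 | h3
          · right; rw [h3]
          · left; rw [h3, D.fr.qa.zzx]
      exact (D.fr.dir_unique h h1 (Or.inl rfl)).1
    have hfix : ∀ σ : Fin 3 → Fin 3, (∀ i, σ (σ i) = i) → ∃ i, σ i = i := by decide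
    obtain ⟨i, hi⟩ := hfix σ hss
    refine ⟨a i * b i, (D.ti _).2 ⟨i, Or.inl rfl⟩, ?_⟩
    have h1 := hσ i
    rwa [hi] at h1
  q z q hz hq hqq h1 h2 := by
    have h := W.w
    have hF := W.ft_all hSC hz
    obtain ⟨K1, K2, a, b, D⟩ := W.dg z hz
    obtain ⟨i, j, hd⟩ := D.fr.exists_dir h hq hqq h1 h2
    have hti : ∀ i, TI Om z (a i * b i) := fun i => (D.ti _).2 ⟨i, Or.inl rfl⟩
    -- it is enough to treat `a i * b j`
    suffices hs : ∃ t, TI Om z t ∧ Inn Om t (a i * b j) by
      obtain ⟨t, ht, hi⟩ := hs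
      refine ⟨t, ht, ?_⟩
      rcases hd with e | e
      · rw [e]; exact hi
      · rw [e]; exact ((ht.symm h).2.2.2.2).mul hi ht.2.1 h
    by_cases hij : i = j
    · subst hij
      exact ⟨_, hti i, Inn.of_CX (z_mem_CX h)⟩
    -- the third index
    obtain ⟨k, hki, hkj, hk⟩ : ∃ k, k ≠ i ∧ k ≠ j ∧ (b i * b j = b k ∨ b i * b j = z * b k) := by
      have key : ∀ i j : Fin 3, i ≠ j → j = i + 1 ∨ j = i + 2 := by decide
      have k1 : ∀ i : Fin 3, i + 2 ≠ i ∧ i + 2 ≠ i + 1 ∧ i + 1 ≠ i ∧ i + 1 ≠ i + 2 := by decide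
      rcases key i j hij with e | e
      · subst e
        exact ⟨i + 2, (k1 i).1, (k1 i).2.1, Or.inl (D.fr.qb.mul i)⟩
      · subst e
        exact ⟨i + 1, (k1 i).2.2.1, (k1 i).2.2.2, Or.inr (D.fr.qb.mul2' i)⟩
    refine ⟨a k * b k, hti k, ?_⟩
    have e0 : a i * b j = (a i * b i) * ((b i)⁻¹ * b j) := by group
    have hy : (b i)⁻¹ * b j = b k ∨ (b i)⁻¹ * b j = z * b k := by
      rw [D.fr.qb.inv]
      rcases hk with e | e
      · right; rw [mul_assoc, e]
      · left; rw [mul_assoc, e, D.fr.qb.zzx]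
    have hne : a k * b k ≠ a i * b i := fun e => hki
      (D.fr.dir_unique h (w := a k * b k) (Or.inl rfl) (Or.inl e)).1
    have hne' : a i * b i ≠ z * (a k * b k) := fun e => hki
      (D.fr.dir_unique h (w := a i * b i) (Or.inr e) (Or.inl rfl)).1
    have hft : FT Om (a k * b k) (a i * b i) := hF z _ _ (hti k) (hti i) hne hne'
    rw [e0]
    refine ft_mul_inn h (hti k) hft (hti i).2.2.2.1.symm D.fr.k2 (mul_mem (inv_mem (D.fr.qb.mem i)) (D.fr.qb.mem j)) ?_ ?_
    · rcases hy with e | e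
      · rw [e, D.fr.qb.sq]
      · rw [e]
        calc z * b k * (z * b k) = z * (b k * z) * b k := by group
          _ = (z * z) * (b k * b k) := by rw [← D.fr.qb.zc]; group
          _ = z := by rw [D.fr.qb.z2, D.fr.qb.sq, one_mul]
    · have e1 : b k * (a k * b k) = a k * b k * b k := by
        rw [← mul_assoc, ← D.fr.ab h k k]
      rcases hy with e | e
      · rw [e]; exact e1
      · rw [e, mul_assoc, e1, ← mul_assoc, (hti k).2.2.2.1]
        group

end AW

end Cfsg.Agent.Cit.Nil.RTwo
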