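import Cfsg.Agent.Cit.Nil.RTwo.World
import Cfsg.Agent.Cit.Nil.RTwo.NineT
import Cfsg.Agent.Cit.Sub
import Cfsg.Agent.Cit.TBasic
import Cfsg.Agent.FixBN.BTheorem
import Cfsg.Agent.OddHalf.Known

/-!
# `r = 2`, `m = 1`: (11.5), the sign is a homomorphism

If `EqEps` then the kernel `N` of the sign (9.0) contains all members, no element of `N` swaps two members over the same
involution, so `One` holds for an `N`-class of members in the group `N`; THEOREM N1 in the group `N`.

* `exists_ker` : the kernel `N`;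
* `one_of_ker` : `One (cls (K.subgroupOf N))`;
* `fstar_subgroupOf` : `F*(N) = F*(G)` for `F*(G) ≤ N`;
* `concl_of_eqEps` : **(11.5)**.
-/

set_option autoImplicit false
set_option linter.style.haveILetI false
set_option linter.unusedSectionVars false

namespace Cfsg.Agent.Cit.Nil.RTwo

open Subgroup Cfsg Cfsg.Agent.Cit

universe u

/-- the external inputs of (11.5) -/
structure CIn : Prop where
  /-- S0483 -/
  gw : OddHalf.RankOne.GW.{u}
  /-- S1173 -/
  h1173 : ∀ (G : Type u) [Group G] [Finite G], oddCore G = ⊥ → OneF.H1173 G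
  /-- `Cit.OneF.h1171` -/
  h1171 : ∀ (G : Type u) [Group G] [Finite G], OneF.H1171 G
  /-- S0506 -/
  p0506 : NoHomo.S0506Stmt.{u}
  /-- S0507 -/
  p0507 : ∀ (X : Type u) [Group X] [Finite X] [IsSimpleGroup X], Ident.St0507 X
  /-- S0523 -/
  p0523 : ∀ (X : Type u) [Group X] [Finite X] [IsSimpleGroup X], Ident.St0523 X
  /-- S1742 -/
  p1742 : ∀ (X : Type u) [Group X] [Finite X] [IsSimpleGroup X], Ident.St1742 X

section

variable {G : Type u} [Group G] [Finite G] {Om : Set (Subgroup G)} {K L N : Subgroup G}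

/-- the kernel of the sign -/
theorem exists_ker (h : W2 Om) (hne : Om.Nonempty) (he : EqEps Om) : ∃ N : Subgroup G, N.Normal ∧ (∀ K ∈ Om, K ≤ N) ∧
    ∀ K ∈ Om, ∀ n ∈ N, n * zz K = zz K * n → cj n K = K := by
  obtain ⟨f, hf⟩ := exists_eps h hne he
  refine ⟨f.ker, inferInstance, ?_, ?_⟩
  · intro K hK k hk
    rw [MonoidHom.mem_ker]
    have hm : Mem Om (zz K) K := ⟨hK, rfl⟩
    have h2 : IsPGroup 2 (zpowers k) := isPGroup_zpowers (h.isPGroup hK) hk
    rcases Int.units_eq_one_or (f k) with h3 | h3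
    · exact h3
    · exfalso
      exact ((hf _ _ ⟨K, hm⟩ (hm.comm_z h hk) h2).1 h3) K hm (mem_normalizer_iff_cj.1 (le_normalizer hk))
  · intro K hK n hn hc
    have hm : Mem Om (zz K) K := ⟨hK, rfl⟩
    rcases fx_or_sw h ⟨K, hm⟩ hc with h3 | h3
    · exact h3 K hm
    · exfalso
      obtain ⟨m, hm', h2⟩ := exists_odd_pow n
      have h4 := sw_pow_odd h ⟨K, hm⟩ hc h3 hm'
      have h5 : n ^ m * zz K = zz K * n ^ m := (show Commute n (zz K) from hc).pow_left m
      have h6 := (hf _ _ ⟨K, hm⟩ h5 h2).2 h4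
      rw [map_pow, (MonoidHom.mem_ker).1 hn, one_pow] at h6
      exact absurd h6 (by decide)

/-- `One` for an `N`-class -/
theorem one_of_ker (h : W2 Om) (hle : ∀ K ∈ Om, K ≤ N) (hfix : ∀ K ∈ Om, ∀ n ∈ N, n * zz K = zz K * n → cj n K = K)
    (hK : K ∈ Om) : One (cls (K.subgroupOf N)) := by
  have hyp0 := h.hyp.restr N
  have hK0 : K.subgroupOf N ∈ restr Om N := subgroupOf_mem_restr hK (hle K hK)
  have hyp := hyp0.of_cls hK0
  have hsub := hyp0.cls_subset hK0
  refine ⟨hyp, fun S hS A hA B hB => ?_⟩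
  by_contra hne
  -- members are 2-groups
  have hp : ∀ A ∈ cls (K.subgroupOf N), IsPGroup 2 A := by
    intro A hA
    have h1 : A.map N.subtype ∈ Om := hsub hA
    exact (h.isPGroup h1).of_equiv (A.equivMapOfInjective _ N.subtype_injective).symm
  have hAS : A ⊓ S = A := (syl_inf hS hA).eq_of_le inf_le_left le_rfl (hp A hA.1)
  have hBS : B ⊓ S = B := (syl_inf hS hB).eq_of_le inf_le_left le_rfl (hp B hB.1)
  have hA' : A.map N.subtype ∈ Om := hsub hA.1
  have hB' : B.map N.subtype ∈ Om := hsub hB.1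
  have hz : zz (A.map N.subtype) = zz (B.map N.subtype) := by
    refine h.one _ hA' _ hB' ?_
    rintro _ ⟨a, ha, rfl⟩ _ ⟨b, hb, rfl⟩
    have ha' : a ∈ A ⊓ S := by rw [hAS]; exact ha
    have hb' : b ∈ B ⊓ S := by rw [hBS]; exact hb
    have := hyp.comm hS hA hB hne ha' hb'
    exact congrArg Subtype.val this
  obtain ⟨a, ha⟩ := hA.1
  obtain ⟨b, hb⟩ := hB.1
  have hAB : cj (b * a⁻¹) A = B := by rw [ha, hb, cj_mul, cj_inv_cj]
  have hAB' : cj ((b * a⁻¹ : N) : G) (A.map N.subtype) = B.map N.subtype := by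
    rw [← hAB]
    exact (cj_map N.subtype (b * a⁻¹) A).symm
  have hc : ((b * a⁻¹ : N) : G) * zz (A.map N.subtype) = zz (A.map N.subtype) * ((b * a⁻¹ : N) : G) := by
    rw [← mul_inv_eq_iff_eq_mul, ← h.hyp.zz_cj hA', hAB', hz]
  have h1 := hfix _ hA' _ (b * a⁻¹ : N).2 hc
  rw [h1] at hAB'
  exact hne (Subgroup.map_injective N.subtype_injective hAB')

/-- `F*(N) = F*(G)` -/
theorem fstar_subgroupOf (hs : IsSimpleGroup ↥(generalizedFittingSubgroup G))
    (hna : ¬ IsMulCommutative ↥(generalizedFittingSubgroup G)) (hN : generalizedFittingSubgroup G ≤ N) :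
    generalizedFittingSubgroup ↥N = (generalizedFittingSubgroup G).subgroupOf N := by
  have hX : (generalizedFittingSubgroup G).Normal := Lib.GenFitting.genFitting_normal (G := G)
  have e : ↥((generalizedFittingSubgroup G).subgroupOf N) ≃* ↥(generalizedFittingSubgroup G) := subgroupOfEquivOfLe hN
  refine FixBN.BTheorem.genFitting_eq (hX.comap _) ?_ ?_ ?_
  · haveI : Nontrivial ↥((generalizedFittingSubgroup G).subgroupOf N) := e.toEquiv.nontrivial
    exact IsSimpleGroup.isSimpleGroup_of_surjective e.symm.toMonoidHom e.symm.surjective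
  · intro hc
    apply hna
    refine ⟨⟨fun a b => e.symm.injective ?_⟩⟩
    rw [map_mul, map_mul]
    exact hc.is_comm.comm _ _
  · rw [eq_bot_iff]
    intro x hx
    have h1 : (x : G) ∈ centralizer (generalizedFittingSubgroup G : Set G) := by
      rw [mem_centralizer_iff]
      intro y hy
      exact congrArg Subtype.val (mem_centralizer_iff.mp hx ⟨y, hN hy⟩ hy)
    rw [End.centralizer_fstar hs hna, mem_bot] at h1
    exact Subtype.ext h1

theorem ident_concl_congr {X Y : Type u} [Group X] [Group Y] (e : X ≃* Y) (h : Ident.Concl X) : AssemblyNil.Concl Y := by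
  rcases h with ⟨p, hp, hp2, h⟩ | ⟨⟨f⟩⟩ | ⟨⟨f⟩⟩
  · exact Or.inl ⟨p, hp, hp2, OddHalf.Known.isLieTypeChar_congr e h⟩
  · exact Or.inr (Or.inl ⟨e.symm.trans f⟩)
  · exact Or.inr (Or.inr (Or.inl ⟨e.symm.trans f⟩))

/-- **(11.5)** -/
theorem concl_of_eqEps (i : CIn.{u}) (hs : IsSimpleGroup ↥(generalizedFittingSubgroup G))
    (hna : ¬ IsMulCommutative ↥(generalizedFittingSubgroup G)) (h2 : 2 ∣ Nat.card ↥(generalizedFittingSubgroup G))
    (h : W2 Om) (hne : Om.Nonempty) (he : EqEps Om) : AssemblyNil.Concl ↥(generalizedFittingSubgroup G) := by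
  obtain ⟨N, hN, hle, hfix⟩ := exists_ker h hne he
  obtain ⟨K, hK⟩ := hne
  have hNb : N ≠ ⊥ := by
    rintro rfl
    have h1 := card_dvd_of_le (hle K hK)
    rw [h.card K hK, card_bot] at h1
    omega
  have hXN := End.fstar_le hs hna hN hNb
  have hF := fstar_subgroupOf hs hna hXN
  have e : ↥(generalizedFittingSubgroup ↥N) ≃* ↥(generalizedFittingSubgroup G) :=
    (MulEquiv.subgroupCongr hF).trans (subgroupOfEquivOfLe hXN)
  have hs' : IsSimpleGroup ↥(generalizedFittingSubgroup ↥N) := by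
    haveI : Nontrivial ↥(generalizedFittingSubgroup ↥N) := e.toEquiv.nontrivial
    exact IsSimpleGroup.isSimpleGroup_of_surjective e.symm.toMonoidHom e.symm.surjective
  have hna' : ¬ IsMulCommutative ↥(generalizedFittingSubgroup ↥N) := by
    intro hc
    apply hna
    refine ⟨⟨fun a b => e.symm.injective ?_⟩⟩
    rw [map_mul, map_mul]
    exact hc.is_comm.comm _ _
  have h2' : 2 ∣ Nat.card ↥(generalizedFittingSubgroup ↥N) := by
    rw [Nat.card_congr e.toEquiv]; exact h2
  have hO : oddCore ↥N = ⊥ := by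
    by_contra hb
    have h3 := End.fstar_le hs' hna' (Lib.Cores.pPrimeCore_normal 2 (G := ↥N)) hb
    have h4 := h2'.trans (card_dvd_of_le h3)
    have h5 := Lib.Cores.pPrimeCore_coprime (G := ↥N) 2
    have h6 := Nat.dvd_gcd h4 (dvd_refl 2)
    rw [h5] at h6
    omega
  have h0483 : Ident.St0483 ↥(generalizedFittingSubgroup ↥N) := by
    intro S n hn2 hS
    haveI : Group.IsPerfect ↥(generalizedFittingSubgroup ↥N) := ⟨End.commutator_eq_top hs' hna'⟩
    exact i.gw _ S n hn2 hS
  have hone := one_of_ker h hle hfix hK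
  have hnil : NilOm (cls (K.subgroupOf N)) := by
    rintro A hA Q hQ
    have h1 : IsPGroup 2 A := by
      have h3 : A.map N.subtype ∈ Om := (h.hyp.restr N).cls_subset (subgroupOf_mem_restr hK (hle K hK)) hA
      exact (h.isPGroup h3).of_equiv (A.equivMapOfInjective _ N.subtype_injective).symm
    have h4 := hQ.eq_of_le hQ.1 le_rfl h1
    rw [h4]
    exact le_sup_right
  haveI := hs'
  exact ident_concl_congr e (End.main hs' hna' h2' (i.h1173 _ hO) (i.h1171 _) i.p0506 h0483 (i.p0507 _) (i.p0523 _)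
    (i.p1742 _) hone ⟨_, self_mem_cls _⟩ hnil)

end

end Cfsg.Agent.Cit.Nil.RTwo
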