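import Cfsg.Agent.Cit.Nil.RTwo.OSix
import Cfsg.Agent.Cit.Nil.RTwo.TenO
import Cfsg.Agent.Cit.Nil.RTwo.Diag
import Cfsg.Agent.Cit.Nil.RTwo.SMain

/-!
# S1309, `r = 2`, `m = 1`: the case (U), `k = 2`

* `U10.of` : the world of section 10;
* `U10.oy` : `O(C(⟨R_z, R_t⟩)) = 1` for all lines ((10.6));
* `U10.sl` : `C(z)` has a subnormal subgroup `SL(2,3)` containing `z` if `D_0` contains a vector of weight one.
-/

set_option autoImplicit false
set_option linter.style.haveILetI false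
set_option linter.unusedSectionVars false
set_option maxHeartbeats 400000

namespace Cfsg.Agent.Cit.Nil.RTwo

open Subgroup Cfsg Cit

universe u

variable {G : Type u} [Group G] [Finite G] {Om : Set (Subgroup G)} {K K1 K2 L L1 L2 : Subgroup G}
  {z t c : G} {a b : Fin 3 → G} {v : Fin 3 × Fin 3}

/-- the world of section 10 -/
theorem U10.of (h : W2 Om) (hn : NE Om)
    (hD : ∀ z K1 K2 a b, Frame Om z K1 K2 a b → (CC Om z).Nonempty → ∃ v, v ≠ 0 ∧ v ∈ D0 Om z a b) : U10 Om where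
  w := h
  ne := hn
  diag z K1 K2 a b F c p hp := by
    obtain ⟨v, hv0, hv⟩ := hD z K1 K2 a b F ⟨c, DC.mem_CC hp⟩
    obtain ⟨t, l, -⟩ := id hp
    exact D0.diag h F (exists_swap_of_ne h l (fun e => hn z (e ▸ DC.mem_CC hp))) hv hv0 hp

/-- **(10.6)** for all lines -/
theorem U10.oy (hB : ∀ (X : Type u) [Group X] [Finite X] [IsSimpleGroup X], CloEnd.Bend X)
    (hC : ∀ (X : Type u) [Group X] [Finite X] [IsSimpleGroup X], CloEnd.Crit1175 X) (U : U10 Om) (hA : CFA G)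
    (z : G) : OY Om z := by
  intro t c l
  have hc : c ∈ CC Om z := ⟨t, l⟩
  have hO : OO (centralizer {c}) = ⊥ := hA c (CC.sq hc) (fun e => U.ne z (e ▸ hc))
  exact l.oo_eq_bot U.w hO (fun L hL => U.comp_le' hB hC hc hO L hL)

/-- **the case (U), `k = 2`** -/
theorem U10.sl (hB : ∀ (X : Type u) [Group X] [Finite X] [IsSimpleGroup X], CloEnd.Bend X)
    (hC : ∀ (X : Type u) [Group X] [Finite X] [IsSimpleGroup X], CloEnd.Crit1175 X) (U : U10 Om) (hA : CFA G)
    (hU : UU Om z) (F : Frame Om z K1 K2 a b) (hv : v ∈ D0 Om z a b) (hw : WOne v) : SLSub z :=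
  sl_end_of_U U.w (hA.cf U.w) F (fun _ _ ht => hU _ _ _ _ _ _ F ht) (U.ne z) (U.oy hB hC hA z) hv hw

end Cfsg.Agent.Cit.Nil.RTwo
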