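import Cfsg.Agent.Cit.Nil.RTwo.SConn
import Cfsg.Agent.Cit.Nil.RTwo.SWorld

/-!
# The world (S): (6.9), `k = 2`, and the structure `SW`

* `exists_of_e8` : OCT for three commuting involutions;
* `SB.di` (6.9) : commuting members of `Z` are connected by type I edges;
* `SB.exists_D0` : `k = 2`;
* `SB.toSW` : the world of section 12.
-/

set_option autoImplicit false
set_option linter.style.haveILetI false
set_option linter.unusedSectionVars false
set_option maxHeartbeats 400000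

namespace Cfsg.Agent.Cit.Nil.RTwo

open Subgroup Cfsg Cit

variable {G : Type*} [Group G]

/-! ### Three commuting involutions -/

/-- the group generated by three commuting involutions -/
def EE8 (u v w : G) (huv : u * v = v * u) (huw : u * w = w * u) (hvw : v * w = w * v) (hu : u * u = 1)
    (hv : v * v = 1) (hw : w * w = 1) : Subgroup G where
  carrier := {x | ∃ i j k : ℕ, x = u ^ i * v ^ j * w ^ k}
  mul_mem' := by
    rintro _ _ ⟨i, j, k, rfl⟩ ⟨i', j', k', rfl⟩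
    refine ⟨i + i', j + j', k + k', ?_⟩
    have c1 : Commute (w ^ k) (u ^ i' * v ^ j') :=
      ((show Commute w u from huw.symm).pow_pow k i').mul_right ((show Commute w v from hvw.symm).pow_pow k j')
    have c2 : Commute (v ^ j) (u ^ i') := (show Commute v u from huv.symm).pow_pow j i'
    rw [c1.mul_mul_mul_comm, c2.mul_mul_mul_comm, ← pow_add, ← pow_add, ← pow_add]
  one_mem' := ⟨0, 0, 0, by simp⟩
  inv_mem' := by
    rintro _ ⟨i, j, k, rfl⟩
    refine ⟨i, j, k, inv_eq_of_mul_eq_one_right ?_⟩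
    have c1 : Commute (w ^ k) (u ^ i * v ^ j) :=
      ((show Commute w u from huw.symm).pow_pow k i).mul_right ((show Commute w v from hvw.symm).pow_pow k j)
    have c2 : Commute (v ^ j) (u ^ i) := (show Commute v u from huv.symm).pow_pow j i
    have key : ∀ (x : G) (n : ℕ), x * x = 1 → x ^ n * x ^ n = 1 := by
      intro x n hx
      rw [← pow_add, ← two_mul, pow_mul, pow_two, hx, one_pow]
    rw [c1.mul_mul_mul_comm, c2.mul_mul_mul_comm, key u i hu, key v j hv, key w k hw, one_mul, one_mul]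

theorem pow_or_of_sq {x : G} (hx : x * x = 1) (n : ℕ) : x ^ n = 1 ∨ x ^ n = x := by
  induction n with
  | zero => left; exact pow_zero x
  | succ n ih =>
    rw [pow_succ]
    rcases ih with h | h
    · right; rw [h, one_mul]
    · left; rw [h, hx]

section

variable [Finite G] {Om : Set (Subgroup G)} {K K1 K2 K1' K2' L M L1 L2 : Subgroup G}
  {z t g s s' x y w c c' u d : G} {a b a' b' : Fin 3 → G} {v v' p q : Fin 3 × Fin 3}

theorem exists_of_e8 (h : W2 Om) {Q : G → Prop} (hQ : ∀ a, Q a → InZ Om a) {u v w : G} (q1 : Q u) (q2 : Q v)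
    (q3 : Q (u * v)) (q4 : Q w) (q5 : Q (u * w)) (q6 : Q (v * w)) (q7 : Q (u * v * w)) (huv : u * v = v * u)
    (huw : u * w = w * u) (hvw : v * w = w * v) (nvu : v ≠ u) (nwu : w ≠ u) (nwv : w ≠ v) (nwuv : w ≠ u * v)
    (ht : InZ Om t) (htu : t * u = u * t) (htv : t * v = v * t) (htw : t * w = w * t) :
    ∃ a, Q a ∧ (t = a ∨ TI Om t a) := by
  have hu2 := (hQ _ q1).z2 h
  have hv2 := (hQ _ q2).z2 h
  have hw2 := (hQ _ q4).z2 h
  obtain ⟨A, hA⟩ : ∃ A, A = EE8 u v w huv huw hvw hu2 hv2 hw2 := ⟨_, rfl⟩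
  have hmem : ∀ x, x ∈ A ↔ ∃ i j k : ℕ, x = u ^ i * v ^ j * w ^ k := fun x => by rw [hA]; exact Iff.rfl
  have hAQ : ∀ a ∈ A, a ≠ 1 → Q a := by
    intro a ha ha1
    obtain ⟨i, j, k, rfl⟩ := (hmem a).1 ha
    rcases pow_or_of_sq hu2 i with e1 | e1 <;> rcases pow_or_of_sq hv2 j with e2 | e2 <;>
    rcases pow_or_of_sq hw2 k with e3 | e3 <;> rw [e1, e2, e3] at ha1 ⊢ <;>
    (try simp only [one_mul, mul_one] at ha1 ⊢)
    · exact absurd rfl ha1
    · exact q4
    · exact q2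
    · exact q6
    · exact q1
    · exact q5
    · exact q3
    · exact q7
  have hcomm : ∀ x : G, x * u = u * x → x * v = v * x → x * w = w * x → ∀ a ∈ A, x * a = a * x := by
    intro x h1 h2 h3 a ha
    obtain ⟨i, j, k, rfl⟩ := (hmem a).1 ha
    have c1 : Commute x (u ^ i) := (show Commute x u from h1).pow_right i
    have c2 : Commute x (v ^ j) := (show Commute x v from h2).pow_right j
    have c3 : Commute x (w ^ k) := (show Commute x w from h3).pow_right k
    exact ((c1.mul_right c2).mul_right c3).eq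
  have hAc : ∀ a ∈ A, ∀ b ∈ A, a * b = b * a := by
    intro a ha b hb
    have k1 := hcomm u rfl huv huw a ha
    have k2 := hcomm v huv.symm rfl hvw a ha
    have k3 := hcomm w huw.symm hvw.symm rfl a ha
    exact hcomm a k1.symm k2.symm k3.symm b hb
  by_cases htA : t ∈ A
  · exact ⟨t, hAQ t htA (ht.z1 h), Or.inl rfl⟩
  · have mu : u ∈ A := (hmem u).2 ⟨1, 0, 0, by simp⟩
    have mv : v ∈ A := (hmem v).2 ⟨0, 1, 0, by simp⟩
    have mw : w ∈ A := (hmem w).2 ⟨0, 0, 1, by simp⟩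
    obtain ⟨a, ha, ha1, hti⟩ := oct h (fun a ha ha1 => hQ a (hAQ a ha ha1)) hAc mu mv mw ((hQ _ q1).z1 h)
      ((hQ _ q2).z1 h) nvu ((hQ _ q4).z1 h) nwu nwv nwuv ht htA (hcomm t htu htv htw)
    exact ⟨a, hAQ a ha ha1, Or.inr hti⟩

theorem sprod_key' : ∀ v u x : Fin 3 × Fin 3, v ≠ 0 → u ∉ ({0, v, -v} : Finset (Fin 3 × Fin 3)) →
    x ∈ ({0, v, -v} : Finset (Fin 3 × Fin 3)) ∨ x - u ∈ ({0, v, -v} : Finset (Fin 3 × Fin 3)) ∨
      x + u ∈ ({0, v, -v} : Finset (Fin 3 × Fin 3)) := by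
  decide

theorem sprod_key (v u x : Fin 3 × Fin 3) (h1 : v ≠ 0) (h2 : u ≠ 0) (h3 : u ≠ v) (h4 : u ≠ -v) :
    (x = 0 ∨ x = v ∨ x = -v) ∨ (x - u = 0 ∨ x - u = v ∨ x - u = -v) ∨ (x + u = 0 ∨ x + u = v ∨ x + u = -v) := by
  have h5 := sprod_key' v u x h1
  simp only [Finset.mem_insert, Finset.mem_singleton] at h5
  exact h5 (by rintro (e | e | e); exacts [h2 e, h3 e, h4 e])

theorem rf_key : ∀ σ : Equiv.Perm (Fin 3), σ 0 = 0 → ∀ x y : Fin 3, x ≠ 0 → y ≠ 0 → σ x ≠ y →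
    (σ * rf 0) 0 = 0 ∧ (σ * rf 0) x = y := by decide

/-- neighbours of `z` with commuting labels and directions -/
theorem Lab.nb_comm (h : W2 Om) (F : Frame Om z K1 K2 a b) (l : Lab Om z s c) (l' : Lab Om z s' c')
    (hc : c * c' = c' * c) (hd : Dir z a b (s * c) p.1 p.2) (hd' : Dir z a b (s' * c') q.1 q.2) (h1 : p.1 ≠ q.1)
    (h2 : p.2 ≠ q.2) : s * s' = s' * s := by
  have e0 := F.comm_of_dir_ne h hd hd' h1 h2
  have e1 : c' * s = s * c' := (l.comm_iff h l'.cz).1 hc.symm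
  have e2 : c * s' = s' * c := (l'.comm_iff h l.cz).1 hc
  have e3 : s * s' * (c * c') = s' * s * (c * c') := by
    calc s * s' * (c * c') = s * (s' * c) * c' := by group
      _ = s * (c * s') * c' := by rw [e2]
      _ = (s * c) * (s' * c') := by group
      _ = (s' * c') * (s * c) := e0
      _ = s' * (c' * s) * c := by group
      _ = s' * (s * c') * c := by rw [e1]
      _ = s' * s * (c' * c) := by group
      _ = _ := by rw [hc]
  exact mul_right_cancel e3

/-- all type I lines on `z` have different labels and commute -/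
def KOne (Om : Set (Subgroup G)) (z : G) : Prop :=
  ∀ s c s' c', Lab Om z s c → Lab Om z s' c' → (c = c' → s' = s ∨ s' = z * s) ∧ (c ≠ c' → s * s' = s' * s)

theorem KOne.conj (h : W2 Om) (hk : KOne Om z) (g : G) : KOne Om (g * z * g⁻¹) := by
  intro s c s' c' l l'
  have e0 : g⁻¹ * (g * z * g⁻¹) * g⁻¹⁻¹ = z := conj_conj_inv g z
  have l1 := l.conj h g⁻¹
  have l2 := l'.conj h g⁻¹
  rw [e0] at l1 l2
  obtain ⟨k1, k2⟩ := hk _ _ _ _ l1 l2
  have inj : ∀ x y : G, g⁻¹ * x * g⁻¹⁻¹ = g⁻¹ * y * g⁻¹⁻¹ → x = y := fun x y e =>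
    mul_left_cancel (mul_right_cancel e)
  constructor
  · intro e
    rcases k1 (by rw [e]) with h1 | h1
    · left; exact inj _ _ h1
    · right
      apply inj
      rw [h1]; group
  · intro hne
    have h1 := k2 (fun e => hne (inj _ _ e))
    apply inj
    calc g⁻¹ * (s * s') * g⁻¹⁻¹ = (g⁻¹ * s * g⁻¹⁻¹) * (g⁻¹ * s' * g⁻¹⁻¹) := by group
      _ = (g⁻¹ * s' * g⁻¹⁻¹) * (g⁻¹ * s * g⁻¹⁻¹) := h1
      _ = _ := by group

namespace SB

variable (W : SB Om)

include W

/-! ### (6.9) -/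

theorem di_of_cent (l : Lab Om z s c) (l' : Lab Om z s' c') (hne : c ≠ c') (hss : s * s' = s' * s) (ht : InZ Om t)
    (htz : t * z = z * t) (hts : t * s = s * t) (hts' : t * s' = s' * t) : DI Om z t := by
  have h := W.w
  have hzs := l.zt
  have hzs' := l'.zt
  have t1 : TI Om s s' := W.four' l l' hne hss
  have c2 : (z * s) * s' = s' * (z * s) := by
    rw [mul_assoc, hss, ← mul_assoc, hzs', mul_assoc]
  have t2 : TI Om (z * s) s' := W.four' (l.mul h) l' hne c2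
  have t3 := t1.mul h
  have t4 := t2.mul h
  obtain ⟨a, ⟨-, ha⟩, h1⟩ := exists_of_e8 h (Q := fun a => InZ Om a ∧ DI Om z a) (fun a ha => ha.1) (u := z) (v := s)
    (w := s') (t := t) ⟨l.ti.1, Relation.ReflTransGen.refl⟩ ⟨l.ti.2.1, l.ti.di⟩ ⟨(l.mul h).ti.2.1, (l.mul h).ti.di⟩
    ⟨l'.ti.2.1, l'.ti.di⟩ ⟨(l'.mul h).ti.2.1, (l'.mul h).ti.di⟩ ⟨t3.2.1, l.ti.di.trans t3.di⟩
    ⟨t4.2.1, (l.mul h).ti.di.trans t4.di⟩ hzs hzs' hss (Ne.symm l.ti.2.2.1) (Ne.symm l'.ti.2.2.1)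
    (Ne.symm t1.2.2.1) (Ne.symm t2.2.2.1) ht htz hts hts'
  rcases h1 with rfl | h1
  · exact ha
  · exact ha.trans (h1.symm h).di

/-- `t` interchanges the members over `z` and centralises a diagonal transversal -/
theorem di_diag (F : Frame Om z K1 K2 a b) (l : Lab Om z s c) (hd : Dir z a b (s * c) 0 0)
    (hv : v ∈ DC Om z a b c') (hne : c' ≠ c) (n1 : v.1 ≠ 0) (n2 : v.2 ≠ 0) (ht : InZ Om t) (htz : t * z = z * t)
    (hts : t * s = s * t) (hsw : Sw Om z t) {σ : Equiv.Perm (Fin 3)} (hσ : Act z a b t σ)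
    (h1 : σ v.1 = v.2) : DI Om z t := by
  have h := W.w
  have hni : ¬ Inn Om z t := fun h2 => fx_sw_false l.ti.1 (h2.fx h) hsw
  rcases F.act_cases h htz with ⟨h2, -⟩ | ⟨-, -, σ', τ, h3, h4⟩
  · exact absurd h2 (hsw K1 F.k1)
  have e1 : σ' = σ := h3.unique F.qb hσ
  subst e1
  have e2 : τ * σ' = 1 := by
    have h5 := h3.comp F.qa.z2 h4 htz
    rw [ht.z2 h] at h5
    exact h5.unique F.qa (Act.one a z)
  have e3 : τ v.2 = v.1 := by
    rw [← h1]
    show (τ * σ') v.1 = v.1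
    rw [e2]; rfl
  obtain ⟨s', l', hd'⟩ := hv
  have h6 := F.dir_conj' h htz h3 h4 hd'
  rw [e3, h1] at h6
  have h7 : t * (s' * c') = s' * c' * t := cent_dir h F ht htz.symm hni hd' h6
  have h8 : t * c' * t⁻¹ = c' := by
    refine W.disj (l'.conj_comm h htz) l' (Or.inl ?_)
    calc t * s' * t⁻¹ * (t * c' * t⁻¹) = t * (s' * c') * t⁻¹ := by group
      _ = _ := by rw [h7, mul_inv_cancel_right]
  have h9 : t * c' = c' * t := by rwa [mul_inv_eq_iff_eq_mul] at h8
  have h10 : t * s' = s' * t := by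
    have e : s' = s' * c' * c' := by rw [mul_assoc, l'.sq, mul_one]
    calc t * s' = t * (s' * c' * c') := by rw [← e]
      _ = (t * (s' * c')) * c' := by group
      _ = s' * c' * (t * c') := by rw [h7]; group
      _ = s' * (c' * c') * t := by rw [h9]; group
      _ = _ := by rw [l'.sq, mul_one]
  have hcc : c * c' = c' * c := W.comm l.mem_CC l'.mem_CC
  have hss := Lab.nb_comm h F l l' hcc (p := (0, 0)) (q := v) hd hd' (Ne.symm n1) (Ne.symm n2)
  exact W.di_of_cent l l' (Ne.symm hne) hss ht htz hts h10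

theorem swap_z (hz : InZ Om z) : ∃ g, g * z = z * g ∧ Sw Om z g := by
  obtain ⟨c0, c1, c2, hcc, -⟩ := W.exists_cc hz
  have m0 : c0 ∈ CC Om z := by rw [hcc]; simp
  obtain ⟨t, l⟩ := id m0
  exact exists_swap_of_ne W.w l (W.noOne z c0 m0)

/-- (6.9), main case -/
theorem di_aux (hti : TI Om z s) (hp : PR Om z t) (hf : FT Om s t) : DI Om z t := by
  have h := W.w
  obtain ⟨K1, K2, L1, L2, a, b, p, q, C⟩ := hti.exists_cf h
  have F : Frame Om z K1 K2 a b := ⟨C.k1, C.k2, C.kne, C.qa, C.qb⟩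
  obtain ⟨c, l⟩ := hti.exists_lab h
  have hd : Dir z a b (s * c) 0 0 := C.tc_eq h l
  have htz : t * z = z * t := hp.comm.symm
  have hts : t * s = s * t := hf.fr.comm.symm
  obtain ⟨c0, c1, c2, S⟩ := W.caseS F
  obtain ⟨v, n1, n2, -, hv⟩ := S.diag h F (W.swap_z hti.1)
  obtain ⟨c', -, hne, -, -, hv', -⟩ := hv c (0, 0) ⟨s, l, hd⟩
  have e0 : ((0, 0) : Fin 3 × Fin 3) + v = v := zero_add v
  rw [e0] at hv'
  have htc : t * c * t⁻¹ = c := by
    have l1 := l.conj_comm h htz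
    rw [hts, mul_inv_cancel_right] at l1
    exact (l.unique h l1).symm
  rcases F.act_cases h htz with ⟨h2, -⟩ | ⟨-, -, σ, τ, h3, h4⟩
  · exact absurd h2 (hp.sw K1 C.k1)
  have hσ0 : σ 0 = 0 := by
    have h5 := F.dir_conj' h htz h3 h4 hd
    have e : t * (s * c) * t⁻¹ = s * c := by
      calc t * (s * c) * t⁻¹ = (t * s * t⁻¹) * (t * c * t⁻¹) := by group
        _ = _ := by rw [hts, mul_inv_cancel_right, htc]
    rw [e] at h5
    exact (F.dir_unique h h5 hd).2
  by_cases hσ : σ v.1 = v.2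
  · exact W.di_diag F l hd hv' hne n1 n2 hp.ht htz hts hp.sw h3 hσ
  · obtain ⟨k1, k2⟩ := rf_key σ hσ0 v.1 v.2 n1 n2 hσ
    rw [C.star_di h hf htz hti]
    have h5 := (C.act_p0 h).comp C.z2 h3 htz
    exact W.di_diag F l hd hv' hne n1 n2 (C.star_inZ h hf htz) (C.star_z h htz) (C.star_s h hts)
      (hp.sw'.mul_fx (C.symm.fx_a0 h)) h5 k2

/-- **(6.9)** -/
theorem di (hz : InZ Om z) (ht : InZ Om t) (hc : z * t = t * z) : DI Om z t := by
  by_contra hnd
  have h := W.w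
  have hline : HasLine Om := hasLine h (fun z hz => by
    obtain ⟨c0, c1, c2, hcc, -⟩ := W.exists_cc hz
    exact ⟨c0, by rw [hcc]; simp⟩)
  obtain ⟨s, hti, hst⟩ := hline z t hz ht hc
  rcases (status h hti ht hc hst hnd).2 (W.pTwo hti) with ⟨h1, h2, h3⟩ | ⟨h1, h2, h3⟩ | ⟨h1, h2, h3⟩
  · exact hnd (W.di_aux (hti.mul h) h1 h3)
  · exact hnd (W.di_aux hti h1 h2)
  · exact hnd (hti.di.trans (W.di_aux (hti.symm h) h2 h1))

/-! ### `k = 2` -/

theorem kOne_of (F : Frame Om z K1 K2 a b) (hD : ∀ v ∈ D0 Om z a b, v = 0) : KOne Om z := by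
  have h := W.w
  obtain ⟨c0, c1, c2, S⟩ := W.caseS F
  obtain ⟨v, n1, n2, -, hv⟩ := S.diag h F (W.swap_z F.k1.inZ)
  intro s c s' c' l l'
  obtain ⟨th, i, j, -, -, -, -, hd, -⟩ := l.theta h F
  obtain ⟨th', i', j', -, -, -, -, hd', -⟩ := l'.theta h F
  have hp : (i, j) ∈ DC Om z a b c := ⟨s, l, hd⟩
  have hq : (i', j') ∈ DC Om z a b c' := ⟨s', l', hd'⟩
  have hcc : c * c' = c' * c := W.comm l.mem_CC l'.mem_CC
  constructor
  · rintro rfl
    have h1 := sub_eq_zero.1 (hD _ (D0.sub_mem hp hq))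
    rw [Prod.mk.injEq] at h1
    rw [h1.1, h1.2] at hd'
    exact F.eq_of_dir (p := (i, j)) hd hd'
  · intro hne
    obtain ⟨d, d', k1, k2, k3, h1, h2⟩ := hv c (i, j) hp
    have key : ∀ x : Fin 3 × Fin 3, x.1 ≠ 0 → x.2 ≠ 0 → ∀ e, (i, j) + x ∈ DC Om z a b e → c' = e → s * s' = s' * s := by
      rintro x m1 m2 e he rfl
      have h3 := sub_eq_zero.1 (hD _ (D0.sub_mem he hq))
      refine Lab.nb_comm h F l l' hcc (p := (i, j)) (q := (i', j')) hd hd' ?_ ?_
      · rw [h3]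
        intro e
        exact m1 (left_eq_add.1 e)
      · rw [h3]
        intro e
        exact m2 (left_eq_add.1 e)
    rcases W.three l.mem_CC (DC.mem_CC h1) l'.mem_CC (Ne.symm k1) with h3 | h3 | h3
    · exact absurd h3.symm hne
    · exact key v n1 n2 d h1 h3
    · have h4 := W.mul_three l.mem_CC (DC.mem_CC h1) (DC.mem_CC h2) (Ne.symm k1) (Ne.symm k2) k3
      rw [h4] at h3
      refine key (-v) (neg_ne_zero.2 n1) (neg_ne_zero.2 n2) d' ?_ h3
      rwa [← sub_eq_add_neg]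

theorem AS_le' (hk : KOne Om z) (hti : TI Om z s) : AS Om z ≤ AS Om s := by
  have h := W.w
  rw [AS, closure_le]
  rintro x (rfl | hx)
  · exact (hti.symm h).mem_AS
  · obtain ⟨c, l⟩ := hti.exists_lab h
    obtain ⟨c', l'⟩ := hx.exists_lab h
    obtain ⟨k1, k2⟩ := hk _ _ _ _ l l'
    by_cases hc : c = c'
    · rcases k1 hc with rfl | rfl
      · exact z_mem_AS
      · exact mul_mem (hti.symm h).mem_AS z_mem_AS
    · exact (W.four' l l' hc (k2 hc)).mem_AS

/-- **`k = 2`** -/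
theorem exists_D0 (hSC : SCe Om) (F : Frame Om z K1 K2 a b) : ∃ v ∈ D0 Om z a b, v ≠ 0 := by
  have h := W.w
  by_contra hcon
  push Not at hcon
  have hk : ∀ t, InZ Om t → KOne Om t := by
    intro t ht
    obtain ⟨g, rfl⟩ := W.cls z t F.k1.inZ ht
    exact (W.kOne_of F hcon).conj h g
  have hle : ∀ z t, DI Om z t → AS Om z ≤ AS Om t := by
    intro z t hd
    induction hd with
    | refl => exact le_rfl
    | tail _ h2 ih => exact ih.trans (W.AS_le' (hk _ h2.1) h2)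
  have h1 := hSC (AS Om) (fun g z _ => (AS_conj h g).symm) (fun z hz => by
    rw [AS, closure_le]
    rintro x (rfl | hx)
    · exact mem_centralizer_singleton_iff.2 rfl
    · exact mem_centralizer_singleton_iff.2 hx.2.2.2.1.symm) (fun z t hz ht hc =>
      le_antisymm (hle z t (W.di hz ht hc)) (hle t z ((W.di hz ht hc).symm h))) z F.k1.inZ
  have h2 : z ∈ AS Om z := z_mem_AS
  rw [h1, mem_bot] at h2
  exact F.qa.z1 h2

/-- `N_z = 1` -/
theorem NI_eq (hSC : SCe Om) (hz : InZ Om z) : NI Om z = ⊥ := by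
  have h := W.w
  exact hSC (NI Om) (fun g z _ => NI_conj h g z) (fun z hz => NI_le h hz)
    (fun z t hz ht hc => NI_const_di h (W.di hz ht hc)) z hz

/-- `D0 = {0, v, -v}`, `v` diagonal -/
theorem exists_diag_D0 (hSC : SCe Om) (F : Frame Om z K1 K2 a b) : ∃ v : Fin 3 × Fin 3, v.1 ≠ 0 ∧ v.2 ≠ 0 ∧
    ∀ u, u ∈ D0 Om z a b ↔ u = 0 ∨ u = v ∨ u = -v := by
  have h := W.w
  obtain ⟨c0, c1, c2, S⟩ := W.caseS F
  obtain ⟨g, u0, -, -, -, -, hu0, -⟩ := S.ex
  have m0 : c0 ∈ CC Om z := by rw [S.cc]; simp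
  have hn : (CC Om z).Nonempty := ⟨c0, m0⟩
  rcases D0.cases h F hn (W.swap_z F.k1.inZ) with h1 | h1
  · exact absurd (h1 u0) hu0
  obtain ⟨v, hv, hv0⟩ := W.exists_D0 hSC F
  rcases h1 v hv with h2 | ⟨n1, n2⟩
  · exact absurd h2 hv0
  refine ⟨v, n1, n2, fun u => ?_⟩
  have hno : ∀ x ∈ D0 Om z a b, ¬ WOne x := by
    intro x hx hw
    rcases h1 x hx with rfl | ⟨m1, m2⟩
    · rcases hw with ⟨h3, -⟩ | ⟨-, h3⟩
      · exact h3 rfl
      · exact h3 rfl
    · rcases hw with ⟨-, h3⟩ | ⟨h3, -⟩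
      · exact m2 h3
      · exact m1 h3
  constructor
  · intro hu
    by_contra hcon
    push Not at hcon
    obtain ⟨e1, e2, e3⟩ := hcon
    rcases wOne_key v u hv0 e1 e2 e3 with h3 | h3 | h3 | h3
    · exact hno _ hv h3
    · exact hno _ hu h3
    · exact hno _ (D0.add h F hu hv) h3
    · exact hno _ (by rw [sub_eq_add_neg]; exact D0.add h F hu (D0.neg hv)) h3
  · rintro (rfl | rfl | rfl)
    · exact D0.zero h F hn
    · exact hv
    · exact D0.neg hv

theorem line (hSC : SCe Om) (F : Frame Om z K1 K2 a b) : ∃ v : Fin 3 × Fin 3, v.1 ≠ 0 ∧ v.2 ≠ 0 ∧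
    ∀ p, ∃ c, ∀ q, q ∈ DC Om z a b c ↔ q = p ∨ q = p + v ∨ q = p - v := by
  have h := W.w
  obtain ⟨v, n1, n2, hD⟩ := W.exists_diag_D0 hSC F
  refine ⟨v, n1, n2, fun p => ?_⟩
  obtain ⟨c0, c1, c2, S⟩ := W.caseS F
  obtain ⟨u, -, -, hu, hdiag⟩ := S.diag h F (W.swap_z F.k1.inZ)
  have m0 : c0 ∈ CC Om z := by rw [S.cc]; simp
  obtain ⟨p0, hp0⟩ := CC.exists_dir h F m0
  obtain ⟨d, d', -, -, -, h1, h2⟩ := hdiag c0 p0 hp0
  have hu' := fun e => hu ((hD u).2 e)
  have hv0 : v ≠ 0 := fun e => n1 (by rw [e]; rfl)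
  -- `p` lies on one of the three lines
  have hp : ∃ c, p ∈ DC Om z a b c := by
    rcases sprod_key v u (p - p0) hv0 (fun e => hu' (Or.inl e)) (fun e => hu' (Or.inr (Or.inl e)))
      (fun e => hu' (Or.inr (Or.inr e))) with h3 | h3 | h3
    · refine ⟨c0, ?_⟩
      have h4 := (D0.iff h F hp0).1 ((hD _).2 h3)
      rwa [add_sub_cancel] at h4
    · refine ⟨d, ?_⟩
      have h4 := (D0.iff h F h1).1 ((hD _).2 h3)
      have e : p0 + u + (p - p0 - u) = p := by abel
      rwa [e] at h4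
    · refine ⟨d', ?_⟩
      have h4 := (D0.iff h F h2).1 ((hD _).2 h3)
      have e : p0 - u + (p - p0 + u) = p := by abel
      rwa [e] at h4
  obtain ⟨c, hp⟩ := hp
  refine ⟨c, fun q => ?_⟩
  have e : p + (q - p) = q := by abel
  have h3 := D0.iff h F hp (v := q - p)
  rw [e] at h3
  rw [← h3, hD]
  constructor
  · rintro (h4 | h4 | h4)
    · left; exact sub_eq_zero.1 h4
    · right; left; rw [← h4]; abel
    · right; right; rw [sub_eq_add_neg, ← h4]; abel
  · rintro (rfl | rfl | rfl)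
    · left; abel
    · right; left; abel
    · right; right; abel

/-- **the world (S)** -/
theorem toSW (hSC : SCe Om) : SW Om where
  w := W.w
  ne := W.noOne
  three := fun z hz => by
    obtain ⟨c0, c1, c2, h1, h2, h3, h4, h5⟩ := W.exists_cc hz
    exact ⟨c0, c1, c2, h1, h2, h3, h4, h5⟩
  cx := fun z hz x hx => by
    obtain ⟨u, hu, h1⟩ := W.cx hx hz
    rw [W.NI_eq hSC hz, mem_bot] at h1
    have hz2 := hz.z2 W.w
    have hu2 : u * u = 1 := by
      rcases hu with rfl | rfl | hu | hu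
      · rw [mul_one]
      · exact hz2
      · exact CC.sq hu
      · have h2 := CC.sq hu
        have h3 := CC.comm_z W.w hu
        have h4 : u * z = z * u := by
          have e : z * u * z = z * (z * u) := h3
          rw [mul_assoc] at e
          exact mul_left_cancel e
        calc u * u = (z * z) * (u * u) := by rw [hz2, one_mul]
          _ = z * (z * u) * u := by group
          _ = z * (u * z) * u := by rw [h4]
          _ = z * u * (z * u) := by group
          _ = 1 := h2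
    have h2 : x = u := by
      have : x = u⁻¹ := eq_inv_of_mul_eq_one_right h1
      rw [this]; exact inv_eq_of_mul_eq_one_right hu2
    rw [h2]; exact hu
  uniq := fun z K1 K2 a b F c c' p hp hp' => W.uniq hp hp' F.qa.z2
  line := fun z K1 K2 a b F => W.line hSC F
  four := fun z z1 z2 c1 c2 l1 l2 hne hc => W.four' l1 l2 hne hc
  tr := fun z c c' hc hc' => by
    obtain ⟨K1, K2, a, b, c0, c1, c2, F, S⟩ := W.s z (CC.inZ hc)
    obtain ⟨g, v, hg, h01, h12, h20, -⟩ := S.ex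
    have hgz := hg.comm
    have hgz' : g⁻¹ * z = z * g⁻¹ := by
      rw [inv_mul_eq_iff_eq_mul, ← mul_assoc, hgz, mul_inv_cancel_right]
    have kA : c = c' → ∃ g, g * z = z * g ∧ g * c * g⁻¹ = c' := fun e => ⟨1, by simp, by rw [e]; group⟩
    have kB : g * c * g⁻¹ = c' → ∃ g, g * z = z * g ∧ g * c * g⁻¹ = c' := fun e => ⟨g, hgz, e⟩
    have kC : g * c' * g⁻¹ = c → ∃ g, g * z = z * g ∧ g * c * g⁻¹ = c' := fun e => ⟨g⁻¹, hgz', by rw [← e]; group⟩
    rw [S.cc] at hc hc'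
    simp only [Set.mem_insert_iff, Set.mem_singleton_iff] at hc hc'
    rcases hc with rfl | rfl | rfl <;> rcases hc' with rfl | rfl | rfl
    · exact kA rfl
    · exact kB h01
    · exact kC h20
    · exact kC h01
    · exact kA rfl
    · exact kB h12
    · exact kB h20
    · exact kC h12
    · exact kA rfl

end SB

end

end Cfsg.Agent.Cit.Nil.RTwo
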