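import Cfsg.Agent.Cit.Nil.RTwo.Asm
import Cfsg.Agent.Cit.Nil.RTwo.ONine
import Cfsg.Agent.Cit.Nil.RTwo.SProd
import Cfsg.Agent.Cit.Nil.RTwo.ElevenC

/-!
# `r = 2`, `m = 1`: `LeafR2One`

* `u10_of_U` : (U) is a world of section 10;
* `leafR2One` : **`LeafR2One`** from the external inputs `LIn` (S1169, Bender, S1175, S1173) and `CIn` (S0483, S1173, h1171,
  S0506, S0507, S0523, S1742).
-/

set_option autoImplicit false
set_option linter.style.haveILetI false
set_option linter.unusedSectionVars false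

namespace Cfsg.Agent.Cit.Nil.RTwo

open Subgroup Cfsg Cfsg.Agent.Cit

universe u

/-- (U) is a world of section 10 -/
theorem u10_of_U {G : Type*} [Group G] [Finite G] {Om : Set (Subgroup G)} (h : W2 Om) (hn : NoOne Om) (hr : Rot Om)
    (hUU : ∀ z, InZ Om z → UU Om z) : U10 Om := by
  refine U10.of h (fun z h1 => hn z 1 h1 rfl) ?_
  intro z K1 K2 a b F _
  obtain ⟨g, v, ht, hv⟩ := exists_tra h hr F
  exact ⟨v, fun e => hv (by rw [e]; rfl), hUU z F.k1.inZ K1 K2 a b g v F ht⟩

/-- **the leaf `r = 2`, `m = 1`** -/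
theorem leafR2One (i : LIn.{u}) (j : CIn.{u}) : LeafR2One.{u} := by
  intro G _ _ K w hf h2 hm
  have hr := fun h => rot_cls (K := K) h w.c3
  refine main_of i w hf h2 hm ?_ ?_ ?_
  · intro h he
    exact concl_of_eqEps j w.simple w.na w.even h ⟨K, self_mem_cls K⟩ he
  · intro h hF hn hUU z K1 K2 a b F hall
    have U := u10_of_U h hn (hr h) hUU
    have hz := F.k1.inZ
    have hs : SLSub z := U10.sl i.bend i.crit U hF (hUU z hz) F (hall (1, 0)) (Or.inl ⟨by decide, rfl⟩)
    exact hs.cl h hz (hf z (hz.orderOf h))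
  · intro W _ _ hSC
    exact W.toSW hSC

end Cfsg.Agent.Cit.Nil.RTwo
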