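import Cfsg.Agent.Cit.Nil.RTwo.ATwo

/-!
# (A), `k = 1`, all lines of type `P2`: (9.3)
-/

set_option autoImplicit false
set_option linter.style.haveILetI false
set_option linter.unusedSectionVars false
set_option maxHeartbeats 400000

namespace Cfsg.Agent.Cit.Nil.RTwo

open Subgroup Cfsg Cit

variable {G : Type*} [Group G]

/-- all lines `P2` -/
structure AW2 (Om : Set (Subgroup G)) : Prop extends AW Om where
  two : ∀ z s, TI Om z s → PTwo Om z s

/-- `x ∈ ⟨z, s⟩` -/
def InV (z s x : G) : Prop := x = 1 ∨ x = z ∨ x = s ∨ x = z * s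

section

variable [Finite G] {Om : Set (Subgroup G)} {K K1 K2 L M L1 L2 : Subgroup G} {z t u v g r s s' x y w c c' : G}
  {a b p q : Fin 3 → G}

/-- a swap `u` commutes with its conjugates under `K1` -/
theorem swap_comm (h : W2 Om) (hK : Mem Om z K1) (hu : Sw Om z u) (huz : u * z = z * u) (hu2 : u * u = 1) {k : G}
    (hk : k ∈ K1) : u * (k * u * k⁻¹) = k * u * k⁻¹ * u := by
  have huinv : u⁻¹ = u := inv_eq_of_mul_eq_one_right hu2
  have hM : Mem Om z (cj u K1) := hK.cj_comm h huz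
  have hne : K1 ≠ cj u K1 := fun e => hu K1 hK e.symm
  have hk' : u * k * u⁻¹ ∈ cj u K1 := conj_mem_cj hk
  have hc : k * (u * k * u⁻¹) = u * k * u⁻¹ * k := hK.comm hM h hne hk hk'
  obtain ⟨x, q⟩ := h.exists_q3 hK
  have huz' : u * z * u⁻¹ = z := by rw [huz, mul_inv_cancel_right]
  have hkk : u * (k * k) * u⁻¹ = k * k := by
    rcases q.cov k hk with rfl | rfl | ⟨i, rfl | rfl⟩
    · group
    · rw [q.z2]; group
    · rw [q.sq, huz']
    · have e : z * x i * (z * x i) = z := by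
        calc z * x i * (z * x i) = z * (x i * z) * x i := by group
          _ = z * (z * x i) * x i := by rw [q.zc]
          _ = (z * z) * (x i * x i) := by group
          _ = z := by rw [q.z2, q.sq, one_mul]
      rw [e, huz']
  have hkk' : (u * k * u⁻¹) * (u * k * u⁻¹) = k * k := by rw [← hkk]; group
  have e1 : u * k * u⁻¹ * k⁻¹ = k * (u * k * u⁻¹)⁻¹ := by
    have hc' : k⁻¹ * (u * k * u⁻¹) = u * k * u⁻¹ * k⁻¹ := by
      have : Commute k (u * k * u⁻¹) := hc
      exact this.inv_left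
    calc u * k * u⁻¹ * k⁻¹ = k⁻¹ * (u * k * u⁻¹) := hc'.symm
      _ = k⁻¹ * ((u * k * u⁻¹) * (u * k * u⁻¹)) * (u * k * u⁻¹)⁻¹ := by group
      _ = k⁻¹ * (k * k) * (u * k * u⁻¹)⁻¹ := by rw [hkk']
      _ = _ := by group
  calc u * (k * u * k⁻¹) = u * k * u⁻¹ * k⁻¹ := by rw [huinv]; group
    _ = k * (u * k * u⁻¹)⁻¹ := e1
    _ = k * (u⁻¹⁻¹ * k⁻¹ * u⁻¹) := by group
    _ = k * u * k⁻¹ * u := by rw [huinv, huinv]; group

theorem InV.symm (hc : z * s = s * z) (hx : InV z s x) : InV s z x := by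
  rcases hx with h1 | h1 | h1 | h1
  · exact Or.inl h1
  · exact Or.inr (Or.inr (Or.inl h1))
  · exact Or.inr (Or.inl h1)
  · exact Or.inr (Or.inr (Or.inr (by rw [h1, hc])))

theorem InV.mul_of (hz : z * z = 1) (hx : InV z (z * s) x) : InV z s x := by
  rcases hx with h1 | h1 | h1 | h1
  · exact Or.inl h1
  · exact Or.inr (Or.inl h1)
  · exact Or.inr (Or.inr (Or.inr h1))
  · exact Or.inr (Or.inr (Or.inl (by rw [h1, ← mul_assoc, hz, one_mul])))

theorem InV.mem_AS (hti : TI Om z s) (hx : InV z s x) : x ∈ AS Om z := by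
  rcases hx with h1 | h1 | h1 | h1 <;> rw [h1]
  · exact one_mem _
  · exact z_mem_AS
  · exact hti.mem_AS
  · exact mul_mem z_mem_AS hti.mem_AS

/-- `u ∈ C(z)` maps `a j` to `± b j`, `u² = 1`: `u` centralises `A_z` -/
theorem Dg.comm_of_act (D : Dg Om z K1 K2 a b) (h : W2 Om) (huz : u * z = z * u) (hu : u * u = 1)
    (hact : Act z a b u 1) (hx : x ∈ AS Om z) : u * x = x * u := by
  have huinv : u⁻¹ = u := inv_eq_of_mul_eq_one_right hu
  have huz' : u * z * u⁻¹ = z := by rw [huz, mul_inv_cancel_right]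
  have hmz : ∀ k : G, u * (z * k) * u⁻¹ = z * (u * k * u⁻¹) := by
    intro k
    calc u * (z * k) * u⁻¹ = (u * z * u⁻¹) * (u * k * u⁻¹) := by group
      _ = _ := by rw [huz']
  have hw : ∀ j, u * (a j * b j) * u⁻¹ = a j * b j := by
    intro j
    have e : u * (a j * b j) * u⁻¹ = (u * a j * u⁻¹) * (u * b j * u⁻¹) := by group
    have e2 : ∀ k : G, u * (u * k * u⁻¹) * u⁻¹ = k := by
      intro k
      calc u * (u * k * u⁻¹) * u⁻¹ = (u * u) * k * (u * u)⁻¹ := by group
        _ = k := by rw [hu]; group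
    rcases hact j with h1 | h1
    · rw [Equiv.Perm.one_apply] at h1
      have h2 : u * b j * u⁻¹ = a j := by rw [← h1, e2]
      rw [e, h1, h2, D.ab h]
    · rw [Equiv.Perm.one_apply] at h1
      have h2 : u * b j * u⁻¹ = z * a j := by
        have h3 : b j = z * (u * a j * u⁻¹) := by rw [h1, D.zz]
        rw [h3, hmz, e2]
      rw [e, h1, h2]
      calc z * b j * (z * a j) = z * (b j * z) * a j := by group
        _ = z * (z * b j) * a j := by rw [← D.fr.qb.zc]
        _ = b j * a j := by rw [D.zz]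
        _ = _ := (D.ab h j j).symm
  have h1 : AS Om z ≤ centralizer {u} := by
    rw [AS, closure_le]
    intro y hy
    rw [SetLike.mem_coe, mem_centralizer_singleton_iff]
    rcases hy with rfl | hy
    · exact huz.symm
    · obtain ⟨j, hj⟩ := (D.ti y).1 hy
      have h2 : u * y * u⁻¹ = y := by
        rcases hj with hj | hj
        · rw [hj, hw]
        · rw [hj, hmz, hw]
      rw [mul_inv_eq_iff_eq_mul] at h2
      exact h2.symm
  exact (mem_centralizer_singleton_iff.1 (h1 hx)).symm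

namespace AW2

variable (W : AW2 Om)

include W

/-- the elements of `A_s` with respect to `z` -/
theorem as_cases (hti : TI Om z s) (hx : x ∈ AS Om s) : InV z s x ∨ Sw Om z x := by
  have h := W.w
  rcases (W.mem_AS hti.2.1).1 hx with h1 | h1 | h1
  · exact Or.inl (Or.inl h1)
  · exact Or.inl (Or.inr (Or.inr (Or.inl h1)))
  · by_cases e1 : x = z
    · exact Or.inl (Or.inr (Or.inl e1))
    by_cases e2 : x = s * z
    · exact Or.inl (Or.inr (Or.inr (Or.inr (by rw [e2, hti.2.2.2.1]))))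
    · exact Or.inr ((W.sw_iff (hti.symm h) h1 e1 e2).2 (W.two _ _ (hti.symm h)))

theorem comm_of_AS (hti : TI Om z s) (hx : x ∈ AS Om s) : x * z = z * x :=
  W.AS_comm hti.2.1 hx (hti.symm W.w).mem_AS

/-- `[A_s, A_{zs}] = 1` -/
theorem comm_one (hti : TI Om z s) (hx : x ∈ AS Om s) (hy : y ∈ AS Om (z * s)) : x * y = y * x := by
  have h := W.w
  have hzs := hti.mul h
  have hzs' : TI Om (z * s) z := hzs.symm h
  have hz2 := hti.1.z2 h
  have hVzs : ∀ {x}, InV z s x → x ∈ AS Om (z * s) := by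
    intro x hx
    rcases hx with h1 | h1 | h1 | h1 <;> rw [h1]
    · exact one_mem _
    · exact hzs'.mem_AS
    · have : z * (z * s) ∈ AS Om (z * s) := mul_mem hzs'.mem_AS z_mem_AS
      rwa [← mul_assoc, hz2, one_mul] at this
    · exact z_mem_AS
  have hVs : ∀ {x}, InV z s x → x ∈ AS Om s := fun hx => (hx.symm hti.2.2.2.1).mem_AS (hti.symm h)
  rcases W.as_cases hti hx with h1 | h1
  · exact W.AS_comm hzs.2.1 (hVzs h1) hy
  rcases W.as_cases hzs hy with h2 | h2
  · exact W.AS_comm hti.2.1 hx (hVs (h2.mul_of hz2))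
  obtain ⟨K1, K2, L1, L2, a, b, p, q, C⟩ := hti.exists_cf h
  have e1 : cj (a 1) (AS Om s) = AS Om (z * s) := by rw [AS_conj h, C.a1t]
  rw [← e1] at hy
  obtain ⟨x', hx', rfl⟩ := hy
  change Sw Om z (a 1 * x' * (a 1)⁻¹) at h2
  have hxz := W.comm_of_AS hti hx
  have hx'z := W.comm_of_AS hti hx'
  have h3 : Sw Om z x' := by
    have h4 := h2.conj h (a 1)⁻¹
    have e2 : (a 1)⁻¹ * z * (a 1)⁻¹⁻¹ = z := by rw [inv_inv, mul_assoc, ← C.a1z]; group
    have e3 : (a 1)⁻¹ * (a 1 * x' * (a 1)⁻¹) * (a 1)⁻¹⁻¹ = x' := by group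
    rwa [e2, e3] at h4
  have hsq : x' * x' = 1 := W.sq_of_AS hti.2.1 hx'
  have hc := swap_comm h C.k1 h3 hx'z hsq (C.qa.mem 1)
  rcases W.as_cases hti (mul_mem hx hx') with h4 | h4
  · have e : x = (x * x') * x' := by rw [mul_assoc, hsq, mul_one]
    have h5 : (x * x') * (a 1 * x' * (a 1)⁻¹) = (a 1 * x' * (a 1)⁻¹) * (x * x') := by
      refine W.AS_comm hzs.2.1 (hVzs h4) ?_
      rw [← e1]; exact conj_mem_cj hx'
    change x * (a 1 * x' * (a 1)⁻¹) = a 1 * x' * (a 1)⁻¹ * x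
    calc x * (a 1 * x' * (a 1)⁻¹) = (x * x') * x' * (a 1 * x' * (a 1)⁻¹) := by rw [← e]
      _ = (x * x') * (x' * (a 1 * x' * (a 1)⁻¹)) := by group
      _ = (x * x') * (a 1 * x' * (a 1)⁻¹) * x' := by rw [hc]; group
      _ = (a 1 * x' * (a 1)⁻¹) * ((x * x') * x') := by rw [h5]; group
      _ = _ := by rw [← e]
  · exact (fx_sw_false hti.1 (h1.mul h h3 hxz hx'z) h4).elim

/-- `[A_z, A_s] = 1` -/
theorem comm_two (hti : TI Om z s) (hx : x ∈ AS Om z) (hy : y ∈ AS Om s) : x * y = y * x := by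
  have h := W.w
  have h1 : TI Om (z * s) z := (hti.mul h).symm h
  have e : z * s * z = s := by rw [hti.2.2.2.1, mul_assoc, hti.1.z2 h, mul_one]
  exact W.comm_one h1 hx (by rw [e]; exact hy)

/-- `(A_z - V)(A_s - V) ⊆ A_{zs}` -/
theorem prod_mem (hti : TI Om z s) (hx : x ∈ AS Om z) (hxV : ¬ InV z s x) (hy : y ∈ AS Om s) (hyV : ¬ InV z s y) :
    x * y ∈ AS Om (z * s) := by
  have h := W.w
  have hsw : Sw Om z y := (W.as_cases hti hy).resolve_left hyV
  have hyz := W.comm_of_AS hti hy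
  obtain ⟨K1, K2, a, b, D⟩ := W.dg z hti.1
  obtain ⟨i, hi⟩ := (D.ti s).1 hti
  have hxti : TI Om z x := by
    rcases (W.mem_AS hti.1).1 hx with h1 | h1 | h1
    · exact absurd (Or.inl h1) hxV
    · exact absurd (Or.inr (Or.inl h1)) hxV
    · exact h1
  obtain ⟨j, hj⟩ := (D.ti x).1 hxti
  have hij : i ≠ j := by
    rintro rfl
    apply hxV
    rcases hi with hi | hi <;> rcases hj with hj | hj
    · exact Or.inr (Or.inr (Or.inl (hj.trans hi.symm)))
    · exact Or.inr (Or.inr (Or.inr (by rw [hj, hi])))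
    · exact Or.inr (Or.inr (Or.inr (by rw [hj, hi, D.zz])))
    · exact Or.inr (Or.inr (Or.inl (hj.trans hi.symm)))
  rcases D.fr.act_cases h hyz with ⟨h1, -, -⟩ | ⟨h1, h2, σ, τ, h3, h4⟩
  · exact absurd h1 (hsw K1 D.fr.k1)
  -- `σ j = j`
  have h5 : y * (a j * b j) * y⁻¹ = a j * b j := by
    rw [mul_inv_eq_iff_eq_mul]
    exact (W.comm_two hti ((D.ti _).2 ⟨j, Or.inl rfl⟩).mem_AS hy).symm
  have h6 := D.fr.dir_conj' h hyz h3 h4 (show Dir z a b (a j * b j) j j from Or.inl rfl)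
  rw [h5] at h6
  have h7 := (D.fr.dir_unique h h6 (show Dir z a b (a j * b j) j j from Or.inl rfl)).2
  have h8 := h3 j
  rw [h7] at h8
  -- `a j s (a j)⁻¹ = z s`
  have h9 := (D.conj_ne' h hij hi).1
  have hs2 := hti.2.1.z2 h
  have hsinv := hti.2.1.inv h
  have h10 : a j * s * (a j)⁻¹ = z * s := by
    calc a j * s * (a j)⁻¹ = a j * (s * a j * s⁻¹)⁻¹ * s := by group
      _ = a j * (z * a j)⁻¹ * s := by rw [h9]
      _ = a j * (a j)⁻¹ * z⁻¹ * s := by group
      _ = z * s := by rw [mul_inv_cancel, one_mul, D.fr.qa.zinv]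
  have h11 : cj (a j) (AS Om s) = AS Om (z * s) := by rw [AS_conj h, h10]
  have h12 : a j * y * (a j)⁻¹ ∈ AS Om (z * s) := by rw [← h11]; exact conj_mem_cj hy
  -- `a j y (a j)⁻¹ = ± (a j b j) y`
  have hzAS : z ∈ AS Om (z * s) := ((hti.mul h).symm h).mem_AS
  have h13 : a j * y * (a j)⁻¹ = a j * (y * a j * y⁻¹)⁻¹ * y := by group
  have h14 : a j * b j * y ∈ AS Om (z * s) := by
    rcases h8 with h8 | h8
    · have e : a j * b j * y = z * (a j * y * (a j)⁻¹) := by
        rw [h13, h8, D.fr.qb.inv]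
        calc a j * b j * y = z * (z * a j) * b j * y := by rw [D.zz]
          _ = z * (a j * z) * b j * y := by rw [D.fr.qa.zc]
          _ = _ := by group
      rw [e]
      exact mul_mem hzAS h12
    · have e : a j * b j * y = a j * y * (a j)⁻¹ := by
        rw [h13, h8, mul_inv_rev, D.fr.qb.inv, D.fr.qa.zinv]
        calc a j * b j * y = a j * (z * (z * b j)) * y := by rw [D.zz]
          _ = a j * (z * (b j * z)) * y := by rw [D.fr.qb.zc]
          _ = _ := by group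
      rw [e]
      exact h12
  rcases hj with hj | hj
  · rw [hj]; exact h14
  · rw [hj, mul_assoc]; exact mul_mem hzAS h14

/-- a point of `z` off the line of `s` -/
theorem exists_off (hti : TI Om z s) : ∃ x ∈ AS Om z, ¬ InV z s x := by
  have h := W.w
  obtain ⟨K1, K2, a, b, D⟩ := W.dg z hti.1
  obtain ⟨i, hi⟩ := (D.ti s).1 hti
  refine ⟨a (i + 1) * b (i + 1), ((D.ti _).2 ⟨i + 1, Or.inl rfl⟩).mem_AS, ?_⟩
  have hd : ∀ {k : Fin 3}, Dir z a b (a k * b k) k k := Or.inl rfl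
  have hti' : TI Om z (a (i + 1) * b (i + 1)) := (D.ti _).2 ⟨i + 1, Or.inl rfl⟩
  rintro (h1 | h1 | h1 | h1)
  · exact hti'.2.1.z1 h h1
  · exact hti'.2.2.1 h1.symm
  · have h2 : Dir z a b (a (i + 1) * b (i + 1)) i i := by rw [h1]; exact hi
    exact i_ne1 i (D.fr.dir_unique h h2 hd).1
  · have h2 : Dir z a b (a (i + 1) * b (i + 1)) i i := by
      rw [h1]
      rcases hi with hi | hi
      · exact Or.inr (by rw [hi])
      · exact Or.inl (by rw [hi, D.zz])
    exact i_ne1 i (D.fr.dir_unique h h2 hd).1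

/-- `A_{zs} ≤ A_z A_s` -/
theorem AS_mul_le (hti : TI Om z s) : AS Om (z * s) ≤ AS Om z ⊔ AS Om s := by
  have h := W.w
  have hzs := hti.mul h
  have hz2 := hti.1.z2 h
  intro y hy
  rcases W.as_cases hzs hy with h1 | h1
  · exact mem_sup_left ((h1.mul_of hz2).mem_AS hti)
  by_cases hyV : InV z (z * s) y
  · exact mem_sup_left ((hyV.mul_of hz2).mem_AS hti)
  obtain ⟨x, hx, hxV⟩ := W.exists_off hti
  have hxV' : ¬ InV z (z * s) x := fun h2 => hxV (h2.mul_of hz2)
  have h2 := W.prod_mem hzs hx hxV' hy hyV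
  rw [← mul_assoc, hz2, one_mul] at h2
  have e : y = x * (x * y) := by rw [← mul_assoc, W.sq_of_AS hti.1 hx, one_mul]
  rw [e]
  exact mul_mem (mem_sup_left hx) (mem_sup_right h2)

end AW2

end

end Cfsg.Agent.Cit.Nil.RTwo
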