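import Cfsg.Agent.Cit.Nil.RTwo.AOne

/-!
# (A), `k = 1`, all lines of type `P2` (section 9, (9.3))
-/

set_option autoImplicit false
set_option linter.style.haveILetI false
set_option linter.unusedSectionVars false
set_option maxHeartbeats 400000

namespace Cfsg.Agent.Cit.Nil.RTwo

open Subgroup Cfsg Cit

variable {G : Type*} [Group G]

/-- `N_z` of (3.3): the elements centralising `R_z` and all `R_s`, `s` of type I with respect to `z` -/
def NI (Om : Set (Subgroup G)) (z : G) : Subgroup G := CX Om z ⊓ ⨅ s, ⨅ (_ : TI Om z s), CX Om s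

theorem mem_NI {Om : Set (Subgroup G)} {z x : G} : x ∈ NI Om z ↔ x ∈ CX Om z ∧ ∀ s, TI Om z s → x ∈ CX Om s := by
  rw [NI, mem_inf, mem_iInf]
  simp only [mem_iInf]

section

variable [Finite G] {Om : Set (Subgroup G)} {K K1 K2 L M L1 L2 : Subgroup G} {z t u v g r s s' x y w c c' : G}
  {a b p q : Fin 3 → G}

theorem NI_conj (h : W2 Om) (g z : G) : NI Om (g * z * g⁻¹) = cj g (NI Om z) := by
  have key : ∀ (g z : G), cj g (NI Om z) ≤ NI Om (g * z * g⁻¹) := by
    rintro g z _ ⟨x, hx, rfl⟩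
    have hx' := mem_NI.1 hx
    rw [mem_NI]
    refine ⟨(CX_conj h g).2 hx'.1, ?_⟩
    intro s hs
    have h1 := hs.conj h g⁻¹
    have e1 : g⁻¹ * (g * z * g⁻¹) * g⁻¹⁻¹ = z := by group
    rw [e1] at h1
    have h2 := (CX_conj h g).2 (hx'.2 _ h1)
    have e2 : g * (g⁻¹ * s * g⁻¹⁻¹) * g⁻¹ = s := by group
    rwa [e2] at h2
  refine le_antisymm ?_ (key g z)
  have h1 := cj_mono g (key g⁻¹ (g * z * g⁻¹))
  rw [cj_cj_inv] at h1
  have h2 : g⁻¹ * (g * z * g⁻¹) * g⁻¹⁻¹ = z := by group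
  rwa [h2] at h1

/-- (3.3): `N_z` is constant on type I edges -/
theorem NI_const (h : W2 Om) (hti : TI Om z s) : NI Om z = NI Om s := by
  obtain ⟨K1, K2, L1, L2, a, b, p, q, C⟩ := hti.exists_cf h
  have h1 : a 1 * s * (a 1)⁻¹ = z * s := C.a1t
  have h2 : a 1 * z * (a 1)⁻¹ = z := by rw [C.a1z, mul_inv_cancel_right]
  have h3 : p 1 * z * (p 1)⁻¹ = s * z := C.symm.a1t
  have h4 : p 1 * s * (p 1)⁻¹ = s := by rw [C.symm.a1z, mul_inv_cancel_right]
  have h5 : a 1 * p 1 * a 1 * z * (a 1 * p 1 * a 1)⁻¹ = s := by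
    calc a 1 * p 1 * a 1 * z * (a 1 * p 1 * a 1)⁻¹ = a 1 * (p 1 * (a 1 * z * (a 1)⁻¹) * (p 1)⁻¹) * (a 1)⁻¹ := by group
      _ = a 1 * (s * z) * (a 1)⁻¹ := by rw [h2, h3]
      _ = (a 1 * s * (a 1)⁻¹) * (a 1 * z * (a 1)⁻¹) := by group
      _ = z * s * z := by rw [h1, h2]
      _ = s := by rw [C.comm, mul_assoc, C.z2, mul_one]
  have h6 := NI_conj h (a 1 * p 1 * a 1) z
  rw [h5] at h6
  rw [h6]
  ext x
  have hcomm : ∀ y ∈ NI Om z, (a 1 * p 1 * a 1) * y * (a 1 * p 1 * a 1)⁻¹ = y := by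
    intro y hy
    have h7 := mem_NI.1 hy
    have c1 : y * a 1 = a 1 * y := mem_CX.1 h7.1 K1 C.k1 (a 1) (C.qa.mem 1)
    have c2 : y * p 1 = p 1 * y := mem_CX.1 (h7.2 s hti) L1 C.l1 (p 1) (C.qc.mem 1)
    rw [mul_inv_eq_iff_eq_mul]
    calc a 1 * p 1 * a 1 * y = a 1 * p 1 * (y * a 1) := by rw [c1]; group
      _ = a 1 * (p 1 * y) * a 1 := by group
      _ = a 1 * (y * p 1) * a 1 := by rw [c2]
      _ = (a 1 * y) * p 1 * a 1 := by group
      _ = (y * a 1) * p 1 * a 1 := by rw [c1]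
      _ = _ := by group
  constructor
  · intro hx
    exact ⟨x, hx, hcomm x hx⟩
  · rintro ⟨y, hy, rfl⟩
    have := hcomm y hy
    change (a 1 * p 1 * a 1) * y * (a 1 * p 1 * a 1)⁻¹ ∈ NI Om z
    rw [this]; exact hy

theorem NI_const_di (h : W2 Om) (hd : DI Om z t) : NI Om z = NI Om t := by
  induction hd with
  | refl => rfl
  | tail _ h2 ih => exact ih.trans (NI_const h h2)

theorem NI_le (h : W2 Om) (hz : InZ Om z) : NI Om z ≤ centralizer {z} := by
  intro x hx
  rw [mem_centralizer_singleton_iff]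
  exact CX_le hz h (mem_NI.1 hx).1

/-- an element of odd order of `X_z` which commutes with `s` (type I) centralises `R_s` -/
theorem CX_of_odd (h : W2 Om) (hti : TI Om z s) (hy : y ∈ CX Om z) (hys : y * s = s * y) {m : ℕ} (hm : Odd m)
    (hym : y ^ m = 1) : y ∈ CX Om s := by
  obtain ⟨K1, K2, L1, L2, a, b, p, q, C⟩ := hti.exists_cf h
  have hyz : y * z = z * y := CX_le hti.1 h hy
  have hpow : ∀ n : ℕ, y ^ n * s = s * y ^ n := fun n => (Commute.pow_left (show Commute y s from hys) n)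
  -- `y` fixes the members
  have hfx : Fx Om s y := by
    rcases fx_or_sw h hti.2.1 hys with h1 | h1
    · exact h1
    · exfalso
      have h2 : ∀ n : ℕ, Fx Om s (y ^ (2 * n)) := by
        intro n
        induction n with
        | zero => intro M _; rw [mul_zero, pow_zero]; exact cj_one _
        | succ n ih =>
          have e : y ^ (2 * (n + 1)) = y ^ (2 * n) * (y * y) := by rw [Nat.mul_succ, pow_add, pow_two]
          rw [e]
          exact ih.mul (h1.mul h h1 hys hys)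
      obtain ⟨n, hn⟩ := hm
      have h3 : Sw Om s (y ^ m) := by
        rw [hn, pow_add, pow_one]
        exact (h2 n).mul_sw h1
      rw [hym] at h3
      exact fx_sw_false hti.2.1 (fun M _ => cj_one _) h3
  -- on a member
  have key : ∀ {L : Subgroup G} {p : Fin 3 → G}, Mem Om s L → Q3 L s p → (∀ k ∈ L, z * k * z⁻¹ = p 0 * k * (p 0)⁻¹) →
      ∀ l ∈ L, y * l = l * y := by
    intro L p hL Q hz
    obtain ⟨σ, hσ⟩ := Q.exists_act Q (hfx L hL) hys
    -- `σ 0 = 0`
    have h0 : σ 0 = 0 := by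
      -- `y p_0 y⁻¹` acts as `z`, so as `p_0`
      have h1 : y * p 0 * y⁻¹ ∈ L := by
        have := conj_mem_cj (g := y) (Q.mem 0)
        rwa [hfx L hL] at this
      have h2 : ∀ k ∈ L, (y * p 0 * y⁻¹) * k * (y * p 0 * y⁻¹)⁻¹ = p 0 * k * (p 0)⁻¹ := by
        intro k hk
        have hk' : y⁻¹ * k * y ∈ L := by
          have h3 : cj y⁻¹ L = L := by
            rw [← hfx L hL, cj_inv_cj, hfx L hL]
          have := conj_mem_cj (g := y⁻¹) hk
          rw [h3, inv_inv] at this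
          exact this
        calc (y * p 0 * y⁻¹) * k * (y * p 0 * y⁻¹)⁻¹ = y * (p 0 * (y⁻¹ * k * y) * (p 0)⁻¹) * y⁻¹ := by group
          _ = y * (z * (y⁻¹ * k * y) * z⁻¹) * y⁻¹ := by rw [hz _ hk']
          _ = (y * z) * y⁻¹ * k * y * (y * z)⁻¹ := by group
          _ = (z * y) * y⁻¹ * k * y * (z * y)⁻¹ := by rw [hyz]
          _ = z * k * z⁻¹ := by group
          _ = _ := hz k hk
      rcases Q.eq_or_of_act h1 (Q.mem 0) (h2 _ (Q.mem 0)) (h2 _ (Q.mem 1)) with h3 | h3 <;> rcases hσ 0 with h4 | h4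
      · exact (Q.inj (Or.inl (h3.symm.trans h4))).symm
      · exact (Q.inj (Or.inr (h3.symm.trans h4))).symm
      · exact Q.inj (Or.inr (h4.symm.trans h3))
      · exact (Q.inj (Or.inl (mul_left_cancel (h3.symm.trans h4)))).symm
    -- `σ = 1`
    have hpowact : ∀ n : ℕ, Act s p p (y ^ n) (σ ^ n) := by
      intro n
      induction n with
      | zero => rw [pow_zero, pow_zero]; exact Act.one p s
      | succ n ih => rw [pow_succ, pow_succ]; exact hσ.comp Q.z2 ih (hpow n)
    have h1 : σ ^ m = 1 := by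
      have := hpowact m
      rw [hym] at this
      exact (Act.unique Q this (Act.one p s))
    have h2 : σ = 1 := by
      by_contra h2
      have h3 := rf_of h0 h2
      have h4 : σ * σ = 1 := by rw [h3]; decide
      obtain ⟨n, hn⟩ := hm
      apply h2
      rw [hn, pow_add, pow_mul, pow_two, h4, one_pow, one_mul, pow_one] at h1
      exact h1
    rw [h2] at hσ
    have h3 := hσ.inner Q hys
    -- `y ^ 2` centralises `L`
    intro l hl
    have h4 : ∀ n : ℕ, y ^ (2 * n) * l * (y ^ (2 * n))⁻¹ = l := by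
      intro n
      have h5 : y * y * l * (y * y)⁻¹ = l := by
        have e : y * y * l * (y * y)⁻¹ = y * (y * l * y⁻¹) * y⁻¹ := by group
        rw [e]
        rcases h3 l hl with h6 | h6
        · rw [h6, h6]
        · rw [h6]
          calc y * (s * l) * y⁻¹ = (y * s) * l * y⁻¹ := by group
            _ = s * (y * l * y⁻¹) := by rw [hys]; group
            _ = l := by rw [h6, Q.zzx]
      induction n with
      | zero => group
      | succ n ih =>
        have e : y ^ (2 * (n + 1)) = y ^ (2 * n) * (y * y) := by rw [Nat.mul_succ, pow_add, pow_two]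
        rw [e]
        calc y ^ (2 * n) * (y * y) * l * (y ^ (2 * n) * (y * y))⁻¹ =
            y ^ (2 * n) * (y * y * l * (y * y)⁻¹) * (y ^ (2 * n))⁻¹ := by group
          _ = l := by rw [h5, ih]
    obtain ⟨n, hn⟩ := hm
    have h5 : y ^ (2 * n) * y = 1 := by rw [← pow_succ, ← hn, hym]
    have h6 : (y ^ (2 * n)) = y⁻¹ := eq_inv_of_mul_eq_one_left h5
    have h7 := h4 n
    rw [h6, inv_inv] at h7
    calc y * l = y * (y⁻¹ * l * y) := by rw [h7]
      _ = _ := by group
  rw [mem_CX]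
  intro L hL
  rcases C.l1.cases C.l2 h C.lne hL with rfl | rfl
  · exact key C.l1 C.qc C.zc
  · exact key C.l2 C.qd C.zd

end

end Cfsg.Agent.Cit.Nil.RTwo
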