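import Cfsg.Agent.Cit.Nil.RTwo.SAbel
import Cfsg.Agent.Cit.Nil.RTwo.TenO

/-!
# Case (S) of S1309, `r = 2`, `m = 1`: the members of `Z_c` commute, with (O') plugged

* `PPAll.abel'` : `c ∈ CC z`, `c ∈ CC t` implies `z t = t z`, from Bender's theorem and S1175.
-/

set_option autoImplicit false

namespace Cfsg.Agent.Cit.Nil.RTwo

open Subgroup Cfsg Cit

universe u

variable {G : Type u} [Group G] [Finite G] {Om : Set (Subgroup G)} {z t c : G}

/-- (O') in the form used by `PPAll.abel` -/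
theorem SW.comp_le (hB : ∀ (X : Type u) [Group X] [Finite X] [IsSimpleGroup X], CloEnd.Bend X)
    (hC : ∀ (X : Type u) [Group X] [Finite X] [IsSimpleGroup X], CloEnd.Crit1175 X) (S : SW Om) (hc : c ∈ CC Om z)
    (L : Subgroup (centralizer ({c} : Set G))) (hL : IsComponent L) :
    L ≤ (MC S.w c z).subgroupOf (centralizer ({c} : Set G)) := fun x hx =>
  S.u10.comp_le' hB hC hc (S.core_label hc) L hL ⟨x, hx, rfl⟩

/-- **the members of `Z_c` commute** -/
theorem PPAll.abel' (hB : ∀ (X : Type u) [Group X] [Finite X] [IsSimpleGroup X], CloEnd.Bend X)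
    (hC : ∀ (X : Type u) [Group X] [Finite X] [IsSimpleGroup X], CloEnd.Crit1175 X) (P : PPAll Om) (S : SW Om)
    (hc : c ∈ CC Om z) (ht : c ∈ CC Om t) : z * t = t * z :=
  P.abel S (fun _ _ hc L hL => S.comp_le hB hC hc L hL) hc ht

end Cfsg.Agent.Cit.Nil.RTwo
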