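import Cfsg.Agent.Cit.Nil.RTwo.SProd
import Cfsg.Agent.Cit.Nil.RTwo.SPPTwo
import Cfsg.Agent.Cit.Nil.RTwo.SAbelEnd
import Cfsg.Agent.Cit.Nil.RTwo.SMain

/-!
# The world (S): the conclusion `F*(G) ≃ PSp 3 2`
-/

set_option autoImplicit false

namespace Cfsg.Agent.Cit.Nil.RTwo

open Subgroup Cfsg Cfsg.Agent.Cit

universe u

variable {G : Type u} [Group G] [Finite G] {Om : Set (Subgroup G)}

/-- **the world (S)** -/
theorem SB.main (W : SB Om) (hSC : SCe Om) (hB : ∀ (X : Type u) [Group X] [Finite X] [IsSimpleGroup X], CloEnd.Bend X)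
    (hC : ∀ (X : Type u) [Group X] [Finite X] [IsSimpleGroup X], CloEnd.Crit1175 X) (hF : CFA G) (hne : Om.Nonempty)
    (hs : IsSimpleGroup ↥(generalizedFittingSubgroup G)) (hna : ¬ IsMulCommutative ↥(generalizedFittingSubgroup G)) :
    ∃ (F : Type) (_ : Field F) (_ : Fintype F), Fintype.card F = 2 ∧
      Nonempty (↥(generalizedFittingSubgroup G) ≃* Cfsg.PSp 3 F) := by
  have S := W.toSW hSC
  have P := S.ppAll S.dich
  exact S.main P (fun z t c hc ht => P.abel' hB hC S hc ht) hF hne hs hna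

end Cfsg.Agent.Cit.Nil.RTwo
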