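import Cfsg.Agent.StrongEmb.Strong

/-!
# Automorphisms of order `3^n` of a Bender group centralising a Sylow 2-subgroup

* `fix_of_isSplit`, `fix_of_sylow` : such an automorphism is trivial (the Sylow 2-subgroup is regular on the other
  cosets of its normaliser).
-/

set_option autoImplicit false
set_option linter.unusedSectionVars false
set_option linter.style.haveILetI false

namespace Cfsg.Agent.Cit.Nil.RTwo

open Subgroup Cfsg
open Cfsg.Agent.StrongEmb.Split Cfsg.Agent.StrongEmb.Frame Cfsg.Agent.TwoFusion.StronglyEmbeddedBasic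

section

variable {M : Type*} [Group M] [Finite M] {H Q : Subgroup M}

/-- an automorphism of order `3^n` which centralises the regular normal 2-subgroup is trivial -/
theorem fix_of_isSplit (hH : IsStronglyEmbedded H) (hQ : IsSplit H Q) (hQ2 : IsPGroup 2 Q)
    (hcore : H.normalCore = ⊥) (β : MulAut M) {n : ℕ} (hβ : β ^ 3 ^ n = 1) (hfix : ∀ q ∈ Q, β q = q) : β = 1 := by
  obtain ⟨z, hz, hz2⟩ := exists_involution hH
  have hzQ : z ∈ Q := mem_of_two_element hH hQ hz ⟨1, by rw [hz2, pow_one]⟩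
  have hz1 : z ≠ 1 := by
    rintro rfl
    rw [orderOf_one] at hz2
    omega
  have hconj : ∀ g, g ∈ H ↔ g * z * g⁻¹ ∈ Q := by
    intro g
    constructor
    · exact fun hg => hQ.conj_mem hg hzQ
    · intro hg
      by_contra hgH
      have h1 : g⁻¹ ∉ H := fun h => hgH (by simpa using H.inv_mem h)
      apply hz1
      refine hQ.reg g⁻¹ h1 z hzQ ?_
      rw [inv_inv, ← mul_assoc]
      exact hQ.le hg
  have hfix' : ∀ y, β y ∈ Q ↔ y ∈ Q := by
    intro y
    constructor
    · intro hy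
      have h1 := hfix _ hy
      have h2 : β y = y := β.injective h1
      rwa [h2] at hy
    · intro hy
      rw [hfix y hy]; exact hy
  have hβH : ∀ g, β g ∈ H ↔ g ∈ H := by
    intro g
    rw [hconj, hconj g, ← hfix' (g * z * g⁻¹), map_mul, map_mul, map_inv, hfix z hzQ]
  -- the cosets are fixed
  have key : ∀ g, g⁻¹ * β g ∈ H := by
    intro g
    by_cases hg : g ∈ H
    · exact H.mul_mem (H.inv_mem hg) ((hβH g).2 hg)
    · have hg' : β g ∉ H := fun h => hg ((hβH g).1 h)
      obtain ⟨v, hv, hvg⟩ := hQ.trans g (β g) hg hg'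
      -- `β^k g ∈ v^k g H`
      have hpow : ∀ k : ℕ, ((β ^ k) g)⁻¹ * (v ^ k * g) ∈ H := by
        intro k
        induction k with
        | zero => simp
        | succ k ih =>
          have h1 : (β ^ (k + 1)) g = β ((β ^ k) g) := by rw [pow_succ']; rfl
          have h2 : β (((β ^ k) g)⁻¹ * (v ^ k * g)) ∈ H := (hβH _).2 ih
          rw [map_mul, map_inv, map_mul, map_pow, hfix v hv] at h2
          rw [h1]
          have h3 : (β ((β ^ k) g))⁻¹ * (v ^ (k + 1) * g) =
              ((β ((β ^ k) g))⁻¹ * (v ^ k * β g)) * ((β g)⁻¹ * (v * g)) := by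
            rw [pow_succ]; group
          rw [h3]
          exact H.mul_mem h2 hvg
      have h1 := hpow (3 ^ n)
      rw [hβ] at h1
      have h2 : v ^ 3 ^ n = 1 := hQ.reg g hg _ (Q.pow_mem hv _) (by simpa using h1)
      have h3 : v = 1 := by
        obtain ⟨m, hm⟩ := IsPGroup.iff_orderOf.mp hQ2 ⟨v, hv⟩
        rw [Subgroup.orderOf_mk] at hm
        have h4 : orderOf v ∣ 3 ^ n := orderOf_dvd_of_pow_eq_one h2
        have h5 : Nat.Coprime (2 ^ m) (3 ^ n) := Nat.Coprime.pow _ _ (by norm_num)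
        rw [← orderOf_eq_one_iff]
        exact Nat.Coprime.eq_one_of_dvd (by rw [hm]; exact h5) h4
      rw [h3, one_mul] at hvg
      have h6 := H.inv_mem hvg
      have h7 : ((β g)⁻¹ * g)⁻¹ = g⁻¹ * β g := by group
      rwa [h7] at h6
  ext g
  have h1 : g⁻¹ * β g ∈ H.normalCore := by
    intro x
    have h2 := key (g * x⁻¹)
    have h3 := key x⁻¹
    rw [map_mul] at h2
    have h4 : x * (g⁻¹ * β g) * x⁻¹ = ((g * x⁻¹)⁻¹ * (β g * β x⁻¹)) * (x⁻¹⁻¹ * β x⁻¹)⁻¹ := by group
    rw [h4]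
    exact H.mul_mem h2 (H.inv_mem h3)
  rw [hcore, Subgroup.mem_bot, inv_mul_eq_one] at h1
  exact h1.symm

theorem sylow_of_isSplit (hH : IsStronglyEmbedded H) (hQ : IsSplit H Q) (hQ2 : IsPGroup 2 Q) :
    ∃ P : Sylow 2 M, (P : Subgroup M) = Q := by
  obtain ⟨t, ht, ht2⟩ := exists_involution_notMem hH
  have hS := setup_of_isSplit hH hQ ht ht2
  have hidx : Odd Q.index := Cfsg.Agent.SuzukiRankOne.Reduction.odd_index_of_le hS le_rfl
  haveI : Fact (Nat.Prime 2) := ⟨Nat.prime_two⟩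
  refine ⟨hQ2.toSylow ?_, rfl⟩
  rwa [← even_iff_two_dvd, Nat.not_even_iff_odd]

/-- **an automorphism of order `3^n` of a simple group with a strongly embedded subgroup which centralises a Sylow
2-subgroup is trivial** -/
theorem fix_of_sylow [IsSimpleGroup M] (hna : ∃ a b : M, a * b ≠ b * a) (hH : IsStronglyEmbedded H)
    (T : Sylow 2 M) (α : MulAut M) {n : ℕ} (hα : α ^ 3 ^ n = 1) (hfix : ∀ t ∈ T, α t = t) : α = 1 := by
  haveI : Fact (Nat.Prime 2) := ⟨Nat.prime_two⟩
  obtain ⟨Q, hQ, hQ2⟩ := Cfsg.Agent.StrongEmb.Strong.exists_isSplit hna H hH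
  obtain ⟨P, hP⟩ := sylow_of_isSplit hH hQ hQ2
  obtain ⟨g, hg⟩ := MulAction.exists_smul_eq M T P
  have hβ : (MulAut.conj g * α * (MulAut.conj g)⁻¹) ^ 3 ^ n = 1 := by
    rw [conj_pow, hα, mul_one, mul_inv_cancel]
  have h1 : MulAut.conj g * α * (MulAut.conj g)⁻¹ = 1 := by
    refine fix_of_isSplit hH hQ hQ2 (normalCore_eq_bot_of_simple hH.1) _ hβ ?_
    intro q hq
    rw [← hP, ← hg] at hq
    have h2 : g⁻¹ * q * g ∈ T := by
      have h3 : q ∈ (g • T : Sylow 2 M) := hq
      rw [← SetLike.mem_coe, Sylow.coe_smul, Set.mem_smul_set_iff_inv_smul_mem] at h3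
      have h4 : g⁻¹ * q * g = (MulAut.conj g)⁻¹ • q := by
        rw [← map_inv]
        show _ = g⁻¹ * q * g⁻¹⁻¹
        rw [inv_inv]
      rw [h4]; exact h3
    have h3 := hfix _ h2
    have h4 : (MulAut.conj g)⁻¹ q = g⁻¹ * q * g := by
      rw [← map_inv, MulAut.conj_apply, inv_inv]
    rw [MulAut.mul_apply, MulAut.mul_apply, h4, h3, MulAut.conj_apply]
    group
  rw [mul_inv_eq_one, mul_eq_left] at h1
  exact h1

end

end Cfsg.Agent.Cit.Nil.RTwo
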