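import Cfsg.Agent.Cit.Nil.RTwo.Three
import Cfsg.Agent.Cit.Nil.Comp.AO.Conn

/-!
# S1309 (n6), `r = 2`, (M2), (b4): the commuting graph on `Z` is connected (worlds `W2` without `Three`)

* `Geo.rch` : case (S): two lines meet a common line (`Geo.one_or_all`, `Geo.line`, `Geo.abel`);
* `EqEps.mul_inZ` : case `EqEps`: there are no pairs of type p, so the product of a commuting pair is in `Z`;
* `exists_strong` : if the graph is not connected and products of commuting pairs are in `Z`, then `X` has a strongly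
  embedded subgroup (S1175); `false_of_bend` : against `AbC X`;
* `W2.connected` : **(b4)**.
-/

set_option autoImplicit false
set_option linter.style.haveILetI false
set_option linter.unusedSectionVars false

namespace Cfsg.Agent.Cit.Nil.RTwo

open Subgroup Cfsg Cfsg.Agent.Cit
open Cfsg.Agent.Cit.Nil.Comp.AO (Adj Rch stab mem_stab cent_le_stab exists_conj_mem_sylow comm_of_concl)

namespace CGr

/-! ### case (S) -/

section geo

variable {G : Type*} [Group G] [Finite G] {Z : Set G} {CC : G → Set G}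

theorem rch_of_geo (h : Geo Z CC) {z t : G} (hz : z ∈ Z) (ht : t ∈ Z) : Rch Z z t := by
  obtain ⟨x, b0, c0, -, -, -, h4, -⟩ := h.three z hz
  have hx : x ∈ CC z := by rw [h4]; exact Or.inl rfl
  have hxP : x ∈ Pts Z CC := ⟨z, hz, hx⟩
  obtain ⟨b, hb, hxb⟩ := h.one_or_all hxP ht
  by_cases hne : x = b
  · subst hne
    exact Rch.of_adj ⟨hz, ht, (h.abel z hz t ht x hx hb).eq⟩
  · obtain ⟨y, hy, h1, h2⟩ := h.line hxP ⟨t, ht, hb⟩ hne hxb
    exact (Rch.of_adj ⟨hz, hy, (h.abel z hz y hy x hx h1).eq⟩).trans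
      (Rch.of_adj ⟨hy, ht, (h.abel y hy t ht b h2 hb).eq⟩)

end geo

/-! ### products in `Z` -/

section mul

variable {G : Type*} [Group G] [Finite G] {Om : Set (Subgroup G)} {z t : G} {X : Subgroup G}

/-- no pairs of type p if the two actions have the same sign -/
theorem mul_inZ_of_eqEps (h : W2 Om) (he : EqEps Om) (hz : InZ Om z) (ht : InZ Om t) (hne : z ≠ t)
    (hc : z * t = t * z) : InZ Om (z * t) := by
  rcases tcases h hz ht hne hc with h1 | h1 | h1
  · exfalso
    have h2 : Sw Om t t := (he z t t hz ht hc hc.symm rfl (ht.isPGroup h)).1 h1.sw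
    obtain ⟨K, hK⟩ := ht
    apply h2 K hK
    apply mem_normalizer_iff_cj.1
    apply le_normalizer
    have h3 := h.hyp.zz_mem hK.1
    rwa [hK.2] at h3
  · exact h1.mul_inZ h
  · exact h1.mul_inZ h

/-- every point is central in a Sylow subgroup -/
theorem exists_syl (h : W2 Om) (hne : Om.Nonempty)
    (hcls : ∀ z t, InZ Om z → InZ Om t → ∃ g, g * z * g⁻¹ = t) (hz : InZ Om z) :
    ∃ S : Sylow 2 G, z ∈ S ∧ (S : Subgroup G) ≤ centralizer {z} := by
  haveI : Fact (Nat.Prime 2) := ⟨Nat.prime_two⟩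
  obtain ⟨S0⟩ : Nonempty (Sylow 2 G) := inferInstance
  obtain ⟨y, hy, h1⟩ := h.exists_central hne S0
  obtain ⟨g, rfl⟩ := hcls y z hy hz
  have hle : ((g • S0 : Sylow 2 G) : Subgroup G) ≤ centralizer {g * y * g⁻¹} := by
    intro s hs
    have hs' : s ∈ (g • S0 : Sylow 2 G) := hs
    rw [← SetLike.mem_coe, Sylow.coe_smul] at hs'
    obtain ⟨s0, hs0, rfl⟩ := hs'
    rw [mem_centralizer_singleton_iff]
    show g * s0 * g⁻¹ * (g * y * g⁻¹) = g * y * g⁻¹ * (g * s0 * g⁻¹)
    have h2 := h1 s0 hs0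
    calc g * s0 * g⁻¹ * (g * y * g⁻¹) = g * (s0 * y) * g⁻¹ := by group
      _ = g * (y * s0) * g⁻¹ := by rw [h2]
      _ = g * y * g⁻¹ * (g * s0 * g⁻¹) := by group
  refine ⟨g • S0, ?_, hle⟩
  -- a central 2-element lies in the Sylow subgroup
  have h3 : IsPGroup 2 ((g • S0 : Sylow 2 G) ⊔ zpowers (g * y * g⁻¹) : Subgroup G) := by
    refine IsPGroup.to_sup_of_normal_left' (g • S0).isPGroup' (hz.isPGroup h) ?_
    rw [zpowers_le, mem_normalizer_iff]
    intro x
    constructor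
    · intro hx
      have h4 := mem_centralizer_singleton_iff.1 (hle hx)
      rw [← h4, mul_inv_cancel_right]
      exact hx
    · intro hx
      have h4 := mem_centralizer_singleton_iff.1 (hle hx)
      have h5 : g * y * g⁻¹ * x * (g * y * g⁻¹)⁻¹ = x := by
        have h6 := mul_left_cancel (a := g * y * g⁻¹) (b := g * y * g⁻¹ * x * (g * y * g⁻¹)⁻¹)
          (c := x) (by rw [← h4]; group)
        exact h6
      rwa [h5] at hx
  have h4 := (g • S0 : Sylow 2 G).is_maximal' h3 le_sup_left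
  have h5 : g * y * g⁻¹ ∈ ((g • S0 : Sylow 2 G) ⊔ zpowers (g * y * g⁻¹) : Subgroup G) :=
    mem_sup_right (mem_zpowers _)
  rw [h4] at h5
  exact h5

end mul

/-! ### the strongly embedded subgroup -/

section strong

variable {G : Type*} [Group G] [Finite G] {Z : Set G} {X : Subgroup G} {a u : G}

/-- if the commuting graph is not connected then `X` has a strongly embedded subgroup -/
theorem exists_strong (hZ : ∀ z ∈ Z, ∀ g, g * z * g⁻¹ ∈ Z) (hsq : ∀ z ∈ Z, z * z = 1) (h1 : ∀ z ∈ Z, z ≠ 1)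
    (hsyl : ∀ z ∈ Z, ∃ S : Sylow 2 G, z ∈ S ∧ (S : Subgroup G) ≤ centralizer {z})
    (hmul : ∀ z ∈ Z, ∀ t ∈ Z, z ≠ t → z * t = t * z → z * t ∈ Z)
    (hX : X.Normal) (hle : ∀ z ∈ Z, z ∈ X) (h75 : CloEnd.Crit1175 ↥X) (ha : a ∈ Z) (hu : u ∈ Z) (hn : ¬ Rch Z a u) :
    ∃ H : Subgroup ↥X, IsStronglyEmbedded H := by
  haveI : Fact (Nat.Prime 2) := ⟨Nat.prime_two⟩
  have haX := hle a ha
  set M := stab hZ a with hM
  have hxM : ∀ {v}, v ∈ Z → v ∈ M → Rch Z a v := by
    intro x hx hxm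
    obtain ⟨R, haR, hRc⟩ := hsyl a ha
    have hRM : (R : Subgroup G) ≤ stab hZ a := hRc.trans (cent_le_stab hZ Rch.refl)
    obtain ⟨m, hm, hmx⟩ := exists_conj_mem_sylow R hRM hxm (CloEnd.isPGroup_zpowers (hsq x hx))
    have h1 := mem_centralizer_singleton_iff.1 (hRc hmx)
    have h2 : Rch Z a (m * x * m⁻¹) := Rch.of_adj ⟨ha, hZ x hx m, h1.symm⟩
    have h3 := Rch.conj hZ h2 m⁻¹
    have h4 : m⁻¹ * (m * x * m⁻¹) * m⁻¹⁻¹ = x := by group
    rw [h4] at h3
    exact ((mem_stab hZ).1 (inv_mem hm)).trans h3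
  refine h75 (M.subgroupOf X) ?_ ⟨a, haX⟩ ?_ ?_ ?_ ?_ ?_
  · intro h2
    rw [subgroupOf_eq_top] at h2
    exact hn (hxM hu (h2 (hle u hu)))
  · rw [orderOf_mk]
    exact orderOf_eq_prime (by rw [pow_two]; exact hsq a ha) (h1 a ha)
  · rw [mem_subgroupOf]
    exact cent_le_stab hZ Rch.refl (mem_centralizer_singleton_iff.2 rfl)
  · obtain ⟨R, haR, hRc⟩ := hsyl a ha
    refine ⟨(Lib.SylowNormalInf.isPGroup_subgroupOf R X).toSylow (Lib.SylowNormalInf.not_dvd_relIndex R X), ?_, ?_⟩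
    · change (⟨a, haX⟩ : X) ∈ (R : Subgroup G).subgroupOf X
      rw [mem_subgroupOf]
      exact haR
    · intro s hs
      change s ∈ (R : Subgroup G).subgroupOf X at hs
      exact Subtype.ext (mem_centralizer_singleton_iff.1 (hRc (mem_subgroupOf.1 hs)))
  · intro g hg
    rw [mem_subgroupOf] at hg ⊢
    exact (mem_stab hZ).2 (hxM (hZ a ha g) hg)
  · intro g hg hne
    have hc : a * (g * a * g⁻¹) = g * a * g⁻¹ * a := congrArg Subtype.val hg.eq
    have hne' : a ≠ (g : G) * a * (g : G)⁻¹ := fun h' => hne (Subtype.ext h'.symm)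
    have hgZ := hZ a ha g
    have hmZ := hmul a ha _ hgZ hne' hc
    have h1 : Rch Z a (a * (g * a * g⁻¹)) := by
      refine Rch.of_adj ⟨ha, hmZ, ?_⟩
      rw [mul_assoc a, ← hc]
    intro c hcc
    rw [mem_subgroupOf]
    apply cent_le_stab hZ h1
    rw [mem_centralizer_singleton_iff] at hcc ⊢
    exact congrArg Subtype.val hcc

/-- a strongly embedded subgroup of `X` against `AbC X` -/
theorem false_of_bend (hB : CloEnd.Bend ↥X) (hab : AbC X) (hX : X.Normal) (h2 : 2 ∣ Nat.card X) {H : Subgroup ↥X}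
    (hH : IsStronglyEmbedded H) : False := by
  haveI : Fact (Nat.Prime 2) := ⟨Nat.prime_two⟩
  have hcon := hB H hH
  obtain ⟨S⟩ : Nonempty (Sylow 2 G) := inferInstance
  set P : Subgroup G := (S : Subgroup G) ⊓ X with hP
  have hP2 : IsPGroup 2 P := S.isPGroup'.to_le inf_le_left
  -- the involutions of `P` are central in `P`
  have hcen : ∀ x ∈ P, ∀ y ∈ P, x * x = 1 → x * y = y * x := by
    intro x hx y hy hxx
    have h3 : IsPGroup 2 (P.subgroupOf X) := hP2.comap_subtype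
    have h4 := comm_of_concl hcon h3 (x := ⟨x, hx.2⟩) (y := ⟨y, hy.2⟩) (mem_subgroupOf.2 hx) (mem_subgroupOf.2 hy)
      (Subtype.ext hxx)
    exact congrArg Subtype.val h4
  let A : Subgroup G :=
    { carrier := {x | x ∈ P ∧ x * x = 1}
      one_mem' := ⟨one_mem _, mul_one 1⟩
      mul_mem' := by
        intro x y hx hy
        refine ⟨mul_mem hx.1 hy.1, ?_⟩
        calc x * y * (x * y) = x * (y * x) * y := by group
          _ = x * (x * y) * y := by rw [hcen x hx.1 y hy.1 hx.2]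
          _ = (x * x) * (y * y) := by group
          _ = 1 := by rw [hx.2, hy.2, one_mul]
      inv_mem' := by
        intro x hx
        refine ⟨inv_mem hx.1, ?_⟩
        rw [← mul_inv_rev, hx.2, inv_one] }
  have hmemA : ∀ {x : G}, x ∈ A ↔ x ∈ P ∧ x * x = 1 := Iff.rfl
  refine hab S A ?_ (fun x hx => (hmemA.1 hx).1.2) (fun x hx y hy => hcen x (hmemA.1 hx).1 y (hmemA.1 hy).1 (hmemA.1 hx).2)
    ⟨fun x hx => (hmemA.1 hx).1.1, ?_⟩
  · -- an involution in `P`
    intro hA
    have h3 : ¬ 2 ∣ ((S : Subgroup G).subgroupOf X).index := Lib.SylowNormalInf.not_dvd_relIndex S X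
    have h4 : 2 ∣ Nat.card ((S : Subgroup G).subgroupOf X) := by
      have h5 := Subgroup.card_mul_index ((S : Subgroup G).subgroupOf X)
      rw [← h5] at h2
      exact (Nat.Prime.dvd_mul Nat.prime_two).1 h2 |>.resolve_right h3
    obtain ⟨x, hx⟩ := exists_prime_orderOf_dvd_card' (G := ↥((S : Subgroup G).subgroupOf X)) 2 h4
    have h6 : x * x = 1 := by
      have h5 := pow_orderOf_eq_one x
      rw [hx, pow_two] at h5
      exact h5
    have h7 : ((x : X) : G) ∈ A :=
      hmemA.2 ⟨⟨mem_subgroupOf.1 x.2, (x : X).2⟩, congrArg (fun y : ↥((S : Subgroup G).subgroupOf X) => ((y : X) : G)) h6⟩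
    rw [hA, mem_bot] at h7
    have h8 : x = 1 := Subtype.ext (Subtype.ext h7)
    rw [h8, orderOf_one] at hx
    exact absurd hx (by decide)
  · intro x hx g hg
    obtain ⟨hx1, hx2⟩ := hmemA.1 hx
    refine hmemA.2 ⟨⟨hg, hX.conj_mem x hx1.2 g⟩, ?_⟩
    calc g * x * g⁻¹ * (g * x * g⁻¹) = g * (x * x) * g⁻¹ := by group
      _ = 1 := by rw [hx2, mul_one, mul_inv_cancel]

end strong

end CGr

universe u

variable {G : Type u} [Group G] [Finite G] {Om : Set (Subgroup G)} {X : Subgroup G}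

/-- **(b4)**: the commuting graph on `Z` is connected -/
theorem W2.connected (i : LIn.{u}) (h : W2 Om) (hc : OneCls Om) (hr : Rot Om) (hF : CFA G) (hne : Om.Nonempty)
    (f : ROne.FSimp X) (h2 : 2 ∣ Nat.card X) (hno : ¬ ∃ K ∈ Om, IndDefs.Three K) :
    ∀ z t, InZ Om z → InZ Om t → Relation.ReflTransGen (fun x y => InZ Om x ∧ InZ Om y ∧ x * y = y * x) z t := by
  intro z t hz ht
  have hcls : ∀ z t, InZ Om z → InZ Om t → ∃ g, g * z * g⁻¹ = t := fun z t hz ht => hc.conj h hz ht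
  change Rch {z | InZ Om z} z t
  rcases main_three i h hc hr hF hne f h2 with h1 | h1 | ⟨h1, h3⟩
  · exact (hno h1).elim
  · by_contra hcon
    have c3 := c3e_of_rot h hr
    have cf := hF.cf h
    haveI := f.sim
    have gold : Cit.ROne.Gold ↥X := fun S A h1 h2 h3 => i.gold _ S A h1 h2 h3
    have h1173 : OneF.H1173 G := i.h1173 G (oddCore_eq_bot f h2)
    obtain ⟨hab, -⟩ := closer h hc c3 hr hne f gold (i.bend _) h1173 cf h2
    obtain ⟨H, hH⟩ := CGr.exists_strong (Z := {z | InZ Om z}) (X := X) (fun z hz g => InZ.conj hz h g)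
      (fun z hz => InZ.z2 hz h) (fun z hz => InZ.z1 hz h) (fun z hz => CGr.exists_syl h hne hcls hz)
      (fun z hz t ht hzt hc => CGr.mul_inZ_of_eqEps h h1 hz ht hzt hc) f.nor (fun z hz => h.mem_of_fsimp f h2 hz)
      (i.crit _) hz ht hcon
    exact CGr.false_of_bend (i.bend _) hab f.nor h2 hH
  · have S := h1.toSW h3
    have P := S.ppAll S.dich
    exact CGr.rch_of_geo (S.geo P (abel_of i S P hF) hF hne) hz ht

end Cfsg.Agent.Cit.Nil.RTwo
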