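import Cfsg.Agent.Cit.Defs

/-!
# Coordinates of a quaternion group of order 8

`Q3 K z x` : `K = {1, z, x i, z x i}`, `(x i)² = z`, `x i x (i+1) = x (i+2)` (`i : Fin 3`).
`Act z x y g σ` : `g` maps `x i` to `y (σ i)` modulo `z`.
-/

set_option autoImplicit false
set_option linter.unusedSectionVars false

namespace Cfsg.Agent.Cit.Nil.RTwo

open Subgroup Cfsg.Agent.Cit

variable {G : Type*} [Group G]

theorem i11 (i : Fin 3) : i + 1 + 1 = i + 2 := by revert i; decide
theorem i12 (i : Fin 3) : i + 1 + 2 = i := by revert i; decide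
theorem i21 (i : Fin 3) : i + 2 + 1 = i := by revert i; decide
theorem i22 (i : Fin 3) : i + 2 + 2 = i + 1 := by revert i; decide
theorem i_ne1 (i : Fin 3) : i ≠ i + 1 := by revert i; decide
theorem i_ne2 (i : Fin 3) : i ≠ i + 2 := by revert i; decide
theorem i_ne12 (i : Fin 3) : i + 1 ≠ i + 2 := by revert i; decide
theorem i_cases {i j : Fin 3} (h : i ≠ j) : j = i + 1 ∨ j = i + 2 := by revert i j; decide
theorem i_cases3 (i j : Fin 3) : j = i ∨ j = i + 1 ∨ j = i + 2 := by revert i j; decide
theorem i_add1 (i m : Fin 3) : i + m + 1 = i + 1 + m := by revert i m; decide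
theorem i_add2 (i m : Fin 3) : i + m + 2 = i + 2 + m := by revert i m; decide
theorem i_subadd (i m : Fin 3) : i - m + m = i := by revert i m; decide
theorem i_subsub (i m : Fin 3) : m - (m - i) = i := by revert i m; decide
theorem i_sub1 (i m : Fin 3) : m - i = m - (i + 1) + 1 := by revert i m; decide
theorem i_sub2 (i m : Fin 3) : m - (i + 2) = m - (i + 1) + 2 := by revert i m; decide

/-- coordinates of the quaternion group `K` of order 8 with involution `z` -/
structure Q3 (K : Subgroup G) (z : G) (x : Fin 3 → G) : Prop where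
  mem : ∀ i, x i ∈ K
  sq : ∀ i, x i * x i = z
  mul : ∀ i, x i * x (i + 1) = x (i + 2)
  z2 : z * z = 1
  z1 : z ≠ 1
  cov : ∀ k ∈ K, k = 1 ∨ k = z ∨ ∃ i, k = x i ∨ k = z * x i

namespace Q3

variable {K L : Subgroup G} {z : G} {x y : Fin 3 → G}

theorem zmem (h : Q3 K z x) : z ∈ K := by
  rw [← h.sq 0]; exact mul_mem (h.mem 0) (h.mem 0)

theorem zinv (h : Q3 K z x) : z⁻¹ = z := inv_eq_of_mul_eq_one_right h.z2

theorem zc (h : Q3 K z x) (i : Fin 3) : z * x i = x i * z := by
  rw [← h.sq i, mul_assoc]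

theorem mul' (h : Q3 K z x) (i : Fin 3) : x (i + 1) * x i = z * x (i + 2) := by
  have h1 := h.mul (i + 1)
  rw [i11, i12] at h1
  rw [← h1, ← mul_assoc, h.sq]

theorem mul2 (h : Q3 K z x) (i : Fin 3) : x (i + 2) * x i = x (i + 1) := by
  have h1 := h.mul (i + 2)
  rwa [i21, i22] at h1

theorem mul2' (h : Q3 K z x) (i : Fin 3) : x i * x (i + 2) = z * x (i + 1) := by
  have h1 := h.mul' (i + 2)
  rwa [i21, i22] at h1

theorem mul12 (h : Q3 K z x) (i : Fin 3) : x (i + 1) * x (i + 2) = x i := by
  have h1 := h.mul (i + 1)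
  rwa [i11, i12] at h1

theorem mul21 (h : Q3 K z x) (i : Fin 3) : x (i + 2) * x (i + 1) = z * x i := by
  have h1 := h.mul' (i + 1)
  rwa [i11, i12] at h1

theorem inv (h : Q3 K z x) (i : Fin 3) : (x i)⁻¹ = z * x i := by
  apply inv_eq_of_mul_eq_one_right
  rw [h.zc, ← mul_assoc, h.sq, h.z2]

theorem conj_self (i : Fin 3) : x i * x i * (x i)⁻¹ = x i := mul_inv_cancel_right _ _

theorem conj_ne (h : Q3 K z x) {i j : Fin 3} (hij : i ≠ j) : x i * x j * (x i)⁻¹ = z * x j := by
  rw [h.inv]
  rcases i_cases hij with rfl | rfl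
  · rw [h.mul, h.zc, ← mul_assoc, h.mul2, h.zc]
  · rw [h.mul2', h.zc i]
    calc z * x (i + 1) * (x i * z) = z * (x (i + 1) * x i) * z := by group
      _ = z * (z * x (i + 2)) * z := by rw [h.mul']
      _ = (z * z) * (x (i + 2) * z) := by group
      _ = z * x (i + 2) := by rw [h.z2, ← h.zc, one_mul]

theorem anti (h : Q3 K z x) {i j : Fin 3} (hij : i ≠ j) : x i * x j = z * x j * x i := by
  rw [← h.conj_ne hij, inv_mul_cancel_right]

theorem ne_one (h : Q3 K z x) (i : Fin 3) : x i ≠ 1 := fun h1 => h.z1 (by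
  have := h.sq i; rw [h1, one_mul] at this; exact this.symm)

theorem ne_z (h : Q3 K z x) (i : Fin 3) : x i ≠ z := fun h1 => h.z1 (by
  have := h.sq i; rw [h1, h.z2] at this; exact this.symm)

theorem zx_ne_one (h : Q3 K z x) (i : Fin 3) : z * x i ≠ 1 := fun h1 => h.ne_z i (by
  have := eq_inv_of_mul_eq_one_right h1; rwa [h.zinv] at this)

theorem zx_ne_z (h : Q3 K z x) (i : Fin 3) : z * x i ≠ z := fun h1 => h.ne_one i (mul_eq_left.1 h1)

theorem zx_ne (h : Q3 K z x) (i : Fin 3) : z * x i ≠ x i := fun h1 => h.z1 (mul_eq_right.1 h1)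

theorem zzx (h : Q3 K z x) (g : G) : z * (z * g) = g := by rw [← mul_assoc, h.z2, one_mul]

theorem ne_of_ne (h : Q3 K z x) {i j : Fin 3} (hij : i ≠ j) : x i ≠ x j := by
  intro h1
  have := h.anti hij
  rw [h1, h.sq] at this
  have h2 : z * x j * x j = z * z := by rw [mul_assoc, h.sq]
  rw [h2, h.z2] at this
  exact h.z1 this

theorem ne_z_of_ne (h : Q3 K z x) {i j : Fin 3} (hij : i ≠ j) : x i ≠ z * x j := by
  intro h1
  have := h.anti hij
  rw [h1] at this
  have h2 : z * x j * x j = z * z := by rw [mul_assoc, h.sq]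
  have h3 : z * x j * (z * x j) = z := by
    calc z * x j * (z * x j) = z * (x j * z) * x j := by group
      _ = z * (z * x j) * x j := by rw [h.zc]
      _ = z := by rw [h.zzx, h.sq]
  rw [h2, h3, h.z2] at this
  exact h.z1 this.symm

theorem inj (h : Q3 K z x) {i j : Fin 3} (hij : x i = x j ∨ x i = z * x j) : i = j := by
  by_contra hne
  rcases hij with h1 | h1
  · exact h.ne_of_ne hne h1
  · exact h.ne_z_of_ne hne h1

theorem le_of_mem (h : Q3 K z x) {H : Subgroup G} {i j : Fin 3} (hij : i ≠ j) (hi : x i ∈ H) (hj : x j ∈ H) :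
    K ≤ H := by
  have hz : z ∈ H := by rw [← h.sq i]; exact mul_mem hi hi
  have hall : ∀ k, x k ∈ H := by
    intro k
    rcases i_cases hij with rfl | rfl
    · rcases i_cases3 i k with rfl | rfl | rfl
      · exact hi
      · exact hj
      · rw [← h.mul]; exact mul_mem hi hj
    · rcases i_cases3 i k with rfl | rfl | rfl
      · exact hi
      · rw [← h.mul2]; exact mul_mem hj hi
      · exact hj
  intro k hk
  rcases h.cov k hk with rfl | rfl | ⟨m, rfl | rfl⟩
  · exact one_mem _
  · exact hz
  · exact hall m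
  · exact mul_mem hz (hall m)

theorem le_of_all (h : Q3 K z x) {H : Subgroup G} (hx : ∀ i, x i ∈ H) : K ≤ H :=
  h.le_of_mem (i_ne1 0) (hx _) (hx _)

/-- an element of `K` of order 4 -/
theorem of_sq (h : Q3 K z x) {k : G} (hk : k ∈ K) (hs : k * k = z) : ∃ i, k = x i ∨ k = z * x i := by
  rcases h.cov k hk with rfl | rfl | h1
  · exact absurd (by rw [← hs, one_mul]) h.z1
  · exact absurd (by rw [← hs, h.z2]) h.z1
  · exact h1

theorem invol (h : Q3 K z x) {k : G} (hk : k ∈ K) (hs : k * k = 1) : k = 1 ∨ k = z := by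
  rcases h.cov k hk with rfl | rfl | ⟨i, rfl | rfl⟩
  · exact Or.inl rfl
  · exact Or.inr rfl
  · exact absurd ((h.sq i).symm.trans hs) h.z1
  · refine absurd ?_ h.z1
    rw [← hs]
    calc z = z * (z * (x i * x i)) := by rw [h.sq, h.z2, mul_one]
      _ = z * (z * x i) * x i := by group
      _ = z * (x i * z) * x i := by rw [h.zc]
      _ = _ := by group

/-- elements of `K` commuting with two axes -/
theorem cent (h : Q3 K z x) {k : G} (hk : k ∈ K) {i j : Fin 3} (hij : i ≠ j) (hi : k * x i = x i * k)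
    (hj : k * x j = x j * k) : k = 1 ∨ k = z := by
  have key : ∀ m, (∀ l, l ≠ m → k * x l ≠ x l * k) → (i = m ∧ j = m) := by
    intro m hm
    refine ⟨?_, ?_⟩
    · by_contra h1; exact hm i h1 hi
    · by_contra h1; exact hm j h1 hj
  rcases h.cov k hk with rfl | rfl | ⟨m, rfl | rfl⟩
  · exact Or.inl rfl
  · exact Or.inr rfl
  · exfalso
    have := key m (fun l hl h1 => by
      have h2 := h.anti hl.symm
      rw [h1] at h2
      exact h.z1 (mul_eq_right.1 (show z * (x l * x m) = x l * x m by rw [← mul_assoc, ← h2])))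
    exact hij (this.1.trans this.2.symm)
  · exfalso
    have := key m (fun l hl h1 => by
      have h2 := h.anti hl.symm
      have h3 : z * x m * x l = x m * z * x l := by rw [h.zc]
      have h4 : x l * (z * x m) = z * x l * x m := by rw [← mul_assoc, ← h.zc]
      rw [h4, mul_assoc, h2, mul_assoc z (x l) (x m)] at h1
      exact h.z1 (mul_eq_right.1 (mul_left_cancel h1)))
    exact hij (this.1.trans this.2.symm)

theorem not_comm (h : Q3 K z x) : x 0 * x 1 ≠ x 1 * x 0 := by
  intro h1
  have h2 := h.anti (i_ne1 0)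
  rw [zero_add, h1] at h2
  exact h.z1 (mul_eq_right.1 (show z * (x 1 * x 0) = x 1 * x 0 by rw [← mul_assoc, ← h2]))

theorem conj (h : Q3 K z x) (g : G) : Q3 (cj g K) (g * z * g⁻¹) (fun i => g * x i * g⁻¹) where
  mem i := conj_mem_cj (h.mem i)
  sq i := by
    show g * x i * g⁻¹ * (g * x i * g⁻¹) = g * z * g⁻¹
    rw [← h.sq i]; group
  mul i := by
    show g * x i * g⁻¹ * (g * x (i + 1) * g⁻¹) = g * x (i + 2) * g⁻¹
    rw [← h.mul i]; group
  z2 := by
    calc g * z * g⁻¹ * (g * z * g⁻¹) = g * (z * z) * g⁻¹ := by group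
      _ = 1 := by rw [h.z2]; group
  z1 h1 := h.z1 (by
    have h2 : z = g⁻¹ * (g * z * g⁻¹) * g := by group
    rw [h2, h1]; group)
  cov k hk := by
    rw [mem_cj] at hk
    have h1 : k = g * (g⁻¹ * k * g) * g⁻¹ := by group
    rcases h.cov _ hk with h2 | h2 | ⟨i, h2 | h2⟩
    · left; rw [h1, h2]; group
    · right; left; rw [h1, h2]
    · right; right; exact ⟨i, Or.inl (by rw [h1, h2])⟩
    · right; right; exact ⟨i, Or.inr (by rw [h1, h2]; group)⟩

theorem conj_comm (h : Q3 K z x) {g : G} (hg : g * z = z * g) :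
    Q3 (cj g K) z (fun i => g * x i * g⁻¹) := by
  have := h.conj g
  rwa [hg, mul_inv_cancel_right] at this

/-- rotated coordinates -/
theorem rot (h : Q3 K z x) (m : Fin 3) : Q3 K z (fun i => x (i + m)) where
  mem i := h.mem _
  sq i := h.sq _
  mul i := by
    have h1 := h.mul (i + m)
    rwa [i_add1, i_add2] at h1
  z2 := h.z2
  z1 := h.z1
  cov k hk := by
    rcases h.cov k hk with h2 | h2 | ⟨i, h2⟩
    · exact Or.inl h2
    · exact Or.inr (Or.inl h2)
    · refine Or.inr (Or.inr ⟨i - m, ?_⟩)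
      rwa [i_subadd]

/-- reflected coordinates -/
theorem refl (h : Q3 K z x) (m : Fin 3) : Q3 K z (fun i => z * x (m - i)) where
  mem i := mul_mem h.zmem (h.mem _)
  sq i := by
    show z * x (m - i) * (z * x (m - i)) = z
    calc z * x (m - i) * (z * x (m - i)) = z * (x (m - i) * z) * x (m - i) := by group
      _ = z * (z * x (m - i)) * x (m - i) := by rw [h.zc]
      _ = z := by rw [h.zzx, h.sq]
  mul i := by
    show z * x (m - i) * (z * x (m - (i + 1))) = z * x (m - (i + 2))
    rw [i_sub1 i m, i_sub2 i m]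
    have h3 := h.mul' (m - (i + 1))
    calc z * x (m - (i + 1) + 1) * (z * x (m - (i + 1)))
        = z * (x (m - (i + 1) + 1) * z) * x (m - (i + 1)) := by group
      _ = z * (z * x (m - (i + 1) + 1)) * x (m - (i + 1)) := by rw [h.zc]
      _ = _ := by rw [h.zzx, h3]
  z2 := h.z2
  z1 := h.z1
  cov k hk := by
    rcases h.cov k hk with h2 | h2 | ⟨i, h2⟩
    · exact Or.inl h2
    · exact Or.inr (Or.inl h2)
    · refine Or.inr (Or.inr ⟨m - i, ?_⟩)
      rw [i_subsub, h.zzx]
      exact h2.symm

/-- permuted coordinates -/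
theorem perm (h : Q3 K z x) (σ : Equiv.Perm (Fin 3)) :
    ∃ x', Q3 K z x' ∧ ∀ i, x' i = x (σ i) ∨ x' i = z * x (σ i) := by
  have key : ∀ σ : Equiv.Perm (Fin 3), (∃ m, ∀ i, σ i = i + m) ∨ (∃ m, ∀ i, σ i = m - i) := by decide
  rcases key σ with ⟨m, hm⟩ | ⟨m, hm⟩
  · exact ⟨_, h.rot m, fun i => Or.inl (by rw [hm])⟩
  · exact ⟨_, h.refl m, fun i => Or.inr (by rw [hm])⟩

end Q3

/-- `g` maps `x i` to `y (σ i)` modulo `z` -/
def Act (z : G) (x y : Fin 3 → G) (g : G) (σ : Equiv.Perm (Fin 3)) : Prop :=
  ∀ i, g * x i * g⁻¹ = y (σ i) ∨ g * x i * g⁻¹ = z * y (σ i)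

section Act

variable {K L M : Subgroup G} {z g g' : G} {x y w : Fin 3 → G} {σ τ : Equiv.Perm (Fin 3)}

theorem Act.comp (hz : z * z = 1) (h : Act z x y g σ) (h' : Act z y w g' τ) (hg' : g' * z = z * g') :
    Act z x w (g' * g) (τ * σ) := by
  intro i
  have h1 : g' * g * x i * (g' * g)⁻¹ = g' * (g * x i * g⁻¹) * g'⁻¹ := by group
  have h2 : g' * (z * y (σ i)) * g'⁻¹ = z * (g' * y (σ i) * g'⁻¹) := by
    calc g' * (z * y (σ i)) * g'⁻¹ = (g' * z) * y (σ i) * g'⁻¹ := by group
      _ = (z * g') * y (σ i) * g'⁻¹ := by rw [hg']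
      _ = _ := by group
  rw [h1]
  rcases h i with h3 | h3
  · rw [h3]; exact h' (σ i)
  · rw [h3, h2]
    rcases h' (σ i) with h4 | h4
    · right; rw [h4]; rfl
    · left; rw [h4, ← mul_assoc, hz, one_mul]; rfl

theorem Act.unique (hy : Q3 L z y) (h : Act z x y g σ) (h' : Act z x y g τ) : σ = τ := by
  apply Equiv.ext
  intro i
  rcases h i with h1 | h1 <;> rcases h' i with h2 | h2
  · exact hy.inj (Or.inl (h1.symm.trans h2))
  · exact hy.inj (Or.inr (h1.symm.trans h2))
  · exact (hy.inj (Or.inr (h2.symm.trans h1))).symm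
  · exact hy.inj (Or.inl (mul_left_cancel (h1.symm.trans h2)))

theorem Act.one (x : Fin 3 → G) (z : G) : Act z x x 1 1 := fun i => Or.inl (by simp)

theorem Q3.exists_act (hx : Q3 K z x) (hy : Q3 L z y) (hg : cj g K = L) (hgz : g * z = z * g) :
    ∃ σ, Act z x y g σ := by
  have h1 : ∀ i, ∃ j, g * x i * g⁻¹ = y j ∨ g * x i * g⁻¹ = z * y j := by
    intro i
    refine hy.of_sq (by rw [← hg]; exact conj_mem_cj (hx.mem i)) ?_
    calc g * x i * g⁻¹ * (g * x i * g⁻¹) = g * (x i * x i) * g⁻¹ := by group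
      _ = z := by rw [hx.sq, hgz, mul_inv_cancel_right]
  choose f hf using h1
  have hinj : Function.Injective f := by
    intro i j hij
    have h2 : g * x i * g⁻¹ = g * x j * g⁻¹ ∨ g * x i * g⁻¹ = z * (g * x j * g⁻¹) := by
      rcases hf i with h3 | h3 <;> rcases hf j with h4 | h4
      · left; rw [h3, h4, hij]
      · right; rw [h3, h4, hij, hy.zzx]
      · right; rw [h3, h4, hij]
      · left; rw [h3, h4, hij]
    apply hx.inj
    rcases h2 with h2 | h2
    · left; exact mul_left_cancel (mul_right_cancel h2)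
    · right
      have h3 : g * x i * g⁻¹ = g * (z * x j) * g⁻¹ := by
        rw [h2]
        calc z * (g * x j * g⁻¹) = (z * g) * x j * g⁻¹ := by group
          _ = (g * z) * x j * g⁻¹ := by rw [hgz]
          _ = _ := by group
      exact mul_left_cancel (mul_right_cancel h3)
  exact ⟨Equiv.ofBijective f (Finite.injective_iff_bijective.1 hinj), hf⟩

/-- `Act` with the identity is "inner" -/
theorem Act.inner (hx : Q3 K z x) (h : Act z x x g 1) (hgz : g * z = z * g) :
    ∀ k ∈ K, g * k * g⁻¹ = k ∨ g * k * g⁻¹ = z * k := by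
  intro k hk
  rcases hx.cov k hk with rfl | rfl | ⟨i, rfl | rfl⟩
  · left; group
  · left; rw [hgz, mul_inv_cancel_right]
  · exact h i
  · have h1 : g * (z * x i) * g⁻¹ = z * (g * x i * g⁻¹) := by
      calc g * (z * x i) * g⁻¹ = (g * z) * x i * g⁻¹ := by group
        _ = (z * g) * x i * g⁻¹ := by rw [hgz]
        _ = _ := by group
    rw [h1]
    rcases h i with h2 | h2
    · left; rw [h2]; rfl
    · right; rw [h2]; rfl

theorem Act.of_inner (hx : Q3 K z x) (h : ∀ k ∈ K, g * k * g⁻¹ = k ∨ g * k * g⁻¹ = z * k) : Act z x x g 1 :=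
  fun i => h _ (hx.mem i)

/-- an inner automorphism of `K` is trivial or conjugation by an `x j` -/
theorem Q3.inner_cases (hx : Q3 K z x) (h : ∀ k ∈ K, g * k * g⁻¹ = k ∨ g * k * g⁻¹ = z * k) :
    (∀ k ∈ K, g * k * g⁻¹ = k) ∨ ∃ j, ∀ k ∈ K, g * k * g⁻¹ = x j * k * (x j)⁻¹ := by
  have hm : ∀ i, g * x (i + 2) * g⁻¹ = (g * x i * g⁻¹) * (g * x (i + 1) * g⁻¹) := by
    intro i; rw [← hx.mul i]; group
  -- two elements agreeing on `x 0`, `x 1` agree on `K`
  have hext : ∀ u : G, g * x 0 * g⁻¹ = u * x 0 * u⁻¹ → g * x 1 * g⁻¹ = u * x 1 * u⁻¹ →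
      ∀ k ∈ K, g * k * g⁻¹ = u * k * u⁻¹ := by
    intro u h0 h1 k hk
    have hle : K ≤ centralizer {u⁻¹ * g} := by
      refine hx.le_of_mem (i_ne1 0) ?_ ?_
      · rw [mem_centralizer_singleton_iff]
        calc x 0 * (u⁻¹ * g) = u⁻¹ * (u * x 0 * u⁻¹) * g := by group
          _ = u⁻¹ * (g * x 0 * g⁻¹) * g := by rw [h0]
          _ = _ := by group
      · rw [mem_centralizer_singleton_iff, zero_add]
        calc x 1 * (u⁻¹ * g) = u⁻¹ * (u * x 1 * u⁻¹) * g := by group
          _ = u⁻¹ * (g * x 1 * g⁻¹) * g := by rw [h1]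
          _ = _ := by group
    have h2 := mem_centralizer_singleton_iff.1 (hle hk)
    calc g * k * g⁻¹ = u * (u⁻¹ * g * k) * g⁻¹ := by group
      _ = u * (k * (u⁻¹ * g)) * g⁻¹ := by rw [h2]
      _ = _ := by group
  rcases h _ (hx.mem 0) with h0 | h0 <;> rcases h _ (hx.mem 1) with h1 | h1
  · left
    intro k hk
    have := hext 1 (by rw [h0]; group) (by rw [h1]; group) k hk
    rw [this]; group
  · right
    exact ⟨0, hext _ (by rw [h0, conj_self]) (by rw [h1, hx.conj_ne (by decide)])⟩
  · right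
    exact ⟨1, hext _ (by rw [h0, hx.conj_ne (by decide)]) (by rw [h1, conj_self])⟩
  · right
    exact ⟨2, hext _ (by rw [h0, hx.conj_ne (by decide)]) (by rw [h1, hx.conj_ne (by decide)])⟩

end Act

/-- coordinates starting with two given non-commuting elements -/
theorem Q3.of_pair {K : Subgroup G} {z : G} {x : Fin 3 → G} (h : Q3 K z x) {a b : G} (ha : a ∈ K) (hb : b ∈ K)
    (ha2 : a * a = z) (hb2 : b * b = z) (hab : a * b ≠ b * a) : Q3 K z ![a, b, a * b] := by
  obtain ⟨i, hi⟩ := h.of_sq ha ha2
  obtain ⟨j, hj⟩ := h.of_sq hb hb2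
  have hza : z * a = a * z := by rw [← ha2, mul_assoc]
  have hzb : z * b = b * z := by rw [← hb2, mul_assoc]
  have hij : i ≠ j := by
    rintro rfl
    apply hab
    rcases hi with rfl | rfl <;> rcases hj with rfl | rfl
    · rfl
    · rw [← mul_assoc, ← hza, mul_assoc]
    · rw [← mul_assoc, ← hzb, mul_assoc]
    · rfl
  have hanti : a * b = z * (b * a) := by
    have h1 := h.anti hij
    rcases hi with rfl | rfl <;> rcases hj with rfl | rfl
    · rw [h1, mul_assoc]
    · calc x i * (z * x j) = (x i * z) * x j := by group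
        _ = (z * x i) * x j := by rw [h.zc]
        _ = z * (x i * x j) := by group
        _ = z * (z * x j * x i) := by rw [h1]
    · calc z * x i * x j = z * (x i * x j) := by group
        _ = z * (z * x j * x i) := by rw [h1]
        _ = z * ((x j * z) * x i) := by rw [h.zc j]
        _ = _ := by group
    · calc z * x i * (z * x j) = z * (x i * z) * x j := by group
        _ = z * (z * x i) * x j := by rw [h.zc]
        _ = z * z * (x i * x j) := by group
        _ = z * z * (z * x j * x i) := by rw [h1]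
        _ = z * (z * (z * x j) * x i) := by group
        _ = z * (z * (x j * z) * x i) := by rw [h.zc j]
        _ = _ := by group
  have hbab : b * (a * b) = a := by
    rw [hanti]
    calc b * (z * (b * a)) = (b * z) * (b * a) := by group
      _ = (z * b) * (b * a) := by rw [hzb]
      _ = z * (b * b) * a := by group
      _ = a := by rw [hb2, h.z2, one_mul]
  have haba : a * b * a = b := by
    rw [hanti]
    calc z * (b * a) * a = z * (b * (a * a)) := by group
      _ = z * (b * z) := by rw [ha2]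
      _ = z * (z * b) := by rw [hzb]
      _ = b := h.zzx b
  refine ⟨?_, ?_, ?_, h.z2, h.z1, ?_⟩
  · intro m
    fin_cases m
    · exact ha
    · exact hb
    · exact mul_mem ha hb
  · intro m
    fin_cases m
    · exact ha2
    · exact hb2
    · show a * b * (a * b) = z
      calc a * b * (a * b) = (a * b * a) * b := by group
        _ = z := by rw [haba, hb2]
  · intro m
    fin_cases m
    · rfl
    · exact hbab
    · exact haba
  · -- every coordinate is one of the new ones modulo `z`
    have hnew : ∀ m, ∃ l : Fin 3, x m = ![a, b, a * b] l ∨ x m = z * ![a, b, a * b] l := by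
      intro m
      have hx2 : x j * x i = z * (x i * x j) := by rw [h.anti hij.symm, mul_assoc]
      have hprod : a * b = x i * x j ∨ a * b = z * (x i * x j) := by
        rcases hi with rfl | rfl <;> rcases hj with rfl | rfl
        · left; rfl
        · right
          calc x i * (z * x j) = (x i * z) * x j := by group
            _ = (z * x i) * x j := by rw [h.zc]
            _ = _ := by group
        · right; rw [mul_assoc]
        · left
          calc z * x i * (z * x j) = z * (x i * z) * x j := by group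
            _ = z * (z * x i) * x j := by rw [h.zc]
            _ = _ := by rw [h.zzx]
      by_cases hmi : m = i
      · refine ⟨0, ?_⟩
        subst hmi
        rcases hi with hi | hi
        · left; exact hi.symm
        · right; show x m = z * a; rw [hi, h.zzx]
      by_cases hmj : m = j
      · refine ⟨1, ?_⟩
        subst hmj
        rcases hj with hj | hj
        · left; exact hj.symm
        · right; show x m = z * b; rw [hj, h.zzx]
      refine ⟨2, ?_⟩
      have hm : x i * x j = x m ∨ x i * x j = z * x m := by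
        rcases i_cases hij with rfl | rfl
        · have : m = i + 2 := by
            rcases i_cases (Ne.symm hmi) with h1 | h1
            · exact absurd h1 hmj
            · exact h1
          subst this
          left; exact h.mul i
        · have : m = i + 1 := by
            rcases i_cases (Ne.symm hmi) with h1 | h1
            · exact h1
            · exact absurd h1 hmj
          subst this
          right; exact h.mul2' i
      show x m = a * b ∨ x m = z * (a * b)
      rcases hprod with h1 | h1 <;> rcases hm with h2 | h2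
      · left; rw [h1, h2]
      · right; rw [h1, h2, h.zzx]
      · right; rw [h1, h2, h.zzx]
      · left; rw [h1, h2, h.zzx]
    intro k hk
    rcases h.cov k hk with h1 | h1 | ⟨m, h1⟩
    · exact Or.inl h1
    · exact Or.inr (Or.inl h1)
    · obtain ⟨l, hl⟩ := hnew m
      refine Or.inr (Or.inr ⟨l, ?_⟩)
      rcases h1 with h1 | h1 <;> rcases hl with hl | hl
      · left; rw [h1, hl]
      · right; rw [h1, hl]
      · right; rw [h1, hl]
      · left; rw [h1, hl, h.zzx]

end Cfsg.Agent.Cit.Nil.RTwo
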