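import Cfsg.Agent.Cit.Nil.RTwo.Three

/-!
# `r = 2`, `m = 1`: INNER `SL(2,3)`

`IThree Om` : some member `K` over `z` lies in `J ≃ SL(2,3)`, `J ≤ ⟨Om⟩`, `J` subnormal in `C(z)`.

* `W2.sub` : the world of a subgroup `B` containing all members;
* `ClM.ithree` : `ClM` in a normal subgroup `B ≤ ⟨Om⟩`;
* `Wt.ithree` : an inner element of weight one;
* `exists_inner_wt` : weight one and a type I pair give an inner element of weight one;
* `t_world_inner` : the T-only world is empty, without inner `SL(2,3)`.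
-/

set_option autoImplicit false
set_option linter.style.haveILetI false
set_option linter.unusedSectionVars false

namespace Cfsg.Agent.Cit.Nil.RTwo

open Subgroup Cfsg Cfsg.Agent.Cit

variable {G : Type*} [Group G]

/-- an inner `SL(2,3)` over a member -/
def IThree (Om : Set (Subgroup G)) : Prop :=
  ∃ (z : G) (K J : Subgroup G), Mem Om z K ∧ K ≤ J ∧ J ≤ sSup Om ∧ J ≤ centralizer ({z} : Set G) ∧
    (J.subgroupOf (centralizer ({z} : Set G))).IsSubnormal ∧ oddCore ↥J = ⊥ ∧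
    Nonempty (↥J ≃* Matrix.SpecialLinearGroup (Fin 2) (ZMod 3))

variable [Finite G] {Om : Set (Subgroup G)} {B K K1 K2 L M J : Subgroup G} {z t g x y d : G}
  {a b : Fin 3 → G} {v : Fin 3 × Fin 3} {σ : Equiv.Perm (Fin 3)}

theorem sSup_conj_mem (h : Hyp Om) (g : G) (hx : x ∈ sSup Om) : g * x * g⁻¹ ∈ sSup Om := by
  have h1 : sSup Om ≤ (sSup Om).comap (MulAut.conj g).toMonoidHom := by
    refine sSup_le fun K hK k hk => ?_
    exact (le_sSup (h.conj K hK g)) (conj_mem_cj hk)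
  exact h1 hx

theorem sSup_normal (h : Hyp Om) : (sSup Om).Normal := ⟨fun _ hx g => sSup_conj_mem h g hx⟩

/-! ### the world of a subgroup -/

theorem mem_restr_iff (h : Hyp Om) {z : B} {K : Subgroup B} :
    Mem (restr Om B) z K ↔ Mem Om (z : G) (K.map B.subtype) := by
  constructor
  · rintro ⟨h1, h2⟩
    exact ⟨h1, by rw [← zz_map h h1, h2]⟩
  · rintro ⟨h1, h2⟩
    exact ⟨h1, Subtype.ext (by rw [zz_map h h1, h2])⟩

theorem Mem.restr (h : Hyp Om) {z : B} (hK : Mem Om (z : G) K) (hKB : K ≤ B) :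
    Mem (restr Om B) z (K.subgroupOf B) := by
  rw [mem_restr_iff h, map_subgroupOf_eq_of_le hKB]; exact hK

theorem InZ.of_restr (h : Hyp Om) {z : B} (hz : InZ (restr Om B) z) : InZ Om (z : G) := by
  obtain ⟨K, hK⟩ := hz
  exact ⟨_, (mem_restr_iff h).1 hK⟩

theorem InZ.mem_of_le (hz : InZ Om z) (h : W2 Om) (hB : ∀ K ∈ Om, K ≤ B) : z ∈ B := by
  obtain ⟨K, hK⟩ := hz
  exact hB K hK.1 (hK.zmem h)

theorem InZ.restr (h : Hyp Om) (hB : ∀ K ∈ Om, K ≤ B) {z : B} (hz : InZ Om (z : G)) : InZ (restr Om B) z := by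
  obtain ⟨K, hK⟩ := hz
  exact ⟨_, hK.restr h (hB K hK.1)⟩

theorem W2.sub (h : W2 Om) (hB : ∀ K ∈ Om, K ≤ B) : W2 (restr Om B) where
  hyp := h.hyp.restr B
  card K hK := by
    rw [← h.card _ hK, card_map_of_injective B.subtype_injective]
  two K hK := by
    obtain ⟨L, hL, hne, hz, hall⟩ := h.two _ hK
    have hLB := hB L hL
    have e : (L.subgroupOf B).map B.subtype = L := map_subgroupOf_eq_of_le hLB
    have hL' : L.subgroupOf B ∈ restr Om B := subgroupOf_mem_restr hL hLB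
    refine ⟨L.subgroupOf B, hL', fun h1 => hne (by rw [← e, h1]), Subtype.ext ?_, fun M hM hMz => ?_⟩
    · rw [zz_map h.hyp hL', zz_map h.hyp hK, e, hz]
    · have h1 : zz (M.map B.subtype) = zz (K.map B.subtype) := by
        rw [← zz_map h.hyp hM, ← zz_map h.hyp hK, hMz]
      rcases hall _ hM h1 with h2 | h2
      · left; exact Subgroup.map_injective B.subtype_injective h2
      · right
        rw [← e] at h2
        exact Subgroup.map_injective B.subtype_injective h2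
  one K hK L hL hc := by
    apply Subtype.ext
    rw [zz_map h.hyp hK, zz_map h.hyp hL]
    refine h.one _ hK _ hL ?_
    rintro _ ⟨k, hk, rfl⟩ _ ⟨l, hl, rfl⟩
    exact congrArg Subtype.val (hc k hk l hl)

theorem map_centralizer_subtype (z : B) :
    (centralizer ({z} : Set B)).map B.subtype = centralizer ({(z : G)} : Set G) ⊓ B := by
  ext x
  constructor
  · rintro ⟨y, hy, rfl⟩
    refine ⟨mem_centralizer_singleton_iff.2 ?_, y.2⟩
    exact congrArg Subtype.val (mem_centralizer_singleton_iff.1 hy)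
  · rintro ⟨h1, h2⟩
    refine ⟨⟨x, h2⟩, mem_centralizer_singleton_iff.2 (Subtype.ext ?_), rfl⟩
    exact mem_centralizer_singleton_iff.1 h1

theorem CF.sub (h : W2 Om) (hF : CF Om) (hn : B.Normal) : CF (restr Om B) := by
  intro z hz
  have e1 := OO_map B.subtype B.subtype_injective (centralizer ({z} : Set B))
  have e2 : OO ((centralizer ({z} : Set B)).map B.subtype) ≤ OO (centralizer ({(z : G)} : Set G)) := by
    refine le_OO ((OO_le _).trans ?_) ?_ (odd_OO _)
    · rw [map_centralizer_subtype]; exact inf_le_left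
    · intro g hg
      rw [mem_normalizer_iff_cj]
      refine LB.cj_OO_eq ?_
      rw [map_centralizer_subtype]
      have hgz := mem_centralizer_singleton_iff.1 hg
      have key : ∀ g : G, g * z = z * g → cj g (centralizer ({(z : G)} : Set G) ⊓ B) ≤
          centralizer ({(z : G)} : Set G) ⊓ B := by
        rintro g hg _ ⟨x, hx, rfl⟩
        have hx1 := mem_centralizer_singleton_iff.1 hx.1
        refine ⟨mem_centralizer_singleton_iff.2 ?_, hn.conj_mem x hx.2 g⟩
        show g * x * g⁻¹ * z = z * (g * x * g⁻¹)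
        have h1 : Commute g (z : G) := hg
        have h2 : Commute x (z : G) := hx1
        exact ((h1.mul_left h2).mul_left h1.inv_left).eq
      exact le_antisymm (key g hgz) (by
        have h1 := cj_mono g (key g⁻¹ (by
          have h1 : Commute g (z : G) := hgz
          exact h1.inv_left.eq))
        rwa [cj_cj_inv] at h1)
  rw [hF _ (hz.of_restr h.hyp), e1, le_bot_iff, Subgroup.map_eq_bot_iff_of_injective _ B.subtype_injective] at e2
  exact e2

/-- `ClM` in a normal subgroup -/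
theorem ClM.ithree (h : W2 Om) (hn : B.Normal) (hB : B ≤ sSup Om) (c : ClM (restr Om B)) : IThree Om := by
  obtain ⟨z, K, J, hK, hKJ, h1, h2, h4, ⟨e⟩⟩ := c
  have hJz : J.map B.subtype ≤ centralizer ({(z : G)} : Set G) := by
    refine (Subgroup.map_mono h1).trans ?_
    rw [map_centralizer_subtype]; exact inf_le_left
  refine ⟨z, K.map B.subtype, J.map B.subtype, (mem_restr_iff h.hyp).1 hK, Subgroup.map_mono hKJ,
    (map_subtype_le J).trans hB, hJz, ?_, ?_,
    ⟨(J.equivMapOfInjective _ B.subtype_injective).symm.trans e⟩⟩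
  swap
  · have h5 := Lib.Cores.map_equiv_pPrimeCore (J.equivMapOfInjective _ B.subtype_injective) 2
    rw [oddCore] at h4 ⊢
    rw [← h5, h4, Subgroup.map_bot]
  -- `C_B(z)` is normal in `C(z)`
  let C : Subgroup G := centralizer ({(z : G)} : Set G)
  let D : Subgroup C := B.subgroupOf C
  have hD : D.Normal := Subgroup.normal_subgroupOf
  have hJD : (J.map B.subtype).subgroupOf C ≤ D := by
    intro x hx
    exact map_subtype_le J (mem_subgroupOf.1 hx)
  refine IsSubnormal.trans hJD ?_ hD.isSubnormal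
  -- the map `D → C_B(z)`
  let f : D →* centralizer ({z} : Set B) :=
    { toFun := fun x => ⟨⟨((x : C) : G), mem_subgroupOf.1 x.2⟩, by
        rw [mem_centralizer_singleton_iff]
        apply Subtype.ext
        exact mem_centralizer_singleton_iff.1 (x : C).2⟩
      map_one' := rfl
      map_mul' := fun x y => rfl }
  convert h2.comap f using 1
  ext x
  simp only [mem_subgroupOf, mem_comap, mem_map]
  constructor
  · rintro ⟨y, hy, hyx⟩
    have : y = ((f x : centralizer ({z} : Set B)) : B) := Subtype.ext hyx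
    rwa [← this]
  · intro hx
    exact ⟨_, hx, rfl⟩

theorem Q3.sub {x : Fin 3 → G} {z : B} (hq : Q3 K (z : G) x) (hKB : K ≤ B) :
    Q3 (K.subgroupOf B) z (fun i => (⟨x i, hKB (hq.mem i)⟩ : B)) where
  mem i := mem_subgroupOf.2 (hq.mem i)
  sq i := Subtype.ext (hq.sq i)
  mul i := Subtype.ext (hq.mul i)
  z2 := Subtype.ext hq.z2
  z1 h1 := hq.z1 (congrArg Subtype.val h1)
  cov k hk := by
    rcases hq.cov _ (mem_subgroupOf.1 hk) with h1 | h1 | ⟨i, h1 | h1⟩
    · exact Or.inl (Subtype.ext h1)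
    · exact Or.inr (Or.inl (Subtype.ext h1))
    · exact Or.inr (Or.inr ⟨i, Or.inl (Subtype.ext h1)⟩)
    · exact Or.inr (Or.inr ⟨i, Or.inr (Subtype.ext h1)⟩)

/-- an inner element of weight one -/
theorem Wt.ithree {x : Fin 3 → G} (w : Wt Om z K L x g σ) (h : W2 Om) (hF : CF Om) (hg : g ∈ sSup Om) : IThree Om := by
  have hB : ∀ K ∈ Om, K ≤ sSup Om := fun K hK => le_sSup hK
  have hn := sSup_normal h.hyp
  have hzB : z ∈ sSup Om := w.hK.inZ.mem_of_le h hB
  obtain ⟨z', hz'⟩ : ∃ z' : ↥(sSup Om), (z' : G) = z := ⟨⟨z, hzB⟩, rfl⟩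
  subst hz'
  refine ClM.ithree h hn le_rfl (Wt.clm (K := K.subgroupOf (sSup Om)) (K' := L.subgroupOf (sSup Om))
    (x := fun i => (⟨x i, hB K w.hK.1 (w.q.mem i)⟩ : ↥(sSup Om))) (g := ⟨g, hg⟩) (σ := σ)
    ⟨w.hK.restr h.hyp (hB K w.hK.1), w.hK'.restr h.hyp (hB L w.hK'.1), fun h1 => w.ne ?_, w.q.sub (hB K w.hK.1),
      fun i => ?_, w.s3, w.s1, Subtype.ext w.gz, fun y hy => Subtype.ext ?_, fun k hk => ?_⟩
    (h.sub hB) (CF.sub h hF hn))
  · rw [← map_subgroupOf_eq_of_le (hB K w.hK.1), ← map_subgroupOf_eq_of_le (hB L w.hK'.1), h1]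
  · rcases w.act i with h1 | h1
    · exact Or.inl (Subtype.ext h1)
    · exact Or.inr (Subtype.ext h1)
  · refine w.gX y ?_
    rw [mem_CX] at hy ⊢
    intro M hM k hk
    exact congrArg Subtype.val (hy _ (hM.restr h.hyp (hB M hM.1)) ⟨k, hB M hM.1 hk⟩ (mem_subgroupOf.2 hk))
  · rcases w.inn _ (mem_subgroupOf.1 hk) with h1 | h1
    · exact Or.inl (Subtype.ext h1)
    · exact Or.inr (Subtype.ext h1)

/-! ### weight one and a type I pair -/

theorem rf_comm_key : ∀ (i w : Fin 3), w ≠ 0 →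
    rf i * (Equiv.addRight w)⁻¹ * (rf i)⁻¹ * Equiv.addRight w * (rf i * (Equiv.addRight w)⁻¹ * (rf i)⁻¹ *
      Equiv.addRight w) * (rf i * (Equiv.addRight w)⁻¹ * (rf i)⁻¹ * Equiv.addRight w) = 1 ∧
      rf i * (Equiv.addRight w)⁻¹ * (rf i)⁻¹ * Equiv.addRight w ≠ 1 := by decide

theorem TI.exists_cf_of (h : W2 Om) (hti : TI Om z t) (hK1 : Mem Om z K1) (hK2 : Mem Om z K2) (hne : K1 ≠ K2) :
    ∃ L1 L2 a' b' p q, Cf Om z t K1 K2 L1 L2 a' b' p q := by
  obtain ⟨M1, M2, L1, L2, a', b', p, q, C⟩ := hti.exists_cf h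
  rcases C.k1.cases C.k2 h C.kne hK1 with h1 | h1 <;> rcases C.k1.cases C.k2 h C.kne hK2 with h2 | h2
  · exact absurd (h1.trans h2.symm) hne
  · subst h1; subst h2; exact ⟨L1, L2, a', b', p, q, C⟩
  · subst h1; subst h2; exact ⟨L1, L2, b', a', p, q, C.swk⟩
  · exact absurd (h1.trans h2.symm) hne

/-- weight one and a type I pair: an inner element of weight one -/
theorem exists_inner_wt (h : W2 Om) (F : Frame Om z K1 K2 a b) (hd : Tra z a b d v) (h1 : v.1 ≠ 0) (h2 : v.2 = 0)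
    (hX : ∀ x ∈ CX Om z, d * x = x * d) (hti : TI Om z t) : ∃ g σ, g ∈ sSup Om ∧ Wt Om z K1 K2 a g σ := by
  obtain ⟨L1, L2, a', b', p, q, C⟩ := hti.exists_cf_of h F.k1 F.k2 F.ne
  obtain ⟨i, -, hi⟩ := C.act_theta h F.qa
  obtain ⟨j, -, hj⟩ := C.swk.act_theta h F.qb
  have z2 := F.qa.z2
  have hpz : p 0 * z = z * p 0 := C.p0z h
  have hdz := hd.comm
  have cpz : Commute (p 0) z := hpz
  have cdz : Commute d z := hdz
  obtain ⟨g, hg⟩ : ∃ g, g = p 0 * d⁻¹ * (p 0)⁻¹ * d := ⟨_, rfl⟩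
  have e0 : Equiv.addRight (0 : Fin 3) = 1 := by ext i; simp
  have hgz : g * z = z * g := by
    rw [hg]; exact (((cpz.mul_left cdz.inv_left).mul_left cpz.inv_left).mul_left cdz).eq
  -- the action on `K1`
  have A : Act z a a g (rf i * (Equiv.addRight v.1)⁻¹ * (rf i)⁻¹ * Equiv.addRight v.1) := by
    have i1 := hd.a.inv z2 hdz
    have i2 := hi.inv z2 hpz
    have c1 := hd.a.comp z2 i2 cpz.inv_left.eq
    have c2 := c1.comp z2 i1 cdz.inv_left.eq
    have c3 := c2.comp z2 hi hpz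
    have e1 : p 0 * (d⁻¹ * ((p 0)⁻¹ * d)) = g := by rw [hg]; group
    rw [e1] at c3
    simpa only [mul_assoc] using c3
  have A' : Act z b b g 1 := by
    have hdb := hd.b
    rw [h2, e0] at hdb
    have i1 := hdb.inv z2 hdz
    have i2 := hj.inv z2 hpz
    have c1 := hdb.comp z2 i2 cpz.inv_left.eq
    have c2 := c1.comp z2 i1 cdz.inv_left.eq
    have c3 := c2.comp z2 hj hpz
    have e1 : p 0 * (d⁻¹ * ((p 0)⁻¹ * d)) = g := by rw [hg]; group
    rw [e1] at c3
    have e2 : rf j * ((1 : Equiv.Perm (Fin 3))⁻¹ * ((rf j)⁻¹ * 1)) = 1 := by group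
    rwa [e2] at c3
  obtain ⟨k1, k2⟩ := rf_comm_key i v.1 h1
  have hpS : p 0 ∈ sSup Om := le_sSup C.l1.1 (C.qc.mem 0)
  refine ⟨g, _, ?_, F.k1, F.k2, F.ne, F.qa, A, k1, k2, hgz, ?_, A'.inner F.qb hgz⟩
  · have e1 : g = p 0 * (d⁻¹ * (p 0)⁻¹ * d⁻¹⁻¹) := by rw [hg]; group
    rw [e1]
    exact mul_mem hpS (sSup_conj_mem h.hyp _ (inv_mem hpS))
  · intro x hx
    have hcd : ∀ x ∈ CX Om z, Commute d x := hX
    have hx' : (p 0)⁻¹ * x * p 0 ∈ CX Om z := by
      have h3 := CX_conj_comm h (g := (p 0)⁻¹) cpz.inv_left.eq hx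
      rwa [inv_inv] at h3
    have e1 := (hcd x hx).eq
    have e2 : d⁻¹ * ((p 0)⁻¹ * x * p 0) * d = (p 0)⁻¹ * x * p 0 := by
      have h3 := (hcd _ hx').inv_left.eq
      rw [h3]; group
    calc g * x = p 0 * d⁻¹ * (p 0)⁻¹ * (d * x) := by rw [hg]; group
      _ = p 0 * (d⁻¹ * ((p 0)⁻¹ * x * p 0) * d) * (p 0)⁻¹ * (p 0 * d⁻¹ * (p 0)⁻¹ * d) := by rw [e1]; group
      _ = x * g := by rw [e2, hg]; group

/-- **weight one and a type I pair give `IThree`** -/
theorem ithree_of_wOne (h : W2 Om) (hF : CF Om) (F : Frame Om z K1 K2 a b) (hd : Tra z a b d v) (hv : WOne v)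
    (hX : ∀ x ∈ CX Om z, d * x = x * d) (hti : TI Om z t) : IThree Om := by
  rcases hv with ⟨h1, h2⟩ | ⟨h1, h2⟩
  · obtain ⟨g, σ, hg, w⟩ := exists_inner_wt h F hd h1 h2 hX hti
    exact w.ithree h hF hg
  · obtain ⟨g, σ, hg, w⟩ := exists_inner_wt h F.swap hd.swap h2 h1 hX hti
    exact w.ithree h hF hg

/-! ### the T-only world -/

theorem TO.sub (h : W2 Om) (hT : TO Om) (hB : ∀ K ∈ Om, K ≤ B) : TO (restr Om B) := by
  intro z t hz ht hi
  refine Subtype.ext (hT z t (hz.of_restr h.hyp) (ht.of_restr h.hyp) fun K hK k hk => ?_)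
  rcases hi _ (hK.restr h.hyp (hB K hK.1)) ⟨k, hB K hK.1 hk⟩ (mem_subgroupOf.2 hk) with h1 | h1
  · exact Or.inl (congrArg Subtype.val h1)
  · exact Or.inr (congrArg Subtype.val h1)

/-- commuting is transitive on `Z` -/
theorem comm_trans_inner (h : W2 Om) (hT : TO Om) (hF : CF Om) (hi : ¬ IThree Om) {a b : G} (hz : InZ Om z)
    (ha : InZ Om a) (hb : InZ Om b) (hza : z * a = a * z) (hzb : z * b = b * z) : a * b = b * a := by
  have hB : ∀ K ∈ Om, K ≤ sSup Om := fun K hK => le_sSup hK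
  have hn := sSup_normal h.hyp
  have e1 : (⟨z, hz.mem_of_le h hB⟩ : ↥(sSup Om)) * ⟨a, ha.mem_of_le h hB⟩ = ⟨a, ha.mem_of_le h hB⟩ *
    ⟨z, hz.mem_of_le h hB⟩ := Subtype.ext hza
  have e2 : (⟨z, hz.mem_of_le h hB⟩ : ↥(sSup Om)) * ⟨b, hb.mem_of_le h hB⟩ = ⟨b, hb.mem_of_le h hB⟩ *
    ⟨z, hz.mem_of_le h hB⟩ := Subtype.ext hzb
  exact congrArg Subtype.val (comm_transM (h.sub hB) (hT.sub h hB) (CF.sub h hF hn)
    (fun c => hi (c.ithree h hn le_rfl)) (InZ.restr h.hyp hB hz) (InZ.restr h.hyp hB ha) (InZ.restr h.hyp hB hb) e1 e2)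

/-- **the T-only world is empty**, no inner `SL(2,3)` -/
theorem t_world_inner (h : W2 Om) (hT : TO Om) (hF : CF Om) (hne : Om.Nonempty) (hi : ¬ IThree Om) {G0 : Subgroup G}
    (hle : ∀ z, InZ Om z → z ∈ G0) (hab : AbC G0) : False := by
  haveI : Fact (Nat.Prime 2) := ⟨Nat.prime_two⟩
  let N : G → Subgroup G := fun z => closure {t | InZ Om t ∧ z * t = t * z}
  have hNle : ∀ z g, cj g (N z) ≤ N (g * z * g⁻¹) := by
    intro z g
    show (N z).map (MulAut.conj g).toMonoidHom ≤ _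
    rw [Subgroup.map_le_iff_le_comap, closure_le]
    rintro t ⟨ht, htz⟩
    show g * t * g⁻¹ ∈ N (g * z * g⁻¹)
    refine subset_closure ⟨ht.conj h g, ?_⟩
    calc g * z * g⁻¹ * (g * t * g⁻¹) = g * (z * t) * g⁻¹ := by group
      _ = g * (t * z) * g⁻¹ := by rw [htz]
      _ = _ := by group
  have e : Eqv Om N := by
    refine Eqv.of_const (fun z hz g => ?_) (fun z t hz ht hzt => ?_)
    · refine le_antisymm ?_ (hNle z g)
      have h1 := cj_mono g (hNle (g * z * g⁻¹) g⁻¹)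
      have h2 : g⁻¹ * (g * z * g⁻¹) * g⁻¹⁻¹ = z := by group
      rwa [cj_cj_inv, h2] at h1
    · show Subgroup.closure _ = Subgroup.closure _
      congr 1
      ext s
      constructor
      · rintro ⟨hs, hsz⟩
        exact ⟨hs, comm_trans_inner h hT hF hi hz ht hs hzt hsz⟩
      · rintro ⟨hs, hsz⟩
        exact ⟨hs, comm_trans_inner h hT hF hi ht hz hs hzt.symm hsz⟩
  obtain ⟨S⟩ : Nonempty (Sylow 2 G) := inferInstance
  obtain ⟨z, K, hK, hKS, hc⟩ := h.exists_member_central hne S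
  have hz := hK.inZ
  have hzN : z ∈ N z ⊓ (S : Subgroup G) := ⟨subset_closure ⟨hz, rfl⟩, hKS (hK.zmem h)⟩
  refine hab S (N z ⊓ S) ?_ (inf_le_left.trans ((closure_le _).2 fun t ht => hle t ht.1)) ?_ (e.strong h S hz hc)
  · intro h1
    rw [h1, Subgroup.mem_bot] at hzN
    exact hz.z1 h hzN
  · have h1 : ∀ b, InZ Om b → z * b = b * z → N z ≤ centralizer {b} := by
      intro b hb hbz
      refine (closure_le _).2 ?_
      rintro a ⟨ha, haz⟩
      exact mem_centralizer_singleton_iff.2 (comm_trans_inner h hT hF hi hz ha hb haz hbz)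
    have h2 : ∀ a ∈ N z, N z ≤ centralizer {a} := by
      intro a ha
      refine (closure_le _).2 ?_
      rintro b ⟨hb, hbz⟩
      exact mem_centralizer_singleton_iff.2 (mem_centralizer_singleton_iff.1 (h1 b hb hbz ha)).symm
    intro a ha b hb
    exact (mem_centralizer_singleton_iff.1 (h2 b hb.1 ha.1))

end Cfsg.Agent.Cit.Nil.RTwo
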