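import Cfsg.Agent.Cit.Nil.RTwo.InnerMain

/-!
# `r = 2`, `m = 1`: (b1), (b2) of (M2) in the section

`BX Om` : `X_z` has exponent two; an element of `X_z` which commutes with the inner elements of odd order of `C(z)` is `1` or `z`.

* `SW.bx` : the world (S);
* `BX.of_cx` : `X_z = ⟨z⟩`.
-/

set_option autoImplicit false
set_option linter.style.haveILetI false
set_option linter.unusedSectionVars false

namespace Cfsg.Agent.Cit.Nil.RTwo

open Subgroup Cfsg Cfsg.Agent.Cit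

variable {G : Type*} [Group G]

/-- see the head of the file -/
structure BX (Om : Set (Subgroup G)) : Prop where
  sq : ∀ z x, InZ Om z → x ∈ CX Om z → x * x = 1
  fix : ∀ z t, InZ Om z → t ∈ CX Om z →
    (∀ c ∈ sSup Om, c * z = z * c → Odd (orderOf c) → c * t = t * c) → t = 1 ∨ t = z

variable [Finite G] {Om : Set (Subgroup G)} {K K1 K2 L M : Subgroup G} {z t g x y c c' : G}

theorem BX.of_cx (h : W2 Om) (hx : ∀ z x, InZ Om z → x ∈ CX Om z → x = 1 ∨ x = z) : BX Om where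
  sq z x hz hxz := by
    rcases hx z x hz hxz with h1 | h1
    · rw [h1, one_mul]
    · rw [h1]; exact hz.z2 h
  fix z t hz ht _ := hx z t hz ht

/-- a quarter turn of a type I neighbour over the label `c` moves the other labels -/
theorem SB.exists_turn (W : SB Om) (hc : c ∈ CC Om z) : ∃ p ∈ sSup Om, p * z = z * p ∧ p * c * p⁻¹ = c ∧
    ∀ c' ∈ CC Om z, c' ≠ c → p * c' * p⁻¹ ≠ c' := by
  have h := W.w
  obtain ⟨t, l⟩ := id hc
  obtain ⟨K1, K2, L1, L2, a, b, p, q, C⟩ := l.ti.exists_cf h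
  refine ⟨p 0, (le_sSup C.l1.1) (C.qc.mem 0), C.p0z h, ?_, fun c' hc' hne e => ?_⟩
  · have h1 := mem_CX.1 l.ct L1 C.l1 _ (C.qc.mem 0)
    rw [← h1, mul_inv_cancel_right]
  · have hsw := W.sw l hc' (Ne.symm hne)
    have hpc : c' * p 0 * c'⁻¹ = p 0 := by
      rw [mul_inv_eq_iff_eq_mul] at e
      rw [← e, mul_inv_cancel_right]
    have h1 : p 0 ∈ cj c' L1 := by
      rw [← hpc]; exact conj_mem_cj (C.qc.mem 0)
    have hct : c' * t = t * c' := (l.comm_iff h (CC.mem_CX hc')).1 (W.comm hc' hc)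
    rcases C.l1.inf (C.l1.cj_comm h hct) h (Ne.symm (hsw L1 C.l1)) (C.qc.mem 0) h1 with h2 | h2
    · exact C.qc.ne_one 0 h2
    · exact C.qc.ne_z 0 h2

theorem comm_of_pow {s : ℕ} (h1 : g ^ 2 ^ s * c = c * g ^ 2 ^ s) (h3 : g ^ 3 * c = c * g ^ 3) : g * c = c * g := by
  have c1 : Commute (g ^ 2 ^ s) c := h1
  have c3 : Commute (g ^ 3) c := h3
  have hcop : Nat.Coprime (2 ^ s) 3 := Nat.Coprime.pow_left s (by decide)
  have h4 := Nat.gcd_eq_gcd_ab (2 ^ s) 3
  rw [hcop] at h4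
  have h5 : g = (g ^ 2 ^ s) ^ (Nat.gcdA (2 ^ s) 3) * (g ^ 3) ^ (Nat.gcdB (2 ^ s) 3) := by
    rw [← zpow_natCast g (2 ^ s), ← zpow_natCast g 3, ← zpow_mul, ← zpow_mul, ← zpow_add, ← h4]
    simp
  rw [h5]
  exact ((c1.zpow_left _).mul_left (c3.zpow_left _)).eq

/-- **an inner element of odd order moving all labels** -/
theorem SB.exists_odd (W : SB Om) (hz : InZ Om z) : ∃ g ∈ sSup Om, g * z = z * g ∧ Odd (orderOf g) ∧
    ∀ c ∈ CC Om z, g * c ≠ c * g := by
  have h := W.w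
  obtain ⟨c0, c1, c2, hcc, n01, n02, n12, -⟩ := W.exists_cc hz
  have m0 : c0 ∈ CC Om z := by rw [hcc]; simp
  have m1 : c1 ∈ CC Om z := by rw [hcc]; simp
  have m2 : c2 ∈ CC Om z := by rw [hcc]; simp
  obtain ⟨p, hp, hpz, p0, hp'⟩ := W.exists_turn m0
  obtain ⟨q, hq, hqz, q1, hq'⟩ := W.exists_turn m1
  have hcl : ∀ {g c : G}, g * z = z * g → c ∈ CC Om z → g * c * g⁻¹ = c0 ∨ g * c * g⁻¹ = c1 ∨ g * c * g⁻¹ = c2 := by
    intro g c hg hc
    have h1 := (CC.cj_iff h g).2 hc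
    rw [hg, mul_inv_cancel_right, hcc] at h1
    simpa using h1
  have inj : ∀ {g c c' : G}, g * c * g⁻¹ = g * c' * g⁻¹ → c = c' := fun e => mul_left_cancel (mul_right_cancel e)
  -- `p`: `c1 ↔ c2`
  have p1 : p * c1 * p⁻¹ = c2 := by
    rcases hcl hpz m1 with h1 | h1 | h1
    · exact absurd (inj (h1.trans p0.symm)).symm n01
    · exact absurd h1 (hp' c1 m1 n01.symm)
    · exact h1
  have p2 : p * c2 * p⁻¹ = c1 := by
    rcases hcl hpz m2 with h1 | h1 | h1
    · exact absurd (inj (h1.trans p0.symm)).symm n02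
    · exact h1
    · exact absurd h1 (hp' c2 m2 n02.symm)
  have q0 : q * c0 * q⁻¹ = c2 := by
    rcases hcl hqz m0 with h1 | h1 | h1
    · exact absurd h1 (hq' c0 m0 n01)
    · exact absurd (inj (h1.trans q1.symm)) n01
    · exact h1
  have q2 : q * c2 * q⁻¹ = c0 := by
    rcases hcl hqz m2 with h1 | h1 | h1
    · exact h1
    · exact absurd (inj (h1.trans q1.symm)) n12.symm
    · exact absurd h1 (hq' c2 m2 n12.symm)
  obtain ⟨g, hg⟩ : ∃ g, g = p * q := ⟨_, rfl⟩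
  have hcomp : ∀ c, g * c * g⁻¹ = p * (q * c * q⁻¹) * p⁻¹ := fun c => by rw [hg]; group
  have g0 : g * c0 * g⁻¹ = c1 := by rw [hcomp, q0, p2]
  have g1 : g * c1 * g⁻¹ = c2 := by rw [hcomp, q1, p1]
  have g2 : g * c2 * g⁻¹ = c0 := by rw [hcomp, q2, p0]
  have hgz : Commute g z := by
    have e1 : Commute p z := hpz
    have e2 : Commute q z := hqz
    rw [hg]; exact e1.mul_left e2
  have hmov : ∀ c ∈ CC Om z, g * c ≠ c * g := by
    intro c hc e
    have h1 : g * c * g⁻¹ = c := by rw [e, mul_inv_cancel_right]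
    rw [hcc] at hc
    simp only [Set.mem_insert_iff, Set.mem_singleton_iff] at hc
    rcases hc with rfl | rfl | rfl
    · exact n01 (h1.symm.trans g0)
    · exact n12 (h1.symm.trans g1)
    · exact n02 (g2.symm.trans h1)
  have h3 : ∀ c ∈ CC Om z, g ^ 3 * c = c * g ^ 3 := by
    intro c hc
    have h1 : g ^ 3 * c * (g ^ 3)⁻¹ = g * (g * (g * c * g⁻¹) * g⁻¹) * g⁻¹ := by
      simp only [pow_succ, pow_zero, one_mul]; group
    rw [← mul_inv_eq_iff_eq_mul, h1]
    rw [hcc] at hc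
    simp only [Set.mem_insert_iff, Set.mem_singleton_iff] at hc
    rcases hc with rfl | rfl | rfl
    · rw [g0, g1, g2]
    · rw [g1, g2, g0]
    · rw [g2, g0, g1]
  obtain ⟨s, m, hm, hsm⟩ : ∃ s m : ℕ, Odd m ∧ orderOf g = 2 ^ s * m := by
    obtain ⟨n, m, hm, hnm⟩ := Nat.exists_eq_two_pow_mul_odd (orderOf_pos g).ne'
    exact ⟨n, m, hm, hnm⟩
  refine ⟨g ^ 2 ^ s, pow_mem (by rw [hg]; exact mul_mem hp hq) _, (hgz.pow_left _).eq, ?_, fun c hc e => ?_⟩
  · have h1 : (g ^ 2 ^ s) ^ m = 1 := by rw [← pow_mul, ← hsm, pow_orderOf_eq_one]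
    exact hm.of_dvd_nat (orderOf_dvd_of_pow_eq_one h1)
  · exact hmov c hc (comm_of_pow e (h3 c hc))

/-- **`BX` in the world (S)** -/
theorem SW.bx (S : SW Om) (W : SB Om) : BX Om where
  sq z x hz hx := by
    have h := S.w
    have hz2 := hz.z2 h
    rcases S.cx z hz x hx with h1 | h1 | h1 | h1
    · rw [h1, one_mul]
    · rw [h1, hz2]
    · exact CC.sq h1
    · have h2 := CC.sq h1
      have h3 := CX_le hz h hx
      calc x * x = (z * z) * (x * x) := by rw [hz2, one_mul]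
        _ = z * (x * z) * x := by rw [h3]; group
        _ = z * x * (z * x) := by group
        _ = 1 := h2
  fix z t hz ht hall := by
    have h := S.w
    obtain ⟨g, hg, hgz, ho, hmov⟩ := W.exists_odd hz
    have h1 := hall g hg hgz ho
    rcases S.cx z hz t ht with h2 | h2 | h2 | h2
    · exact Or.inl h2
    · exact Or.inr h2
    · exact absurd h1 (hmov t h2)
    · refine absurd ?_ (hmov _ h2)
      rw [← mul_assoc, hgz, mul_assoc, h1, mul_assoc]

end Cfsg.Agent.Cit.Nil.RTwo
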