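import Cfsg.Agent.Cit.Nil.RTwo.Theta

/-!
# LEMMA L1' and the labels of the lines on `z` (section 2 of the blueprint)

* `CC Om z` : the labels of the type I lines on `z`;
* `DC Om z a b c` : the directions (elements of `Fin 3 × Fin 3`) of the lines on `z` with label `c`;
* `Lab.lone` : LEMMA L1';
* `CC.eq_one` (2.1), `CC.eq_three` (2.2), `DC.line`, `DC.par` (2.4).
-/

set_option autoImplicit false
set_option linter.style.haveILetI false
set_option linter.unusedSectionVars false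
set_option maxHeartbeats 400000

namespace Cfsg.Agent.Cit.Nil.RTwo

open Subgroup Cfsg Cit

variable {G : Type*} [Group G]

/-- the labels of the type I lines on `z` -/
def CC (Om : Set (Subgroup G)) (z : G) : Set G := {c | ∃ t, Lab Om z t c}

/-- the directions of the lines on `z` with label `c` -/
def DC (Om : Set (Subgroup G)) (z : G) (a b : Fin 3 → G) (c : G) : Set (Fin 3 × Fin 3) :=
  {p | ∃ t, Lab Om z t c ∧ Dir z a b (t * c) p.1 p.2}

section

variable [Finite G] {Om : Set (Subgroup G)} {K K1 K2 L L1 L2 : Subgroup G} {z t g x y w c c' : G}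
  {a b : Fin 3 → G}

theorem Lab.mem_CC (l : Lab Om z t c) : c ∈ CC Om z := ⟨t, l⟩

theorem mem_DC {p : Fin 3 × Fin 3} : p ∈ DC Om z a b c ↔ ∃ t, Lab Om z t c ∧ Dir z a b (t * c) p.1 p.2 := Iff.rfl

theorem DC.mem_CC {p : Fin 3 × Fin 3} (hp : p ∈ DC Om z a b c) : c ∈ CC Om z := by
  obtain ⟨t, l, -⟩ := hp; exact ⟨t, l⟩

theorem CC.exists_dir (h : W2 Om) (F : Frame Om z K1 K2 a b) (hc : c ∈ CC Om z) : ∃ p, p ∈ DC Om z a b c := by
  obtain ⟨t, l⟩ := hc
  obtain ⟨th, i, j, -, -, -, -, hd, -⟩ := l.theta h F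
  exact ⟨(i, j), t, l, hd⟩

theorem CC.sq (hc : c ∈ CC Om z) : c * c = 1 := by obtain ⟨t, l⟩ := hc; exact l.sq

theorem CC.inv (hc : c ∈ CC Om z) : c⁻¹ = c := inv_eq_of_mul_eq_one_right (CC.sq hc)

theorem CC.mem_CX (hc : c ∈ CC Om z) : c ∈ CX Om z := by obtain ⟨t, l⟩ := hc; exact l.cz

theorem CC.inZ (hc : c ∈ CC Om z) : InZ Om z := by obtain ⟨t, l⟩ := hc; exact l.ti.1

theorem CC.comm_z (h : W2 Om) (hc : c ∈ CC Om z) : c * z = z * c := by
  obtain ⟨t, l⟩ := hc; exact l.comm_z h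

theorem CC.ne_z (h : W2 Om) (hc : c ∈ CC Om z) : c ≠ z := by
  obtain ⟨t, l⟩ := hc; exact l.ne_z h

theorem CC.conj (h : W2 Om) (hc : c ∈ CC Om z) (g : G) : g * c * g⁻¹ ∈ CC Om (g * z * g⁻¹) := by
  obtain ⟨t, l⟩ := hc; exact ⟨_, l.conj h g⟩

theorem CC.conj_comm (h : W2 Om) (hc : c ∈ CC Om z) (hg : g * z = z * g) : g * c * g⁻¹ ∈ CC Om z := by
  have := CC.conj h hc g
  rwa [hg, mul_inv_cancel_right] at this

theorem Lab.conj_comm (h : W2 Om) (l : Lab Om z t c) (hg : g * z = z * g) : Lab Om z (g * t * g⁻¹) (g * c * g⁻¹) := by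
  have := l.conj h g
  rwa [hg, mul_inv_cancel_right] at this

theorem Sw.not_fx (hz : InZ Om z) (hs : Sw Om z x) (hf : Fx Om z x) : False := by
  obtain ⟨K, hK⟩ := hz; exact hs K hK (hf K hK)

theorem Inn.fx (hi : Inn Om z g) (h : W2 Om) : Fx Om z g := fun _ hK => hi.cj_eq hK h

/-- the direction of a line in the frame -/
theorem Lab.exists_theta (h : W2 Om) (F : Frame Om z K1 K2 a b) (l : Lab Om z t c) {p : Fin 3 × Fin 3}
    (hp : Dir z a b (t * c) p.1 p.2) : ∃ th, th * th = t ∧ th * z = z * th ∧ th * c = c * th ∧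
    (∃ L, Mem Om t L ∧ th ∈ L) ∧ Act z a a th (rf p.1) ∧ Act z b b th (rf p.2) ∧
    ∀ x ∈ CX Om z, x * c = c * x → (Fx Om t x ∧ th * x * th⁻¹ = x) ∨ (Sw Om t x ∧ th * x * th⁻¹ = x * z * c) := by
  obtain ⟨th, i, j, h1, h2, h3, h4, hd, h5, h6, h7⟩ := l.theta h F
  obtain ⟨rfl, rfl⟩ := F.dir_unique h hp hd
  exact ⟨th, h1, h2, h3, h4, h5, h6, h7⟩

/-- two lines with the same direction and commuting labels -/
theorem Lab.same (h : W2 Om) (F : Frame Om z K1 K2 a b) {t' : G} (l : Lab Om z t c) (l' : Lab Om z t' c')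
    (hc : c * c' = c' * c) {p : Fin 3 × Fin 3} (hp : Dir z a b (t * c) p.1 p.2)
    (hp' : Dir z a b (t' * c') p.1 p.2) (hf : Fx Om t c') : c = c' := by
  have hzz : ∀ u : G, z * (z * u) = u := F.qa.zzx
  -- replace `t'` by `z t'`
  obtain ⟨s, ls, hs⟩ : ∃ s, Lab Om z s c' ∧ s * c' = t * c := by
    have h1 : t' * c' = t * c ∨ z * (t' * c') = t * c := by
      rcases hp with e1 | e1 <;> rcases hp' with e2 | e2
      · left; rw [e1, e2]
      · right; rw [e1, e2, hzz]
      · right; rw [e1, e2]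
      · left; rw [e1, e2]
    rcases h1 with h1 | h1
    · exact ⟨t', l', h1⟩
    · exact ⟨z * t', l'.mul h, by rw [mul_assoc]; exact h1⟩
  have hs' : s = t * c * c' := by rw [← hs, mul_assoc, l'.sq, mul_one]
  have htt : t ∈ CX Om t := z_mem_CX h
  obtain ⟨L, hL⟩ := l.ti.2.1
  rcases l.fx_or h l'.cz hc.symm l'.sq hf with h1 | h1
  · have h2 : s ∈ CX Om t := by
      rw [hs']; exact mul_mem (mul_mem htt l.ct) h1
    have h3 : s = t := ls.ti.2.1.eq_of_cent hL h (fun k hk => mem_CX.1 h2 L hL k hk)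
    rw [h3] at ls
    exact l.unique h ls
  · have h2 : z * s ∈ CX Om t := by
      have e : z * s = t * c * (z * c') := by
        rw [hs']
        calc z * (t * c * c') = (z * t) * c * c' := by group
          _ = t * (z * c) * c' := by rw [l.zt]; group
          _ = t * (c * z) * c' := by rw [l.comm_z h]
          _ = _ := by group
      rw [e]; exact mul_mem (mul_mem htt l.ct) h1
    have ls' := ls.mul h
    have h3 : z * s = t := ls'.ti.2.1.eq_of_cent hL h (fun k hk => mem_CX.1 h2 L hL k hk)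
    rw [h3] at ls'
    exact l.unique h ls'

/-- **LEMMA L1'** -/
theorem Lab.lone (h : W2 Om) (F : Frame Om z K1 K2 a b) {t' : G} (l : Lab Om z t c) (l' : Lab Om z t' c')
    (hc : c * c' = c' * c) {p q : Fin 3 × Fin 3} (hp : Dir z a b (t * c) p.1 p.2)
    (hq : Dir z a b (t' * c') q.1 q.2) : (Fx Om t c' ∧ c = c') ∨
      (Sw Om t c' ∧ -p - q ∈ DC Om z a b (z * c * c')) := by
  obtain ⟨th, -, hz, hcc, -, ha, hb, hx⟩ := l.exists_theta h F hp
  rcases hx c' l'.cz hc.symm with ⟨h1, h2⟩ | ⟨h1, h2⟩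
  · left
    refine ⟨h1, ?_⟩
    -- `c'` occurs over `-p-q`, so over `p`
    have l3 := l'.conj_comm h hz
    rw [h2] at l3
    have h3 : Dir z a b (th * t' * th⁻¹ * c') (-p - q).1 (-p - q).2 := by
      have h4 := F.dir_conj hz ha hb hq
      rw [rf_apply, rf_apply] at h4
      have e : th * (t' * c') * th⁻¹ = th * t' * th⁻¹ * c' := by
        calc th * (t' * c') * th⁻¹ = th * t' * th⁻¹ * (th * c' * th⁻¹) := by group
          _ = _ := by rw [h2]
      rwa [e] at h4
    obtain ⟨th', -, hz', hcc', -, ha', hb', -⟩ := l'.exists_theta h F hq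
    have l4 := l3.conj_comm h hz'
    have h2' : th' * c' * th'⁻¹ = c' := by rw [hcc', mul_inv_cancel_right]
    rw [h2'] at l4
    have h5 : Dir z a b (th' * (th * t' * th⁻¹) * th'⁻¹ * c') p.1 p.2 := by
      have h4 := F.dir_conj hz' ha' hb' h3
      rw [rf_apply, rf_apply] at h4
      have e : th' * (th * t' * th⁻¹ * c') * th'⁻¹ = th' * (th * t' * th⁻¹) * th'⁻¹ * c' := by
        calc th' * (th * t' * th⁻¹ * c') * th'⁻¹ = th' * (th * t' * th⁻¹) * th'⁻¹ * (th' * c' * th'⁻¹) := by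
              group
          _ = _ := by rw [h2']
      rw [e] at h4
      have e1 : -q.1 - (-p - q).1 = p.1 := by
        show -q.1 - (-p.1 - q.1) = p.1
        abel
      have e2 : -q.2 - (-p - q).2 = p.2 := by
        show -q.2 - (-p.2 - q.2) = p.2
        abel
      rwa [e1, e2] at h4
    exact l.same h F l4 hc hp h5 h1
  · right
    refine ⟨h1, ?_⟩
    have e0 : th * c' * th⁻¹ = z * c * c' := by
      rw [h2, l'.comm_z h, mul_assoc, ← hc, mul_assoc]
    have l3 := l'.conj_comm h hz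
    rw [e0] at l3
    refine ⟨_, l3, ?_⟩
    have h4 := F.dir_conj hz ha hb hq
    rw [rf_apply, rf_apply] at h4
    have e : th * (t' * c') * th⁻¹ = th * t' * th⁻¹ * (z * c * c') := by
      calc th * (t' * c') * th⁻¹ = th * t' * th⁻¹ * (th * c' * th⁻¹) := by group
        _ = _ := by rw [e0]
    rw [e] at h4
    exact h4

end

end Cfsg.Agent.Cit.Nil.RTwo
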