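import Cfsg.Agent.Cit.Nil.RTwo.TypeI

/-!
# Labels of type I lines: (1.3)-(1.6) of the blueprint
-/

set_option autoImplicit false
set_option linter.style.haveILetI false
set_option linter.unusedSectionVars false
set_option maxHeartbeats 400000

namespace Cfsg.Agent.Cit.Nil.RTwo

open Subgroup Cfsg Cit

variable {G : Type*} [Group G]

section

variable [Finite G] {Om : Set (Subgroup G)} {K K1 K2 L L1 L2 : Subgroup G} {z t g x y c c' : G}
  {a b p q : Fin 3 → G}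

/-- `R_z ∩ X_z = ⟨z⟩` -/
theorem RZ_inf_CX (h : W2 Om) (hz : InZ Om z) (hx : x ∈ RZ Om z) (hx' : x ∈ CX Om z) : x = 1 ∨ x = z := by
  obtain ⟨K1, h1⟩ := hz
  obtain ⟨K2, h2, hne, -⟩ := h1.other h
  obtain ⟨a, qa⟩ := h.exists_q3 h1
  obtain ⟨b, qb⟩ := h.exists_q3 h2
  obtain ⟨k, hk, l, hl, rfl⟩ := (mem_RZ h1 h2 h hne).1 hx
  have hk' : ∀ y ∈ K1, k * y = y * k := by
    intro y hy
    have h3 := mem_CX.1 hx' K1 h1 y hy
    have h4 := h1.comm h2 h hne hy hl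
    have h5 : k * y * l = y * k * l := by
      rw [mul_assoc, h4, ← mul_assoc, h3, mul_assoc]
    exact mul_right_cancel h5
  have hl' : ∀ y ∈ K2, l * y = y * l := by
    intro y hy
    have h3 := mem_CX.1 hx' K2 h2 y hy
    have h4 := h1.comm h2 h hne hk hy
    have h5 : k * (l * y) = k * (y * l) := by
      rw [← mul_assoc, h3, ← mul_assoc, ← mul_assoc, h4]
    exact mul_left_cancel h5
  rcases qa.center hk (hk' _ (qa.mem 0)) (hk' _ (qa.mem 1)) with rfl | rfl <;>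
  rcases qb.center hl (hl' _ (qb.mem 0)) (hl' _ (qb.mem 1)) with rfl | rfl
  · left; simp
  · right; simp
  · right; simp
  · left; exact qa.z2

theorem TI.symm (h : W2 Om) (hti : TI Om z t) : TI Om t z :=
  ⟨hti.2.1, hti.1, hti.2.2.1.symm, hti.2.2.2.1.symm, hti.2.2.2.2.symm hti.1 hti.2.1 h⟩

theorem TI.conj (h : W2 Om) (hti : TI Om z t) (g : G) : TI Om (g * z * g⁻¹) (g * t * g⁻¹) := by
  obtain ⟨h1, h2, h3, h4, h5⟩ := hti
  refine ⟨h1.conj h g, h2.conj h g, fun e => h3 (mul_left_cancel (mul_right_cancel e)), ?_, h5.conj h g⟩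
  calc g * z * g⁻¹ * (g * t * g⁻¹) = g * (z * t) * g⁻¹ := by group
    _ = g * (t * z) * g⁻¹ := by rw [h4]
    _ = _ := by group

theorem TI.exists_lab (h : W2 Om) (hti : TI Om z t) : ∃ c, Lab Om z t c := by
  obtain ⟨K1, K2, L1, L2, a, b, p, q, C⟩ := hti.exists_cf h
  exact C.exists_lab h

theorem z_not_CX (h : W2 Om) (hz : InZ Om z) (ht : InZ Om t) (hne : z ≠ t) : z ∉ CX Om t := by
  intro h1
  obtain ⟨L, hL⟩ := ht
  exact hne (hz.eq_of_cent hL h fun k hk => mem_CX.1 h1 L hL k hk)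

theorem CX_conj_of_comm (h : W2 Om) (hg : g * z = z * g) (hx : x ∈ CX Om z) : g * x * g⁻¹ ∈ CX Om z :=
  CX_conj_comm h hg hx

namespace Lab

variable (h : W2 Om) (l : Lab Om z t c)

include h l

theorem symm : Lab Om t z c := ⟨l.ti.symm h, l.sq, l.ct, l.cz, l.wt, l.wz⟩

theorem conj (g : G) : Lab Om (g * z * g⁻¹) (g * t * g⁻¹) (g * c * g⁻¹) := by
  refine ⟨l.ti.conj h g, ?_, (CX_conj h g).2 l.cz, (CX_conj h g).2 l.ct, ?_, ?_⟩
  · calc g * c * g⁻¹ * (g * c * g⁻¹) = g * (c * c) * g⁻¹ := by group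
      _ = 1 := by rw [l.sq]; group
  · have := RZ_conj h g l.wz
    have e : g * (t * c) * g⁻¹ = g * t * g⁻¹ * (g * c * g⁻¹) := by group
    rwa [e] at this
  · have := RZ_conj h g l.wt
    have e : g * (z * c) * g⁻¹ = g * z * g⁻¹ * (g * c * g⁻¹) := by group
    rwa [e] at this

omit h in
theorem cinv : c⁻¹ = c := inv_eq_of_mul_eq_one_right l.sq

theorem zinv : z⁻¹ = z := l.ti.1.inv h
theorem tinv : t⁻¹ = t := l.ti.2.1.inv h
theorem z2 : z * z = 1 := l.ti.1.z2 h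
theorem t2 : t * t = 1 := l.ti.2.1.z2 h

omit h in
theorem zt : z * t = t * z := l.ti.2.2.2.1

omit h in
theorem ne_zt : z ≠ t := l.ti.2.2.1

theorem ne_z : c ≠ z := by
  rintro rfl
  exact z_not_CX h l.ti.1 l.ti.2.1 l.ne_zt l.ct

theorem ne_t : c ≠ t := (l.symm h).ne_z h

theorem ne_zmt : c ≠ z * t := by
  intro e
  apply (l.symm h).ne_z h
  have h1 := l.cz
  rw [e] at h1
  exact absurd (by simpa using mul_mem (inv_mem (z_mem_CX h)) h1) (z_not_CX h l.ti.2.1 l.ti.1 l.ne_zt.symm)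

theorem unique (l' : Lab Om z t c') : c = c' := by
  have h1 : t * (c * c'⁻¹) * t⁻¹ ∈ RZ Om z := by
    have h2 := mul_mem l.wz (inv_mem l'.wz)
    have e : t * c * (t * c')⁻¹ = t * (c * c'⁻¹) * t⁻¹ := by group
    rwa [e] at h2
  have h2 : t * (c * c'⁻¹) * t⁻¹ ∈ CX Om z := CX_conj_comm h l.zt.symm (mul_mem l.cz (inv_mem l'.cz))
  rcases RZ_inf_CX h l.ti.1 h1 h2 with h3 | h3
  · rw [mul_inv_eq_one, mul_eq_left, mul_inv_eq_one] at h3
    exact h3
  · exfalso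
    have h4 : c * c'⁻¹ = z := by
      rw [mul_inv_eq_iff_eq_mul, l.zt] at h3
      exact mul_left_cancel h3
    have h5 : z ∈ CX Om t := by rw [← h4]; exact mul_mem l.ct (inv_mem l'.ct)
    exact z_not_CX h l.ti.1 l.ti.2.1 l.ne_zt h5

/-- the label of `⟨z, t⟩` does not depend on the pair -/
theorem mul : Lab Om z (z * t) c := by
  obtain ⟨K1, K2, L1, L2, a, b, p, q, C⟩ := l.ti.exists_cf h
  have h1 := l.conj h (a 1)
  rw [C.a1t] at h1
  have h2 : a 1 * z * (a 1)⁻¹ = z := by rw [C.a1z, mul_inv_cancel_right]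
  have h3 : a 1 * c * (a 1)⁻¹ = c := by
    rw [← mem_CX.1 l.cz K1 C.k1 (a 1) (C.qa.mem 1), mul_inv_cancel_right]
  rwa [h2, h3] at h1

omit h in
theorem cz_comm (hz : InZ Om z) (h : W2 Om) : c * z = z * c := CX_le hz h l.cz

theorem comm_z : c * z = z * c := CX_le l.ti.1 h l.cz
theorem comm_t : c * t = t * c := CX_le l.ti.2.1 h l.ct

/-- `X_V = C_X(z') = C_X(c)` -/
theorem comm_iff (hx : x ∈ CX Om z) : x * c = c * x ↔ x * t = t * x := by
  have h1 : x * (t * c) = t * c * x := CX_comm l.wz hx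
  constructor
  · intro h2
    have h3 : t = (t * c) * c⁻¹ := by group
    have h4 : x * c⁻¹ = c⁻¹ * x := by rw [l.cinv]; exact h2
    rw [h3, ← mul_assoc, h1, mul_assoc, h4, ← mul_assoc]
  · intro h2
    have h3 : c = t⁻¹ * (t * c) := by group
    have h4 : x * t⁻¹ = t⁻¹ * x := by rw [l.tinv h]; exact h2
    rw [h3, ← mul_assoc, h4, mul_assoc, h1, ← mul_assoc]

end Lab

/-! ### The action of `X_V` on `R_t` -/

namespace Cf

variable {K1 K2 L1 L2 : Subgroup G} {a b p q : Fin 3 → G} (C : Cf Om z t K1 K2 L1 L2 a b p q) (h : W2 Om)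

include C

/-- `x` commutes with `z`, normalises `L1` -/
theorem fix_or (hxz : x * z = z * x) (hx : cj x L1 = L1) : x * p 0 * x⁻¹ = p 0 ∨ x * p 0 * x⁻¹ = t * p 0 := by
  have h1 : ∀ m ∈ L1, x * p 0 * x⁻¹ * m * (x * p 0 * x⁻¹)⁻¹ = p 0 * m * (p 0)⁻¹ := by
    intro m hm
    rw [C.act_cj hxz (by rw [hx]; exact hm), C.zc m hm]
  exact C.qc.eq_or_of_act (by rw [← hx]; exact conj_mem_cj (C.qc.mem 0)) (C.qc.mem 0) (h1 _ (C.qc.mem 0))
    (h1 _ (C.qc.mem 1))

include h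

/-- `x` commutes with `z, t, a 0` and normalises `L1`: it acts on `L1` as a power of `a 0` -/
theorem pow_or (hxz : x * z = z * x) (hxt : x * t = t * x) (hxa : x * a 0 = a 0 * x) (hx : cj x L1 = L1) :
    x * p 0 * x⁻¹ = p 0 ∧ ((x * p 1 * x⁻¹ = p 1 ∨ x * p 1 * x⁻¹ = t * p 1) ∨
      (x * p 1 * x⁻¹ = p 2 ∨ x * p 1 * x⁻¹ = t * p 2)) := by
  have hh := C.fix_or hxz hx
  obtain ⟨r1, r2⟩ := C.rot h
  have h01 : p 0 * p 1 = p 2 := C.qc.mul 0
  have h02 : p 0 * p 2 = t * p 1 := C.qc.mul2' 0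
  have hxt' : x * t * x⁻¹ = t := by rw [hxt, mul_inv_cancel_right]
  have hmem : x * p 1 * x⁻¹ ∈ L1 := by
    have := conj_mem_cj (g := x) (C.qc.mem 1)
    rwa [hx] at this
  have hsq : x * p 1 * x⁻¹ * (x * p 1 * x⁻¹) = t := by
    calc x * p 1 * x⁻¹ * (x * p 1 * x⁻¹) = x * (p 1 * p 1) * x⁻¹ := by group
      _ = t := by rw [C.qc.sq, hxt']
  -- the image of `p 1` is not `± p 0`
  have hcase : (x * p 1 * x⁻¹ = p 1 ∨ x * p 1 * x⁻¹ = t * p 1) ∨ (x * p 1 * x⁻¹ = p 2 ∨ x * p 1 * x⁻¹ = t * p 2) := by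
    obtain ⟨i, hi⟩ := C.qc.of_sq hmem hsq
    have h3 : (x * p 0 * x⁻¹) * (x * p 1 * x⁻¹) = t * ((x * p 1 * x⁻¹) * (x * p 0 * x⁻¹)) := by
      have e := C.qc.sw (show (0 : Fin 3) ≠ 1 by decide)
      calc (x * p 0 * x⁻¹) * (x * p 1 * x⁻¹) = x * (p 0 * p 1) * x⁻¹ := by group
        _ = x * (t * (p 1 * p 0)) * x⁻¹ := by rw [e]
        _ = (x * t * x⁻¹) * ((x * p 1 * x⁻¹) * (x * p 0 * x⁻¹)) := by group
        _ = _ := by rw [hxt']
    have hcomm : ∀ u v : G, (u = p 0 ∨ u = t * p 0) → (v = p 0 ∨ v = t * p 0) → u * v = v * u := by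
      have e := C.qc.zc 0
      rintro u v (rfl | rfl) (rfl | rfl)
      · rfl
      · rw [← mul_assoc, ← e]
      · rw [← mul_assoc (p 0), ← e]
      · rfl
    fin_cases i
    · exfalso
      have h4 := hcomm _ _ hh hi
      rw [h4] at h3
      exact C.qc.zne _ h3.symm
    · exact Or.inl hi
    · exact Or.inr hi
  refine ⟨?_, hcase⟩
  rcases hh with hh | hh
  · exact hh
  exfalso
  -- `x a 0 (p 1) = a 0 x (p 1)`
  have hcm : x * (a 0 * p 1 * (a 0)⁻¹) * x⁻¹ = a 0 * (x * p 1 * x⁻¹) * (a 0)⁻¹ := by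
    calc x * (a 0 * p 1 * (a 0)⁻¹) * x⁻¹ = (x * a 0) * p 1 * (x * a 0)⁻¹ := by group
      _ = (a 0 * x) * p 1 * (a 0 * x)⁻¹ := by rw [hxa]
      _ = _ := by group
  have hat : a 0 * t * (a 0)⁻¹ = t := by rw [← C.ta0, mul_inv_cancel_right]
  have hx2 : x * p 2 * x⁻¹ = t * p 0 * (x * p 1 * x⁻¹) := by
    rw [← h01, ← hh]; group
  have ha2 : a 0 * p 2 * (a 0)⁻¹ = p 0 * (a 0 * p 1 * (a 0)⁻¹) := by
    rw [← h01]
    calc a 0 * (p 0 * p 1) * (a 0)⁻¹ = (a 0 * p 0 * (a 0)⁻¹) * (a 0 * p 1 * (a 0)⁻¹) := by group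
      _ = _ := by rw [r1]
  have hxm : ∀ k : G, x * (t * k) * x⁻¹ = t * (x * k * x⁻¹) := by
    intro k
    calc x * (t * k) * x⁻¹ = (x * t * x⁻¹) * (x * k * x⁻¹) := by group
      _ = _ := by rw [hxt']
  have ham : ∀ k : G, a 0 * (t * k) * (a 0)⁻¹ = t * (a 0 * k * (a 0)⁻¹) := by
    intro k
    calc a 0 * (t * k) * (a 0)⁻¹ = (a 0 * t * (a 0)⁻¹) * (a 0 * k * (a 0)⁻¹) := by group
      _ = _ := by rw [hat]
  have htp : ∀ k : G, p 0 * (t * k) = t * (p 0 * k) := by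
    intro k; rw [← mul_assoc, ← C.qc.zc, mul_assoc]
  have hzz := C.qc.zzx
  -- all cases
  rcases r2 with r2 | r2
  · rcases hcase with (h5 | h5) | (h5 | h5)
    · rw [r2, h5, r2, hx2, h5, mul_assoc, h01] at hcm
      exact C.qc.zne _ hcm
    · rw [r2, h5, ham, r2, hx2, h5, mul_assoc, htp, h01, hzz] at hcm
      exact C.qc.zne _ hcm.symm
    · rw [r2, h5, ha2, r2, h02, hx2, h5, mul_assoc, h02, hzz] at hcm
      exact C.qc.zne _ hcm.symm
    · rw [r2, h5, ham, ha2, r2, h02, hx2, h5, mul_assoc, htp, h02, hzz, hzz] at hcm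
      exact C.qc.zne _ hcm
  · rcases hcase with (h5 | h5) | (h5 | h5)
    · rw [r2, h5, r2, hxm, hx2, h5, mul_assoc, h01, hzz] at hcm
      exact C.qc.zne _ hcm.symm
    · rw [r2, h5, ham, r2, hxm, hx2, h5, mul_assoc, htp, h01, hzz, hzz] at hcm
      exact C.qc.zne _ hcm
    · rw [r2, h5, ha2, r2, htp, h02, hzz, hxm, hx2, h5, mul_assoc, h02, hzz] at hcm
      exact C.qc.zne _ hcm
    · rw [r2, h5, ham, ha2, r2, htp, h02, hzz, hxm, hx2, h5, mul_assoc, htp, h02, hzz, hzz] at hcm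
      exact C.qc.zne _ hcm.symm

/-- an involution: trivial or `p 0` -/
theorem inv_or (hxz : x * z = z * x) (hxt : x * t = t * x) (hxa : x * a 0 = a 0 * x) (hx : cj x L1 = L1)
    (hx2 : x * x = 1) : (∀ k ∈ L1, x * k = k * x) ∨ (∀ k ∈ L1, (z * x) * k = k * (z * x)) := by
  obtain ⟨h1, h2⟩ := C.pow_or h hxz hxt hxa hx
  have h01 : p 0 * p 1 = p 2 := C.qc.mul 0
  have h02 : p 0 * p 2 = t * p 1 := C.qc.mul2' 0
  have hxt' : x * t * x⁻¹ = t := by rw [hxt, mul_inv_cancel_right]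
  have hxm : ∀ k : G, x * (t * k) * x⁻¹ = t * (x * k * x⁻¹) := by
    intro k
    calc x * (t * k) * x⁻¹ = (x * t * x⁻¹) * (x * k * x⁻¹) := by group
      _ = _ := by rw [hxt']
  have hxx : ∀ k : G, x * (x * k * x⁻¹) * x⁻¹ = k := by
    intro k
    calc x * (x * k * x⁻¹) * x⁻¹ = (x * x) * k * (x * x)⁻¹ := by group
      _ = k := by rw [hx2]; group
  have hx2' : x * p 2 * x⁻¹ = p 0 * (x * p 1 * x⁻¹) := by
    rw [← h01]
    calc x * (p 0 * p 1) * x⁻¹ = (x * p 0 * x⁻¹) * (x * p 1 * x⁻¹) := by group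
      _ = _ := by rw [h1]
  have htp : ∀ k : G, p 0 * (t * k) = t * (p 0 * k) := by
    intro k; rw [← mul_assoc, ← C.qc.zc, mul_assoc]
  have h3 := hxx (p 1)
  rcases h2 with (h2 | h2) | (h2 | h2)
  · left
    intro k hk
    rw [mul_inv_eq_iff_eq_mul] at h1 h2
    exact C.qc.comm_of h1 h2 hk
  · right
    intro k hk
    have hz0 := C.symm.ta0
    have hz1 := C.symm.ta1
    rw [mul_inv_eq_iff_eq_mul] at h1 h2 hz1
    refine C.qc.comm_of ?_ ?_ hk
    · rw [mul_assoc, h1, ← mul_assoc, hz0, mul_assoc]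
    · calc z * x * p 1 = z * (x * p 1) := by group
        _ = (z * t) * p 1 * x := by rw [h2]; group
        _ = t * (z * p 1) * x := by rw [C.comm]; group
        _ = (t * t) * p 1 * (z * x) := by rw [hz1]; group
        _ = _ := by rw [C.t2, one_mul]
  · exfalso
    rw [h2, hx2', h2, h02] at h3
    exact C.qc.zne _ h3
  · exfalso
    rw [h2, hxm, hx2', h2, htp, h02, C.qc.zzx] at h3
    exact C.qc.zne _ h3

/-- not mixed -/
theorem no_mix (hx : x ∈ CX Om z) (h1 : ∀ k ∈ L1, (z * x) * k = k * (z * x))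
    (h2 : ∀ k ∈ L2, x * k = k * x) : False := by
  have hxz : x * z = z * x := CX_le C.k1.inZ h hx
  -- `p 1` conjugates `x` to `t x`
  have hz1 := C.symm.ta1
  have e1 : p 1 * x * (p 1)⁻¹ = t * x := by
    -- `x p 1 x⁻¹ = z⁻¹ p 1 z = t p 1`
    have h3 := h1 _ (C.qc.mem 1)
    rw [mul_inv_eq_iff_eq_mul] at hz1
    -- `z p 1 = t p 1 z`
    have h4 : x * p 1 = t * (p 1 * x) := by
      have h5 : z * (x * p 1) = z * (t * (p 1 * x)) := by
        calc z * (x * p 1) = (z * x) * p 1 := by group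
          _ = p 1 * (z * x) := h3
          _ = t * (t * (p 1 * z)) * x := by rw [C.qc.zzx]; group
          _ = t * (t * p 1 * z) * x := by group
          _ = t * (z * p 1) * x := by rw [← hz1]
          _ = (z * t) * (p 1 * x) := by rw [C.comm]; group
          _ = _ := by group
      exact mul_left_cancel h5
    have h5 : p 1 * x = t * (x * p 1) := by rw [h4, C.qc.zzx]
    rw [h5]; group
  have hq : p 1 * z * (p 1)⁻¹ = z * t := by
    have := C.symm.a1t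
    rw [this, C.comm]
  have h3 : t * x ∈ CX Om (z * t) := by
    rw [← e1, ← hq]; exact (CX_conj h (p 1)).2 hx
  -- `x` and `t x` centralise `cj (a 1) L2`
  have hM : Mem Om (z * t) (cj (a 1) L2) := by
    have := C.l2.cj h (a 1)
    rwa [C.a1t] at this
  have hxa : x * a 1 = a 1 * x := mem_CX.1 hx K1 C.k1 _ (C.qa.mem 1)
  have h4 : ∀ k ∈ cj (a 1) L2, x * k = k * x := by
    intro k hk
    rw [mem_cj] at hk
    have h5 := h2 _ hk
    have h6 : x * (a 1)⁻¹ = (a 1)⁻¹ * x := by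
      rw [mul_inv_eq_iff_eq_mul, mul_assoc, hxa]; group
    calc x * k = (x * a 1) * ((a 1)⁻¹ * k * a 1) * (a 1)⁻¹ := by group
      _ = a 1 * (x * ((a 1)⁻¹ * k * a 1)) * (a 1)⁻¹ := by rw [hxa]; group
      _ = a 1 * ((a 1)⁻¹ * k * a 1) * (x * (a 1)⁻¹) := by rw [h5]; group
      _ = _ := by rw [h6]; group
  have h5 : t = z * t := by
    refine C.l1.inZ.eq_of_cent hM h fun k hk => ?_
    have h6 := mem_CX.1 h3 _ hM k hk
    have h7 := h4 k hk
    rw [mul_assoc, h7, ← mul_assoc, ← mul_assoc] at h6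
    exact mul_right_cancel h6
  exact C.qa.z1 (mul_eq_right.1 h5.symm)

end Cf

namespace Lab

variable (h : W2 Om) (l : Lab Om z t c)

include h l

/-- (1.4) -/
theorem fx_or (hx : x ∈ CX Om z) (hxc : x * c = c * x) (hx2 : x * x = 1) (hfx : Fx Om t x) :
    x ∈ CX Om t ∨ z * x ∈ CX Om t := by
  obtain ⟨K1, K2, L1, L2, a, b, p, q, C⟩ := l.ti.exists_cf h
  have hxt := (l.comm_iff h hx).1 hxc
  have hxz : x * z = z * x := CX_le l.ti.1 h hx
  have hxa : x * a 0 = a 0 * x := mem_CX.1 hx K1 C.k1 _ (C.qa.mem 0)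
  rcases C.inv_or h hxz hxt hxa (hfx _ C.l1) hx2 with h1 | h1 <;>
  rcases C.swl.inv_or h hxz hxt hxa (hfx _ C.l2) hx2 with h2 | h2
  · left
    rw [mem_CX]
    intro K hK
    rcases C.l1.cases C.l2 h C.lne hK with rfl | rfl
    · exact h1
    · exact h2
  · exact (C.swl.no_mix h hx h2 h1).elim
  · exact (C.no_mix h hx h1 h2).elim
  · right
    rw [mem_CX]
    intro K hK
    rcases C.l1.cases C.l2 h C.lne hK with rfl | rfl
    · exact h1
    · exact h2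

/-- (1.6) -/
theorem ne_conj (hx : x ∈ CX Om z) : x * c * x⁻¹ ≠ c * z := by
  intro h1
  have hxz : x * z = z * x := CX_le l.ti.1 h hx
  have h2 := l.conj h x
  have e1 : x * z * x⁻¹ = z := by rw [hxz, mul_inv_cancel_right]
  have e2 : x * t * x⁻¹ = z * t := by
    have h3 : x * (t * c) = t * c * x := CX_comm l.wz hx
    calc x * t * x⁻¹ = x * (t * c) * (c⁻¹ * x⁻¹) := by group
      _ = (t * c) * (x * c⁻¹ * x⁻¹) := by rw [h3]; group
      _ = (t * c) * (x * c * x⁻¹) := by rw [l.cinv]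
      _ = t * (c * c) * z := by rw [h1]; group
      _ = _ := by rw [l.sq, mul_one, l.zt]
  rw [e1, e2, h1] at h2
  have h3 := (l.mul h).unique h h2
  exact l.ti.1.z1 h (mul_eq_left.1 h3.symm)

end Lab

end

end Cfsg.Agent.Cit.Nil.RTwo
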