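import Cfsg.Agent.Cit.Nil.RTwo.LamFix
import Cfsg.Agent.Lib.GenFitting

/-!
# S1309, `r = 2`, `m = 1`: (10.8), the abstract form, end

* `Ctx.fix_comp` : an automorphism of order `3^n` trivial on `X_Λ` is trivial on the components;
* `Ctx.fix` : it is trivial.
-/

set_option autoImplicit false
set_option linter.unusedSectionVars false
set_option linter.style.haveILetI false
set_option maxHeartbeats 400000

namespace Cfsg.Agent.Cit.Nil.RTwo.Lam

open Subgroup Cfsg Cfsg.Agent.Cit
open Cfsg.Agent.SignalizersComponents.Components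

variable {X : Type*} [Group X]

section

variable {L : Type*} [Group L] [Finite L]

/-- an automorphism of a perfect group trivial modulo the centre is trivial -/
theorem eq_one_of_center (hp : Group.IsPerfect L) (α : MulAut L) (h : ∀ x, x⁻¹ * α x ∈ center L) : α = 1 := by
  let f : L →* center L :=
    { toFun := fun x => ⟨x⁻¹ * α x, h x⟩
      map_one' := Subtype.ext (by simp)
      map_mul' := fun x y => Subtype.ext (by
        show (x * y)⁻¹ * α (x * y) = (x⁻¹ * α x) * (y⁻¹ * α y)
        have h1 := mem_center_iff.1 (h x) y⁻¹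
        rw [map_mul]
        calc (x * y)⁻¹ * (α x * α y) = (y⁻¹ * (x⁻¹ * α x)) * α y := by group
          _ = ((x⁻¹ * α x) * y⁻¹) * α y := by rw [h1]
          _ = _ := by group) }
  have hcc : ∀ x y : center L, x * y = y * x := fun x y => Subtype.ext (mem_center_iff.1 y.2 x)
  letI : CommGroup (center L) := { (inferInstance : Group (center L)) with mul_comm := hcc }
  have h2 : ∀ x, f x = 1 := fun x => SignalizersComponents.CompBasic.hom_eq_one_of_perfect hp f x
  ext x
  have h3 : x⁻¹ * α x = 1 := congrArg Subtype.val (h2 x)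
  rw [inv_mul_eq_one] at h3
  exact h3.symm

end

namespace Ctx

variable [Finite X] {z c c0 x y : X} {C : Set X} {T L : Subgroup X} (h : Ctx z C c0 T)

include h

/-- the strongly embedded subgroup of `L/Z(L)` -/
theorem exists_se (hL : IsComponent L) (hne : ¬ L ≤ XL h.labs c0) :
    ∃ H : Subgroup (L ⧸ center L), IsStronglyEmbedded H := by
  haveI : Fact (Nat.Prime 2) := ⟨Nat.prime_two⟩
  haveI : IsSimpleGroup (L ⧸ center L) := hL.2.2
  obtain ⟨c4, h1, h2, h3, h4, h5⟩ := h.exists_cfour hL hne
  have hzz : ∀ u, z * (z * u) = u := fun u => by rw [← mul_assoc, h.labs.z2, one_mul]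
  have hzc : ∀ u, u * z = z * u := h.labs.zc
  have hc4 : c4 * c4 = 1 := h.labs.sq _ h1
  -- `Z(L) ≤ X_Λ`
  have hcen : ∀ y : L, y ∈ center L → (y : X) ∈ XL h.labs c0 := by
    intro y hy
    refine mem_XL_of_comm h.labs h2 (h.comm_of_mem_zL h3 fun l hl => ?_)
    exact (congrArg Subtype.val (mem_center_iff.1 hy ⟨l, hl⟩)).symm
  -- the involution
  obtain ⟨m, hm⟩ : ∃ m : L, (m : X) = z * c4 := ⟨⟨_, h3⟩, rfl⟩
  have hmc : c4 = z * m := by rw [hm, hzz]
  have hm2 : m * m = 1 := by
    apply Subtype.ext
    show (m : X) * m = 1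
    rw [hm]
    calc z * c4 * (z * c4) = z * (c4 * z) * c4 := by group
      _ = (z * z) * (c4 * c4) := by rw [hzc]; group
      _ = 1 := by rw [h.labs.z2, hc4, one_mul]
  have hmn : m ∉ center L := by
    intro hmc
    apply hne
    intro l hl
    refine mem_XL_of_comm h.labs h2 ?_
    have h6 : l * (z * c4) = (z * c4) * l := by
      have := congrArg Subtype.val (mem_center_iff.1 hmc ⟨l, hl⟩)
      rw [← hm]; exact this
    have h7 : z * (l * c4) = z * (c4 * l) := by
      calc z * (l * c4) = (z * l) * c4 := by group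
        _ = l * (z * c4) := by rw [← hzc]; group
        _ = _ := by rw [h6]; group
    exact mul_left_cancel h7
  obtain ⟨H, hH⟩ : ∃ H, H = (XL h.labs c0).subgroupOf L := ⟨_, rfl⟩
  have hmem : ∀ x : L, (QuotientGroup.mk' (center L) x) ∈ H.map (QuotientGroup.mk' (center L)) ↔
      (x : X) ∈ XL h.labs c0 := by
    intro x
    rw [hH]
    constructor
    · rintro ⟨y, hy, hyx⟩
      have h6 : y⁻¹ * x ∈ center L := by
        rw [← QuotientGroup.ker_mk' (center L), MonoidHom.mem_ker, map_mul, map_inv, hyx, inv_mul_cancel]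
      have h7 := (XL h.labs c0).mul_mem (mem_subgroupOf.1 hy) (hcen _ h6)
      have e : (y : X) * ((y⁻¹ * x : L) : X) = x := by
        rw [Subgroup.coe_mul, Subgroup.coe_inv, mul_inv_cancel_left]
      rwa [e] at h7
    · intro hx
      exact ⟨x, mem_subgroupOf.2 hx, rfl⟩
  have hmX : (m : X) ∈ XL h.labs c0 := by
    refine mem_XL_of_comm h.labs h2 ?_
    rw [hm]
    calc z * c4 * c4 = (z * c4) * c4 := rfl
      _ = (c4 * z) * c4 := by rw [hzc]
      _ = _ := by group
  have hcx : ∀ x : L, (x : X) * c4 * (x : X)⁻¹ = z * ((x * m * x⁻¹ : L) : X) := by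
    intro x
    rw [hmc, Subgroup.coe_mul, Subgroup.coe_mul, Subgroup.coe_inv]
    calc (x : X) * (z * m) * (x : X)⁻¹ = ((x : X) * z) * m * (x : X)⁻¹ := by group
      _ = (z * x) * m * (x : X)⁻¹ := by rw [hzc]
      _ = _ := by group
  have hzX : z ∈ XL h.labs c0 := mem_XL_of_comm h.labs h2 (hzc c4).symm
  have key2 : ∀ x : L, ((x * m * x⁻¹ : L) : X) ∈ XL h.labs c0 → (x : X) ∈ XL h.labs c0 := by
    intro x hx
    refine h.mem_of h2 ?_
    rw [hcx]
    exact (XL h.labs c0).mul_mem hzX hx
  have hπ : Function.Surjective (QuotientGroup.mk' (center L)) := QuotientGroup.mk'_surjective _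
  refine Cfsg.Agent.S1175.result (H.map (QuotientGroup.mk' (center L))) ?_ (QuotientGroup.mk' (center L) m) ?_
    ((hmem m).2 hmX) ?_ ?_ ?_
  · intro htop
    apply hne
    intro l hl
    have h6 : QuotientGroup.mk' (center L) (⟨l, hl⟩ : L) ∈ H.map (QuotientGroup.mk' (center L)) := by
      rw [htop]; exact mem_top _
    exact (hmem _).1 h6
  · refine orderOf_eq_prime ?_ ?_
    · rw [← map_pow, pow_two, hm2, map_one]
    · intro h6
      rw [← MonoidHom.mem_ker, QuotientGroup.ker_mk'] at h6
      exact hmn h6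
  · obtain ⟨P, hP⟩ := h.exists_syl hL
    have hmP : ∀ p : L, p ∈ P ↔ (p : X) ∈ T := by
      intro p
      have : p ∈ (P : Subgroup L) ↔ (p : X) ∈ T := by rw [hP, mem_subgroupOf]
      exact this
    have hzT : z ∈ T := by
      obtain ⟨n, hn, h1⟩ := LB.exists_conj_mem h.syl (Subgroup.mem_top z) (isPGroup_zpowers_of_sq h.labs.z2)
      rwa [h.labs.zc, mul_inv_cancel_right] at h1
    refine ⟨P.mapSurjective hπ, ?_, ?_⟩
    · have h6 : QuotientGroup.mk' (center L) m ∈ (P : Subgroup L).map (QuotientGroup.mk' (center L)) :=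
        ⟨m, (hmP m).2 (by rw [hm]; exact T.mul_mem hzT h4), rfl⟩
      rw [← Sylow.coe_mapSurjective hπ] at h6
      exact h6
    · intro s hs
      have h6 : s ∈ (P : Subgroup L).map (QuotientGroup.mk' (center L)) := by
        rw [← Sylow.coe_mapSurjective hπ]; exact hs
      obtain ⟨t, ht, rfl⟩ := h6
      have ht' : (t : X) ∈ T := (hmP t).1 ht
      have h7 : t * m = m * t := by
        apply Subtype.ext
        show (t : X) * m = m * t
        rw [hm]
        have h8 := h5 _ ht'
        calc (t : X) * (z * c4) = ((t : X) * z) * c4 := by group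
          _ = z * ((t : X) * c4) := by rw [hzc]; group
          _ = _ := by rw [h8]; group
      show QuotientGroup.mk' (center L) t * QuotientGroup.mk' (center L) m = _
      rw [← map_mul, h7, map_mul]
  · intro g hg
    obtain ⟨x, rfl⟩ := hπ g
    rw [← map_inv, ← map_mul, ← map_mul, hmem] at hg
    exact (hmem x).2 (key2 x hg)
  · intro g hg hgne
    obtain ⟨x, rfl⟩ := hπ g
    rw [← map_inv, ← map_mul, ← map_mul] at hg hgne ⊢
    obtain ⟨m', hm'⟩ : ∃ m', m' = x * m * x⁻¹ := ⟨_, rfl⟩
    rw [← hm'] at hg hgne ⊢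
    have hne' : m' ≠ m := fun e => hgne (by rw [e])
    -- the commutator
    have hζ : m' * m * m'⁻¹ * m⁻¹ ∈ center L := by
      rw [← QuotientGroup.ker_mk' (center L), MonoidHom.mem_ker, map_mul, map_mul, map_mul, map_inv, map_inv]
      have h6 := hg.eq
      rw [← h6]; group
    obtain ⟨ζ, hζe⟩ : ∃ ζ, ζ = m' * m * m'⁻¹ * m⁻¹ := ⟨_, rfl⟩
    rw [← hζe] at hζ
    have hc4' : z * (m' : X) = (x : X) * c4 * (x : X)⁻¹ := by rw [hcx, hm']
    have hc4C : z * (m' : X) ∈ C := by rw [hc4']; exact h.labs.conj _ h1 _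
    by_cases hζ1 : ζ = 1
    · -- commuting
      have hcm : m' * m = m * m' := by
        rw [hζ1] at hζe
        have h6 := hζe.symm
        rw [mul_inv_eq_one, mul_inv_eq_iff_eq_mul] at h6
        exact h6
      have hcmX : (m' : X) * m = m * m' := congrArg Subtype.val hcm
      have h6 : c4 * (z * (m' : X)) = z * (m' : X) * c4 := by
        rw [hmc]
        calc z * (m : X) * (z * m') = z * ((m : X) * z) * m' := by group
          _ = (z * z) * ((m : X) * m') := by rw [hzc]; group
          _ = (z * z) * ((m' : X) * m) := by rw [hcmX]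
          _ = z * (z * (m' : X)) * m := by group
          _ = z * ((m' : X) * z) * m := by rw [hzc]
          _ = _ := by group
      have h7 : c4 ≠ z * (m' : X) := by
        intro e
        rw [hmc] at e
        exact hne' (Subtype.ext (mul_left_cancel e)).symm
      have h8 := h.labs.third _ h1 _ hc4C h6 h7
      have h9 : Conn C c0 (z * c4 * (z * (m' : X))) := by
        refine h2.tail ⟨h1, h8, ?_⟩
        calc c4 * (z * c4 * (z * (m' : X))) = (c4 * z) * (c4 * (z * m')) := by group
          _ = (z * c4) * (z * m' * c4) := by rw [hzc, h6]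
          _ = _ := by group
      have he5 : z * c4 * (z * (m' : X)) = z * ((m * m' : L) : X) := by
        rw [hmc, hzz, Subgroup.coe_mul, ← mul_assoc, hzc, mul_assoc]
      rw [he5] at h9 h8
      intro g hg2
      obtain ⟨y, rfl⟩ := hπ g
      rw [mem_centralizer_singleton_iff, ← map_mul, ← map_mul, ← map_mul] at hg2
      apply (hmem y).2
      refine h.mem_of h9 ?_
      -- `y (m m') y⁻¹ = ζ' (m m')`
      have h10 : y * (m * m') * (m * m' * y)⁻¹ ∈ center L := by
        rw [← QuotientGroup.ker_mk' (center L), MonoidHom.mem_ker, map_mul, map_inv, hg2, mul_inv_cancel]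
      have e : (y : X) * (z * ((m * m' : L) : X)) * (y : X)⁻¹ =
          ((y * (m * m') * (m * m' * y)⁻¹ : L) : X) * (z * ((m * m' : L) : X)) := by
        have e1 : (y : X) * (z * ((m * m' : L) : X)) * (y : X)⁻¹ = z * ((y * (m * m') * y⁻¹ : L) : X) := by
          push_cast
          calc (y : X) * (z * ((m : X) * m')) * (y : X)⁻¹ = ((y : X) * z) * ((m : X) * m') * (y : X)⁻¹ := by group
            _ = (z * y) * ((m : X) * m') * (y : X)⁻¹ := by rw [hzc]
            _ = _ := by group
        have e3 : y * (m * m') * y⁻¹ = (y * (m * m') * (m * m' * y)⁻¹) * (m * m') := by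
          group
        rw [e1, e3]
        obtain ⟨A, hA⟩ : ∃ A, A = y * (m * m') * (m * m' * y)⁻¹ := ⟨_, rfl⟩
        obtain ⟨B, hB⟩ : ∃ B, B = m * m' := ⟨_, rfl⟩
        rw [← hA, ← hB, Subgroup.coe_mul]
        calc z * ((A : X) * B) = (z * A) * B := by group
          _ = ((A : X) * z) * B := by rw [hzc]
          _ = _ := by group
      rw [e]
      refine (XL h.labs c0).mul_mem (hcen _ h10) ?_
      exact mem_XL_of_comm h.labs h9 rfl
    · -- not commuting: contradiction
      exfalso
      apply hne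
      have hζX : ∀ l ∈ L, l * (ζ : X) = ζ * l := fun l hl => congrArg Subtype.val (mem_center_iff.1 hζ ⟨l, hl⟩)
      have hζc : c4 * (ζ : X) = ζ * c4 := by
        rw [hmc]
        calc z * (m : X) * ζ = z * ((m : X) * ζ) := by group
          _ = z * ((ζ : X) * m) := by rw [hζX _ m.2]
          _ = (z * ζ) * m := by group
          _ = (ζ * z) * m := by rw [← hzc]
          _ = _ := by group
      have h6 : (m' : X) * c4 * (m' : X)⁻¹ = ζ * c4 := by
        rw [hcx]
        have e1 : m' * m * m'⁻¹ = ζ * m := by rw [hζe, inv_mul_cancel_right]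
        rw [e1, hmc, Subgroup.coe_mul, ← mul_assoc, ← hzc, mul_assoc]
      have h7 := h.labs.conj _ h1 (m' : X)
      rw [h6] at h7
      have h8 : c4 * (ζ * c4) = ζ * c4 * c4 := by rw [← mul_assoc, hζc]
      have h9 : c4 ≠ ζ * c4 := by
        intro e
        exact hζ1 (Subtype.ext (mul_eq_right.1 e.symm))
      have h10 := h.labs.third _ h1 _ h7 h8 h9
      have e : z * c4 * (ζ * c4) = z * ζ := by
        calc z * c4 * (ζ * c4) = z * (c4 * ζ) * c4 := by group
          _ = z * ζ * (c4 * c4) := by rw [hζc]; group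
          _ = _ := by rw [hc4, mul_one]
      rw [e] at h10
      intro l hl
      refine mem_XL_of_comm h.labs (h2.tail ⟨h1, h10, ?_⟩) ?_
      · calc c4 * (z * ζ) = (c4 * z) * ζ := by group
          _ = z * (c4 * ζ) := by rw [hzc]; group
          _ = _ := by rw [hζc]; group
      · calc l * (z * ζ) = (l * z) * ζ := by group
          _ = z * (l * ζ) := by rw [hzc]; group
          _ = _ := by rw [hζX l hl]; group

/-- the action of an automorphism on `L/Z(L)` -/
theorem fix_comp (hL : IsComponent L) (α : MulAut X) {n : ℕ} (hα : α ^ 3 ^ n = 1)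
    (hfix : ∀ x ∈ XL h.labs c0, α x = x) : ∀ l ∈ L, α l = l := by
  haveI : Fact (Nat.Prime 2) := ⟨Nat.prime_two⟩
  by_cases hne : L ≤ XL h.labs c0
  · exact fun l hl => hfix l (hne hl)
  haveI : IsSimpleGroup (L ⧸ center L) := hL.2.2
  obtain ⟨H, hH⟩ := h.exists_se hL hne
  obtain ⟨t, ht, htL, l0, hl0, hne0⟩ := h.exists_nc hL
  -- `α L = L`
  have hαL : L.map α.toMonoidHom = L := by
    by_contra hne'
    apply hne0
    refine comm_of_comp_ne hL (isComponent_map_equiv α hL) (fun e => hne' e.symm) hl0 ?_
    exact ⟨t, htL, hfix t (h.T_le ht)⟩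
  have hαL' : ∀ x, α x ∈ L ↔ x ∈ L := by
    intro x
    constructor
    · intro hx
      rw [← hαL] at hx
      obtain ⟨y, hy, hyx⟩ := hx
      have : y = x := α.injective hyx
      rwa [← this]
    · intro hx
      rw [← hαL]; exact ⟨x, hx, rfl⟩
  -- the restriction
  obtain ⟨β, hβ⟩ : ∃ β : MulAut L, ∀ x : L, ((β x : L) : X) = α x := by
    refine ⟨{ toFun := fun x => ⟨α x, (hαL' x).2 x.2⟩
              invFun := fun x => ⟨α.symm x, (hαL' _).1 (by rw [MulEquiv.apply_symm_apply]; exact x.2)⟩
              left_inv := fun x => Subtype.ext (by simp)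
              right_inv := fun x => Subtype.ext (by simp)
              map_mul' := fun x y => Subtype.ext (by simp) }, fun x => rfl⟩
  have hβk : ∀ (k : ℕ) (x : L), (((β ^ k) x : L) : X) = (α ^ k) x := by
    intro k
    induction k with
    | zero => intro x; simp
    | succ k ih =>
      intro x
      have e1 : (β ^ (k + 1)) x = β ((β ^ k) x) := by rw [pow_succ']; rfl
      have e2 : (α ^ (k + 1)) (x : X) = α ((α ^ k) x) := by rw [pow_succ']; rfl
      rw [e1, e2, hβ, ih]
  have hβn : β ^ 3 ^ n = 1 := by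
    ext x
    rw [hβk, hα]; rfl
  have hcen : (center L).map β.toMonoidHom = center L :=
    Subgroup.characteristic_iff_map_eq.1 (inferInstance : (center L).Characteristic) β
  obtain ⟨γ, hγ⟩ : ∃ γ : MulAut (L ⧸ center L), ∀ x : L, γ (QuotientGroup.mk' (center L) x) =
      QuotientGroup.mk' (center L) (β x) := ⟨QuotientGroup.congr (center L) (center L) β hcen, fun x => rfl⟩
  have hγk : ∀ (k : ℕ) (x : L), (γ ^ k) (QuotientGroup.mk' (center L) x) =
      QuotientGroup.mk' (center L) ((β ^ k) x) := by
    intro k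
    induction k with
    | zero => intro x; simp
    | succ k ih =>
      intro x
      have e1 : (β ^ (k + 1)) x = β ((β ^ k) x) := by rw [pow_succ']; rfl
      have e2 : (γ ^ (k + 1)) (QuotientGroup.mk' (center L) x) = γ ((γ ^ k) (QuotientGroup.mk' (center L) x)) := by
        rw [pow_succ']; rfl
      rw [e1, e2, ih, hγ]
  have hπ : Function.Surjective (QuotientGroup.mk' (center L)) := QuotientGroup.mk'_surjective _
  have hγn : γ ^ 3 ^ n = 1 := by
    ext y
    obtain ⟨x, rfl⟩ := hπ y
    rw [hγk, hβn]; rfl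
  have hna : ∃ a b : L ⧸ center L, a * b ≠ b * a := by
    by_contra hcon
    push Not at hcon
    letI : CommGroup (L ⧸ center L) := { (inferInstance : Group (L ⧸ center L)) with mul_comm := hcon }
    have h1 : ∀ x : L, QuotientGroup.mk' (center L) x = 1 := fun x =>
      SignalizersComponents.CompBasic.hom_eq_one_of_perfect hL.2.1 (QuotientGroup.mk' (center L)) x
    obtain ⟨a, b, hab⟩ := exists_pair_ne (L ⧸ center L)
    obtain ⟨a, rfl⟩ := hπ a
    obtain ⟨b, rfl⟩ := hπ b
    exact hab ((h1 a).trans (h1 b).symm)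
  obtain ⟨P, hP⟩ := h.exists_syl hL
  have h1 : γ = 1 := by
    refine fix_of_sylow hna hH (P.mapSurjective hπ) γ hγn ?_
    intro s hs
    have h6 : s ∈ (P : Subgroup L).map (QuotientGroup.mk' (center L)) := by
      rw [← Sylow.coe_mapSurjective hπ]; exact hs
    obtain ⟨t, ht, rfl⟩ := h6
    have ht' : (t : X) ∈ T := by
      have h7 : t ∈ (P : Subgroup L) := ht
      rwa [hP, mem_subgroupOf] at h7
    rw [hγ]
    congr 1
    exact Subtype.ext (by rw [hβ]; exact hfix _ (h.T_le ht'))
  have h2 : β = 1 := by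
    refine eq_one_of_center hL.2.1 β fun x => ?_
    rw [← QuotientGroup.ker_mk' (center L), MonoidHom.mem_ker, map_mul, map_inv, ← hγ, h1]
    simp
  intro l hl
  have h3 := hβ ⟨l, hl⟩
  rw [h2] at h3
  exact h3.symm

/-- **(10.8), abstract form** -/
theorem fix (α : MulAut X) {n : ℕ} (hα : α ^ 3 ^ n = 1) (hfix : ∀ x ∈ XL h.labs c0, α x = x) : α = 1 := by
  haveI : Fact (Nat.Prime 2) := ⟨Nat.prime_two⟩
  -- `F*(X)`
  have hF : ∀ x ∈ generalizedFittingSubgroup X, α x = x := by
    let M : Subgroup X := { carrier := {x | α x = x}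
                            mul_mem' := fun {a b} ha hb => by
                              show α (a * b) = a * b
                              rw [map_mul, ha, hb]
                            one_mem' := map_one α
                            inv_mem' := fun {a} ha => by
                              show α a⁻¹ = a⁻¹
                              rw [map_inv, ha] }
    have hM : generalizedFittingSubgroup X ≤ M := by
      refine sup_le (sSup_le fun L hL l hl => h.fix_comp hL α hα hfix l hl) ?_
      rw [SignalizersComponents.PConstrained.fittingSubgroup_eq_pCore_of_pPrimeCore_eq_bot 2 h.core]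
      intro x hx
      refine hfix x (h.T_le ?_)
      -- `O_2(X) ≤ T`
      have h1 : IsPGroup 2 (pCore 2 X) := Lib.Cores.pCore_isPGroup (G := X) 2
      have h2 : (pCore 2 X).Normal := inferInstance
      have h3 : IsPGroup 2 (T ⊔ pCore 2 X : Subgroup X) := h.syl.2.1.to_sup_of_normal_right h1
      have h4 := LB.syl_eq_of_le h.syl h3 le_top le_sup_left
      rw [h4]
      exact mem_sup_right hx
    exact fun x hx => hM hx
  have hn : (generalizedFittingSubgroup X).Normal := Lib.GenFitting.genFitting_normal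
  -- `x⁻¹ α x` centralises `F*(X)`
  have key : ∀ x, x⁻¹ * α x ∈ generalizedFittingSubgroup X ∧ ∀ f ∈ generalizedFittingSubgroup X,
      (x⁻¹ * α x) * f = f * (x⁻¹ * α x) := by
    intro x
    have h1 : ∀ f ∈ generalizedFittingSubgroup X, (x⁻¹ * α x) * f = f * (x⁻¹ * α x) := by
      intro f hf
      have h2 := hF _ (hn.conj_mem f hf x)
      rw [map_mul, map_mul, map_inv, hF f hf] at h2
      calc x⁻¹ * α x * f = x⁻¹ * (α x * f * (α x)⁻¹) * α x := by group
        _ = x⁻¹ * (x * f * x⁻¹) * α x := by rw [h2]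
        _ = _ := by group
    refine ⟨?_, h1⟩
    apply Lib.GenFitting.centralizer_genFitting_le
    rw [mem_centralizer_iff]
    exact fun f hf => (h1 f hf).symm
  -- the odd part of the centre of `F*(X)`
  have hodd : ∀ u ∈ generalizedFittingSubgroup X, (∀ f ∈ generalizedFittingSubgroup X, u * f = f * u) →
      u ^ 3 ^ n = 1 → u = 1 := by
    intro u hu huc hun
    let N : Subgroup X := { carrier := {u | u ∈ generalizedFittingSubgroup X ∧
                              (∀ f ∈ generalizedFittingSubgroup X, u * f = f * u) ∧ ∃ k : ℕ, u ^ 3 ^ k = 1}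
                            mul_mem' := by
                              rintro a b ⟨h1, h2, k, h3⟩ ⟨h1', h2', k', h3'⟩
                              refine ⟨mul_mem h1 h1', fun f hf => ?_, k + k', ?_⟩
                              · rw [mul_assoc, h2' f hf, ← mul_assoc, h2 f hf, mul_assoc]
                              · have h4 : Commute a b := h2 b h1'
                                rw [h4.mul_pow, pow_add, pow_mul, h3, one_pow, one_mul, mul_comm, pow_mul, h3',
                                  one_pow]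
                            one_mem' := ⟨one_mem _, fun f _ => by group, 0, by simp⟩
                            inv_mem' := by
                              rintro a ⟨h1, h2, k, h3⟩
                              refine ⟨inv_mem h1, fun f hf => ?_, k, by rw [inv_pow, h3, inv_one]⟩
                              rw [inv_mul_eq_iff_eq_mul, ← mul_assoc, h2 f hf, mul_inv_cancel_right] }
    have hN : N.Normal := ⟨by
      rintro a ⟨h1, h2, k, h3⟩ g
      refine ⟨hn.conj_mem a h1 g, fun f hf => ?_, k, by rw [conj_pow, h3]; group⟩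
      have h4 := h2 _ (hn.conj_mem f hf g⁻¹)
      calc g * a * g⁻¹ * f = g * (a * (g⁻¹ * f * g⁻¹⁻¹)) * g⁻¹ := by group
        _ = g * ((g⁻¹ * f * g⁻¹⁻¹) * a) * g⁻¹ := by rw [h4]
        _ = _ := by group⟩
    have hN3 : IsPGroup 3 N := by
      rintro ⟨a, h1, h2, k, h3⟩
      exact ⟨k, Subtype.ext h3⟩
    have h1 : N ≤ pPrimeCore 2 X := by
      refine Lib.Cores.le_pPrimeCore hN ?_
      haveI : Fact (Nat.Prime 3) := ⟨Nat.prime_three⟩
      obtain ⟨k, hk⟩ := IsPGroup.iff_card.1 hN3
      rw [hk]
      exact Nat.Coprime.pow_left k (by norm_num)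
    rw [h.core] at h1
    exact Subgroup.mem_bot.1 (h1 (show u ∈ N from ⟨hu, huc, n, hun⟩))
  ext x
  obtain ⟨h1, h2⟩ := key x
  have h3 : ∀ k : ℕ, (α ^ k) x = x * (x⁻¹ * α x) ^ k := by
    intro k
    induction k with
    | zero => simp
    | succ k ih =>
      have e1 : (α ^ (k + 1)) x = α ((α ^ k) x) := by rw [pow_succ']; rfl
      rw [e1, ih, map_mul, map_pow, hF _ h1]
      rw [pow_succ', ← mul_assoc x, mul_inv_cancel_left]
  have h4 := h3 (3 ^ n)
  rw [hα] at h4
  have h5 : (x⁻¹ * α x) ^ 3 ^ n = 1 := mul_eq_left.1 h4.symm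
  have h6 := hodd _ h1 h2 h5
  rw [inv_mul_eq_one] at h6
  exact h6.symm

end Ctx

end Cfsg.Agent.Cit.Nil.RTwo.Lam
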