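import Cfsg.Agent.Cit.Nil.RTwo.AutFix
import Cfsg.Agent.Cit.Nil.RTwo.TTwo
import Cfsg.Agent.Cit.Nil.RTwo.LTwo
import Cfsg.Agent.S1175
import Cfsg.Agent.SignalizersComponents.CompBasic
import Cfsg.Agent.SignalizersComponents.BalanceAux
import Cfsg.Agent.SignalizersComponents.PConstrained
import Cfsg.Agent.SignalizersComponents.PCompCore

/-!
# S1309, `r = 2`, `m = 1`: (10.8), the abstract form

`X` is a finite group with `O(X) = 1`, `z` a central involution (or `1`), `C` an invariant set of involutions `≠ z`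
such that `z c c' ∈ C` for distinct commuting `c, c' ∈ C`; `c₀ ∈ C` is central in the Sylow 2-subgroup `T`.

* `Lam.XL` : the stabiliser in `X` of the component of `c₀` in the commuting graph on `C`;
* `Lam.fix` : an automorphism of order `3^n` of `X` trivial on `XL` is trivial.
-/

set_option autoImplicit false
set_option linter.unusedSectionVars false
set_option linter.style.haveILetI false
set_option maxHeartbeats 400000

namespace Cfsg.Agent.Cit.Nil.RTwo.Lam

open Subgroup Cfsg Cfsg.Agent.Cit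
open Cfsg.Agent.SignalizersComponents.Components

variable {X : Type*} [Group X]

/-- the abstract set of labels -/
structure Labs (z : X) (C : Set X) : Prop where
  z2 : z * z = 1
  zc : ∀ x, x * z = z * x
  sq : ∀ c ∈ C, c * c = 1
  ne1 : ∀ c ∈ C, c ≠ 1
  nez : ∀ c ∈ C, c ≠ z
  conj : ∀ c ∈ C, ∀ x : X, x * c * x⁻¹ ∈ C
  third : ∀ c ∈ C, ∀ c' ∈ C, c * c' = c' * c → c ≠ c' → z * c * c' ∈ C

/-- commuting labels -/
def Rel (C : Set X) (u v : X) : Prop := u ∈ C ∧ v ∈ C ∧ u * v = v * u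

/-- connected in the commuting graph on the labels -/
def Conn (C : Set X) (u v : X) : Prop := Relation.ReflTransGen (Rel C) u v

section

variable {z c c0 x y : X} {C : Set X}

theorem Rel.symm {u v : X} (h : Rel C u v) : Rel C v u := ⟨h.2.1, h.1, h.2.2.symm⟩

theorem Conn.symm {u v : X} (h : Conn C u v) : Conn C v u := by
  induction h with
  | refl => exact Relation.ReflTransGen.refl
  | tail _ h2 ih => exact Relation.ReflTransGen.head h2.symm ih

theorem Conn.trans {u v w : X} (h : Conn C u v) (h' : Conn C v w) : Conn C u w :=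
  Relation.ReflTransGen.trans h h'

theorem Conn.mem {u v : X} (hu : u ∈ C) (h : Conn C u v) : v ∈ C := by
  induction h with
  | refl => exact hu
  | tail _ h2 _ => exact h2.2.1

theorem Conn.tail {u v w : X} (h : Conn C u v) (h' : Rel C v w) : Conn C u w :=
  Relation.ReflTransGen.tail h h'

theorem Labs.conn_conj (h : Labs z C) {u v : X} (hc : Conn C u v) (x : X) : Conn C (x * u * x⁻¹) (x * v * x⁻¹) := by
  induction hc with
  | refl => exact Relation.ReflTransGen.refl
  | tail _ h2 ih =>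
    refine ih.tail ⟨h.conj _ h2.1 x, h.conj _ h2.2.1 x, ?_⟩
    have h3 := h2.2.2
    rename_i b c _
    calc x * b * x⁻¹ * (x * c * x⁻¹) = x * (b * c) * x⁻¹ := by group
      _ = x * (c * b) * x⁻¹ := by rw [h3]
      _ = _ := by group

/-- the stabiliser of the component of `c0` -/
def XL (h : Labs z C) (c0 : X) : Subgroup X where
  carrier := {x | Conn C c0 (x * c0 * x⁻¹)}
  mul_mem' := by
    intro x y hx hy
    have h1 := h.conn_conj hy x
    have e : x * (y * c0 * y⁻¹) * x⁻¹ = (x * y) * c0 * (x * y)⁻¹ := by group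
    rw [e] at h1
    exact Conn.trans hx h1
  one_mem' := by
    show Conn C c0 (1 * c0 * 1⁻¹)
    have e : 1 * c0 * (1 : X)⁻¹ = c0 := by group
    rw [e]; exact Relation.ReflTransGen.refl
  inv_mem' := by
    intro x hx
    have h1 := h.conn_conj hx x⁻¹
    have e : x⁻¹ * (x * c0 * x⁻¹) * x⁻¹⁻¹ = c0 := by group
    rw [e] at h1
    exact h1.symm

theorem mem_XL (h : Labs z C) : x ∈ XL h c0 ↔ Conn C c0 (x * c0 * x⁻¹) := Iff.rfl

/-- `C_X(c) ≤ X_Λ` for `c ∈ Λ` -/
theorem mem_XL_of_comm (h : Labs z C) (hc : Conn C c0 c) (hx : x * c = c * x) : x ∈ XL h c0 := by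
  have h1 := h.conn_conj hc x
  have e : x * c * x⁻¹ = c := by rw [hx, mul_inv_cancel_right]
  rw [e] at h1
  exact hc.trans h1.symm

theorem mem_XL_of_conj (h : Labs z C) (hc : Conn C c0 c) (hx : Conn C c0 (x * c * x⁻¹)) : x ∈ XL h c0 :=
  hx.trans (h.conn_conj hc x).symm

/-- (2.3), abstract form -/
theorem Labs.odd_of [Finite X] (h : Labs z C) {B : Set X} (hB : B ⊆ C) (hn : B.Nonempty)
    (hcj : ∀ c ∈ B, ∀ c' ∈ B, c * c' * c⁻¹ ∈ B)
    (h3 : ∀ c ∈ B, ∀ c' ∈ B, c * c' = c' * c → c ≠ c' → z * c * c' ∈ B) : Odd (Nat.card B) := by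
  classical
  obtain ⟨c0, hc0⟩ := hn
  have hzz : z * z = 1 := h.z2
  have h0z : c0 * z = z * c0 := h.zc c0
  have h00 := h.sq _ (hB hc0)
  -- the involution
  obtain ⟨f, hf⟩ : ∃ f : B → B, ∀ c : B, ((f c : B) : X) =
      if (c : X) = c0 then c0 else if c0 * c = c * c0 then z * c0 * c else c0 * c * c0⁻¹ := by
    have : ∀ c : B, ∃ d : B, (d : X) =
        if (c : X) = c0 then c0 else if c0 * c = c * c0 then z * c0 * c else c0 * c * c0⁻¹ := by
      intro c
      by_cases h1 : (c : X) = c0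
      · exact ⟨⟨c0, hc0⟩, by rw [if_pos h1]⟩
      by_cases h2 : c0 * c = c * c0
      · exact ⟨⟨_, h3 c0 hc0 c c.2 h2 (Ne.symm h1)⟩, by rw [if_neg h1, if_pos h2]⟩
      · exact ⟨⟨_, hcj c0 hc0 c c.2⟩, by rw [if_neg h1, if_neg h2]⟩
    choose f hf using this
    exact ⟨f, hf⟩
  refine odd_card f ?_ ⟨c0, hc0⟩ ?_
  · intro c
    apply Subtype.ext
    by_cases h1 : (c : X) = c0
    · have h2 : f c = c := Subtype.ext (by rw [hf, if_pos h1, h1])
      rw [h2, h2]
    by_cases h2 : c0 * c = c * c0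
    · have h4 : (f c : X) = z * c0 * c := by rw [hf, if_neg h1, if_pos h2]
      rw [hf, h4, if_neg, if_pos]
      · calc z * c0 * (z * c0 * c) = z * (c0 * z) * c0 * c := by group
          _ = (z * z) * (c0 * c0) * c := by rw [h0z]; group
          _ = c := by rw [hzz, h00]; group
      · calc c0 * (z * c0 * c) = (c0 * z) * c0 * c := by group
          _ = z * c0 * (c0 * c) := by rw [h0z]; group
          _ = _ := by rw [h2]; group
      · intro e
        apply h.nez _ (hB c.2)
        have e1 : z * (c0 * c) = z * (c0 * z) := by rw [← mul_assoc, e, h0z, ← mul_assoc, hzz, one_mul]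
        exact mul_left_cancel (mul_left_cancel e1)
    · have h4 : (f c : X) = c0 * c * c0⁻¹ := by rw [hf, if_neg h1, if_neg h2]
      rw [hf, h4, if_neg, if_neg]
      · calc c0 * (c0 * c * c0⁻¹) * c0⁻¹ = (c0 * c0) * c * (c0 * c0)⁻¹ := by group
          _ = c := by rw [h00]; group
      · intro e
        apply h2
        have e1 : c0 * (c0 * c * c0⁻¹) * c0⁻¹ = c0 * c * c0⁻¹ := by rw [e]; group
        have e2 : c0 * c * c0⁻¹ = c := mul_left_cancel (mul_right_cancel e1)
        rw [mul_inv_eq_iff_eq_mul] at e2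
        exact e2
      · intro e
        rw [mul_inv_eq_iff_eq_mul] at e
        exact h1 (mul_left_cancel e)
  · intro c
    constructor
    · intro e
      have e1 := congrArg Subtype.val e
      rw [hf] at e1
      by_contra hne
      have h1 : (c : X) ≠ c0 := fun e2 => hne (Subtype.ext e2)
      rw [if_neg h1] at e1
      by_cases h2 : c0 * c = c * c0
      · rw [if_pos h2] at e1
        apply h.nez _ (hB hc0)
        have e2 : z * c0 = 1 := mul_eq_right.1 e1
        have e3 : c0 = z⁻¹ := eq_inv_of_mul_eq_one_right e2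
        rw [e3]
        exact inv_eq_of_mul_eq_one_right hzz
      · rw [if_neg h2] at e1
        apply h2
        rw [mul_inv_eq_iff_eq_mul] at e1
        exact e1
    · rintro rfl
      apply Subtype.ext
      rw [hf, if_pos rfl]

end

/-- distinct components commute elementwise -/
theorem comm_of_comp_ne {X : Type*} [Group X] {E F : Subgroup X} (hE : IsComponent E) (hF : IsComponent F)
    (hne : E ≠ F) {x y : X} (hx : x ∈ E) (hy : y ∈ F) : x * y = y * x :=
  (mem_centralizer_iff.1 (component_le_centralizer_of_ne hF hE hne.symm hy) x hx)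

/-! ### The context -/

/-- the context -/
structure Ctx (z : X) (C : Set X) (c0 : X) (T : Subgroup X) : Prop where
  labs : Labs z C
  mem : c0 ∈ C
  syl : Syl T ⊤
  comm : ∀ t ∈ T, t * c0 = c0 * t
  core : pPrimeCore 2 X = ⊥

namespace Ctx

variable [Finite X] {z c c0 x y : X} {C : Set X} {T L : Subgroup X} (h : Ctx z C c0 T)

include h

theorem T_le : T ≤ XL h.labs c0 := fun _ ht => mem_XL_of_comm h.labs Relation.ReflTransGen.refl (h.comm _ ht)

theorem pg_of_sq {u : X} (hu : u * u = 1) : IsPGroup 2 (zpowers u) := isPGroup_zpowers_of_sq hu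

theorem c0T : c0 ∈ T := by
  -- `T ⊔ ⟨c0⟩` is a 2-group
  have hn : zpowers c0 ≤ normalizer (T : Set X) := by
    rw [zpowers_le, mem_normalizer_iff]
    intro t
    constructor
    · intro ht
      rw [← h.comm t ht, mul_inv_cancel_right]; exact ht
    · intro ht
      have h2 := h.comm _ ht
      have e : t = c0⁻¹ * (c0 * t * c0⁻¹) * c0 := by group
      rw [e, mul_assoc, h2]
      rwa [inv_mul_cancel_left]
  have h3 : IsPGroup 2 (T ⊔ zpowers c0 : Subgroup X) := by
    rw [sup_comm]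
    exact (isPGroup_zpowers_of_sq (h.labs.sq _ h.mem)).to_sup_of_normal_right' h.syl.2.1 hn
  rw [LB.syl_eq_of_le h.syl h3 le_top le_sup_left]
  exact mem_sup_right (mem_zpowers c0)

/-- (h2') -/
theorem mem_of (hc : Conn C c0 c) (hx : x * c * x⁻¹ ∈ XL h.labs c0) : x ∈ XL h.labs c0 := by
  have hcC : c ∈ C := hc.mem h.mem
  have hT : Syl T (XL h.labs c0) := ⟨h.T_le, h.syl.2.1, fun h2 => h.syl.2.2 (h2.trans (by
    rw [relIndex_top_right]
    exact relIndex_dvd_index_of_le h.T_le))⟩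
  obtain ⟨n, hn, h1⟩ := LB.exists_conj_mem hT hx (isPGroup_zpowers_of_sq (h.labs.sq _ (h.labs.conj _ hcC x)))
  have e : n * (x * c * x⁻¹) * n⁻¹ = (n * x) * c * (n * x)⁻¹ := by group
  rw [e] at h1
  have h2 : (n * x) ∈ XL h.labs c0 := by
    refine mem_XL_of_conj h.labs hc (Relation.ReflTransGen.single ⟨h.mem, h.labs.conj _ hcC _, ?_⟩)
    exact (h.comm _ h1).symm
  have h3 := (XL h.labs c0).mul_mem ((XL h.labs c0).inv_mem hn) h2
  rwa [inv_mul_cancel_left] at h3

/-! ### A component -/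

theorem comp_two (hL : IsComponent L) : 2 ∣ Nat.card L := by
  by_contra h2
  have h1 : L ≤ pPrimeCore 2 X := SignalizersComponents.CompBasic.subnormal_coprime_le_pPrimeCore hL.1
    ((Nat.Prime.coprime_iff_not_dvd Nat.prime_two).2 h2).symm
  rw [h.core, le_bot_iff] at h1
  exact component_ne_bot hL h1

/-- `T ∩ L` is a Sylow 2-subgroup of the component `L` -/
theorem exists_syl (hL : IsComponent L) : ∃ P : Sylow 2 L, (P : Subgroup L) = T.subgroupOf L := by
  have h1 : IsPGroup 2 (T.subgroupOf L) := h.syl.2.1.comap_subtype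
  have h2 : ¬ 2 ∣ (T.subgroupOf L).index := by
    intro h2
    have h3 : T.relIndex L ∣ T.index := SignalizersComponents.PCompCore.relIndex_dvd_index_of_subnormal T hL.1
    apply h.syl.2.2
    rw [relIndex_top_right]
    exact h2.trans h3
  haveI : Fact (Nat.Prime 2) := ⟨Nat.prime_two⟩
  exact ⟨h1.toSylow h2, rfl⟩

/-- a non-central element of `T ∩ L` -/
theorem exists_nc (hL : IsComponent L) : ∃ t ∈ T, t ∈ L ∧ ∃ l ∈ L, l * t ≠ t * l := by
  haveI : Fact (Nat.Prime 2) := ⟨Nat.prime_two⟩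
  obtain ⟨P, hP⟩ := h.exists_syl hL
  have h1 := SignalizersComponents.CompBasic.sylow_not_le_center_of_perfect hL.2.1 2 (h.comp_two hL) P
  obtain ⟨t, ht, htc⟩ := SetLike.not_le_iff_exists.1 h1
  rw [mem_center_iff] at htc
  push Not at htc
  obtain ⟨l, hl⟩ := htc
  rw [hP, mem_subgroupOf] at ht
  exact ⟨t, ht, t.2, l, l.2, fun e => hl (Subtype.ext e)⟩

/-- `c0` normalises the components -/
theorem norm (hL : IsComponent L) : cj c0 L = L := by
  by_contra hne
  obtain ⟨t, ht, htL, l, hl, hne'⟩ := h.exists_nc hL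
  apply hne'
  refine comm_of_comp_ne hL (isComponent_conj c0 hL) (fun e => hne e.symm) hl ?_
  change t ∈ cj c0 L
  rw [mem_cj]
  have h1 := h.comm t ht
  rw [mul_assoc, h1, inv_mul_cancel_left]
  exact htL

theorem norm_mem (hL : IsComponent L) {l : X} (hl : l ∈ L) : c0 * l * c0⁻¹ ∈ L := by
  have h1 := conj_mem_cj (g := c0) hl
  rwa [h.norm hL] at h1

/-- `c0` commutes with a conjugate under `L` -/
theorem exists_conj (hL : IsComponent L) (hne : ¬ L ≤ XL h.labs c0) :
    ∃ g ∈ L, g * c0 * g⁻¹ ≠ c0 ∧ c0 * (g * c0 * g⁻¹) = g * c0 * g⁻¹ * c0 := by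
  have hc02 := h.labs.sq _ h.mem
  have hn : zpowers c0 ≤ normalizer (L : Set X) := by
    rw [zpowers_le, mem_normalizer_iff_cj]; exact h.norm hL
  rcases zstar_sub (X := L ⊔ zpowers c0) (u := c0) (mem_sup_right (mem_zpowers c0)) hc02 (h.labs.ne1 _ h.mem) with
    ⟨g, hg, hne, hc⟩ | ⟨N, hNX, hodd, hNn, hN⟩
  · obtain ⟨y, hy, u, hu, rfl⟩ := LB.exists_mul_of_mem_sup hn hg
    have hut : u * c0 * u⁻¹ = c0 := by
      obtain ⟨k, rfl⟩ := mem_zpowers_iff.1 hu
      rw [← ((Commute.refl c0).zpow_right k).eq, mul_inv_cancel_right]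
    have h1 : y * u * c0 * (y * u)⁻¹ = y * c0 * y⁻¹ := by
      calc y * u * c0 * (y * u)⁻¹ = y * (u * c0 * u⁻¹) * y⁻¹ := by group
        _ = _ := by rw [hut]
    rw [h1] at hne hc
    exact ⟨y, hy, hne, hc⟩
  · exfalso
    apply hne
    have h1 : N ⊓ L = ⊥ := by
      have h2 : ((N ⊓ L).subgroupOf L).Normal := by
        refine (normal_subgroupOf_iff_le_normalizer inf_le_right).2 fun g hg => ?_
        rw [mem_normalizer_iff_cj, cj_inf, mem_normalizer_iff_cj.1 (le_normalizer hg)]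
        congr 1
        refine le_antisymm ?_ ?_
        · rintro _ ⟨n, hn, rfl⟩
          exact hNn g (mem_sup_left hg) n hn
        · intro n hn
          rw [mem_cj]
          have := hNn g⁻¹ (mem_sup_left (L.inv_mem hg)) n hn
          rwa [inv_inv] at this
      have h3 : (N ⊓ L).IsSubnormal := IsSubnormal.step _ _ inf_le_right hL.1 h2
      have h4 : (N ⊓ L) ≤ pPrimeCore 2 X := by
        refine SignalizersComponents.CompBasic.subnormal_coprime_le_pPrimeCore h3 ?_
        refine Nat.Coprime.symm ((Nat.Prime.coprime_iff_not_dvd Nat.prime_two).2 fun h5 => ?_)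
        rw [← Nat.not_even_iff_odd, even_iff_two_dvd] at hodd
        exact hodd (h5.trans (card_dvd_of_le inf_le_left))
      rwa [h.core, le_bot_iff] at h4
    intro l hl
    refine mem_XL_of_comm h.labs Relation.ReflTransGen.refl ?_
    have h2 : c0 * l * c0⁻¹ * l⁻¹ ∈ N ⊓ L := ⟨hN l (mem_sup_left hl), L.mul_mem (h.norm_mem hL hl) (L.inv_mem hl)⟩
    rw [h1, Subgroup.mem_bot, mul_inv_eq_one, mul_inv_eq_iff_eq_mul] at h2
    exact h2.symm

/-- a label in `z L` -/
theorem exists_cthree (hL : IsComponent L) (hne : ¬ L ≤ XL h.labs c0) : ∃ c ∈ C, Conn C c0 c ∧ z * c ∈ L := by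
  obtain ⟨g, hg, hne', hc⟩ := h.exists_conj hL hne
  have h1 := h.labs.third _ h.mem _ (h.labs.conj _ h.mem g) hc hne'.symm
  have hzz : ∀ u, z * (z * u) = u := fun u => by rw [← mul_assoc, h.labs.z2, one_mul]
  refine ⟨_, h1, Relation.ReflTransGen.single ⟨h.mem, h1, ?_⟩, ?_⟩
  · have h0 := h.labs.zc c0
    calc c0 * (z * c0 * (g * c0 * g⁻¹)) = (c0 * z) * (c0 * (g * c0 * g⁻¹)) := by group
      _ = (z * c0) * (g * c0 * g⁻¹ * c0) := by rw [h0, hc]
      _ = _ := by group
  · rw [mul_assoc z, hzz]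
    have e : c0 * (g * c0 * g⁻¹) = (c0 * g * c0⁻¹) * (c0 * c0) * g⁻¹ := by group
    rw [e, h.labs.sq _ h.mem, mul_one]
    exact L.mul_mem (h.norm_mem hL hg) (L.inv_mem hg)

theorem comm_of_mem_zL {c x : X} (hc : z * c ∈ L) (h1 : ∀ l ∈ L, x * l = l * x) : x * c = c * x := by
  have hzz : ∀ u, z * (z * u) = u := fun u => by rw [← mul_assoc, h.labs.z2, one_mul]
  have h2 := h1 _ hc
  have h3 := h.labs.zc x
  have e : c = z * (z * c) := (hzz c).symm
  rw [e]
  calc x * (z * (z * c)) = (x * z) * (z * c) := by group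
    _ = z * (x * (z * c)) := by rw [h3]; group
    _ = z * ((z * c) * x) := by rw [h2]
    _ = _ := by group

/-- `T` normalises `L` -/
theorem T_norm (hL : IsComponent L) (hne : ¬ L ≤ XL h.labs c0) {t : X} (ht : t ∈ T) : cj t L = L := by
  by_contra hne'
  obtain ⟨c, hc, hcc, hcL⟩ := h.exists_cthree hL hne
  apply hne
  have h1 : cj t L ≤ XL h.labs c0 := by
    intro x hx
    refine mem_XL_of_comm h.labs hcc ?_
    exact h.comm_of_mem_zL hcL fun l hl => comm_of_comp_ne (isComponent_conj t hL) hL hne' hx hl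
  intro l hl
  have h2 := h1 (conj_mem_cj (g := t) hl)
  have h3 := (XL h.labs c0).mul_mem ((XL h.labs c0).mul_mem ((XL h.labs c0).inv_mem (h.T_le ht)) h2) (h.T_le ht)
  have e : t⁻¹ * (t * l * t⁻¹) * t = l := by group
  rwa [e] at h3

/-- a label in `z L` central in `T` -/
theorem exists_cfour (hL : IsComponent L) (hne : ¬ L ≤ XL h.labs c0) :
    ∃ c ∈ C, Conn C c0 c ∧ z * c ∈ L ∧ c ∈ T ∧ ∀ t ∈ T, t * c = c * t := by
  obtain ⟨c, hc, hcc, hcL⟩ := h.exists_cthree hL hne
  have hzz : ∀ u, z * (z * u) = u := fun u => by rw [← mul_assoc, h.labs.z2, one_mul]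
  have hzT : z ∈ T := by
    obtain ⟨n, hn, h1⟩ := LB.exists_conj_mem h.syl (Subgroup.mem_top z) (isPGroup_zpowers_of_sq h.labs.z2)
    rwa [h.labs.zc, mul_inv_cancel_right] at h1
  have hTL : Syl (T ⊓ L) L := by
    obtain ⟨P, hP⟩ := h.exists_syl hL
    refine ⟨inf_le_right, h.syl.2.1.to_le inf_le_left, ?_⟩
    rw [inf_relIndex_right]
    have := P.not_dvd_index
    rwa [hP] at this
  let B : Set X := {c | c ∈ C ∧ c ∈ T ∧ z * c ∈ L}
  have hzcj : ∀ c x : X, z * (x * c * x⁻¹) = x * (z * c) * x⁻¹ := by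
    intro c x
    have := h.labs.zc x
    calc z * (x * c * x⁻¹) = (z * x) * c * x⁻¹ := by group
      _ = (x * z) * c * x⁻¹ := by rw [this]
      _ = _ := by group
  have hBn : B.Nonempty := by
    obtain ⟨n, hn, h1⟩ := LB.exists_conj_mem hTL hcL (isPGroup_zpowers_of_sq (by
      have h2 := h.labs.zc c
      calc z * c * (z * c) = z * (c * z) * c := by group
        _ = (z * z) * (c * c) := by rw [h2]; group
        _ = 1 := by rw [h.labs.z2, h.labs.sq c hc, one_mul]))
    rw [← hzcj] at h1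
    refine ⟨n * c * n⁻¹, h.labs.conj _ hc _, ?_, h1.2⟩
    have h2 := T.mul_mem hzT h1.1
    rwa [hzz] at h2
  have hBo : Odd (Nat.card B) := by
    refine h.labs.odd_of (fun c hc => hc.1) hBn ?_ ?_
    · rintro c ⟨h1, h2, h3⟩ c' ⟨h1', h2', h3'⟩
      refine ⟨h.labs.conj _ h1' _, T.mul_mem (T.mul_mem h2 h2') (T.inv_mem h2), ?_⟩
      have e : c * c' * c⁻¹ = (z * c) * c' * (z * c)⁻¹ := by
        have := h.labs.zc (c * c' * c⁻¹)
        symm
        calc z * c * c' * (z * c)⁻¹ = z * (c * c' * c⁻¹) * z⁻¹ := by group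
          _ = (c * c' * c⁻¹ * z) * z⁻¹ := by rw [this]
          _ = _ := by group
      rw [e, hzcj]
      exact L.mul_mem (L.mul_mem h3 h3') (L.inv_mem h3)
    · rintro c ⟨h1, h2, h3⟩ c' ⟨h1', h2', h3'⟩ hcc hne
      refine ⟨h.labs.third _ h1 _ h1' hcc hne, T.mul_mem (T.mul_mem hzT h2) h2', ?_⟩
      have e : z * (z * c * c') = (z * c) * (z * c') := by
        have := h.labs.zc c
        calc z * (z * c * c') = z * (z * c) * c' := by group
          _ = z * (c * z) * c' := by rw [this]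
          _ = _ := by group
      rw [e]
      exact L.mul_mem h3 h3'
  obtain ⟨c4, ⟨h1, h2, h3⟩, h4⟩ := exists_fixed_of_odd (B := B) h.syl.2.1 (by
    rintro t ht c ⟨h1, h2, h3⟩
    refine ⟨h.labs.conj _ h1 _, T.mul_mem (T.mul_mem ht h2) (T.inv_mem ht), ?_⟩
    rw [hzcj]
    have h5 := conj_mem_cj (g := t) h3
    rwa [h.T_norm hL hne ht] at h5) hBo
  exact ⟨c4, h1, Relation.ReflTransGen.single ⟨h.mem, h1, (h.comm _ h2).symm⟩, h3, h2, h4⟩

end Ctx

end Cfsg.Agent.Cit.Nil.RTwo.Lam
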