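import Cfsg.Agent.Cit.Nil.RTwo.Diag
import Cfsg.Agent.Cit.Nil.RTwo.ATwo

/-!
# The world (S): section 4 of the blueprint

* `Lab.fx_or_sw` : the action of `X_V` on `R_t` in the presence of a commuting swap;
* `SB.noOne`, `SB.cen`, `SB.third`, `SB.three`, `SB.disj`;
* `SB.cx` (4.0) : `X_z = {1, z, c, z c : c ∈ CC} N_z`;
* `FT.mul_label` (4.1), `SB.ti` (4.2).
-/

set_option autoImplicit false
set_option linter.style.haveILetI false
set_option linter.unusedSectionVars false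
set_option maxHeartbeats 400000

namespace Cfsg.Agent.Cit.Nil.RTwo

open Subgroup Cfsg Cit

variable {G : Type*} [Group G]

/-- an element rotating `L` by a quarter does not commute with an element inverting `p 0` -/
theorem quarter_excl {L : Subgroup G} {t x u : G} {p : Fin 3 → G} (Q : Q3 L t p) (hxt : x * t = t * x)
    (hut : u * t = t * u) (hxu : x * u = u * x) (hx0 : x * p 0 * x⁻¹ = p 0) (hu0 : u * p 0 * u⁻¹ = t * p 0)
    (huL : u * p 1 * u⁻¹ ∈ L) (hx1 : x * p 1 * x⁻¹ = p 2 ∨ x * p 1 * x⁻¹ = t * p 2) : False := by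
  have h01 : p 0 * p 1 = p 2 := Q.mul 0
  have hxm : ∀ k : G, x * (t * k) * x⁻¹ = t * (x * k * x⁻¹) := by
    intro k
    calc x * (t * k) * x⁻¹ = (x * t) * k * x⁻¹ := by group
      _ = (t * x) * k * x⁻¹ := by rw [hxt]
      _ = _ := by group
  have hum : ∀ k : G, u * (t * k) * u⁻¹ = t * (u * k * u⁻¹) := by
    intro k
    calc u * (t * k) * u⁻¹ = (u * t) * k * u⁻¹ := by group
      _ = (t * u) * k * u⁻¹ := by rw [hut]
      _ = _ := by group
  have hzz := Q.zzx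
  have htp : ∀ k : G, p 0 * (t * k) = t * (p 0 * k) := fun k => by rw [← mul_assoc, ← Q.zc, mul_assoc]
  -- `x p 1 x⁻¹ = e p 0 p 1`, `e ∈ {1, t}`
  obtain ⟨e, he, hx1'⟩ : ∃ e, (e = 1 ∨ e = t) ∧ x * p 1 * x⁻¹ = e * (p 0 * p 1) := by
    rcases hx1 with h1 | h1
    · exact ⟨1, Or.inl rfl, by rw [h1, h01, one_mul]⟩
    · exact ⟨t, Or.inr rfl, by rw [h1, h01]⟩
  have hxe : ∀ k : G, x * (e * k) * x⁻¹ = e * (x * k * x⁻¹) := by
    rcases he with rfl | rfl
    · intro k; rw [one_mul, one_mul]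
    · exact hxm
  have hue : ∀ k : G, u * (e * k) * u⁻¹ = e * (u * k * u⁻¹) := by
    rcases he with rfl | rfl
    · intro k; rw [one_mul, one_mul]
    · exact hum
  have hpe : ∀ k : G, p 0 * (e * k) = e * (p 0 * k) := by
    rcases he with rfl | rfl
    · intro k; rw [one_mul, one_mul]
    · exact htp
  have hte : ∀ k : G, t * (e * k) = e * (t * k) := by
    rcases he with rfl | rfl
    · intro k; rw [one_mul, one_mul]
    · intro k; rfl
  have hx2' : x * p 2 * x⁻¹ = e * (p 0 * p 2) := by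
    have : x * p 2 * x⁻¹ = (x * p 0 * x⁻¹) * (x * p 1 * x⁻¹) := by rw [← h01]; group
    rw [this, hx0, hx1', hpe, h01]
  -- `k1 = u p 1 u⁻¹`
  obtain ⟨k1, hk1⟩ : ∃ k1, k1 = u * p 1 * u⁻¹ := ⟨_, rfl⟩
  have hk1sq : k1 * k1 = t := by
    rw [hk1]
    calc u * p 1 * u⁻¹ * (u * p 1 * u⁻¹) = u * (p 1 * p 1) * u⁻¹ := by group
      _ = t := by rw [Q.sq, hut, mul_inv_cancel_right]
  have hk1L : k1 ∈ L := by rw [hk1]; exact huL
  have hA : x * k1 * x⁻¹ = e * (t * (p 0 * k1)) := by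
    calc x * k1 * x⁻¹ = (x * u) * p 1 * (x * u)⁻¹ := by rw [hk1]; group
      _ = (u * x) * p 1 * (u * x)⁻¹ := by rw [hxu]
      _ = u * (x * p 1 * x⁻¹) * u⁻¹ := by group
      _ = u * (e * (p 0 * p 1)) * u⁻¹ := by rw [hx1']
      _ = e * ((u * p 0 * u⁻¹) * (u * p 1 * u⁻¹)) := by rw [hue]; group
      _ = _ := by rw [hu0, ← hk1, mul_assoc]
  have hB : x * k1 * x⁻¹ = e * (p 0 * k1) := by
    obtain ⟨i, hi⟩ := Q.of_sq hk1L hk1sq
    fin_cases i
    · exfalso
      -- `k1 = ± p 0` commutes with `t p 0`, but `p 1` does not commute with `p 0`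
      have h1 : k1 * (t * p 0) = t * p 0 * k1 := by
        rcases hi with rfl | rfl
        · show p 0 * (t * p 0) = t * p 0 * p 0
          rw [htp, mul_assoc]
        · rfl
      rw [hk1, ← hu0] at h1
      have h2 : p 1 * p 0 = p 0 * p 1 := by
        have : u * (p 1 * p 0) * u⁻¹ = u * (p 0 * p 1) * u⁻¹ := by
          calc u * (p 1 * p 0) * u⁻¹ = u * p 1 * u⁻¹ * (u * p 0 * u⁻¹) := by group
            _ = _ := by rw [h1]; group
        exact mul_left_cancel (mul_right_cancel this)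
      have h3 := Q.sw (show (0 : Fin 3) ≠ 1 by decide)
      rw [h2] at h3
      exact Q.zne _ h3.symm
    · rcases hi with hi | hi
      · change k1 = p 1 at hi
        rw [hi, hx1']
      · change k1 = t * p 1 at hi
        rw [hi, hxm, hx1', htp, hte]
    · rcases hi with hi | hi
      · change k1 = p 2 at hi
        rw [hi, hx2']
      · change k1 = t * p 2 at hi
        rw [hi, hxm, hx2', htp, hte]
  rw [hA] at hB
  exact Q.zne _ (mul_left_cancel hB)

section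

variable [Finite G] {Om : Set (Subgroup G)} {K K1 K2 L M L1 L2 : Subgroup G} {z t g s x y w c c' u d : G}
  {a b p q : Fin 3 → G}

namespace Cf

variable (C : Cf Om z t K1 K2 L1 L2 a b p q) (h : W2 Om)

include C h

/-- `v = a 1 b 1` interchanges `L1` and `L2`: its action on `p 0` -/
theorem v_p0 (l : Lab Om z t c) (hv : cj (a 1 * b 1) L1 = L2) :
    (a 1 * b 1) * p 0 * (a 1 * b 1)⁻¹ = t * (z * c) * p 0 := by
  have hzz := C.qa.zzx
  have e1 : (a 1 * b 1) * p 0 * (a 1 * b 1)⁻¹ = a 0 * b 0 * p 0 ∨ (a 1 * b 1) * p 0 * (a 1 * b 1)⁻¹ =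
      z * (a 0 * b 0 * p 0) := by
    have e2 := C.conj_ac h
    have e3 := C.swk.conj_ac h
    have e4 : (a 1 * b 1) * p 0 * (a 1 * b 1)⁻¹ = a 1 * (b 1 * p 0 * (b 1)⁻¹) * (a 1)⁻¹ := by group
    have e5 : a 1 * b 0 = b 0 * a 1 := C.k1.comm C.k2 h C.kne (C.qa.mem 1) (C.qb.mem 0)
    have e6 : a 0 * b 0 = b 0 * a 0 := C.ab h
    have e7 : a 1 * (b 0 * p 0) * (a 1)⁻¹ = b 0 * (a 1 * p 0 * (a 1)⁻¹) := by
      calc a 1 * (b 0 * p 0) * (a 1)⁻¹ = (a 1 * b 0) * p 0 * (a 1)⁻¹ := by group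
        _ = _ := by rw [e5]; group
    have e8 : ∀ k : G, a 1 * (z * k) * (a 1)⁻¹ = z * (a 1 * k * (a 1)⁻¹) := by
      intro k
      calc a 1 * (z * k) * (a 1)⁻¹ = (a 1 * z) * k * (a 1)⁻¹ := by group
        _ = _ := by rw [C.a1z]; group
    have e9 : ∀ k : G, b 0 * (z * k) = z * (b 0 * k) := fun k => by rw [← mul_assoc, ← C.qb.zc, mul_assoc]
    rw [e4]
    rcases e3 with e3 | e3 <;> rcases e2 with e2 | e2
    · left; rw [e3, e7, e2, ← mul_assoc, ← e6]
    · right; rw [e3, e7, e2, e9, ← mul_assoc (b 0), ← e6]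
    · right; rw [e3, e8, e7, e2, ← mul_assoc (b 0), ← e6]
    · left; rw [e3, e8, e7, e2, e9, hzz, ← mul_assoc, ← e6]
  have e2 : (a 1 * b 1) * p 0 * (a 1 * b 1)⁻¹ = t * c * p 0 ∨ (a 1 * b 1) * p 0 * (a 1 * b 1)⁻¹ =
      z * (t * c * p 0) := by
    rcases C.tc_eq h l with e3 | e3 <;> rcases e1 with e1 | e1 <;> rw [e1, e3]
    · left; rfl
    · right; rfl
    · right; rw [mul_assoc z, hzz]
    · left; rw [mul_assoc z]
  have e3 : t * (z * c) * p 0 = z * (t * c * p 0) := by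
    calc t * (z * c) * p 0 = (t * z) * c * p 0 := by group
      _ = _ := by rw [← C.comm]; group
  rcases e2 with e2 | e2
  · exfalso
    have hm1 : t * c * p 0 ∈ L2 := by
      rw [← e2, ← hv]; exact conj_mem_cj (C.qc.mem 0)
    have hm2 : z * (t * c * p 0) ∈ L2 := by
      rw [← e3]
      have e4 : p 0 * q 0 * p 0 = q 0 * t := by
        rw [C.symm.ab h, mul_assoc, C.qc.sq]
      rcases C.symm.tc_eq h (l.symm h) with e5 | e5 <;> rw [e5]
      · have : t * (p 0 * q 0) * p 0 = t * (q 0 * t) := by rw [mul_assoc, e4]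
        rw [this]
        exact mul_mem C.qd.zmem (mul_mem (C.qd.mem 0) C.qd.zmem)
      · have : t * (t * (p 0 * q 0)) * p 0 = t * (t * (q 0 * t)) := by rw [mul_assoc, mul_assoc, e4]
        rw [this]
        exact mul_mem C.qd.zmem (mul_mem C.qd.zmem (mul_mem (C.qd.mem 0) C.qd.zmem))
    have hz : z ∈ L2 := by
      have := mul_mem hm2 (inv_mem hm1)
      rwa [mul_inv_cancel_right] at this
    rcases C.qd.invol hz C.z2 with h1 | h1
    · exact C.qa.z1 h1
    · exact C.ne h1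
  · rw [e2, e3]

/-- the action on `L1` of an element commuting with a swap -/
theorem inner_or (l : Lab Om z t c) (hv : cj (a 1 * b 1) L1 = L2) (hs : s ∈ CX Om z) (hsc : s * c = c * s)
    (hs1 : cj s L1 = L2) (hs2 : cj s L2 = L1) (hx : x ∈ CX Om z) (hxc : x * c = c * x) (hxs : x * s = s * x)
    (hx1 : cj x L1 = L1) : (∀ k ∈ L1, x * k = k * x) ∨ (∀ k ∈ L1, (z * x) * k = k * (z * x)) := by
  have hxt := (l.comm_iff h hx).1 hxc
  have hst := (l.comm_iff h hs).1 hsc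
  have hxz : x * z = z * x := CX_le l.ti.1 h hx
  have hsz : s * z = z * s := CX_le l.ti.1 h hs
  have hxa : x * a 0 = a 0 * x := mem_CX.1 hx K1 C.k1 _ (C.qa.mem 0)
  obtain ⟨h1, h2⟩ := C.pow_or h hxz hxt hxa hx1
  have hz0 := C.symm.ta0
  have hz1 := C.symm.ta1
  rcases h2 with (h2 | h2) | h2
  · left
    intro k hk
    rw [mul_inv_eq_iff_eq_mul] at h1 h2
    exact C.qc.comm_of h1 h2 hk
  · right
    intro k hk
    rw [mul_inv_eq_iff_eq_mul] at h1 h2 hz1
    refine C.qc.comm_of ?_ ?_ hk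
    · rw [mul_assoc, h1, ← mul_assoc, hz0, mul_assoc]
    · calc z * x * p 1 = z * (x * p 1) := by group
        _ = (z * t) * p 1 * x := by rw [h2]; group
        _ = t * (z * p 1) * x := by rw [C.comm]; group
        _ = (t * t) * p 1 * (z * x) := by rw [hz1]; group
        _ = _ := by rw [C.t2, one_mul]
  · exfalso
    obtain ⟨u, hu⟩ : ∃ u, u = s⁻¹ * (a 1 * b 1) := ⟨_, rfl⟩
    have hvR : a 1 * b 1 ∈ RZ Om z := mul_mem (C.k1.le_RZ (C.qa.mem 1)) (C.k2.le_RZ (C.qb.mem 1))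
    have hxv : x * (a 1 * b 1) = a 1 * b 1 * x := CX_comm hvR hx
    have hxu : x * u = u * x := by
      have e1 : Commute x s := hxs
      have e2 : Commute x (a 1 * b 1) := hxv
      rw [hu]; exact (e1.inv_right.mul_right e2).eq
    have hut : u * t = t * u := by
      have e1 : Commute s t := hst
      have e2 : Commute (a 1 * b 1) t := C.vt h
      rw [hu]; exact (e1.inv_left.mul_left e2).eq
    have hs0 : s⁻¹ * p 0 * s = z * c * p 0 := by
      have e1 := C.theta_sw h l hs hsc hs1 hs2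
      calc s⁻¹ * p 0 * s = s⁻¹ * (p 0 * s * (p 0)⁻¹) * p 0 := by group
        _ = _ := by rw [e1]; group
    have hzc2 : z * c * (z * c) = 1 := by
      calc z * c * (z * c) = z * (c * z) * c := by group
        _ = (z * z) * (c * c) := by rw [l.comm_z h]; group
        _ = 1 := by rw [C.z2, l.sq, one_mul]
    have hu0 : u * p 0 * u⁻¹ = t * p 0 := by
      have e1 : s⁻¹ * t = t * s⁻¹ := by rw [inv_mul_eq_iff_eq_mul, ← mul_assoc, hst, mul_inv_cancel_right]
      have e2 : s⁻¹ * (z * c) = z * c * s⁻¹ := by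
        rw [inv_mul_eq_iff_eq_mul, ← mul_assoc, ← mul_assoc, hsz, mul_assoc z, hsc]; group
      calc u * p 0 * u⁻¹ = s⁻¹ * ((a 1 * b 1) * p 0 * (a 1 * b 1)⁻¹) * s := by rw [hu]; group
        _ = s⁻¹ * (t * (z * c) * p 0) * s := by rw [C.v_p0 h l hv]
        _ = (s⁻¹ * t) * (z * c) * p 0 * s := by group
        _ = t * (s⁻¹ * (z * c)) * p 0 * s := by rw [e1]; group
        _ = t * (z * c) * (s⁻¹ * p 0 * s) := by rw [e2]; group
        _ = t * (z * c * (z * c)) * p 0 := by rw [hs0]; group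
        _ = _ := by rw [hzc2, mul_one]
    have huL : u * p 1 * u⁻¹ ∈ L1 := by
      have e1 : cj u L1 = L1 := by rw [hu, cj_mul, hv, ← hs1, cj_inv_cj]
      rw [← e1]; exact conj_mem_cj (C.qc.mem 1)
    exact quarter_excl C.qc hxt hut hxu h1 hu0 huL h2

end Cf

/-- elements of `X_V` commuting with a swap `s ∈ X_V` -/
theorem Lab.fx_or_sw (h : W2 Om) (l : Lab Om z t c) (hc1 : c ≠ 1) (hs : s ∈ CX Om z) (hsc : s * c = c * s)
    (hsw : Sw Om t s) (hx : x ∈ CX Om z) (hxc : x * c = c * x) (hxs : x * s = s * x) (hfx : Fx Om t x) :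
    x ∈ CX Om t ∨ z * x ∈ CX Om t := by
  obtain ⟨K1, K2, L1, L2, a, b, p, q, C⟩ := l.ti.exists_cf h
  have hP : PTwo Om z t := by
    by_contra h2
    exact hc1 (l.eq_one h h2)
  have hst := (l.comm_iff h hs).1 hsc
  have hv := (C.pTwo_iff h).1 hP
  have hv1 : cj (a 1 * b 1) L1 = L2 := by
    rcases C.l1.cases C.l2 h C.lne (C.l1.cj_comm h (C.vt h)) with h1 | h1
    · exact absurd h1 (hv L1 C.l1)
    · exact h1
  have hv2 : cj (a 1 * b 1) L2 = L1 := by
    rcases C.l1.cases C.l2 h C.lne (C.l2.cj_comm h (C.vt h)) with h1 | h1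
    · exact h1
    · exact absurd h1 (hv L2 C.l2)
  have hs1 : cj s L1 = L2 := by
    rcases C.l1.cases C.l2 h C.lne (C.l1.cj_comm h hst) with h1 | h1
    · exact absurd h1 (hsw L1 C.l1)
    · exact h1
  have hs2 : cj s L2 = L1 := by
    rcases C.l1.cases C.l2 h C.lne (C.l2.cj_comm h hst) with h1 | h1
    · exact h1
    · exact absurd h1 (hsw L2 C.l2)
  rcases C.inner_or h l hv1 hs hsc hs1 hs2 hx hxc hxs (hfx _ C.l1) with h1 | h1 <;>
  rcases C.swl.inner_or h l hv2 hs hsc hs2 hs1 hx hxc hxs (hfx _ C.l2) with h2 | h2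
  · left
    rw [mem_CX]
    intro K hK
    rcases C.l1.cases C.l2 h C.lne hK with rfl | rfl
    · exact h1
    · exact h2
  · exact (C.swl.no_mix h hx h2 h1).elim
  · exact (C.no_mix h hx h1 h2).elim
  · right
    rw [mem_CX]
    intro K hK
    rcases C.l1.cases C.l2 h C.lne hK with rfl | rfl
    · exact h1
    · exact h2

/-! ### The world (S) -/

theorem CaseS.disj {a b : Fin 3 → G} {c0 c1 c2 : G} (S : CaseS Om z a b c0 c1 c2) (h : W2 Om)
    (F : Frame Om z K1 K2 a b) {p : Fin 3 × Fin 3} (hp : p ∈ DC Om z a b c) (hp' : p ∈ DC Om z a b c') : c = c' := by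
  obtain ⟨g, v, hg, h01, h12, h20, hv, -⟩ := S.ex
  have key : ∀ {c c' : G}, g * c * g⁻¹ = c' → p ∈ DC Om z a b c → p ∈ DC Om z a b c' → False := by
    rintro c c' rfl h1 h2
    have h3 := hg.dc h F h1
    exact hv ((D0.iff h F h2).2 h3)
  have m1 := DC.mem_CC hp
  have m2 := DC.mem_CC hp'
  rw [S.cc] at m1 m2
  simp only [Set.mem_insert_iff, Set.mem_singleton_iff] at m1 m2
  rcases m1 with rfl | rfl | rfl <;> rcases m2 with rfl | rfl | rfl
  · rfl
  · exact (key h01 hp hp').elim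
  · exact (key h20 hp' hp).elim
  · exact (key h01 hp' hp).elim
  · rfl
  · exact (key h12 hp hp').elim
  · exact (key h20 hp hp').elim
  · exact (key h12 hp' hp).elim
  · rfl

namespace SB

variable (W : SB Om)

include W

theorem cen (hc : c ∈ CC Om z) (hx : x ∈ CX Om z) : x * c = c * x := by
  obtain ⟨K1, K2, a, b, c0, c1, c2, F, S⟩ := W.s z (CC.inZ hc)
  exact S.cen c hc x hx

theorem comm (hc : c ∈ CC Om z) (hc' : c' ∈ CC Om z) : c * c' = c' * c := W.cen hc' (CC.mem_CX hc)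

theorem noOne : NoOne Om := by
  rintro z c hc rfl
  obtain ⟨K1, K2, a, b, c0, c1, c2, F, S⟩ := W.s z (CC.inZ hc)
  have h0 : c0 ∈ CC Om z := by rw [S.cc]; simp
  have h1 : c1 ∈ CC Om z := by rw [S.cc]; simp
  exact S.n01 ((CC.eq_one W.w hc h0).trans (CC.eq_one W.w hc h1).symm)

theorem third (hc : c ∈ CC Om z) (hc' : c' ∈ CC Om z) (hne : c ≠ c') : z * c * c' ∈ CC Om z := by
  obtain ⟨K1, K2, a, b, F⟩ := (CC.inZ hc).exists_frame W.w
  exact CC.third W.w F hc hc' (W.comm hc hc') hne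

theorem three {c'' : G} (hc : c ∈ CC Om z) (hc' : c' ∈ CC Om z) (hc'' : c'' ∈ CC Om z) (hne : c ≠ c') :
    c'' = c ∨ c'' = c' ∨ c'' = z * c * c' := by
  by_cases h1 : c'' = c
  · exact Or.inl h1
  by_cases h2 : c'' = c'
  · exact Or.inr (Or.inl h2)
  right; right
  exact CC.eq_three W.w hc hc' hc'' (W.comm hc hc') (W.comm hc hc'') (W.comm hc' hc'') hne (Ne.symm h1) (Ne.symm h2)

theorem exists_cc (hz : InZ Om z) : ∃ c0 c1 c2, CC Om z = {c0, c1, c2} ∧ c0 ≠ c1 ∧ c0 ≠ c2 ∧ c1 ≠ c2 ∧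
    c0 * c1 * c2 = z := by
  obtain ⟨K1, K2, a, b, c0, c1, c2, F, S⟩ := W.s z hz
  exact ⟨c0, c1, c2, S.cc, S.n01, S.n02, S.n12, S.mul⟩

theorem exists_ne (hc : c ∈ CC Om z) : ∃ c' ∈ CC Om z, c' ≠ c := by
  obtain ⟨c0, c1, c2, hcc, n01, -, -, -⟩ := W.exists_cc (CC.inZ hc)
  by_cases h1 : c = c0
  · exact ⟨c1, by rw [hcc]; simp, by rw [h1]; exact Ne.symm n01⟩
  · exact ⟨c0, by rw [hcc]; simp, Ne.symm h1⟩

theorem mul_three {c'' : G} (hc : c ∈ CC Om z) (hc' : c' ∈ CC Om z) (hc'' : c'' ∈ CC Om z) (n1 : c ≠ c') (n2 : c ≠ c'')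
    (n3 : c' ≠ c'') : z * c * c' = c'' := by
  rcases W.three hc hc' hc'' n1 with h1 | h1 | h1
  · exact absurd h1.symm n2
  · exact absurd h1.symm n3
  · exact h1.symm

/-- the direction determines the label -/
theorem disj {t' : G} (l : Lab Om z t c) (l' : Lab Om z t' c') (hd : t * c = t' * c' ∨ t * c = z * (t' * c')) :
    c = c' := by
  obtain ⟨K1, K2, a, b, c0, c1, c2, F, S⟩ := W.s z l.ti.1
  obtain ⟨th, i, j, -, -, -, -, hp, -⟩ := l'.theta W.w F
  have h1 : Dir z a b (t * c) i j := by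
    rcases hd with e1 | e1 <;> rcases hp with e2 | e2 <;> rw [Dir, e1, e2]
    · left; rfl
    · right; rfl
    · right; rfl
    · left; rw [F.qa.zzx]
  exact S.disj W.w F (p := (i, j)) ⟨t, l, h1⟩ ⟨t', l', hp⟩

/-- a swap over the neighbours over `c` -/
theorem sw (l : Lab Om z t c) (hc' : c' ∈ CC Om z) (hne : c ≠ c') : Sw Om t c' :=
  l.sw W.w hc' (W.comm l.mem_CC hc') hne

/-- `Y_V` depends on the label only -/
theorem cx_same {t' : G} (l : Lab Om z t c) (l' : Lab Om z t' c) (hx : x ∈ CX Om z) (hxt : x ∈ CX Om t) :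
    x ∈ CX Om t' := by
  have h := W.w
  obtain ⟨K1, K2, a, b, c0, c1, c2, F, S⟩ := W.s z l.ti.1
  obtain ⟨th, i, j, -, -, -, -, hp, -⟩ := l.theta h F
  obtain ⟨th', i', j', -, -, -, -, hp', -⟩ := l'.theta h F
  obtain ⟨d, hd, -, hdc, hdX⟩ := DC.exists_tra h F (p := (i, j)) (q := (i', j')) ⟨t, l, hp⟩ ⟨t', l', hp'⟩
  have hdx : d * x = x * d := hdX x hx (W.cen l.mem_CC hx)
  have l2 := l.conj_comm h hd.comm
  have hdc' : d * c * d⁻¹ = c := by rw [hdc, mul_inv_cancel_right]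
  rw [hdc'] at l2
  have hdir : Dir z a b (d * t * d⁻¹ * c) i' j' := by
    have h1 := hd.dir F (p := (i, j)) hp
    have e1 : d * (t * c) * d⁻¹ = d * t * d⁻¹ * c := by
      calc d * (t * c) * d⁻¹ = d * t * d⁻¹ * (d * c * d⁻¹) := by group
        _ = _ := by rw [hdc']
    have e2 : ((i, j) : Fin 3 × Fin 3) + ((i', j') - (i, j)) = (i', j') := add_sub_cancel _ _
    rw [e1, e2] at h1
    exact h1
  have hx2 : x ∈ CX Om (d * t * d⁻¹) := by
    have h1 := (CX_conj h d).2 hxt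
    have e : d * x * d⁻¹ = x := by rw [hdx, mul_inv_cancel_right]
    rwa [e] at h1
  rcases F.eq_of_dir (p := (i', j')) hdir hp' with h1 | h1
  · rw [h1]; exact hx2
  · obtain ⟨v, hv, hv1⟩ := l2.ti.exists_R h
    rw [h1, ← hv1]
    have h2 := (CX_conj h v).2 hx2
    have e : v * x * v⁻¹ = x := by rw [← CX_comm hv hx, mul_inv_cancel_right]
    rwa [e] at h2

/-- the action of `X_z` on `R_t` -/
theorem fx_or (l : Lab Om z t c) (hx : x ∈ CX Om z) (hfx : Fx Om t x) : x ∈ CX Om t ∨ z * x ∈ CX Om t := by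
  obtain ⟨c', hc', hne⟩ := W.exists_ne l.mem_CC
  exact l.fx_or_sw W.w (W.noOne z c l.mem_CC) (CC.mem_CX hc') (W.comm hc' l.mem_CC) (W.sw l hc' (Ne.symm hne)) hx
    (W.cen l.mem_CC hx) (W.cen hc' hx) hfx

theorem theta_fix (l : Lab Om z t c) (hx : x ∈ CX Om z) (hfx : Fx Om t x) (hc' : c' ∈ CC Om z) (hne : c ≠ c')
    (hx' : ∀ t', Lab Om z t' c' → x ∈ CX Om t') : ∃ t', Lab Om z t' (z * c * c') ∧ x ∈ CX Om t' := by
  have h := W.w
  obtain ⟨K1, K2, a, b, c0, c1, c2, F, S⟩ := W.s z l.ti.1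
  obtain ⟨th, i, j, -, hz, hcc, -, -, -, -, hact⟩ := l.theta h F
  obtain ⟨s, l'⟩ := hc'
  have hc' := l'.mem_CC
  have hx1 : th * x * th⁻¹ = x := by
    rcases hact x hx (W.cen l.mem_CC hx) with ⟨-, h1⟩ | ⟨h1, -⟩
    · exact h1
    · exact (fx_sw_false l.ti.2.1 hfx h1).elim
  have hc1 : th * c' * th⁻¹ = z * c * c' := by
    rcases hact c' l'.cz (W.cen l.mem_CC l'.cz) with ⟨h1, -⟩ | ⟨-, h1⟩
    · exact (fx_sw_false l.ti.2.1 h1 (W.sw l hc' hne)).elim
    · rw [h1, l'.comm_z h, mul_assoc, W.comm hc' l.mem_CC, mul_assoc]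
  have l2 := l'.conj_comm h hz
  rw [hc1] at l2
  refine ⟨_, l2, ?_⟩
  have h3 := (CX_conj h th).2 (hx' s l')
  rwa [hx1] at h3

/-- **(4.0)** -/
theorem cx (hx : x ∈ CX Om z) (hz : InZ Om z) :
    ∃ u, (u = 1 ∨ u = z ∨ u ∈ CC Om z ∨ z * u ∈ CC Om z) ∧ u * x ∈ NI Om z := by
  have h := W.w
  obtain ⟨c0, c1, c2, hcc, n01, n02, n12, hmul⟩ := W.exists_cc hz
  have m0 : c0 ∈ CC Om z := by rw [hcc]; simp
  have m1 : c1 ∈ CC Om z := by rw [hcc]; simp
  have m2 : c2 ∈ CC Om z := by rw [hcc]; simp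
  obtain ⟨t0, l0⟩ := id m0
  obtain ⟨t1, l1⟩ := id m1
  have hzX : z ∈ CX Om z := z_mem_CX h
  have hz2 := hz.z2 h
  -- the final step
  have fin : ∀ y ∈ CX Om z, y ∈ CX Om t0 → Fx Om t1 y → y ∈ NI Om z := by
    intro y hy hy0 hy1
    have a0 : ∀ t', Lab Om z t' c0 → y ∈ CX Om t' := fun t' l' => W.cx_same l0 l' hy hy0
    have e2 : z * c1 * c0 = c2 := W.mul_three m1 m0 m2 (Ne.symm n01) n12 n02
    obtain ⟨s, ls, hs⟩ := W.theta_fix l1 hy hy1 m0 (Ne.symm n01) a0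
    rw [e2] at ls
    have a2 : ∀ t', Lab Om z t' c2 → y ∈ CX Om t' := fun t' l' => W.cx_same ls l' hy hs
    have hf0 : Fx Om t0 y := (Inn.of_CX hy0).fx h
    have e1 : z * c0 * c2 = c1 := W.mul_three m0 m2 m1 n02 n01 (Ne.symm n12)
    obtain ⟨s', ls', hs'⟩ := W.theta_fix l0 hy hf0 m2 n02 a2
    rw [e1] at ls'
    have a1 : ∀ t', Lab Om z t' c1 → y ∈ CX Om t' := fun t' l' => W.cx_same ls' l' hy hs'
    rw [mem_NI]
    refine ⟨hy, fun s hs => ?_⟩
    obtain ⟨c, l⟩ := hs.exists_lab h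
    have hc := l.mem_CC
    rw [hcc] at hc
    simp only [Set.mem_insert_iff, Set.mem_singleton_iff] at hc
    rcases hc with rfl | rfl | rfl
    · exact a0 s l
    · exact a1 s l
    · exact a2 s l
  -- `y ∈ CX t0`: the last factor is `1` or `c0`
  have step2 : ∀ y ∈ CX Om z, y ∈ CX Om t0 → y ∈ NI Om z ∨ c0 * y ∈ NI Om z := by
    intro y hy hy0
    have hyt1 : y * t1 = t1 * y := (l1.comm_iff h hy).1 (W.cen m1 hy)
    have hc0t1 : c0 * t1 = t1 * c0 := (l1.comm_iff h (CC.mem_CX m0)).1 (W.comm m0 m1)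
    rcases Cfsg.Agent.Cit.Nil.RTwo.fx_or_sw h l1.ti.2.1 hyt1 with h1 | h1
    · exact Or.inl (fin y hy hy0 h1)
    · right
      exact fin _ (mul_mem (CC.mem_CX m0) hy) (mul_mem l0.ct hy0) ((W.sw l1 m0 (Ne.symm n01)).mul h h1 hc0t1 hyt1)
  -- first factor `1, z, c1, z c1`
  have hxt0 : x * t0 = t0 * x := (l0.comm_iff h hx).1 (W.cen m0 hx)
  have hc1t0 : c1 * t0 = t0 * c1 := (l0.comm_iff h (CC.mem_CX m1)).1 (W.comm m1 m0)
  have hzz : ∀ u : G, z * (z * u) = u := fun u => by rw [← mul_assoc, hz2, one_mul]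
  rcases Cfsg.Agent.Cit.Nil.RTwo.fx_or_sw h l0.ti.2.1 hxt0 with h1 | h1
  · rcases W.fx_or l0 hx h1 with h2 | h2
    · rcases step2 x hx h2 with h3 | h3
      · exact ⟨1, Or.inl rfl, by rwa [one_mul]⟩
      · exact ⟨c0, Or.inr (Or.inr (Or.inl m0)), h3⟩
    · rcases step2 _ (mul_mem hzX hx) h2 with h3 | h3
      · exact ⟨z, Or.inr (Or.inl rfl), h3⟩
      · refine ⟨z * c0, Or.inr (Or.inr (Or.inr ?_)), ?_⟩
        · rw [hzz]; exact m0
        · rwa [← CC.comm_z h m0, mul_assoc]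
  · have h1' := (W.sw l0 m1 n01).mul h h1 hc1t0 hxt0
    have hx' := mul_mem (CC.mem_CX m1) hx
    rcases W.fx_or l0 hx' h1' with h2 | h2
    · rcases step2 _ hx' h2 with h3 | h3
      · exact ⟨c1, Or.inr (Or.inr (Or.inl m1)), h3⟩
      · refine ⟨c0 * c1, Or.inr (Or.inr (Or.inr ?_)), ?_⟩
        · rw [← mul_assoc]; exact W.third m0 m1 n01
        · rwa [mul_assoc]
    · rcases step2 _ (mul_mem hzX hx') h2 with h3 | h3
      · refine ⟨z * c1, Or.inr (Or.inr (Or.inr ?_)), ?_⟩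
        · rw [hzz]; exact m1
        · rwa [mul_assoc]
      · refine ⟨z * (c0 * c1), Or.inr (Or.inr (Or.inl ?_)), ?_⟩
        · rw [← mul_assoc]; exact W.third m0 m1 n01
        · have e : z * (c0 * c1) * x = c0 * (z * (c1 * x)) := by
            calc z * (c0 * c1) * x = (z * c0) * (c1 * x) := by group
              _ = _ := by rw [← CC.comm_z h m0]; group
          rw [e]; exact h3

end SB

end

end Cfsg.Agent.Cit.Nil.RTwo
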