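import Cfsg.Agent.Cit.Nil.RTwo.AFive
import Cfsg.Agent.Cit.Nil.RTwo.NineB
import Cfsg.Agent.Cit.Nil.RTwo.SBase

/-!
# The world (A), `k = 1`, `P1`, f-pairs (the `M12` world of the product situation of S1309, `r = 2`)

* `MW Om`; `AW.mw`; `main_three_mw` : `Three ∨ MW ∨ (S)`;
* `MW.cx` : `X_z = ⟨z⟩`;
* `MW.no_f` : an involution commuting with `z`, fixing both members over `z` and outer on both of them, is in `Z`;
* `MW.exists_line` : an involution commuting with `z` (inner, outer on both members, or swapping them) commutes with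
  some type I neighbour of `z`.
-/

set_option autoImplicit false
set_option linter.style.haveILetI false
set_option linter.unusedSectionVars false
set_option maxHeartbeats 400000

namespace Cfsg.Agent.Cit.Nil.RTwo

open Subgroup Cfsg Cit

universe u

/-- the world (A), `k = 1`, `P1`, f-pairs -/
structure MW {G : Type*} [Group G] (Om : Set (Subgroup G)) : Prop where
  aw : AW Om
  p1 : ∀ z s, TI Om z s → ¬ PTwo Om z s
  ft : ∀ z s s', TI Om z s → TI Om z s' → s ≠ s' → s' ≠ z * s → FT Om s s'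
  ni : ∀ z, InZ Om z → NI Om z = ⊥

variable {G : Type*} [Group G]

section

variable [Finite G] {Om : Set (Subgroup G)} {K K1 K2 L M L1 L2 : Subgroup G} {z t u v g r s s' x y w c c' : G}
  {a b p q : Fin 3 → G}

/-! ### `X_z` on the neighbours, `P1` -/

namespace Cf

variable (C : Cf Om z t K1 K2 L1 L2 a b p q) (h : W2 Om)

include C h

/-- `P1`: `a 1 b 1` inverts `p 0` -/
theorem v_p0_one (hv : cj (a 1 * b 1) L1 = L1) : (a 1 * b 1) * p 0 * (a 1 * b 1)⁻¹ = t * p 0 := by
  have hzz := C.qa.zzx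
  have e1 : (a 1 * b 1) * p 0 * (a 1 * b 1)⁻¹ = a 0 * b 0 * p 0 ∨ (a 1 * b 1) * p 0 * (a 1 * b 1)⁻¹ =
      z * (a 0 * b 0 * p 0) := by
    have e2 := C.conj_ac h
    have e3 := C.swk.conj_ac h
    have e4 : (a 1 * b 1) * p 0 * (a 1 * b 1)⁻¹ = a 1 * (b 1 * p 0 * (b 1)⁻¹) * (a 1)⁻¹ := by group
    have e5 : a 1 * b 0 = b 0 * a 1 := C.k1.comm C.k2 h C.kne (C.qa.mem 1) (C.qb.mem 0)
    have e6 : a 0 * b 0 = b 0 * a 0 := C.ab h
    have e7 : a 1 * (b 0 * p 0) * (a 1)⁻¹ = b 0 * (a 1 * p 0 * (a 1)⁻¹) := by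
      calc a 1 * (b 0 * p 0) * (a 1)⁻¹ = (a 1 * b 0) * p 0 * (a 1)⁻¹ := by group
        _ = _ := by rw [e5]; group
    have e8 : ∀ k : G, a 1 * (z * k) * (a 1)⁻¹ = z * (a 1 * k * (a 1)⁻¹) := by
      intro k
      calc a 1 * (z * k) * (a 1)⁻¹ = (a 1 * z) * k * (a 1)⁻¹ := by group
        _ = _ := by rw [C.a1z]; group
    have e9 : ∀ k : G, b 0 * (z * k) = z * (b 0 * k) := fun k => by rw [← mul_assoc, ← C.qb.zc, mul_assoc]
    rw [e4]
    rcases e3 with e3 | e3 <;> rcases e2 with e2 | e2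
    · left; rw [e3, e7, e2, ← mul_assoc, ← e6]
    · right; rw [e3, e7, e2, e9, ← mul_assoc (b 0), ← e6]
    · right; rw [e3, e8, e7, e2, ← mul_assoc (b 0), ← e6]
    · left; rw [e3, e8, e7, e2, e9, hzz, ← mul_assoc, ← e6]
  have e2 : (a 1 * b 1) * p 0 * (a 1 * b 1)⁻¹ = t * p 0 ∨ (a 1 * b 1) * p 0 * (a 1 * b 1)⁻¹ = z * (t * p 0) := by
    rcases C.p1 h hv with e3 | e3 <;> rcases e1 with e1 | e1 <;> rw [e1, e3]
    · left; rfl
    · right; rfl
    · right; rw [mul_assoc z, hzz]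
    · left; rw [mul_assoc z]
  rcases e2 with e2 | e2
  · exact e2
  · exfalso
    have hm : (a 1 * b 1) * p 0 * (a 1 * b 1)⁻¹ ∈ L1 := by
      have := conj_mem_cj (g := a 1 * b 1) (C.qc.mem 0)
      rwa [hv] at this
    rw [e2] at hm
    have hz : z ∈ L1 := by
      have := mul_mem hm (inv_mem (mul_mem C.qc.zmem (C.qc.mem 0)))
      rwa [mul_inv_cancel_right] at this
    rcases C.qc.invol hz C.z2 with h1 | h1
    · exact C.qa.z1 h1
    · exact C.ne h1

/-- `P1`: the action of `X_z` on `L1` -/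
theorem inner_or_one (hv : cj (a 1 * b 1) L1 = L1) (hx : x ∈ CX Om z) (hxt : x * t = t * x) (hx1 : cj x L1 = L1) :
    (∀ k ∈ L1, x * k = k * x) ∨ (∀ k ∈ L1, (z * x) * k = k * (z * x)) := by
  have hxz : x * z = z * x := CX_le C.k1.inZ h hx
  have hxa : x * a 0 = a 0 * x := mem_CX.1 hx K1 C.k1 _ (C.qa.mem 0)
  obtain ⟨h1, h2⟩ := C.pow_or h hxz hxt hxa hx1
  have hz0 := C.symm.ta0
  have hz1 := C.symm.ta1
  rcases h2 with (h2 | h2) | h2
  · left
    intro k hk
    rw [mul_inv_eq_iff_eq_mul] at h1 h2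
    exact C.qc.comm_of h1 h2 hk
  · right
    intro k hk
    rw [mul_inv_eq_iff_eq_mul] at h1 h2 hz1
    refine C.qc.comm_of ?_ ?_ hk
    · rw [mul_assoc, h1, ← mul_assoc, hz0, mul_assoc]
    · calc z * x * p 1 = z * (x * p 1) := by group
        _ = (z * t) * p 1 * x := by rw [h2]; group
        _ = t * (z * p 1) * x := by rw [C.comm]; group
        _ = (t * t) * p 1 * (z * x) := by rw [hz1]; group
        _ = _ := by rw [C.t2, one_mul]
  · exfalso
    have hvR : a 1 * b 1 ∈ RZ Om z := mul_mem (C.k1.le_RZ (C.qa.mem 1)) (C.k2.le_RZ (C.qb.mem 1))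
    have huL : (a 1 * b 1) * p 1 * (a 1 * b 1)⁻¹ ∈ L1 := by
      have := conj_mem_cj (g := a 1 * b 1) (C.qc.mem 1)
      rwa [hv] at this
    exact quarter_excl C.qc hxt (C.vt h) (CX_comm hvR hx) h1 (C.v_p0_one h hv) huL h2

end Cf

/-- `P1`: `X_z` acts on `R_s` as `1` or as `z` -/
theorem POne.cx_or (P : POne Om) (hti : TI Om z s) (hx : x ∈ CX Om z) : x ∈ CX Om s ∨ z * x ∈ CX Om s := by
  have h := P.w
  have hxz : x * z = z * x := CX_le hti.1 h hx
  have hxs : x * s = s * x := CX_comm (P.mem_RZ hti) hx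
  have hfx : Fx Om s x := (P.fx_iff hti hxz hxs).1 ((Inn.of_CX hx).fx h)
  obtain ⟨K1, K2, L1, L2, a, b, p, q, C⟩ := hti.exists_cf h
  have hv : Fx Om s (a 1 * b 1) := by
    rcases fx_or_sw h hti.2.1 (C.vt h) with h3 | h3
    · exact h3
    · exact absurd ((C.pTwo_iff h).2 h3) (P.p1 z s hti)
  rcases C.inner_or_one h (hv L1 C.l1) hx hxs (hfx L1 C.l1) with h1 | h1 <;>
  rcases C.swl.inner_or_one h (hv L2 C.l2) hx hxs (hfx L2 C.l2) with h2 | h2
  · left
    rw [mem_CX]
    intro K hK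
    rcases C.l1.cases C.l2 h C.lne hK with rfl | rfl
    · exact h1
    · exact h2
  · exact (C.swl.no_mix h hx h2 h1).elim
  · exact (C.no_mix h hx h1 h2).elim
  · right
    rw [mem_CX]
    intro K hK
    rcases C.l1.cases C.l2 h C.lne hK with rfl | rfl
    · exact h1
    · exact h2

/-! ### The world -/

/-- a property of the type I neighbours of `z` invariant under `z` and the rotation `d` -/
theorem AW.spread' (W : AW Om) (hz : InZ Om z) (Pr : G → Prop) (h1 : ∀ s, TI Om z s → Pr s → Pr (z * s))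
    (h2 : ∀ g, g * z = z * g → (∀ x ∈ CX Om z, g * x = x * g) → ∀ s, TI Om z s → Pr s → Pr (g * s * g⁻¹))
    (hti : TI Om z s) (hti' : TI Om z s') (hs : Pr s) : Pr s' := by
  have h := W.w
  obtain ⟨d, hdz, -, hdx, hmv⟩ := W.d3 z hz
  have hdti : ∀ {s}, TI Om z s → TI Om z (d * s * d⁻¹) := by
    intro s hs
    have := hs.conj h d
    rwa [hdz, mul_inv_cancel_right] at this
  obtain ⟨K1, K2, a, b, D⟩ := W.dg z hz
  have hwti : ∀ i, TI Om z (a i * b i) := fun i => (D.ti _).2 ⟨i, Or.inl rfl⟩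
  have hd : ∀ {k : Fin 3}, Dir z a b (a k * b k) k k := Or.inl rfl
  have hf : ∀ i, ∃ j, d * (a i * b i) * d⁻¹ = a j * b j ∨ d * (a i * b i) * d⁻¹ = z * (a j * b j) := fun i =>
    (D.ti _).1 (hdti (hwti i))
  choose f hf using hf
  have hdz' : d * z * d⁻¹ = z := by rw [hdz, mul_inv_cancel_right]
  have hdmz : ∀ k : G, d * (z * k) * d⁻¹ = z * (d * k * d⁻¹) := by
    intro k
    calc d * (z * k) * d⁻¹ = (d * z * d⁻¹) * (d * k * d⁻¹) := by group
      _ = _ := by rw [hdz']
  have hinj : Function.Injective f := by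
    intro i j hij
    have h1 : d * (a i * b i) * d⁻¹ = d * (a j * b j) * d⁻¹ ∨ d * (a i * b i) * d⁻¹ = d * (z * (a j * b j)) * d⁻¹ := by
      rw [hdmz]
      rcases hf i with h3 | h3 <;> rcases hf j with h4 | h4
      · left; rw [h3, h4, hij]
      · right; rw [h3, h4, hij, D.zz]
      · right; rw [h3, h4, hij]
      · left; rw [h3, h4, hij]
    have h2 : Dir z a b (a i * b i) j j := by
      rcases h1 with h1 | h1
      · exact Or.inl (mul_left_cancel (mul_right_cancel h1))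
      · exact Or.inr (mul_left_cancel (mul_right_cancel h1))
    exact (D.fr.dir_unique h hd h2).1
  have hne : ∀ i, f i ≠ i := by
    intro i hi
    obtain ⟨h1, h2⟩ := hmv _ (hwti i)
    rcases hf i with h3 | h3 <;> rw [hi] at h3
    · exact h1 h3
    · exact h2 h3
  obtain ⟨i, hi⟩ := (D.ti s).1 hti
  obtain ⟨j, hj⟩ := (D.ti s').1 hti'
  have key0 : Pr (a i * b i) := by
    rcases hi with hi | hi
    · rw [← hi]; exact hs
    · have : a i * b i = z * s := by rw [hi, D.zz]
      rw [this]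
      exact h1 _ hti hs
  have keyf : ∀ k, Pr (a k * b k) → Pr (a (f k) * b (f k)) := by
    intro k hk
    have h3 := h2 d hdz hdx _ (hwti k) hk
    rcases hf k with h4 | h4
    · rwa [h4] at h3
    · have : a (f k) * b (f k) = z * (d * (a k * b k) * d⁻¹) := by rw [h4, D.zz]
      rw [this]
      exact h1 _ (hdti (hwti k)) h3
  have keyj : Pr (a j * b j) := by
    rcases AW2.fin_three f hinj hne i j with h3 | h3 | h3 <;> rw [h3]
    · exact key0
    · exact keyf _ key0
    · exact keyf _ (keyf _ key0)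
  rcases hj with hj | hj
  · rw [hj]; exact keyj
  · rw [hj]; exact h1 _ (hwti j) keyj

/-- a type I neighbour on another line -/
theorem AW.exists_ne (W : AW Om) (hti : TI Om z s) : ∃ s', TI Om z s' ∧ s ≠ s' ∧ s' ≠ z * s := by
  have h := W.w
  obtain ⟨K1, K2, a, b, D⟩ := W.dg z hti.1
  obtain ⟨i, hi⟩ := (D.ti s).1 hti
  have hd : ∀ {k : Fin 3}, Dir z a b (a k * b k) k k := Or.inl rfl
  have key : ¬ Dir z a b (a (i + 1) * b (i + 1)) i i := fun h1 =>
    i_ne1 i (D.fr.dir_unique h hd h1).1.symm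
  refine ⟨a (i + 1) * b (i + 1), (D.ti _).2 ⟨i + 1, Or.inl rfl⟩, fun e => key ?_, fun e => key ?_⟩
  · rw [← e]; exact hi
  · rcases hi with hi | hi
    · right; rw [e, hi]
    · left; rw [e, hi, D.zz]

/-- **(A), `k = 1`**: the world `MW` -/
theorem AW.mw (W : AW Om) (hSC : SCe Om) (hz : InZ Om z) : MW Om := by
  have h := W.w
  rcases W.one_or_two with h1 | h1
  · have P : POne Om := ⟨W.w, W.line, h1⟩
    have hNI : ∀ z, InZ Om z → NI Om z = ⊥ := hSC (NI Om) (fun g z _ => NI_conj h g z) (fun z hz => NI_le h hz)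
      (fun z t hz ht hc => NI_const_di h (di_of_one P.w P.line P.p1 hz ht hc))
    rcases pone_dich W P with h2 | h2
    · exfalso
      have h2' : ∀ z t, InZ Om z → InZ Om t → z * t = t * z → AS Om z = AS Om t := by
        intro z t hz ht hc
        have : {x | x = z ∨ TI Om z x} = {x | x = t ∨ TI Om t x} := by
          ext x; exact P.const h2 hz ht hc x
        rw [AS, AS, this]
      have h3 := hSC (AS Om) (fun g z _ => (AS_conj h g).symm) (fun z hz x hx => by
        rw [mem_centralizer_singleton_iff]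
        exact W.AS_comm hz hx z_mem_AS) h2' z hz
      have h4 : z ∈ AS Om z := z_mem_AS
      rw [h3, mem_bot] at h4
      exact hz.z1 h h4
    · exact ⟨W, h1, h2, hNI⟩
  · exact (AW2.false_of ⟨W, h1⟩ hSC hz).elim

namespace MW

variable (W : MW Om)

include W

theorem pone : POne Om := ⟨W.aw.w, W.aw.line, W.p1⟩

theorem eqEps : EqEps Om := W.pone.eqEps W.ft

/-- `X_z = ⟨z⟩` -/
theorem cx (hz : InZ Om z) (hx : x ∈ CX Om z) : x = 1 ∨ x = z := by
  have h := W.aw.w
  obtain ⟨s, hti⟩ := W.aw.exists_ti hz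
  have hz2 := hz.z2 h
  -- if `x` centralises `R_s`, then `x = 1`
  have key : ∀ x ∈ CX Om z, x ∈ CX Om s → x = 1 := by
    intro x hx hxs
    have h1 : x ∈ NI Om z := by
      rw [mem_NI]
      refine ⟨hx, fun s' hti' => ?_⟩
      refine W.aw.spread' hz (fun s => x ∈ CX Om s) ?_ ?_ hti hti' hxs
      · intro s hti hs
        obtain ⟨r, hr, hr1⟩ := hti.exists_R h
        have h2 := (CX_conj h r).2 hs
        rw [← CX_comm hr hx, mul_inv_cancel_right, hr1] at h2
        exact h2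
      · intro g hgz hgx s hti hs
        have h2 := (CX_conj h g).2 hs
        rwa [hgx x hx, mul_inv_cancel_right] at h2
    rwa [W.ni z hz, mem_bot] at h1
  rcases W.pone.cx_or hti hx with h1 | h1
  · exact Or.inl (key x hx h1)
  · right
    have h2 := key (z * x) (mul_mem (z_mem_CX h) hx) h1
    have h3 : z * (z * x) = z := by rw [h2, mul_one]
    rwa [← mul_assoc, hz2, one_mul] at h3

end MW

end

end Cfsg.Agent.Cit.Nil.RTwo
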