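import Cfsg.Agent.Cit.Nil.RTwo.OSeven
import Cfsg.Agent.Cit.Nil.RTwo.LamEnd
import Cfsg.Agent.Cit.Nil.RTwo.SLEnd

/-!
# S1309, `r = 2`, `m = 1`: (10.8), (10.9) of the blueprint

In the case (U) (every translation is in `D_0`), with `O(C(⟨R_z, R_t⟩)) = 1` (`OY Om z`, (10.6)):

* `exists_T3_cent` : for a suitable label `c₀` the elements of `T3 Om z c₀` centralise `X_z`;
* `exists_tra_cent` : every `v ∈ D_0` is the translation of a 3-element centralising `X_z`;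
* `sl_end_of_U` : if `D_0` contains a vector of weight one then S1310 applies.
-/

set_option autoImplicit false
set_option linter.style.haveILetI false
set_option linter.unusedSectionVars false
set_option maxHeartbeats 400000

namespace Cfsg.Agent.Cit.Nil.RTwo

open Subgroup Cfsg Cit

variable {G : Type*} [Group G]

/-- conjugation by an element of `C(z)` as an automorphism of `X_z` -/
def conjX [Finite G] {Om : Set (Subgroup G)} {z g : G} (h : W2 Om) (hg : g * z = z * g) : MulAut (CX Om z) where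
  toFun x := ⟨g * x * g⁻¹, CX_conj_comm h hg x.2⟩
  invFun x := ⟨g⁻¹ * x * g, by
    have hg' : g⁻¹ * z = z * g⁻¹ := by rw [inv_mul_eq_iff_eq_mul, ← mul_assoc, hg, mul_inv_cancel_right]
    have := CX_conj_comm h hg' x.2
    rwa [inv_inv] at this⟩
  left_inv x := Subtype.ext (by show g⁻¹ * (g * x * g⁻¹) * g = x; group)
  right_inv x := Subtype.ext (by show g * (g⁻¹ * x * g) * g⁻¹ = x; group)
  map_mul' x y := Subtype.ext (by
    show g * (x * y) * g⁻¹ = (g * x * g⁻¹) * (g * y * g⁻¹)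
    group)

section

variable [Finite G] {Om : Set (Subgroup G)} {K K1 K2 L L1 L2 : Subgroup G} {z t t' g g' x y w c c' c0 d : G}
  {a b p q : Fin 3 → G} {v v' : Fin 3 × Fin 3}

theorem coe_conjX (h : W2 Om) (hg : g * z = z * g) (x : CX Om z) : ((conjX h hg x : CX Om z) : G) = g * x * g⁻¹ := rfl

theorem conjX_pow (h : W2 Om) (hg : g * z = z * g) (n : ℕ) (x : CX Om z) :
    (((conjX h hg ^ n) x : CX Om z) : G) = g ^ n * x * (g ^ n)⁻¹ := by
  induction n with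
  | zero => simp
  | succ n ih =>
    have e : (conjX h hg ^ (n + 1)) x = conjX h hg ((conjX h hg ^ n) x) := by rw [pow_succ']; rfl
    rw [e, coe_conjX, ih, pow_succ']
    group

/-- the labels as elements of `X_z` -/
def CCX (Om : Set (Subgroup G)) (z : G) : Set (CX Om z) := {c | (c : G) ∈ CC Om z}

theorem labs (h : W2 Om) (hz : InZ Om z) (hn : (1 : G) ∉ CC Om z) :
    Lam.Labs (⟨z, z_mem_CX h⟩ : CX Om z) (CCX Om z) where
  z2 := Subtype.ext (hz.z2 h)
  zc x := Subtype.ext (CX_le hz h x.2)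
  sq c hc := Subtype.ext (CC.sq hc)
  ne1 c hc e := hn (by
    have h1 : (c : G) = 1 := congrArg Subtype.val e
    have h2 : (c : G) ∈ CC Om z := hc
    rwa [h1] at h2)
  nez c hc e := CC.ne_z h hc (congrArg Subtype.val e)
  conj c hc x := CC.conj_CX h hc x.2
  third c hc c' hc' hcc hne := by
    obtain ⟨K1, K2, a, b, F⟩ := hz.exists_frame h
    exact CC.third h F hc hc' (congrArg Subtype.val hcc) (fun e => hne (Subtype.ext e))

theorem T3.of_conn (h : W2 Om) (F : Frame Om z K1 K2 a b) (hU : ∀ g v, Tra z a b g v → v ∈ D0 Om z a b)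
    (hn : (1 : G) ∉ CC Om z) (hO : OY Om z) {c0 c : CX Om z} (hc : Lam.Conn (CCX Om z) c0 c)
    (ht : T3 Om z c0 g) : T3 Om z c g := by
  induction hc with
  | refl => exact ht
  | tail _ h2 ih => exact T3.of_comm h F hU hn hO h2.2.1 h2.1 (congrArg Subtype.val h2.2.2).symm ih

/-- the stabiliser of the component of `c0` centralises the elements of `T3 c0` -/
theorem T3.comm_of_XL (h : W2 Om) (F : Frame Om z K1 K2 a b) (hU : ∀ g v, Tra z a b g v → v ∈ D0 Om z a b)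
    (hn : (1 : G) ∉ CC Om z) (hO : OY Om z) {c0 x : CX Om z} (hc0 : c0 ∈ CCX Om z)
    (hx : Lam.Conn (CCX Om z) c0 (x * c0 * x⁻¹)) (ht : T3 Om z c0 g) : g * x = x * g := by
  have hz := F.k1.inZ
  have hc0' : (c0 : G) ∈ CC Om z := hc0
  have hxz : (x : G) * z = z * x := CX_le hz h x.2
  have hxz' : (x : G)⁻¹ * z = z * (x : G)⁻¹ := by
    rw [inv_mul_eq_iff_eq_mul, ← mul_assoc, hxz, mul_inv_cancel_right]
  have h1 : T3 Om z ((x : G) * c0 * (x : G)⁻¹) g := T3.of_conn h F hU hn hO hx ht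
  have h2 := h1.conj h hxz'
  have e1 : (x : G)⁻¹ * ((x : G) * c0 * (x : G)⁻¹) * (x : G)⁻¹⁻¹ = c0 := by group
  rw [e1, inv_inv] at h2
  have hgz := ht.comm_z h hc0'
  -- `y = x⁻¹ g x g⁻¹`
  obtain ⟨y, hy⟩ : ∃ y, y = (x : G)⁻¹ * g * x * g⁻¹ := ⟨_, rfl⟩
  have hyX : y ∈ CX Om z := by
    have e : y = (x : G)⁻¹ * (g * x * g⁻¹) := by rw [hy]; group
    rw [e]
    exact mul_mem (inv_mem x.2) (CX_conj_comm h hgz x.2)
  have hyc : ∀ u ∈ CE Om z c0 c0, y * u = u * y := by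
    intro u hu
    obtain ⟨hu1, hu2, -⟩ := mem_CE.1 hu
    have c1 : Commute g u := ht.2 u hu1 hu2
    have c2 : Commute ((x : G)⁻¹ * g * x) u := h2.2 u hu1 hu2
    rw [hy]
    exact (c2.mul_left c1.inv_left).eq
  have hyE : y ∈ CE Om z c0 c0 := by
    have h3 := hyc c0 (mem_CE.2 ⟨CC.mem_CX hc0', rfl, rfl⟩)
    exact mem_CE.2 ⟨hyX, h3, h3⟩
  obtain ⟨k, hk⟩ := two_of_central (OO_Cc h hn hO hc0') hyE hyc
  obtain ⟨-, hyc0, -⟩ := mem_CE.1 hyE
  have hgy : Commute g y := ht.2 y hyX hyc0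
  obtain ⟨n, hgn⟩ := ht.1
  obtain ⟨m, hm⟩ := h2.1
  have e2 : (x : G)⁻¹ * g * x = g * y := by rw [hgy.eq, hy, inv_mul_cancel_right]
  -- `y = 1`
  have h3 : y ^ 3 ^ (n + m) = 1 := by
    have h4 : (g * y) ^ 3 ^ (n + m) = 1 := by rw [← e2, pow_add, mul_comm, pow_mul, hm, one_pow]
    have h5 : g ^ 3 ^ (n + m) = 1 := by rw [pow_add, pow_mul, hgn, one_pow]
    rwa [hgy.mul_pow, h5, one_mul] at h4
  have h4 : y = 1 := by
    rw [← orderOf_eq_one_iff]
    exact Nat.Coprime.eq_one_of_dvd (Nat.Coprime.coprime_dvd_left (orderOf_dvd_of_pow_eq_one h3)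
      (Nat.Coprime.pow _ _ (by norm_num))) (orderOf_dvd_of_pow_eq_one hk)
  rw [h4, mul_one, mul_assoc, inv_mul_eq_iff_eq_mul] at e2
  exact e2

/-- **(10.8)** -/
theorem exists_T3_cent (h : W2 Om) (hF : CF Om) (F : Frame Om z K1 K2 a b)
    (hU : ∀ g v, Tra z a b g v → v ∈ D0 Om z a b) (hn : (1 : G) ∉ CC Om z) (hO : OY Om z) (hne : (CC Om z).Nonempty) :
    ∃ c0 ∈ CC Om z, ∀ g, T3 Om z c0 g → ∀ x ∈ CX Om z, g * x = x * g := by
  have hz := F.k1.inZ
  obtain ⟨T, hT⟩ := Hyp.exists_syl (CX Om z)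
  obtain ⟨c0, hc0, hc0T, hc0'⟩ := CC.exists_comm_of h hT hT.2.1 (fun s hs => CX_le hz h (hT.1 hs))
    (fun s hs => mem_normalizer_iff_cj.1 (le_normalizer hs)) hne
  refine ⟨c0, hc0, fun g hg x hx => ?_⟩
  have hcore : pPrimeCore 2 (CX Om z) = ⊥ := by
    have h1 : OO (CX Om z) = ⊥ := CX_odd h hF hz (OO_le _) (le_normalizer_OO _) (odd_OO _)
    rw [OO, Subgroup.map_eq_bot_iff_of_injective _ (CX Om z).subtype_injective] at h1
    exact h1
  have hctx : Lam.Ctx (⟨z, z_mem_CX h⟩ : CX Om z) (CCX Om z) (⟨c0, CC.mem_CX hc0⟩ : CX Om z)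
      (T.subgroupOf (CX Om z)) :=
    { labs := labs h hz hn
      mem := hc0
      syl := ⟨le_top, hT.2.1.comap_subtype, by
        rw [relIndex_top_right]; exact hT.2.2⟩
      comm := fun t ht => Subtype.ext (hc0' t (mem_subgroupOf.1 ht))
      core := hcore }
  have hgz := hg.comm_z h hc0
  obtain ⟨n, hgn⟩ := hg.1
  have h1 := hctx.fix (conjX h hgz) (n := n) (by
    ext y
    rw [conjX_pow, hgn]
    show (1 : G) * y * (1 : G)⁻¹ = y
    group) (fun y hy => by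
      apply Subtype.ext
      rw [coe_conjX]
      have h2 := T3.comm_of_XL h F hU hn hO (c0 := ⟨c0, CC.mem_CX hc0⟩) hc0 hy hg
      rw [h2, mul_inv_cancel_right])
  have h2 : ((conjX h hgz ⟨x, hx⟩ : CX Om z) : G) = x := by rw [h1]; rfl
  rw [coe_conjX, mul_inv_eq_iff_eq_mul] at h2
  exact h2

/-- **(10.8)** : the translations in `D_0` come from 3-elements centralising `X_z` -/
theorem exists_tra_cent (h : W2 Om) (hF : CF Om) (F : Frame Om z K1 K2 a b)
    (hU : ∀ g v, Tra z a b g v → v ∈ D0 Om z a b) (hn : (1 : G) ∉ CC Om z) (hO : OY Om z) (hv : v ∈ D0 Om z a b) :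
    ∃ d, Tra z a b d v ∧ (∃ n : ℕ, d ^ 3 ^ n = 1) ∧ ∀ x ∈ CX Om z, d * x = x * d := by
  obtain ⟨c, p, hp, -⟩ := id hv
  obtain ⟨c0, hc0, h1⟩ := exists_T3_cent h hF F hU hn hO ⟨c, DC.mem_CC hp⟩
  obtain ⟨p0, hp0⟩ := CC.exists_dir h F hc0
  have hq := (D0.iff h F hp0).1 hv
  obtain ⟨d, hd, h3, -, hdX⟩ := DC.exists_tra h F hp0 hq
  rw [add_sub_cancel_left] at hd
  exact ⟨d, hd, h3, h1 d ⟨h3, hdX⟩⟩

/-- **(10.9)** : case (U) and `D_0` contains a vector of weight one -/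
theorem sl_end_of_U (h : W2 Om) (hF : CF Om) (F : Frame Om z K1 K2 a b)
    (hU : ∀ g v, Tra z a b g v → v ∈ D0 Om z a b) (hn : (1 : G) ∉ CC Om z) (hO : OY Om z) (hv : v ∈ D0 Om z a b)
    (hw : WOne v) : SLSub z := by
  obtain ⟨d, hd, h3, hX⟩ := exists_tra_cent h hF F hU hn hO hv
  exact sl_end' h hF F hd hw h3 hX

end

end Cfsg.Agent.Cit.Nil.RTwo
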