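import Cfsg.Agent.Cit.Nil.RTwo.Trans

/-!
# S1309, `r = 2`, `m = 1`: (10.4) of the blueprint

* `Lab.mem_Y` : `Y_V = C(⟨R_z, R_t⟩)` depends only on the label (for the lines on `z`);
* `DC.of_U` : if every translation is in `D_0` then all labels have the same directions;
* `CC.exists_kappa` : distinct commuting labels `c, c'`: an element of `X_z` inducing the cycle `c → c' → zcc' → c`;
* `CC.exists_conj_U` : all labels are conjugate under `X_z`.
-/

set_option autoImplicit false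
set_option linter.style.haveILetI false
set_option linter.unusedSectionVars false
set_option maxHeartbeats 400000

namespace Cfsg.Agent.Cit.Nil.RTwo

open Subgroup Cfsg Cit

variable {G : Type*} [Group G]

theorem rf_sub (i j k : Fin 3) : rf i (rf j k) = k + (j - i) := by revert i j k; decide

section

variable [Finite G] {Om : Set (Subgroup G)} {K K1 K2 L L1 L2 : Subgroup G} {z t t' g g' x y w c c' : G}
  {a b : Fin 3 → G} {v v' : Fin 3 × Fin 3}

/-- `C(⟨R_z, R_t⟩) ≤ C(c)` -/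
theorem Lab.comm_of_Y (h : W2 Om) (l : Lab Om z t c) (hx : x ∈ CX Om z) (hxt : x ∈ CX Om t) : x * c = c * x :=
  (l.comm_iff h hx).2 (CX_le l.ti.2.1 h hxt)

/-- `C(⟨R_z, R_t⟩)` is the same for all lines on `z` over `c` -/
theorem Lab.mem_Y (h : W2 Om) (l : Lab Om z t c) (l' : Lab Om z t' c) (hx : x ∈ CX Om z) (hxt : x ∈ CX Om t) :
    x ∈ CX Om t' := by
  obtain ⟨K1, K2, a, b, F⟩ := l.ti.1.exists_frame h
  obtain ⟨-, i, j, -, -, -, -, hp, -⟩ := l.theta h F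
  obtain ⟨-, i', j', -, -, -, -, hq, -⟩ := l'.theta h F
  have hp' : (i, j) ∈ DC Om z a b c := ⟨t, l, hp⟩
  have hq' : (i', j') ∈ DC Om z a b c := ⟨t', l', hq⟩
  obtain ⟨d, hd, -, hdc, hdX⟩ := DC.exists_tra h F hp' hq'
  have hxc := l.comm_of_Y h hx hxt
  have h1 := hdX x hx hxc
  have h2 : Dir z a b (d * t * d⁻¹ * c) (i', j').1 (i', j').2 := by
    have h3 := hd.dir F (p := (i, j)) hp
    rw [add_sub_cancel] at h3
    have e : d * (t * c) * d⁻¹ = d * t * d⁻¹ * c := by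
      calc d * (t * c) * d⁻¹ = d * t * d⁻¹ * (d * c * d⁻¹) := by group
        _ = _ := by rw [hdc, mul_inv_cancel_right]
    rwa [e] at h3
  have h3 : x ∈ CX Om (d * t * d⁻¹) := by
    have h4 := (CX_conj h d).2 hxt
    rwa [h1, mul_inv_cancel_right] at h4
  rcases F.eq_of_dir (p := (i', j')) h2 hq with h4 | h4
  · rw [h4]; exact h3
  · -- `t' = z (d t d⁻¹)`
    have l2 := l.conj_comm h hd.comm
    obtain ⟨u, hu, hu1⟩ := l2.ti.exists_R h
    rw [h4, ← hu1]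
    have h5 := (CX_conj h u).2 h3
    have h6 : x * u = u * x := CX_comm hu hx
    rwa [← h6, mul_inv_cancel_right] at h5

/-- `C(⟨R_z, R_t⟩)` -/
theorem Lab.Y_eq (h : W2 Om) (l : Lab Om z t c) (l' : Lab Om z t' c) : CX Om z ⊓ CX Om t = CX Om z ⊓ CX Om t' :=
  le_antisymm (fun _ hx => ⟨hx.1, l.mem_Y h l' hx.1 hx.2⟩) (fun _ hx => ⟨hx.1, l'.mem_Y h l hx.1 hx.2⟩)

/-- if every translation is in `D_0` then all labels have the same directions -/
theorem DC.of_U (h : W2 Om) (F : Frame Om z K1 K2 a b) (hU : ∀ g v, Tra z a b g v → v ∈ D0 Om z a b)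
    (hc : c ∈ CC Om z) {q : Fin 3 × Fin 3} (hq : q ∈ DC Om z a b c') : q ∈ DC Om z a b c := by
  obtain ⟨p, hp⟩ := CC.exists_dir h F hc
  obtain ⟨t, l, hd⟩ := id hp
  obtain ⟨t', l', hd'⟩ := hq
  obtain ⟨e1, -, z1, -, -, a1, b1, -⟩ := l.exists_theta h F hd
  obtain ⟨e2, -, z2, -, -, a2, b2, -⟩ := l'.exists_theta h F hd'
  have hz2 := l.z2 h
  have hgz : (e1 * e2) * z = z * (e1 * e2) := by rw [mul_assoc, z2, ← mul_assoc, z1, mul_assoc]
  have hT : Tra z a b (e1 * e2) (q - p) := by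
    refine ⟨hgz, ?_, ?_⟩
    · have h1 := a2.comp hz2 a1 z1
      have e : rf p.1 * rf q.1 = Equiv.addRight (q - p).1 := Equiv.ext fun i => rf_sub _ _ i
      rwa [e] at h1
    · have h1 := b2.comp hz2 b1 z1
      have e : rf p.2 * rf q.2 = Equiv.addRight (q - p).2 := Equiv.ext fun i => rf_sub _ _ i
      rwa [e] at h1
  have h1 := (D0.iff h F hp).1 (hU _ _ hT)
  rwa [add_sub_cancel] at h1

/-- the `X_z`-part of an element acting trivially on the directions -/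
theorem Tra.exists_X (h : W2 Om) (F : Frame Om z K1 K2 a b) (ht : Tra z a b g 0) :
    ∃ r ∈ RZ Om z, ∃ x ∈ CX Om z, g = r * x := by
  have hz2 := F.k1.inZ.z2 h
  have e : Equiv.addRight (0 : Fin 3) = 1 := by ext i; simp
  have hi : Inn Om z g := by
    intro K hK
    have h1 := ht.a
    have h2 := ht.b
    rw [show ((0 : Fin 3 × Fin 3)).1 = 0 from rfl, e] at h1
    rw [show ((0 : Fin 3 × Fin 3)).2 = 0 from rfl, e] at h2
    rcases F.k1.cases F.k2 h F.ne hK with rfl | rfl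
    · exact h1.inner F.qa ht.comm
    · exact h2.inner F.qb ht.comm
  obtain ⟨u, hu, v, hv, -, -, hx⟩ := hi.exists_mul F.k1 F.k2 h F.ne F.qa F.qb
  exact ⟨u * v, mul_mem (F.k1.le_RZ hu) (F.k2.le_RZ hv), _, hx, by group⟩

/-- the action of the `X_z`-part -/
theorem conj_of_RX {r : G} (hr : r ∈ RZ Om z) (hx : x ∈ CX Om z) (hy : y ∈ CX Om z) :
    r * x * y * (r * x)⁻¹ = x * y * x⁻¹ := by
  have h1 : (x * y * x⁻¹) * r = r * (x * y * x⁻¹) := CX_comm hr (mul_mem (mul_mem hx hy) (inv_mem hx))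
  calc r * x * y * (r * x)⁻¹ = r * (x * y * x⁻¹) * r⁻¹ := by group
    _ = (x * y * x⁻¹) * r * r⁻¹ := by rw [h1]
    _ = _ := by group

theorem exists_three_pow (g : G) : ∃ N : ℕ, N % 3 = 1 ∧ ∃ n : ℕ, (g ^ N) ^ 3 ^ n = 1 := by
  obtain ⟨e, m, hm, he⟩ := Nat.exists_eq_pow_mul_and_not_dvd (orderOf_pos g).ne' 3 (by norm_num)
  have hcop : Nat.Coprime (3 ^ (e + 1)) m := Nat.Coprime.pow_left _ ((Nat.prime_three.coprime_iff_not_dvd).2 hm)
  obtain ⟨N, h1, h2⟩ := Nat.chineseRemainder hcop 1 0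
  have h4 : N ≡ 1 [MOD 3] := h1.of_dvd (dvd_pow_self 3 (Nat.succ_ne_zero e))
  refine ⟨N, h4, e, ?_⟩
  rw [← pow_mul, ← orderOf_dvd_iff_pow_eq_one, he, mul_comm N]
  exact mul_dvd_mul_left _ ((Nat.modEq_zero_iff_dvd).1 h2)

/-- **(10.4)** -/
theorem CC.exists_kappa (h : W2 Om) (F : Frame Om z K1 K2 a b) (hU : ∀ g v, Tra z a b g v → v ∈ D0 Om z a b)
    (hc : c ∈ CC Om z) (hc' : c' ∈ CC Om z) (hcc : c * c' = c' * c) (hne : c ≠ c') :
    ∃ k ∈ CX Om z, k * c * k⁻¹ = c' ∧ k * c' * k⁻¹ = z * c * c' ∧ k * (z * c * c') * k⁻¹ = c ∧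
      ∀ x ∈ CX Om z, (∀ t, Lab Om z t c → x ∈ CX Om t) → (∀ t, Lab Om z t c' → x ∈ CX Om t) → k * x = x * k := by
  obtain ⟨p, hp⟩ := CC.exists_dir h F hc'
  obtain ⟨t, l, hd⟩ := DC.of_U h F hU hc hp
  obtain ⟨t', l', hd'⟩ := hp
  obtain ⟨e1, -, z1, c1, -, a1, b1, x1⟩ := l.exists_theta h F hd
  obtain ⟨e2, -, z2, c2, -, a2, b2, x2⟩ := l'.exists_theta h F hd'
  have hz2 := l.z2 h
  have hcz := l.comm_z h
  have hcz' := l'.comm_z h
  have hcs := l.sq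
  have hcs' := l'.sq
  have hgz : (e1 * e2) * z = z * (e1 * e2) := by rw [mul_assoc, z2, ← mul_assoc, z1, mul_assoc]
  have hT : Tra z a b (e1 * e2) 0 := by
    refine ⟨hgz, ?_, ?_⟩
    · have h1 := a2.comp hz2 a1 z1
      have e : rf p.1 * rf p.1 = Equiv.addRight (0 : Fin 3 × Fin 3).1 := Equiv.ext fun i => by
        show rf p.1 (rf p.1 i) = i + 0
        rw [rf_sub, sub_self]
      rwa [e] at h1
    · have h1 := b2.comp hz2 b1 z1
      have e : rf p.2 * rf p.2 = Equiv.addRight (0 : Fin 3 × Fin 3).2 := Equiv.ext fun i => by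
        show rf p.2 (rf p.2 i) = i + 0
        rw [rf_sub, sub_self]
      rwa [e] at h1
  obtain ⟨r, hr, k, hk, hrk⟩ := hT.exists_X h F
  -- the actions
  have hX1 : c' ∈ CX Om z := l'.cz
  have hX : c ∈ CX Om z := l.cz
  have s1 : e1 * c' * e1⁻¹ = z * c * c' := by
    rcases x1 c' hX1 hcc.symm with ⟨h1, -⟩ | ⟨-, h1⟩
    · exact ((l.sw h hc' hcc hne).not_fx l.ti.2.1 h1).elim
    · rw [h1, hcz', mul_assoc, ← hcc, mul_assoc]
  have s2 : e2 * c * e2⁻¹ = z * c * c' := by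
    rcases x2 c hX hcc with ⟨h1, -⟩ | ⟨-, h1⟩
    · exact ((l'.sw h hc hcc.symm (Ne.symm hne)).not_fx l'.ti.2.1 h1).elim
    · rw [h1, hcz]
  have s1' : e1 * c * e1⁻¹ = c := by rw [c1, mul_inv_cancel_right]
  have s2' : e2 * c' * e2⁻¹ = c' := by rw [c2, mul_inv_cancel_right]
  have s1z : e1 * z * e1⁻¹ = z := by rw [z1, mul_inv_cancel_right]
  have s2z : e2 * z * e2⁻¹ = z := by rw [z2, mul_inv_cancel_right]
  have s1'' : e1 * (z * c * c') * e1⁻¹ = c' := by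
    calc e1 * (z * c * c') * e1⁻¹ = (e1 * z * e1⁻¹) * (e1 * c * e1⁻¹) * (e1 * c' * e1⁻¹) := by group
      _ = z * c * (z * c * c') := by rw [s1z, s1', s1]
      _ = z * (c * z) * c * c' := by group
      _ = (z * z) * (c * c) * c' := by rw [hcz]; group
      _ = c' := by rw [hz2, hcs, one_mul, one_mul]
  have s2'' : e2 * (z * c * c') * e2⁻¹ = c := by
    calc e2 * (z * c * c') * e2⁻¹ = (e2 * z * e2⁻¹) * (e2 * c * e2⁻¹) * (e2 * c' * e2⁻¹) := by group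
      _ = z * (z * c * c') * c' := by rw [s2z, s2, s2']
      _ = (z * z) * c * (c' * c') := by group
      _ = c := by rw [hz2, hcs', one_mul, mul_one]
  have hact : ∀ y ∈ CX Om z, k * y * k⁻¹ = e1 * (e2 * y * e2⁻¹) * e1⁻¹ := by
    intro y hy
    rw [← conj_of_RX hr hk hy, ← hrk]; group
  have hX2 : z * c * c' ∈ CX Om z := mul_mem (mul_mem (z_mem_CX h) hX) hX1
  refine ⟨k, hk, ?_, ?_, ?_, ?_⟩
  · rw [hact c hX, s2, s1'']
  · rw [hact c' hX1, s2', s1]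
  · rw [hact _ hX2, s2'', s1']
  · intro x hx h1 h2
    have h1' := h1 t l
    have h2' := h2 t' l'
    have q2 : e2 * x * e2⁻¹ = x := by
      rcases x2 x hx (l'.comm_of_Y h hx h2') with ⟨-, h3⟩ | ⟨h3, -⟩
      · exact h3
      · exact (h3.not_fx l'.ti.2.1 ((Inn.of_CX h2').fx h)).elim
    have q1 : e1 * x * e1⁻¹ = x := by
      rcases x1 x hx (l.comm_of_Y h hx h1') with ⟨-, h3⟩ | ⟨h3, -⟩
      · exact h3
      · exact (h3.not_fx l.ti.2.1 ((Inn.of_CX h1').fx h)).elim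
    have h3 := hact x hx
    rw [q2, q1, mul_inv_eq_iff_eq_mul] at h3
    exact h3

/-- all labels are conjugate under `X_z` -/
theorem CC.exists_conj_U (h : W2 Om) (F : Frame Om z K1 K2 a b) (hU : ∀ g v, Tra z a b g v → v ∈ D0 Om z a b)
    (hc : c ∈ CC Om z) (hc' : c' ∈ CC Om z) : ∃ x ∈ CX Om z, x * c * x⁻¹ = c' := by
  obtain ⟨T, hT⟩ := Hyp.exists_syl (CX Om z)
  obtain ⟨c0, hc0, hc0T, hc0'⟩ := CC.exists_comm_of h hT hT.2.1 (fun s hs => CX_le F.k1.inZ h (hT.1 hs))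
    (fun s hs => mem_normalizer_iff_cj.1 (le_normalizer hs)) ⟨c, hc⟩
  have key : ∀ c ∈ CC Om z, ∃ x ∈ CX Om z, x * c * x⁻¹ = c0 := by
    intro c hc
    obtain ⟨x, hx, hx1, hx2⟩ := CC.exists_conj h hT hc
    by_cases hne : x * c * x⁻¹ = c0
    · exact ⟨x, hx, hne⟩
    obtain ⟨k, hk, hk1, -⟩ := CC.exists_kappa h F hU hx1 hc0 (hc0' _ hx2) hne
    exact ⟨k * x, mul_mem hk hx, by rw [← hk1]; group⟩
  obtain ⟨x, hx, hx1⟩ := key c hc
  obtain ⟨y, hy, hy1⟩ := key c' hc'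
  refine ⟨y⁻¹ * x, mul_mem (inv_mem hy) hx, ?_⟩
  calc y⁻¹ * x * c * (y⁻¹ * x)⁻¹ = y⁻¹ * (x * c * x⁻¹) * y := by group
    _ = y⁻¹ * (y * c' * y⁻¹) * y := by rw [hx1, hy1]
    _ = c' := by group

end

end Cfsg.Agent.Cit.Nil.RTwo
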