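import Cfsg.Agent.Cit.Nil.RTwo.OFour
import Cfsg.Agent.Cit.Nil.RTwo.TTwo
import Cfsg.Agent.Cit.Nil.RTwo.Weight

/-!
# S1309, `r = 2`, `m = 1`: (10.7) of the blueprint

* `OY Om z` : `O(C(⟨R_z, R_t⟩)) = 1` for the lines `⟨z, t⟩` on `z` ((10.6));
* `Lab.cent_Y` : `C(⟨R_z, R_t⟩)`, `⟨z, t⟩` over `c`, centralises the labels commuting with `c`;
* `OO_CE` : `O(C_X(⟨z, c, c'⟩)) = 1`;
* `T3 Om z c g` : `g` is a 3-element centralising `C_X(c)`; `T3.of_comm` : the same for commuting labels.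
-/

set_option autoImplicit false
set_option linter.style.haveILetI false
set_option linter.unusedSectionVars false
set_option maxHeartbeats 400000

namespace Cfsg.Agent.Cit.Nil.RTwo

open Subgroup Cfsg Cit

variable {G : Type*} [Group G]

/-- `O(C(⟨R_z, R_t⟩)) = 1` for the lines on `z` -/
def OY (Om : Set (Subgroup G)) (z : G) : Prop := ∀ t c, Lab Om z t c → OO (CX Om z ⊓ CX Om t) = ⊥

theorem perm_three (σ : Equiv.Perm (Fin 3)) (h : σ * σ * σ = 1) : ∃ i : Fin 3, σ = Equiv.addRight i := by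
  revert σ; decide

theorem perm_two_or (σ : Equiv.Perm (Fin 3)) : σ * σ = 1 ∨ σ * σ * σ = 1 := by
  revert σ; decide

theorem perm_three_of (σ : Equiv.Perm (Fin 3)) {n : ℕ} (h : σ ^ 3 ^ n = 1) : ∃ i : Fin 3, σ = Equiv.addRight i := by
  apply perm_three
  rcases perm_two_or σ with h2 | h2
  · have h3 : orderOf σ ∣ 2 := orderOf_dvd_of_pow_eq_one (by rw [pow_two, h2])
    have h4 : orderOf σ ∣ 3 ^ n := orderOf_dvd_of_pow_eq_one h
    have h5 : orderOf σ = 1 := Nat.Coprime.eq_one_of_dvd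
      (Nat.Coprime.coprime_dvd_left h3 (Nat.Coprime.pow_right n (by norm_num))) h4
    rw [orderOf_eq_one_iff.1 h5]; rfl
  · exact h2

section

variable [Finite G] {Om : Set (Subgroup G)} {K K1 K2 L L1 L2 : Subgroup G} {z t t' g g' x y w c c' c0 d : G}
  {a b p q : Fin 3 → G} {v v' : Fin 3 × Fin 3}

/-! ### elements of odd order of `C_X(c)` -/

theorem Cf.pow_four (C : Cf Om z t K1 K2 L1 L2 a b p q) (h : W2 Om) (hxz : x * z = z * x) (hxt : x * t = t * x)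
    (hxa : x * a 0 = a 0 * x) (hx : cj x L1 = L1) : ∀ k ∈ L1, x ^ 4 * k = k * x ^ 4 := by
  obtain ⟨h1, h2⟩ := C.pow_or h hxz hxt hxa hx
  have h01 : p 0 * p 1 = p 2 := C.qc.mul 0
  have h02 : p 0 * p 2 = t * p 1 := C.qc.mul2' 0
  have hxt' : x * t * x⁻¹ = t := by rw [hxt, mul_inv_cancel_right]
  have htt : ∀ u, t * (t * u) = u := C.qc.zzx
  have hxm : ∀ k : G, x * (t * k) * x⁻¹ = t * (x * k * x⁻¹) := by
    intro k
    calc x * (t * k) * x⁻¹ = (x * t * x⁻¹) * (x * k * x⁻¹) := by group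
      _ = _ := by rw [hxt']
  have htp : ∀ k : G, p 0 * (t * k) = t * (p 0 * k) := by
    intro k; rw [← mul_assoc, ← C.qc.zc, mul_assoc]
  have hx2' : x * p 2 * x⁻¹ = p 0 * (x * p 1 * x⁻¹) := by
    rw [← h01]
    calc x * (p 0 * p 1) * x⁻¹ = (x * p 0 * x⁻¹) * (x * p 1 * x⁻¹) := by group
      _ = _ := by rw [h1]
  have h3 : x * (x * p 1 * x⁻¹) * x⁻¹ = p 1 ∨ x * (x * p 1 * x⁻¹) * x⁻¹ = t * p 1 := by
    rcases h2 with (h2 | h2) | (h2 | h2)
    · left; rw [h2, h2]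
    · left; rw [h2, hxm, h2, htt]
    · right; rw [h2, hx2', h2, h02]
    · right; rw [h2, hxm, hx2', h2, htp, h02, htt]
  have e4 : ∀ k : G, x ^ 4 * k * (x ^ 4)⁻¹ = x * (x * (x * (x * k * x⁻¹) * x⁻¹) * x⁻¹) * x⁻¹ := by
    intro k
    have : x ^ 4 = x * x * x * x := by simp only [pow_succ, pow_zero, one_mul]
    rw [this]; group
  have h4 : x ^ 4 * p 1 * (x ^ 4)⁻¹ = p 1 := by
    rw [e4]
    rcases h3 with h3 | h3
    · rw [h3, h3]
    · rw [h3, hxm, hxm, h3, htt]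
  have h5 : x ^ 4 * p 0 * (x ^ 4)⁻¹ = p 0 := by
    rw [e4, h1, h1, h1, h1]
  intro k hk
  rw [mul_inv_eq_iff_eq_mul] at h4 h5
  exact C.qc.comm_of h5 h4 hk

/-- an element of odd order of `C_X(c)` centralises `R_t` -/
theorem Lab.mem_of_odd (h : W2 Om) (l : Lab Om z t c) (hx : x ∈ CX Om z) (hxc : x * c = c * x)
    (ho : ¬ 2 ∣ orderOf x) : x ∈ CX Om t := by
  obtain ⟨K1, K2, L1, L2, a, b, p, q, C⟩ := l.ti.exists_cf h
  have key : ∀ y ∈ CX Om z, y * c = c * y → y ^ 8 ∈ CX Om t := by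
    intro y hy hyc
    have hyt := (l.comm_iff h hy).1 hyc
    have hw : y ^ 2 ∈ CX Om z := pow_mem hy 2
    have hwz : y ^ 2 * z = z * y ^ 2 := CX_le l.ti.1 h hw
    have hwt : y ^ 2 * t = t * y ^ 2 := ((show Commute y t from hyt).pow_left 2).eq
    have hwa : y ^ 2 * a 0 = a 0 * y ^ 2 := mem_CX.1 hw _ C.k1 _ (C.qa.mem 0)
    have hfix : cj (y ^ 2) L1 = L1 ∧ cj (y ^ 2) L2 = L2 := by
      have h5 : cj y L1 ≠ cj y L2 := fun e => C.lne (cj_inj.1 e)
      rw [pow_two, cj_mul, cj_mul]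
      rcases C.l1.cases C.l2 h C.lne (C.l1.cj_comm h hyt) with h1 | h1 <;>
      rcases C.l1.cases C.l2 h C.lne (C.l2.cj_comm h hyt) with h2 | h2
      · exact absurd (h1.trans h2.symm) h5
      · exact ⟨by rw [h1, h1], by rw [h2, h2]⟩
      · exact ⟨by rw [h1, h2], by rw [h2, h1]⟩
      · exact absurd (h1.trans h2.symm) h5
    have h8 : y ^ 8 = (y ^ 2) ^ 4 := by rw [← pow_mul]
    rw [h8, mem_CX]
    intro K hK
    rcases C.l1.cases C.l2 h C.lne hK with rfl | rfl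
    · exact C.pow_four h hwz hwt hwa hfix.1
    · exact C.swl.pow_four h hwz hwt hwa hfix.2
  have hcop : Nat.Coprime (orderOf x) 8 := by
    have : (8 : ℕ) = 2 ^ 3 := by norm_num
    rw [this]
    exact Nat.Coprime.pow_right 3 (Nat.Coprime.symm ((Nat.Prime.coprime_iff_not_dvd Nat.prime_two).2 ho))
  obtain ⟨m, hm⟩ := exists_pow_eq_self_of_coprime (x := x) (n := 8) hcop.symm
  rw [← hm]
  exact pow_mem (key x hx hxc) m

/-! ### (10.7), first part -/

theorem CC.conj_CX (h : W2 Om) (hc : c ∈ CC Om z) (hx : x ∈ CX Om z) : x * c * x⁻¹ ∈ CC Om z :=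
  CC.conj_comm h hc (CX_le (CC.inZ hc) h hx)

/-- `C(⟨R_z, R_t⟩)` centralises the labels commuting with `c` -/
theorem Lab.cent_Y (h : W2 Om) (l : Lab Om z t c) (hO : OO (CX Om z ⊓ CX Om t) = ⊥) (hc' : c' ∈ CC Om z)
    (hcc : c * c' = c' * c) (hne : c ≠ c') (hn1 : c' ≠ 1) (hx : x ∈ CX Om z) (hxt : x ∈ CX Om t) :
    x * c' = c' * x := by
  have hc : c ∈ CC Om z := l.mem_CC
  have hX' : c' ∈ CX Om z := CC.mem_CX hc'
  have ht' : c' * t = t * c' := (l.comm_iff h hX').1 hcc.symm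
  have hcjY : ∀ y ∈ CX Om z ⊓ CX Om t, c' * y * c'⁻¹ ∈ CX Om z ⊓ CX Om t := fun y hy =>
    ⟨(CX Om z).mul_mem ((CX Om z).mul_mem hX' hy.1) ((CX Om z).inv_mem hX'), CX_conj_comm h ht' hy.2⟩
  have hn : zpowers c' ≤ normalizer ((CX Om z ⊓ CX Om t : Subgroup G) : Set G) := by
    rw [zpowers_le, mem_normalizer_iff]
    intro y
    refine ⟨hcjY y, fun hy => ?_⟩
    have h1 := hcjY _ hy
    have e : c' * (c' * y * c'⁻¹) * c'⁻¹ = y := by
      calc c' * (c' * y * c'⁻¹) * c'⁻¹ = (c' * c') * y * (c' * c')⁻¹ := by group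
        _ = y := by rw [CC.sq hc']; group
    rwa [e] at h1
  rcases zstar_sub (X := (CX Om z ⊓ CX Om t) ⊔ zpowers c') (u := c') (mem_sup_right (mem_zpowers c')) (CC.sq hc')
    hn1 with ⟨g, hg, hne', hcm⟩ | ⟨N, hNX, hodd, hNn, hN⟩
  · exfalso
    obtain ⟨y, hy, u, hu, rfl⟩ := LB.exists_mul_of_mem_sup hn hg
    have hut : u * c' * u⁻¹ = c' := by
      obtain ⟨k, rfl⟩ := mem_zpowers_iff.1 hu
      rw [← ((Commute.refl c').zpow_right k).eq, mul_inv_cancel_right]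
    have h1 : y * u * c' * (y * u)⁻¹ = y * c' * y⁻¹ := by
      calc y * u * c' * (y * u)⁻¹ = y * (u * c' * u⁻¹) * y⁻¹ := by group
        _ = _ := by rw [hut]
    rw [h1] at hne' hcm
    have hyc := l.comm_of_Y h hy.1 hy.2
    have hc1 : y * c' * y⁻¹ ∈ CC Om z := CC.conj_CX h hc' hy.1
    have h14 : c * (y * c' * y⁻¹) = y * c' * y⁻¹ * c := by
      have e : c = y * c * y⁻¹ := by rw [hyc, mul_inv_cancel_right]
      calc c * (y * c' * y⁻¹) = (y * c * y⁻¹) * (y * c' * y⁻¹) := by rw [← e]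
        _ = y * (c * c') * y⁻¹ := by group
        _ = y * (c' * c) * y⁻¹ := by rw [hcc]
        _ = (y * c' * y⁻¹) * (y * c * y⁻¹) := by group
        _ = _ := by rw [← e]
    have n14 : c ≠ y * c' * y⁻¹ := by
      intro e
      apply hne
      have e1 : y * c * y⁻¹ = y * c' * y⁻¹ := by rw [← e, hyc, mul_inv_cancel_right]
      exact mul_left_cancel (mul_right_cancel e1)
    have h2 := CC.eq_three h hc hc' hc1 hcc h14 hcm hne n14 hne'.symm
    -- the action on `R_t`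
    obtain ⟨L, hL⟩ := l.ti.2.1
    have hL' : Mem Om t (cj c' L) := hL.cj_comm h ht'
    apply l.ne_zt
    refine l.ti.1.eq_of_cent hL' h fun m hm => ?_
    obtain ⟨k, hk, rfl⟩ := hm
    change z * (c' * k * c'⁻¹) = c' * k * c'⁻¹ * z
    have hm' : c' * k * c'⁻¹ ∈ cj c' L := conj_mem_cj hk
    have h3 : (y * c' * y⁻¹) * k * (y * c' * y⁻¹)⁻¹ = c' * k * c'⁻¹ := by
      have e1 : y⁻¹ * k * y = k := by
        rw [mul_assoc, ← mem_CX.1 hy.2 L hL k hk, inv_mul_cancel_left]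
      have e2 := mem_CX.1 hy.2 _ hL' _ hm'
      calc (y * c' * y⁻¹) * k * (y * c' * y⁻¹)⁻¹ = y * (c' * (y⁻¹ * k * y) * c'⁻¹) * y⁻¹ := by group
        _ = y * (c' * k * c'⁻¹) * y⁻¹ := by rw [e1]
        _ = _ := by rw [e2, mul_inv_cancel_right]
    rw [h2] at h3
    have e3 := mem_CX.1 l.ct _ hL' _ hm'
    have e4 : (z * c * c') * k * (z * c * c')⁻¹ = z * (c * (c' * k * c'⁻¹) * c⁻¹) * z⁻¹ := by group
    rw [e4, e3, mul_inv_cancel_right, mul_inv_eq_iff_eq_mul] at h3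
    exact h3
  · have h1 : N ⊓ (CX Om z ⊓ CX Om t) = ⊥ := by
      rw [eq_bot_iff, ← hO]
      refine le_OO inf_le_right ?_ ?_
      · intro g hg
        rw [mem_normalizer_iff_cj, cj_inf, mem_normalizer_iff_cj.1 (le_normalizer hg)]
        congr 1
        refine le_antisymm ?_ ?_
        · rintro _ ⟨n, hn, rfl⟩
          exact hNn g (mem_sup_left hg) n hn
        · intro n hn
          rw [mem_cj]
          have := hNn g⁻¹ (mem_sup_left (inv_mem hg)) n hn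
          rwa [inv_inv] at this
      · intro h2
        have h3 := h2.trans (card_dvd_of_le (inf_le_left : N ⊓ (CX Om z ⊓ CX Om t) ≤ N))
        rw [← Nat.not_even_iff_odd, even_iff_two_dvd] at hodd
        exact hodd h3
    have hxx : x ∈ CX Om z ⊓ CX Om t := ⟨hx, hxt⟩
    have h2 : c' * x * c'⁻¹ * x⁻¹ ∈ N ⊓ (CX Om z ⊓ CX Om t) :=
      ⟨hN x (mem_sup_left hxx), (CX Om z ⊓ CX Om t).mul_mem (hcjY x hxx) ((CX Om z ⊓ CX Om t).inv_mem hxx)⟩
    rw [h1, Subgroup.mem_bot, mul_inv_eq_one, mul_inv_eq_iff_eq_mul] at h2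
    exact h2.symm

/-- `C_X(⟨z, c, c'⟩)` -/
def CE (Om : Set (Subgroup G)) (z c c' : G) : Subgroup G := CX Om z ⊓ (centralizer {c} ⊓ centralizer {c'})

theorem mem_CE : x ∈ CE Om z c c' ↔ x ∈ CX Om z ∧ x * c = c * x ∧ x * c' = c' * x := by
  rw [CE, mem_inf, mem_inf, mem_centralizer_singleton_iff, mem_centralizer_singleton_iff]

/-- `O(C_X(⟨z, c, c'⟩)) = 1` -/
theorem OO_CE (h : W2 Om) (hn : (1 : G) ∉ CC Om z) (hO : OY Om z) (hc : c ∈ CC Om z) (hc' : c' ∈ CC Om z)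
    (hcc : c * c' = c' * c) : OO (CE Om z c c') = ⊥ := by
  obtain ⟨t, l⟩ := hc
  have hn1 : c' ≠ 1 := by rintro rfl; exact hn hc'
  have hY : CX Om z ⊓ CX Om t ≤ CE Om z c c' := by
    intro y hy
    rw [mem_CE]
    have h1 := l.comm_of_Y h hy.1 hy.2
    refine ⟨hy.1, h1, ?_⟩
    by_cases hne : c = c'
    · rw [← hne]; exact h1
    · exact l.cent_Y h (hO t c l) hc' hcc hne hn1 hy.1 hy.2
  rw [eq_bot_iff, ← hO t c l]
  have hN : OO (CE Om z c c') ≤ CX Om z ⊓ CX Om t := by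
    intro y hy
    have h1 := mem_CE.1 (OO_le _ hy)
    refine ⟨h1.1, l.mem_of_odd h h1.1 h1.2.1 fun h2 => ?_⟩
    exact odd_OO _ (h2.trans ((OO (CE Om z c c')).orderOf_dvd_natCard hy))
  refine le_OO hN (fun g hg => ?_) (odd_OO _)
  exact le_normalizer_OO _ (hY hg)

theorem OO_Cc (h : W2 Om) (hn : (1 : G) ∉ CC Om z) (hO : OY Om z) (hc : c ∈ CC Om z) :
    OO (CE Om z c c) = ⊥ := OO_CE h hn hO hc hc rfl

/-- a central element of a group without odd core is a 2-element -/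
theorem two_of_central {H : Subgroup G} (hO : OO H = ⊥) (hx : x ∈ H) (hc : ∀ y ∈ H, x * y = y * x) :
    ∃ k : ℕ, x ^ 2 ^ k = 1 := by
  obtain ⟨k, m, hm, hk⟩ := Nat.exists_eq_pow_mul_and_not_dvd (orderOf_pos x).ne' 2 (by norm_num)
  refine ⟨k, ?_⟩
  have h1 : zpowers (x ^ 2 ^ k) ≤ OO H := by
    refine le_OO (zpowers_le.2 (pow_mem hx _)) ?_ ?_
    · intro y hy
      rw [mem_normalizer_iff]
      have key : ∀ u ∈ zpowers (x ^ 2 ^ k), y * u * y⁻¹ = u := by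
        rintro _ ⟨j, rfl⟩
        have h2 : Commute x y := hc y hy
        have h3 : Commute ((x ^ 2 ^ k) ^ j) y := (h2.pow_left _).zpow_left j
        show y * (x ^ 2 ^ k) ^ j * y⁻¹ = (x ^ 2 ^ k) ^ j
        rw [← h3.eq, mul_inv_cancel_right]
      intro u
      constructor
      · intro hu; rw [key u hu]; exact hu
      · intro hu
        have h2 := key _ hu
        have h3 : y * u * y⁻¹ = u := mul_left_cancel (mul_right_cancel h2)
        rwa [h3] at hu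
    · rw [Nat.card_zpowers, orderOf_pow, hk, Nat.gcd_eq_right (Dvd.intro _ rfl),
        Nat.mul_div_cancel_left _ (by positivity)]
      exact hm
  rw [hO, zpowers_le, Subgroup.mem_bot] at h1
  exact h1

/-! ### `T3` -/

/-- `g` is a 3-element centralising `C_X(c)` -/
def T3 (Om : Set (Subgroup G)) (z c g : G) : Prop :=
  (∃ n : ℕ, g ^ 3 ^ n = 1) ∧ ∀ x ∈ CX Om z, x * c = c * x → g * x = x * g

/-- a 3-element of `C(z)` acts as a translation on the directions -/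
theorem exists_tra_of_three (h : W2 Om) (F : Frame Om z K1 K2 a b) (hg : g * z = z * g) {n : ℕ}
    (hgn : g ^ 3 ^ n = 1) : ∃ v, Tra z a b g v := by
  have hz2 := F.k1.inZ.z2 h
  rcases F.act_cases h hg with ⟨-, -, σ, τ, h1, h2⟩ | ⟨hK, hK', -⟩
  · have key : ∀ {K : Subgroup G} {x : Fin 3 → G} {σ : Equiv.Perm (Fin 3)}, Q3 K z x → Act z x x g σ →
        σ ^ 3 ^ n = 1 := by
      intro K x σ Q h1
      have h3 := h1.pow hz2 hg (3 ^ n)
      rw [hgn] at h3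
      exact h3.unique Q (Act.one x z)
    obtain ⟨i, rfl⟩ := perm_three_of σ (key F.qa h1)
    obtain ⟨j, rfl⟩ := perm_three_of τ (key F.qb h2)
    exact ⟨(i, j), hg, h1, h2⟩
  · exfalso
    have key : ∀ m : ℕ, cj (g ^ (2 * m + 1)) K1 = K2 := by
      intro m
      induction m with
      | zero => rw [mul_zero, zero_add, pow_one]; exact hK
      | succ m ih =>
        have e : g ^ (2 * (m + 1) + 1) = g * g * g ^ (2 * m + 1) := by
          rw [← pow_two, ← pow_add]; congr 1; ring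
        rw [e, cj_mul, ih, cj_mul, hK', hK]
    obtain ⟨m, hm⟩ : Odd (3 ^ n) := Odd.pow (by decide)
    have h1 := key m
    rw [← hm, hgn] at h1
    apply F.ne
    rw [← h1]
    ext y
    rw [mem_cj]
    simp

theorem T3.comm_z (h : W2 Om) (hc : c ∈ CC Om z) (ht : T3 Om z c g) : g * z = z * g :=
  ht.2 z (z_mem_CX h) (by rw [CC.comm_z h hc])

theorem T3.comm_c (hc : c ∈ CC Om z) (ht : T3 Om z c g) : g * c = c * g := ht.2 c (CC.mem_CX hc) rfl

theorem T3.conj (h : W2 Om) (ht : T3 Om z c g) (hy : y * z = z * y) : T3 Om z (y * c * y⁻¹) (y * g * y⁻¹) := by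
  obtain ⟨⟨n, hn⟩, h1⟩ := ht
  refine ⟨⟨n, by rw [conj_pow, hn]; group⟩, fun x hx hxc => ?_⟩
  have hy' : y⁻¹ * z = z * y⁻¹ := by
    rw [inv_mul_eq_iff_eq_mul, ← mul_assoc, hy, mul_inv_cancel_right]
  have h2 := h1 _ (CX_conj_comm h hy' hx) (by
    calc y⁻¹ * x * y⁻¹⁻¹ * c = y⁻¹ * (x * (y * c * y⁻¹)) * y := by group
      _ = y⁻¹ * (y * c * y⁻¹ * x) * y := by rw [hxc]
      _ = _ := by group)
  calc y * g * y⁻¹ * x = y * (g * (y⁻¹ * x * y⁻¹⁻¹)) * y⁻¹ := by group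
    _ = y * ((y⁻¹ * x * y⁻¹⁻¹) * g) * y⁻¹ := by rw [h2]
    _ = _ := by group

/-- the splitting of a product of commuting elements -/
theorem pow_split {s u : G} (hc : s * u = u * s) {n k : ℕ} (hg : (s * u) ^ 3 ^ n = 1) (hu : u ^ 2 ^ k = 1) :
    ∃ N : ℕ, s * u = s ^ N := by
  obtain ⟨N, h1, h2⟩ := Nat.chineseRemainder (n := 3 ^ n) (m := 2 ^ k)
    (Nat.Coprime.pow _ _ (by norm_num)) 1 0
  refine ⟨N, ?_⟩
  have e1 : (s * u) ^ N = s * u := by
    conv_rhs => rw [← pow_one (s * u)]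
    rw [pow_eq_pow_iff_modEq]
    exact h1.of_dvd (orderOf_dvd_of_pow_eq_one hg)
  have e2 : u ^ N = 1 := by
    rw [← pow_zero u, pow_eq_pow_iff_modEq]
    exact h2.of_dvd (orderOf_dvd_of_pow_eq_one hu)
  rw [← e1, (show Commute s u from hc).mul_pow, e2, mul_one]

/-- **(10.7)** : a 3-element centralising `C_X(⟨z, c, c'⟩)` centralises `C_X(c)` -/
theorem T3.of_CE (h : W2 Om) (F : Frame Om z K1 K2 a b) (hU : ∀ g v, Tra z a b g v → v ∈ D0 Om z a b)
    (hn : (1 : G) ∉ CC Om z) (hO : OY Om z) (hc : c ∈ CC Om z) (hc' : c' ∈ CC Om z) (hcc : c * c' = c' * c)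
    {n : ℕ} (hgn : g ^ 3 ^ n = 1) (hg : ∀ x ∈ CE Om z c c', g * x = x * g) : T3 Om z c g := by
  have hz := F.k1.inZ
  have hz2 := hz.z2 h
  have hgz : g * z = z * g := hg z (mem_CE.2 ⟨z_mem_CX h, (CC.comm_z h hc).symm, (CC.comm_z h hc').symm⟩)
  obtain ⟨v, hv⟩ := exists_tra_of_three h F hgz hgn
  obtain ⟨p, hp⟩ := CC.exists_dir h F hc
  have hq := (D0.iff h F hp).1 (hU g v hv)
  obtain ⟨d, hd, -, hdc, hdX⟩ := DC.exists_tra h F hp hq
  rw [add_sub_cancel_left] at hd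
  have h1 : Tra z a b (g * d⁻¹) 0 := by
    have h2 := (hd.inv hz2).mul hz2 hv
    rwa [neg_add_cancel] at h2
  obtain ⟨r, hr, x, hx, hrx⟩ := h1.exists_X h F
  -- `x` is central in `C_X(E)`
  have hxc : ∀ y ∈ CE Om z c c', x * y = y * x := by
    intro y hy
    obtain ⟨hy1, hy2, hy3⟩ := mem_CE.1 hy
    have c1 : Commute g y := hg y hy
    have c2 : Commute d y := hdX y hy1 hy2
    have c3 : Commute r y := (CX_comm hr hy1).symm
    have e : x = r⁻¹ * (g * d⁻¹) := by rw [hrx, inv_mul_cancel_left]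
    rw [e]
    exact (c3.inv_left.mul_left (c1.mul_left c2.inv_left)).eq
  have hxE : x ∈ CE Om z c c' := by
    refine mem_CE.2 ⟨hx, hxc c (mem_CE.2 ⟨CC.mem_CX hc, rfl, hcc⟩), hxc c' (mem_CE.2 ⟨CC.mem_CX hc', hcc.symm, rfl⟩)⟩
  obtain ⟨k, hk⟩ := two_of_central (OO_CE h hn hO hc hc' hcc) hxE hxc
  have hxd : d * x = x * d := hdX x hx (mem_CE.1 hxE).2.1
  have hxr : x * r = r * x := CX_comm hr hx
  have hg' : g = (r * d) * x := by
    have e : g = r * x * d := by rw [← hrx, inv_mul_cancel_right]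
    rw [e, mul_assoc, ← hxd, mul_assoc]
  have hcom : (r * d) * x = x * (r * d) := by rw [mul_assoc, hxd, ← mul_assoc, ← hxr, mul_assoc]
  obtain ⟨N, hN⟩ := pow_split hcom (by rw [← hg']; exact hgn) hk
  refine ⟨⟨n, hgn⟩, fun y hy hyc => ?_⟩
  rw [hg', hN]
  have c2 : Commute d y := hdX y hy hyc
  have c3 : Commute r y := (CX_comm hr hy).symm
  exact ((c3.mul_left c2).pow_left N).eq

/-- **(10.7)** : `T3` is the same for commuting labels -/
theorem T3.of_comm (h : W2 Om) (F : Frame Om z K1 K2 a b) (hU : ∀ g v, Tra z a b g v → v ∈ D0 Om z a b)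
    (hn : (1 : G) ∉ CC Om z) (hO : OY Om z) (hc : c ∈ CC Om z) (hc' : c' ∈ CC Om z) (hcc : c * c' = c' * c)
    (ht : T3 Om z c' g) : T3 Om z c g := by
  obtain ⟨n, hn'⟩ := ht.1
  refine T3.of_CE h F hU hn hO hc hc' hcc hn' fun x hx => ?_
  obtain ⟨h1, h2, h3⟩ := mem_CE.1 hx
  exact ht.2 x h1 h3

end

end Cfsg.Agent.Cit.Nil.RTwo
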