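import Cfsg.Agent.Cit.Nil.RTwo.OEight
import Cfsg.Agent.Cit.Nil.RTwo.TenP
import Cfsg.Agent.Cit.OneComp
import Cfsg.Agent.Cit.SolvTwo

/-!
# S1309, `r = 2`, `m = 1`: (10.6) of the blueprint

`U10.oy` : `O(C(⟨R_z, R_t⟩)) = 1` for the lines `⟨z, t⟩` over `c`, if `O(C(c)) = 1` and the components of `C(c)` lie in
`M_c` ((O')).
-/

set_option autoImplicit false
set_option linter.style.haveILetI false
set_option linter.unusedSectionVars false
set_option maxHeartbeats 400000

namespace Cfsg.Agent.Cit.Nil.RTwo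

open Subgroup Cfsg Cit

variable {G : Type*} [Group G] [Finite G] {Om : Set (Subgroup G)} {K K1 K2 L L1 L2 : Subgroup G}
  {z z' t t' g g' x y w c c' c0 d : G} {a b p q : Fin 3 → G} {v v' : Fin 3 × Fin 3}

/-- `C(⟨R_z, R_t⟩)` depends only on the component of `z` in `Z_c` -/
theorem DelC.Y_eq (h : W2 Om) (hd : DelC Om c z z') (l : Lab Om z t c) (l' : Lab Om z' t' c) :
    CX Om z ⊓ CX Om t = CX Om z' ⊓ CX Om t' := by
  induction hd generalizing t' with
  | refl => exact l.Y_eq h l'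
  | tail _ h2 ih =>
    rw [ih h2, inf_comm]
    exact (h2.symm h).Y_eq h l'

theorem cj_CX' (h : W2 Om) (g : G) : cj g (CX Om z) = CX Om (g * z * g⁻¹) := by
  ext y
  rw [mem_cj]
  have h1 := CX_conj h g (x := g⁻¹ * y * g) (z := z)
  have e : g * (g⁻¹ * y * g) * g⁻¹ = y := by group
  rw [e] at h1
  exact h1.symm

/-- `M_c` normalises `C(⟨R_z, R_t⟩)` -/
theorem MC_cj_Y (h : W2 Om) (l : Lab Om z t c) (hg : g ∈ MC h c z) :
    cj g (CX Om z ⊓ CX Om t) = CX Om z ⊓ CX Om t := by
  rw [cj_inf, cj_CX' h, cj_CX' h]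
  have h1 := l.conj h g
  have e : g * c * g⁻¹ = c := by rw [(mem_MC.1 hg).1, mul_inv_cancel_right]
  rw [e] at h1
  exact ((mem_MC.1 hg).2.Y_eq h l h1).symm

theorem MC_cj_OY (h : W2 Om) (l : Lab Om z t c) (hg : g ∈ MC h c z) :
    cj g (OO (CX Om z ⊓ CX Om t)) = OO (CX Om z ⊓ CX Om t) := LB.cj_OO_eq (MC_cj_Y h l hg)

/-- **(10.6)** -/
theorem Lab.oo_eq_bot (h : W2 Om) (l : Lab Om z t c) (hO : OO (centralizer {c}) = ⊥)
    (hE : ∀ L : Subgroup (centralizer ({c} : Set G)), IsComponent L → L.map (centralizer ({c} : Set G)).subtype ≤ MC h c z) :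
    OO (CX Om z ⊓ CX Om t) = ⊥ := by
  haveI : Fact (Nat.Prime 2) := ⟨Nat.prime_two⟩
  have hz := l.ti.1
  obtain ⟨N, hN⟩ : ∃ N, N = OO (CX Om z ⊓ CX Om t) := ⟨_, rfl⟩
  rw [← hN]
  have hNY : N ≤ CX Om z ⊓ CX Om t := by rw [hN]; exact OO_le _
  have hNH : N ≤ centralizer {c} := fun x hx =>
    mem_centralizer_singleton_iff.2 (l.comm_of_Y h (hNY hx).1 (hNY hx).2)
  have hodd : ¬ 2 ∣ Nat.card N := by rw [hN]; exact odd_OO _
  have hcj : ∀ g ∈ MC h c z, ∀ x ∈ N, g * x * g⁻¹ ∈ N := by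
    intro g hg x hx
    have h1 := MC_cj_OY h l hg
    rw [← hN] at h1
    rw [← h1]
    exact conj_mem_cj hx
  have hzc : z ∈ centralizer ({c} : Set G) := mem_centralizer_singleton_iff.2 (l.comm_z h).symm
  have hcore : pPrimeCore 2 (centralizer ({c} : Set G)) = ⊥ := by
    rw [OO, Subgroup.map_eq_bot_iff_of_injective _ (centralizer ({c} : Set G)).subtype_injective] at hO
    exact hO
  obtain ⟨W, hW⟩ : ∃ W, W = N.subgroupOf (centralizer ({c} : Set G)) := ⟨_, rfl⟩
  have hmW : ∀ x : centralizer ({c} : Set G), x ∈ W ↔ (x : G) ∈ N := by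
    intro x; rw [hW, mem_subgroupOf]
  have hWodd : ¬ 2 ∣ Nat.card W := by
    rw [hW, Nat.card_congr (subgroupOfEquivOfLe hNH).toEquiv]; exact hodd
  have hWc : (Nat.card W).Coprime 2 := ((Nat.Prime.coprime_iff_not_dvd Nat.prime_two).2 hWodd).symm
  -- the components centralise `W`
  have hcomp : ∀ L : Subgroup (centralizer ({c} : Set G)), IsComponent L → ∀ w ∈ W, w ∈ centralizer (L : Set _) := by
    intro L hL w hw
    have hn : L ≤ normalizer (W : Set (centralizer ({c} : Set G))) := by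
      have key : ∀ l ∈ L, ∀ x ∈ W, l * x * l⁻¹ ∈ W := by
        intro l hl x hx
        rw [hmW] at hx ⊢
        exact hcj l (hE L hL ⟨l, hl, rfl⟩) x hx
      intro l hl
      rw [mem_normalizer_iff]
      intro x
      refine ⟨key l hl x, fun hx => ?_⟩
      have h1 := key l⁻¹ (inv_mem hl) _ hx
      have e : l⁻¹ * (l * x * l⁻¹) * l⁻¹⁻¹ = x := by group
      rwa [e] at h1
    rcases SignalizersComponents.Components.component_le_or_commutator_eq_bot_of_le_normalizer hL hn with h1 | h1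
    · exfalso
      have h2 : L ≤ pPrimeCore 2 (centralizer ({c} : Set G)) := by
        refine SignalizersComponents.CompBasic.subnormal_coprime_le_pPrimeCore hL.1 ?_
        exact ((Nat.Prime.coprime_iff_not_dvd Nat.prime_two).2 fun h2 =>
          hWodd (h2.trans (card_dvd_of_le h1))).symm
      rw [hcore, le_bot_iff] at h2
      exact SignalizersComponents.Components.component_ne_bot hL h2
    · rw [commutator_comm, commutator_eq_bot_iff_le_centralizer] at h1
      exact h1 hw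
  -- `O_2(C(c))` centralises `W`
  have hpc : W ≤ centralizer (pCore 2 (centralizer ({c} : Set G)) : Set _) := by
    have hpn : (pCore 2 (centralizer ({c} : Set G))).Normal := inferInstance
    refine SolvTwo.le_cent (z := (⟨z, hzc⟩ : centralizer ({c} : Set G))) (Subtype.ext (hz.z2 h))
      (Lib.Cores.pCore_isPGroup 2) hWc ?_ ?_
    · intro w hw
      apply Subtype.ext
      exact CX_le hz h (hNY ((hmW w).1 hw)).1
    · intro x hx hxz w hw
      have hxc : (x : G) * c = c * x := mem_centralizer_singleton_iff.1 x.2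
      have hxM : (x : G) ∈ MC h c z := mem_MC_of_comm h hxc (congrArg Subtype.val hxz)
      have h1 : x * w * x⁻¹ * w⁻¹ ∈ W := by
        refine W.mul_mem ?_ (W.inv_mem hw)
        rw [hmW]
        exact hcj x hxM w ((hmW w).1 hw)
      have h2 : x * w * x⁻¹ * w⁻¹ ∈ pCore 2 (centralizer ({c} : Set G)) := by
        have h3 := hpn.conj_mem x⁻¹ (inv_mem hx) w
        have e : x * w * x⁻¹ * w⁻¹ = x * (w * x⁻¹ * w⁻¹) := by group
        rw [e]
        exact mul_mem hx h3
      have h3 := eq_one_of_mem_odd (Lib.Cores.pCore_isPGroup 2) hWodd h2 h1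
      rw [mul_inv_eq_one, mul_inv_eq_iff_eq_mul] at h3
      exact h3
  have hWb : W = ⊥ := by
    rw [eq_bot_iff]
    intro w hw
    have h1 := OneComp.centralizer_genFit_le hcore
      (OneComp.mem_centralizer_genFit hcore (fun L hL => hcomp L hL w hw) (hpc hw))
    exact Subgroup.mem_bot.2 (eq_one_of_mem_odd (Lib.Cores.pCore_isPGroup 2) hWodd h1 hw)
  rw [eq_bot_iff]
  intro x hx
  have h1 : (⟨x, hNH hx⟩ : centralizer ({c} : Set G)) ∈ W := (hmW _).2 hx
  rw [hWb, Subgroup.mem_bot] at h1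
  exact Subgroup.mem_bot.2 (congrArg Subtype.val h1)

end Cfsg.Agent.Cit.Nil.RTwo
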