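import Cfsg.Agent.StrongEmb.Strong
import Cfsg.Agent.StrongEmb.Frame

/-!
# Automorphisms of odd order of the simple groups with a strongly embedded subgroup

`rigid` : an automorphism of odd order which centralises a Sylow 2-subgroup is trivial.
-/

set_option autoImplicit false
set_option linter.unusedSectionVars false

namespace Cfsg.Agent.Cit.Nil.RTwo.Rigid

open Subgroup Cfsg Cfsg.Agent.StrongEmb.Split Cfsg.Agent.StrongEmb.Basic
open Cfsg.Agent.TwoFusion.StronglyEmbeddedBasic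

variable {G : Type*} [Group G] [Finite G] [IsSimpleGroup G] {H Q : Subgroup G}

theorem mem_iff (hH : IsStronglyEmbedded H) (hQ : IsSplit H Q) (x : G) :
    x ∈ H ↔ ∀ q ∈ Q, x⁻¹ * q * x ∈ Q := by
  constructor
  · intro hx q hq
    have h1 := hQ.conj_mem (inv_mem hx) hq
    rwa [inv_inv] at h1
  · intro h1
    by_contra hx
    obtain ⟨t, ht, ht2⟩ := exists_involution hH
    have h2 : t ∈ Q := Cfsg.Agent.StrongEmb.Frame.mem_of_two_element hH hQ ht ⟨1, by rw [ht2, pow_one]⟩
    have h3 := hQ.reg x hx t h2 (by rw [← mul_assoc]; exact hQ.le (h1 t h2))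
    rw [h3, orderOf_one] at ht2
    exact absurd ht2 (by norm_num)

theorem rigid_aux (hH : IsStronglyEmbedded H) (hQ : IsSplit H Q) (hQ2 : IsPGroup 2 Q) (α : G ≃* G)
    (hα : ∀ q ∈ Q, α q = q) {m : ℕ} (hm : Odd m) (hαm : ∀ x, α^[m] x = x) (x : G) : α x = x := by
  have hH1 : ∀ x ∈ H, α x ∈ H := by
    intro x hx
    rw [mem_iff hH hQ] at hx ⊢
    intro q hq
    have h1 : (α x)⁻¹ * q * α x = x⁻¹ * q * x := by
      rw [← hα _ (hx q hq), map_mul, map_mul, map_inv, hα q hq]
    rw [h1]; exact hx q hq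
  have hH2 : ∀ x, α x ∈ H → x ∈ H := by
    intro x hx
    rw [mem_iff hH hQ] at hx ⊢
    intro q hq
    have h1 := hx q hq
    have h2 : α (x⁻¹ * q * x) = (α x)⁻¹ * q * α x := by rw [map_mul, map_mul, map_inv, hα q hq]
    rw [← hα _ h1] at h2
    rw [α.injective h2]; exact h1
  have key : ∀ g : G, g⁻¹ * α g ∈ H := by
    intro g
    by_cases hg : g ∈ H
    · exact mul_mem (inv_mem hg) (hH1 g hg)
    have hag : α g ∉ H := fun h => hg (hH2 g h)
    obtain ⟨q, hq, hqg⟩ := hQ.trans g (α g) hg hag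
    have hit : ∀ k : ℕ, (α^[k] g)⁻¹ * (q ^ k * g) ∈ H := by
      intro k
      induction k with
      | zero => simp
      | succ k ih =>
        rw [Function.iterate_succ', Function.comp_apply]
        have h1 := hH1 _ ih
        rw [map_mul, map_mul, map_inv, hα _ (pow_mem hq k)] at h1
        have h2 := mul_mem h1 hqg
        have e : (α (α^[k] g))⁻¹ * (q ^ k * α g) * ((α g)⁻¹ * (q * g)) = (α (α^[k] g))⁻¹ * (q ^ (k + 1) * g) := by
          rw [pow_succ]; group
        rwa [e] at h2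
    have h1 := hit m
    rw [hαm] at h1
    have h2 := hQ.reg g hg _ (pow_mem hq m) h1
    have h3 : q = 1 := by
      obtain ⟨n, hn⟩ := hQ2 ⟨q, hq⟩
      have hn' : q ^ 2 ^ n = 1 := congrArg Subtype.val hn
      have h4 : orderOf q ∣ 2 ^ n := orderOf_dvd_of_pow_eq_one hn'
      have h5 : orderOf q ∣ m := orderOf_dvd_of_pow_eq_one h2
      have h6 : Nat.Coprime (2 ^ n) m := Nat.Coprime.pow_left _ (Nat.coprime_two_left.2 hm)
      exact orderOf_eq_one_iff.1 (Nat.Coprime.eq_one_of_dvd (h6.coprime_dvd_left h4) h5)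
    rw [h3, one_mul] at hqg
    have h4 := inv_mem hqg
    rwa [mul_inv_rev, inv_inv] at h4
  have hcore : x⁻¹ * α x ∈ H.normalCore := by
    intro g
    have h1 := key (x * g⁻¹)
    have h2 := inv_mem (key g⁻¹)
    rw [map_mul] at h1
    have h3 := mul_mem h1 h2
    have e : (x * g⁻¹)⁻¹ * (α x * α g⁻¹) * (g⁻¹⁻¹ * α g⁻¹)⁻¹ = g * (x⁻¹ * α x) * g⁻¹ := by group
    rwa [e] at h3
  rw [normalCore_eq_bot_of_simple hH.1, Subgroup.mem_bot, inv_mul_eq_one] at hcore
  exact hcore.symm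

/-- an automorphism of odd order which centralises a Sylow 2-subgroup is trivial -/
theorem rigid (hna : ∃ a b : G, a * b ≠ b * a) (hH : IsStronglyEmbedded H) (S : Sylow 2 G) (α : G ≃* G)
    (hα : ∀ s ∈ S, α s = s) {m : ℕ} (hm : Odd m) (hαm : ∀ x, α^[m] x = x) (x : G) : α x = x := by
  haveI : Fact (Nat.Prime 2) := ⟨Nat.prime_two⟩
  obtain ⟨Q, hQ, hQ2⟩ := Cfsg.Agent.StrongEmb.Strong.exists_isSplit hna H hH
  obtain ⟨t, ht, ht2⟩ := exists_involution_notMem hH
  have hS := setup_of_isSplit hH hQ ht ht2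
  have hidx : Odd Q.index := Cfsg.Agent.SuzukiRankOne.Reduction.odd_index_of_le hS le_rfl
  have hnd : ¬ 2 ∣ Q.index := by
    rw [← even_iff_two_dvd, Nat.not_even_iff_odd]; exact hidx
  obtain ⟨g, hg⟩ := MulAction.exists_smul_eq G S (hQ2.toSylow hnd)
  have hgq : ∀ q ∈ Q, g⁻¹ * q * g ∈ S := by
    intro q hq
    have h1 : q ∈ (g • S : Sylow 2 G) := by
      rw [hg]
      exact hq
    rw [← SetLike.mem_coe, Sylow.coe_smul] at h1
    obtain ⟨s, hs, hsq⟩ := h1
    have h2 : g * s * g⁻¹ = q := hsq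
    have h3 : g⁻¹ * q * g = s := by rw [← h2]; group
    rw [h3]; exact hs
  let β : G ≃* G := ((MulAut.conj g⁻¹ : MulAut G).trans α).trans (MulAut.conj g : MulAut G)
  have hβ : ∀ y, β y = g * α (g⁻¹ * y * g) * g⁻¹ := by
    intro y
    show g * α (g⁻¹ * y * g⁻¹⁻¹) * g⁻¹ = _
    rw [inv_inv]
  have hit : ∀ (k : ℕ) (y : G), β^[k] y = g * α^[k] (g⁻¹ * y * g) * g⁻¹ := by
    intro k
    induction k with
    | zero => intro y; simp only [Function.iterate_zero, id]; group
    | succ k ih =>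
      intro y
      rw [Function.iterate_succ', Function.comp_apply, ih, hβ, Function.iterate_succ', Function.comp_apply]
      congr 3
      group
  have h1 := rigid_aux hH hQ hQ2 β (fun q hq => by rw [hβ, hα _ (hgq q hq)]; group) hm
    (fun y => by rw [hit, hαm]; group) (g * x * g⁻¹)
  rw [hβ] at h1
  have e : g⁻¹ * (g * x * g⁻¹) * g = x := by group
  rw [e] at h1
  exact mul_left_cancel (mul_right_cancel h1)

end Cfsg.Agent.Cit.Nil.RTwo.Rigid
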