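import Cfsg.Agent.Cit.Nil.RTwo.SBase
import Cfsg.Agent.Cit.Nil.RTwo.AFive
import Cfsg.Agent.Cit.Nil.RTwo.TenP

/-!
# The world (S): (4.1), (4.2), the diagonal transversal

* `Frame.comm_of_dir_ne`, `Frame.dir_ne` : elements with directions differing in both coordinates commute, and conversely;
* `FT.mul_label` (4.1); `SB.four'` (4.2);
* `Tra.change` : a translation is a translation in every frame; `SB.caseS` : `CaseS` in every frame;
* `CaseS.diag` : the diagonal transversal.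
-/

set_option autoImplicit false
set_option linter.style.haveILetI false
set_option linter.unusedSectionVars false
set_option maxHeartbeats 400000

namespace Cfsg.Agent.Cit.Nil.RTwo

open Subgroup Cfsg Cit

variable {G : Type*} [Group G]

section

variable [Finite G] {Om : Set (Subgroup G)} {K K1 K2 K1' K2' L M L1 L2 : Subgroup G}
  {z t g s x y w w' c c' u d : G} {a b a' b' : Fin 3 → G} {v v' p q : Fin 3 × Fin 3}

/-! ### Directions -/

theorem Frame.dir_swap (F : Frame Om z K1 K2 a b) (h : W2 Om) {i j : Fin 3} (hw : Dir z a b w i j) :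
    Dir z b a w j i := by
  rcases hw with rfl | rfl
  · left; exact F.ab h i j
  · right; rw [F.ab h i j]

theorem Frame.dir_signs (F : Frame Om z K1 K2 a b) {i j i' j' : Fin 3} (hw : Dir z a b w i j)
    (hw' : Dir z a b w' i' j') : ∃ e, (w * w' = e * ((a i * b j) * (a i' * b j')) ∧
      w' * w = e * ((a i' * b j') * (a i * b j))) := by
  have hz : ∀ i j, (a i * b j) * z = z * (a i * b j) := by
    intro i j
    calc (a i * b j) * z = a i * (b j * z) := by group
      _ = (a i * z) * b j := by rw [← F.qb.zc]; group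
      _ = _ := by rw [← F.qa.zc]; group
  rcases hw with rfl | rfl <;> rcases hw' with rfl | rfl
  · exact ⟨1, by rw [one_mul], by rw [one_mul]⟩
  · refine ⟨z, ?_, by rw [mul_assoc]⟩
    rw [← mul_assoc, hz, mul_assoc]
  · refine ⟨z, by rw [mul_assoc], ?_⟩
    rw [← mul_assoc, hz, mul_assoc]
  · refine ⟨z * z, ?_, ?_⟩
    · calc z * (a i * b j) * (z * (a i' * b j')) = z * ((a i * b j) * z) * (a i' * b j') := by group
        _ = _ := by rw [hz]; group
    · calc z * (a i' * b j') * (z * (a i * b j)) = z * ((a i' * b j') * z) * (a i * b j) := by group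
        _ = _ := by rw [hz]; group

theorem Frame.prod (F : Frame Om z K1 K2 a b) (h : W2 Om) (i j i' j' : Fin 3) :
    (a i * b j) * (a i' * b j') = (a i * a i') * (b j * b j') := by
  calc (a i * b j) * (a i' * b j') = a i * (b j * a i') * b j' := by group
    _ = a i * (a i' * b j) * b j' := by rw [F.ab h i' j]
    _ = _ := by group

/-- elements with directions differing in both coordinates commute -/
theorem Frame.comm_of_dir_ne (F : Frame Om z K1 K2 a b) (h : W2 Om) (hw : Dir z a b w p.1 p.2)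
    (hw' : Dir z a b w' q.1 q.2) (h1 : p.1 ≠ q.1) (h2 : p.2 ≠ q.2) : w * w' = w' * w := by
  obtain ⟨e, e1, e2⟩ := F.dir_signs hw hw'
  rw [e1, e2, F.prod h, F.prod h, F.qa.anti h1, F.qb.anti h2]
  have e3 : z * a q.1 * a p.1 * (z * b q.2 * b p.2) = (a q.1 * a p.1) * (b q.2 * b p.2) := by
    have hz : (a q.1 * a p.1) * z = z * (a q.1 * a p.1) := (F.qa.zcomm (mul_mem (F.qa.mem _) (F.qa.mem _))).symm
    calc z * a q.1 * a p.1 * (z * b q.2 * b p.2) = z * ((a q.1 * a p.1) * z) * (b q.2 * b p.2) := by group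
      _ = z * (z * (a q.1 * a p.1)) * (b q.2 * b p.2) := by rw [hz]
      _ = _ := by rw [F.qa.zzx]
  rw [e3]

theorem Frame.dir_anti (F : Frame Om z K1 K2 a b) (h : W2 Om) {i j j' : Fin 3} (hw : Dir z a b w i j)
    (hw' : Dir z a b w' i j') (h2 : j ≠ j') : w * w' ≠ w' * w := by
  obtain ⟨e, e1, e2⟩ := F.dir_signs hw hw'
  rw [e1, e2, F.prod h, F.prod h, F.qb.anti h2]
  intro e3
  have e4 := mul_left_cancel (mul_left_cancel e3)
  rw [mul_assoc] at e4
  exact F.qb.zne _ e4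

/-- commuting elements with different directions differ in both coordinates -/
theorem Frame.dir_ne (F : Frame Om z K1 K2 a b) (h : W2 Om) (hw : Dir z a b w p.1 p.2)
    (hw' : Dir z a b w' q.1 q.2) (hc : w * w' = w' * w) (hne : p ≠ q) : p.1 ≠ q.1 ∧ p.2 ≠ q.2 := by
  obtain ⟨i, j⟩ := p
  obtain ⟨i', j'⟩ := q
  constructor
  · intro e
    change i = i' at e
    subst e
    exact F.dir_anti h hw hw' (fun e => hne (Prod.ext rfl e)) hc
  · intro e
    change j = j' at e
    subst e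
    exact F.swap.dir_anti h (F.dir_swap h hw) (F.dir_swap h hw') (fun e => hne (Prod.ext e rfl)) hc

/-! ### (4.1) and (4.2) -/

/-- **(4.1)** -/
theorem FT.mul_label (h : W2 Om) (hf : FT Om s t) (htz : t * z = z * t) (l : Lab Om z s c) : InZ Om (t * (z * c)) := by
  obtain ⟨K1, K2, L1, L2, a, b, p, q, C⟩ := l.ti.exists_cf h
  obtain ⟨h1, r, hr, hrt⟩ := C.star h hf htz
  obtain ⟨h2, r', hr', hrt'⟩ := C.swl.star h hf htz
  have hpq : ∀ {m : G}, m ∈ L2 → m * p 0 = p 0 * m := fun {m} hm => (C.l1.comm C.l2 h C.lne (C.qc.mem 0) hm).symm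
  -- `t (q 0 p 0)`
  have h3 : InZ Om (t * (q 0 * p 0)) := by
    have h4 := (hf.fr.ht.conj h r).conj h r'
    have e : r' * (r * t * r⁻¹) * r'⁻¹ = t * (q 0 * p 0) := by
      rw [hrt]
      calc r' * (t * p 0) * r'⁻¹ = (r' * t * r'⁻¹) * (r' * p 0 * r'⁻¹) := by group
        _ = t * q 0 * p 0 := by rw [hrt', hpq hr', mul_inv_cancel_right]
        _ = _ := by group
    rwa [e] at h4
  have hqp : q 0 * p 0 = p 0 * q 0 := hpq (C.qd.mem 0)
  rw [hqp] at h3
  rcases C.symm.tc_eq h (l.symm h) with h4 | h4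
  · rw [h4]; exact h3
  · rw [h4]
    -- conjugate by `(p 0)⁻¹`
    have h5 : (p 0)⁻¹ * t * p 0 = s * t := by
      rw [mul_inv_eq_iff_eq_mul] at h1
      rw [mul_assoc, h1, C.qc.zc]; group
    have h6 := h3.conj h (p 0)⁻¹
    have e : (p 0)⁻¹ * (t * (p 0 * q 0)) * (p 0)⁻¹⁻¹ = t * (s * (p 0 * q 0)) := by
      have hst : s * t = t * s := hf.fr.comm
      calc (p 0)⁻¹ * (t * (p 0 * q 0)) * (p 0)⁻¹⁻¹ = ((p 0)⁻¹ * t * p 0) * (q 0 * p 0) := by group
        _ = (s * t) * (p 0 * q 0) := by rw [h5, hqp]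
        _ = _ := by rw [hst]; group
    rwa [e] at h6

/-- an element `w c ∈ Z`, `w ∈ R_z`, `c` a label -/
theorem lab_of_inZ (h : W2 Om) (hn : NoOne Om) (hw : w ∈ RZ Om z) (hc : c ∈ CC Om z) (hu : InZ Om (w * c)) :
    Lab Om z (w * c) c := by
  have hz := CC.inZ hc
  have hcX := CC.mem_CX hc
  have hcz := CC.comm_z h hc
  have hz2 := hz.z2 h
  have hcw : c * w = w * c := CX_comm hw hcX
  have hwz : w * z = z * w := RZ_le_centralizer h hw
  have hne : z ≠ w * c := by
    intro e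
    have h1 : w ∈ CX Om z := by
      have : w = z * c := by rw [e, mul_assoc, CC.sq hc, mul_one]
      rw [this]; exact mul_mem (z_mem_CX h) hcX
    rcases RZ_inf_CX h hz hw h1 with h2 | h2
    · rw [h2, one_mul] at e
      exact CC.ne_z h hc e.symm
    · rw [h2] at e
      exact hn z c hc (mul_eq_left.1 e.symm)
  have hti : TI Om z (w * c) := by
    refine ⟨hz, hu, hne, ?_, (Inn.of_RZ hz h hw).mul (Inn.of_CX hcX) hz h⟩
    calc z * (w * c) = (z * w) * c := by group
      _ = (w * z) * c := by rw [hwz]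
      _ = w * (z * c) := by group
      _ = w * (c * z) := by rw [hcz]
      _ = _ := by group
  obtain ⟨c', l⟩ := hti.exists_lab h
  have h1 : c * c' ∈ RZ Om z := by
    have := mul_mem (inv_mem hw) l.wz
    have e : w⁻¹ * (w * c * c') = c * c' := by group
    rwa [e] at this
  have h2 : c * c' ∈ CX Om z := mul_mem hcX l.cz
  have h3 : c' = c * (c * c') := by rw [← mul_assoc, CC.sq hc, one_mul]
  rcases RZ_inf_CX h hz h1 h2 with h4 | h4
  · rw [h4, mul_one] at h3
    rwa [h3] at l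
  · rw [h4, hcz] at h3
    exfalso
    refine CC.not_mul h hc ?_
    rw [← h3]; exact l.mem_CC

namespace SB

variable (W : SB Om)

include W

theorem pTwo (hti : TI Om z s) : PTwo Om z s := by
  by_contra h2
  obtain ⟨c, l⟩ := hti.exists_lab W.w
  exact W.noOne z c l.mem_CC (l.eq_one W.w h2)

/-- `z2` fixes the members over `z1` -/
theorem four_fx {z1 z2 c1 c2 : G} (l1 : Lab Om z z1 c1) (l2 : Lab Om z z2 c2) (hne : c1 ≠ c2)
    (hc : z1 * z2 = z2 * z1) : Fx Om z1 z2 := by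
  have h := W.w
  obtain ⟨K1, K2, L1, L2, a, b, p, q, C⟩ := l1.ti.exists_cf h
  have F : Frame Om z K1 K2 a b := ⟨C.k1, C.k2, C.kne, C.qa, C.qb⟩
  have hsw := W.sw l1 l2.mem_CC hne
  have hc12 : c1 * c2 = c2 * c1 := W.comm l1.mem_CC l2.mem_CC
  have e1 : c2 * z1 = z1 * c2 := (l1.comm_iff h l2.cz).1 hc12.symm
  have e2 : c1 * z2 = z2 * c1 := (l2.comm_iff h l1.cz).1 hc12
  -- the direction of `z2 c2`
  obtain ⟨th, i, j, -, -, -, -, hd, -⟩ := l2.theta h F
  have hd1 : Dir z a b (z1 * c1) 0 0 := C.tc_eq h l1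
  have hww : (z1 * c1) * (z2 * c2) = (z2 * c2) * (z1 * c1) := by
    calc (z1 * c1) * (z2 * c2) = z1 * (c1 * z2) * c2 := by group
      _ = (z1 * z2) * (c1 * c2) := by rw [e2]; group
      _ = (z2 * z1) * (c2 * c1) := by rw [hc, hc12]
      _ = z2 * (z1 * c2) * c1 := by group
      _ = z2 * (c2 * z1) * c1 := by rw [e1]
      _ = _ := by group
  have hpq : ((0, 0) : Fin 3 × Fin 3) ≠ (i, j) := by
    intro e
    obtain ⟨rfl, rfl⟩ := Prod.mk.injEq _ _ _ _ ▸ e
    refine hne (W.disj l1 l2 ?_)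
    rcases hd1 with h3 | h3 <;> rcases hd with h4 | h4 <;> rw [h3, h4]
    · left; rfl
    · right; rw [F.qa.zzx]
    · right; rfl
    · left; rfl
  obtain ⟨n1, n2⟩ := F.dir_ne h (p := (0, 0)) (q := (i, j)) hd1 hd hww hpq
  change (0 : Fin 3) ≠ i at n1
  change (0 : Fin 3) ≠ j at n2
  have hia : z1 * a i * z1⁻¹ = z * a i := by rw [C.ta _ (C.qa.mem i), C.qa.conj_ne n1]
  have hjb : z1 * b j * z1⁻¹ = z * b j := by rw [C.tb _ (C.qb.mem j), C.qb.conj_ne n2]
  have h5 : Sw Om z1 (a i * b j) := (C.sw_iff_of_inv h (C.qa.mem i) (C.qb.mem j) hia hjb).2 (W.pTwo l1.ti)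
  have h6 : Sw Om z1 (z2 * c2) := by
    rcases hd with h4 | h4 <;> rw [h4]
    · exact h5
    · exact (C.fx_z h).mul_sw h5
  have hw1 : (z2 * c2) * z1 = z1 * (z2 * c2) := by
    rw [mul_assoc, e1, ← mul_assoc, ← hc, mul_assoc]
  have h7 := h6.mul h hsw hw1 e1
  have e : z2 * c2 * c2 = z2 := by rw [mul_assoc, l2.sq, mul_one]
  rwa [e] at h7

/-- **(4.2)** -/
theorem four' {z1 z2 c1 c2 : G} (l1 : Lab Om z z1 c1) (l2 : Lab Om z z2 c2) (hne : c1 ≠ c2)
    (hc : z1 * z2 = z2 * z1) : TI Om z1 z2 := by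
  have h := W.w
  have hn : z1 ≠ z2 := by
    rintro rfl
    exact hne (l1.unique h l2)
  rcases tcases h l1.ti.2.1 l2.ti.2.1 hn hc with h1 | h1 | h1
  · exact (fx_sw_false l1.ti.2.1 (W.four_fx l1 l2 hne hc) h1.sw).elim
  · exfalso
    have hc12 : c1 * c2 = c2 * c1 := W.comm l1.mem_CC l2.mem_CC
    have h3 := h1.mul_label h (l2.ti.2.2.2.1.symm) l1
    have m3 := W.third l1.mem_CC l2.mem_CC hne
    have hz2' := l2.zt
    have e : z2 * (z * c1) = z2 * c2 * (z * c1 * c2) := by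
      have e1 : c2 * z = z * c2 := l2.comm_z h
      calc z2 * (z * c1) = z2 * z * c1 * (c2 * c2) := by rw [l2.sq]; group
        _ = z2 * z * (c1 * c2) * c2 := by group
        _ = z2 * (z * c2) * c1 * c2 := by rw [hc12]; group
        _ = z2 * (c2 * z) * c1 * c2 := by rw [e1]
        _ = _ := by group
    rw [e] at h3
    have l3 := lab_of_inZ h W.noOne l2.wz m3 h3
    have h4 : z * c1 * c2 = c2 := by
      refine W.disj l3 l2 (Or.inl ?_)
      rw [mul_assoc, CC.sq m3, mul_one]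
    have h5 : z * c1 = 1 := mul_eq_right.1 h4
    have h6 : c1 = z := by
      have := eq_inv_of_mul_eq_one_right h5
      rwa [l1.ti.1.inv h] at this
    exact l1.ne_z h h6
  · exact h1

end SB

/-! ### Change of frame -/

theorem change_key : ∀ (σ : Equiv.Perm (Fin 3)) (i : Fin 3), ∃ j, σ⁻¹ * (Equiv.addRight i * σ) = Equiv.addRight j := by
  decide

theorem Act.change {K : Subgroup G} {i : Fin 3} (qa : Q3 K z a) (qa' : Q3 K z a') (hg : g * z = z * g)
    (ha : Act z a a g (Equiv.addRight i)) : ∃ j, Act z a' a' g (Equiv.addRight j) := by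
  have h1 : (1 : G) * z = z * 1 := by rw [one_mul, mul_one]
  obtain ⟨σ, hσ⟩ := qa'.exists_act qa (cj_one K) h1
  obtain ⟨j, hj⟩ := change_key σ i
  refine ⟨j, ?_⟩
  have h2 := hσ.comp qa.z2 ha hg
  have h3 := hσ.inv qa.z2 h1
  rw [inv_one] at h3
  have h4 := h2.comp qa.z2 h3 h1
  rw [one_mul, mul_one, hj] at h4
  exact h4

theorem Tra.change (h : W2 Om) (F : Frame Om z K1 K2 a b) (F' : Frame Om z K1' K2' a' b') (ht : Tra z a b g v) :
    ∃ v', Tra z a' b' g v' := by
  have key : ∀ {K1 K2 : Subgroup G} {a b : Fin 3 → G} {i j : Fin 3}, Frame Om z K1 K2 a b → K1' = K1 →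
      Act z a a g (Equiv.addRight i) → Act z b b g (Equiv.addRight j) → ∃ v', Tra z a' b' g v' := by
    intro K1 K2 a b i j F e ha hb
    subst e
    have e2 : K2' = K2 := by
      rcases F.k1.cases F.k2 h F.ne F'.k2 with h2 | h2
      · exact absurd h2.symm F'.ne
      · exact h2
    subst e2
    obtain ⟨i', hi'⟩ := Act.change F.qa F'.qa ht.comm ha
    obtain ⟨j', hj'⟩ := Act.change F.qb F'.qb ht.comm hb
    exact ⟨(i', j'), ht.comm, hi', hj'⟩
  rcases F.k1.cases F.k2 h F.ne F'.k1 with h1 | h1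
  · exact key F h1 ht.a ht.b
  · exact key F.swap h1 ht.b ht.a

namespace SB

variable (W : SB Om)

include W

theorem uniq (hp : p ∈ DC Om z a b c) (hp' : p ∈ DC Om z a b c') (hz : z * z = 1) : c = c' := by
  obtain ⟨t, l, hd⟩ := hp
  obtain ⟨t', l', hd'⟩ := hp'
  refine W.disj l l' ?_
  rcases hd with h3 | h3 <;> rcases hd' with h4 | h4 <;> rw [h3, h4]
  · left; rfl
  · right; rw [← mul_assoc, hz, one_mul]
  · right; rfl
  · left; rfl

/-- `CaseS` in every frame -/
theorem caseS (F : Frame Om z K1 K2 a b) : ∃ c0 c1 c2, CaseS Om z a b c0 c1 c2 := by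
  have h := W.w
  obtain ⟨K1', K2', a', b', c0, c1, c2, F', S⟩ := W.s z F.k1.inZ
  have m0 : c0 ∈ CC Om z := by rw [S.cc]; simp
  rcases thm_one h W.cf F ⟨c0, m0⟩ with h1 | h1
  · exfalso
    obtain ⟨g, v, hg, h01, -⟩ := S.ex
    obtain ⟨v', hg'⟩ := hg.change h F' F
    obtain ⟨p, hp⟩ := CC.exists_dir h F m0
    have h2 := hg'.dc h F hp
    rw [h01] at h2
    have h3 := (D0.iff h F hp).1 (h1 g v' hg')
    exact S.n01 (W.uniq h3 h2 F.qa.z2)
  · exact h1

end SB

/-! ### The transversal -/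

/-- the diagonal transversal -/
theorem CaseS.diag {c0 c1 c2 : G} (S : CaseS Om z a b c0 c1 c2) (h : W2 Om) (F : Frame Om z K1 K2 a b)
    (hsw : ∃ g, g * z = z * g ∧ Sw Om z g) : ∃ v : Fin 3 × Fin 3, v.1 ≠ 0 ∧ v.2 ≠ 0 ∧ v ∉ D0 Om z a b ∧
      ∀ c p, p ∈ DC Om z a b c → ∃ c' c'', c' ≠ c ∧ c'' ≠ c ∧ c' ≠ c'' ∧ p + v ∈ DC Om z a b c' ∧
        p - v ∈ DC Om z a b c'' := by
  have hz2 := F.qa.z2
  have m0 : c0 ∈ CC Om z := by rw [S.cc]; simp
  have hn : (CC Om z).Nonempty := ⟨c0, m0⟩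
  obtain ⟨g, u, hg, h01, h12, h20, hu, -⟩ := S.ex
  obtain ⟨g', hg1, hg2⟩ := hsw
  obtain ⟨f, e, hf, he, hD, hDT⟩ := D0.swp h F hg1 hg2
  -- differences of directions
  have hdiff : ∀ p ∈ DT Om z a b, ∀ q ∈ DT Om z a b, q - p ∈ D0 Om z a b ∨ q - p - u ∈ D0 Om z a b ∨
      q - p + u ∈ D0 Om z a b := by
    rintro p ⟨c, hp⟩ q ⟨c', hq⟩
    have kA : c = c' → q - p ∈ D0 Om z a b := by
      rintro rfl; exact D0.sub_mem hp hq
    have kB : g * c * g⁻¹ = c' → q - p - u ∈ D0 Om z a b := by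
      rintro rfl
      have h1 := D0.sub_mem (hg.dc h F hp) hq
      have e1 : q - (p + u) = q - p - u := by abel
      rwa [e1] at h1
    have kC : g * c' * g⁻¹ = c → q - p + u ∈ D0 Om z a b := by
      rintro rfl
      have h1 := D0.sub_mem hp (hg.dc h F hq)
      have e1 : q + u - p = q - p + u := by abel
      rwa [e1] at h1
    have m1 := DC.mem_CC hp
    have m2 := DC.mem_CC hq
    rw [S.cc] at m1 m2
    simp only [Set.mem_insert_iff, Set.mem_singleton_iff] at m1 m2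
    rcases m1 with rfl | rfl | rfl <;> rcases m2 with rfl | rfl | rfl
    · exact Or.inl (kA rfl)
    · exact Or.inr (Or.inl (kB h01))
    · exact Or.inr (Or.inr (kC h20))
    · exact Or.inr (Or.inr (kC h01))
    · exact Or.inl (kA rfl)
    · exact Or.inr (Or.inl (kB h12))
    · exact Or.inr (Or.inl (kB h20))
    · exact Or.inr (Or.inr (kC h12))
    · exact Or.inl (kA rfl)
  obtain ⟨p0, hp0⟩ := CC.exists_dir h F m0
  have hp1 := hg.dc h F hp0
  have hE : (f u.2, e u.1) ∈ D0 Om z a b ∨ (f u.2, e u.1) - u ∈ D0 Om z a b ∨ (f u.2, e u.1) + u ∈ D0 Om z a b := by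
    obtain ⟨p', hp', q', hq', h1⟩ := hDT p0 ⟨_, hp0⟩ (p0 + u) ⟨_, hp1⟩
    rw [add_sub_cancel_left] at h1
    rw [← h1]
    exact hdiff p' hp' q' hq'
  obtain ⟨w, hw, n1, n2⟩ := diag_key (D0.sub h F hn) u hu hf he hD hE
  have hv : u + w ∉ D0 Om z a b := by
    intro h1
    apply hu
    have h2 := (D0.sub h F hn).sub_mem h1 hw
    rwa [add_sub_cancel_right] at h2
  refine ⟨u + w, n1, n2, hv, ?_⟩
  intro c p hp
  have h1 : p + (u + w) ∈ DC Om z a b (g * c * g⁻¹) := by
    have h2 := hg.dc h F hp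
    rw [← add_assoc]
    exact (D0.iff h F h2).1 hw
  have h3 : p - (u + w) ∈ DC Om z a b (g⁻¹ * c * g⁻¹⁻¹) := by
    have h2 := (hg.inv hz2).dc h F hp
    have h4 := (D0.iff h F h2).1 (D0.neg hw)
    have e1 : p + -u + -w = p - (u + w) := by abel
    rwa [e1] at h4
  have hneg : ∀ {x : Fin 3 × Fin 3}, -x ∈ D0 Om z a b → x ∈ D0 Om z a b := fun {x} hx => by
    have := D0.neg hx; rwa [neg_neg] at this
  refine ⟨_, _, ?_, ?_, ?_, h1, h3⟩
  · intro e1
    rw [e1] at h1
    exact hv ((D0.iff h F hp).2 h1)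
  · intro e1
    rw [e1] at h3
    apply hv
    apply hneg
    refine (D0.iff h F hp).2 ?_
    rwa [← sub_eq_add_neg]
  · intro e1
    rw [← e1] at h3
    apply hv
    have h4 := D0.sub_mem h1 h3
    have e2 : p - (u + w) - (p + (u + w)) = u + w := by
      have key : ∀ x y : Fin 3 × Fin 3, x - y - (x + y) = y := by decide
      exact key _ _
    rwa [e2] at h4

end

end Cfsg.Agent.Cit.Nil.RTwo
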