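import Cfsg.Agent.Cit.Nil.RTwo.TTwo

/-!
# S1309, `r = 2`, `m = 1`, (S): the geometry of isotropic points and lines of `Sp6(2)`

Text: `blueprints/CIT-6b-r2m1-helper274.md`, section 12.

* `Geo Z CC` : the class `Z` (lines) and the sets `CC z` (the three points on the line `z`), as delivered by the
  2-local analysis;
* `Geo.line` (A1): two distinct commuting points are on a unique line;
* `Geo.tt_central` (12.5), `Geo.zb_central` (12.6);
* `Geo.one_or_all` (A3), `Geo.braid` (A2).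
-/

set_option autoImplicit false
set_option linter.unusedSectionVars false
set_option linter.style.haveILetI false
set_option linter.unusedVariables false

namespace Cfsg.Agent.Cit.Nil.RTwo

open Subgroup Cfsg

variable {G : Type*} [Group G]

/-- points and lines: `Z` is the set of lines, `CC z` is the set of points on `z` -/
structure Geo (Z : Set G) (CC : G → Set G) : Prop where
  sqZ : ∀ z ∈ Z, z * z = 1
  neZ : ∀ z ∈ Z, z ≠ 1
  conjZ : ∀ g : G, ∀ z ∈ Z, g * z * g⁻¹ ∈ Z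
  conjC : ∀ g : G, ∀ z ∈ Z, ∀ a ∈ CC z, g * a * g⁻¹ ∈ CC (g * z * g⁻¹)
  nonempty : Z.Nonempty
  three : ∀ z ∈ Z, ∃ a b c, a ≠ b ∧ a ≠ c ∧ b ≠ c ∧ CC z = {a, b, c} ∧ z = a * b * c
  sqC : ∀ z ∈ Z, ∀ a ∈ CC z, a * a = 1
  neC : ∀ z ∈ Z, ∀ a ∈ CC z, a ≠ 1
  commC : ∀ z ∈ Z, ∀ a ∈ CC z, ∀ b ∈ CC z, Commute a b
  /-- lines on a common point commute -/
  abel : ∀ z ∈ Z, ∀ t ∈ Z, ∀ c, c ∈ CC z → c ∈ CC t → Commute z t
  /-- commuting lines have exactly one common point; they are coplanar or not -/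
  dich : ∀ z ∈ Z, ∀ t ∈ Z, z ≠ t → Commute z t → ∃ c, c ∈ CC z ∧ c ∈ CC t ∧
    (∀ c', c' ∈ CC z → c' ∈ CC t → c' = c) ∧
    ((z * t ∈ Z ∧ ∀ a ∈ CC z, ∀ b ∈ CC t, Commute a b) ∨
     (z * t ∉ Z ∧ z * t * c ∈ Z ∧ c ∈ CC (z * t * c) ∧ ∀ a ∈ CC z, a ≠ c → ¬ Commute t a))
  plane : ∀ z ∈ Z, ∀ t ∈ Z, z ≠ t → Commute z t → z * t ∈ Z → ∀ a ∈ CC z, ∀ b ∈ CC t, a ≠ b →
    ∃ y ∈ Z, a ∈ CC y ∧ b ∈ CC y
  card : ∀ z ∈ Z, ∀ c ∈ CC z, {t | t ∈ Z ∧ c ∈ CC t}.ncard = 15
  loc : ∀ c, ∀ z ∈ Z, ∀ t ∈ Z, c ∈ CC z → c ∈ CC t → z ≠ t → z * t ∈ Z →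
    ∃ s ∈ Z, c ∈ CC s ∧ s ≠ z ∧ s ≠ t ∧ z * s ∈ Z ∧ t * s ∉ Z
  l3 : ∀ c, ∀ u ∈ Z, ∀ v ∈ Z, ∀ w ∈ Z, c ∈ CC u → c ∈ CC v → c ∈ CC w → u ≠ v → u * v ∉ Z →
    (∀ n ∈ Z, c ∈ CC n → u * n ∈ Z → v * n ∈ Z → w = n ∨ w * n ∈ Z) → w = u ∨ w = v ∨ w = u * v * c
  disj : ∀ z ∈ Z, ∀ c ∈ CC z, c ∉ Z
  tt : ∀ z ∈ Z, ∀ c ∈ CC z, z * c ∉ Z
  cf : ∀ j : G, j * j = 1 → j ≠ 1 → ∀ N : Subgroup G, (∀ n ∈ N, Commute n j) → Odd (Nat.card N) →
    (∀ x, Commute x j → ∀ n ∈ N, x * n * x⁻¹ ∈ N) → N = ⊥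

/-- the points -/
def Pts (Z : Set G) (CC : G → Set G) : Set G := {a | ∃ z ∈ Z, a ∈ CC z}

theorem conj_eq_iff' {g x : G} : g * x * g⁻¹ = x ↔ Commute g x := by
  rw [mul_inv_eq_iff_eq_mul]; rfl

/-- a 2-group acting by conjugation on a set of odd cardinality has a fixed point -/
theorem exists_fixed_odd [Finite G] {P : Subgroup G} (hP : IsPGroup 2 P) {X : Set G}
    (hX : ∀ p ∈ P, ∀ x ∈ X, p * x * p⁻¹ ∈ X) (hodd : Odd X.ncard) : ∃ x ∈ X, ∀ p ∈ P, Commute p x := by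
  haveI : Fact (Nat.Prime 2) := ⟨Nat.prime_two⟩
  letI : MulAction P X :=
    { smul := fun p x => ⟨p * x * (p : G)⁻¹, hX p p.2 x x.2⟩
      one_smul := fun x => Subtype.ext (by
        change ((1 : P) : G) * x * ((1 : P) : G)⁻¹ = x
        simp)
      mul_smul := fun p q x => Subtype.ext (by
        change ((p * q : P) : G) * x * ((p * q : P) : G)⁻¹ = p * (q * x * (q : G)⁻¹) * (p : G)⁻¹
        rw [Subgroup.coe_mul]; group) }
  have h1 := hP.card_modEq_card_fixedPoints X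
  rw [Nat.card_coe_set_eq] at h1
  have h2 : (MulAction.fixedPoints P X).Nonempty := by
    by_contra hcon
    rw [Set.not_nonempty_iff_eq_empty] at hcon
    rw [hcon] at h1
    obtain ⟨k, hk⟩ := hodd
    have h3 : Nat.card (∅ : Set X) = 0 := by simp
    rw [h3, hk] at h1
    have h4 : (2 * k + 1) % 2 = 0 % 2 := h1
    omega
  obtain ⟨x, hx⟩ := h2
  refine ⟨x, x.2, fun p hp => ?_⟩
  have h3 : p * (x : G) * p⁻¹ = x := congrArg Subtype.val (hx ⟨p, hp⟩)
  exact conj_eq_iff'.1 h3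

namespace Geo

variable {Z : Set G} {CC : G → Set G}

theorem zinv (h : Geo Z CC) {z : G} (hz : z ∈ Z) : z⁻¹ = z := inv_eq_of_mul_eq_one_right (h.sqZ z hz)

theorem cinv (h : Geo Z CC) {z a : G} (hz : z ∈ Z) (ha : a ∈ CC z) : a⁻¹ = a :=
  inv_eq_of_mul_eq_one_right (h.sqC z hz a ha)

/-- the third point of a line -/
theorem third (h : Geo Z CC) {y a b : G} (hy : y ∈ Z) (ha : a ∈ CC y) (hb : b ∈ CC y) (hab : a ≠ b) :
    ∃ c ∈ CC y, c ≠ a ∧ c ≠ b ∧ (∀ d ∈ CC y, d = a ∨ d = b ∨ d = c) ∧ y = a * b * c := by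
  obtain ⟨a0, b0, c0, h1, h2, h3, h4, h5⟩ := h.three y hy
  have ma : a0 ∈ CC y := by rw [h4]; simp
  have mb : b0 ∈ CC y := by rw [h4]; simp
  have mc : c0 ∈ CC y := by rw [h4]; simp
  have cab := h.commC y hy a0 ma b0 mb
  have cac := h.commC y hy a0 ma c0 mc
  have cbc := h.commC y hy b0 mb c0 mc
  have ha' := ha
  have hb' := hb
  rw [h4] at ha' hb'
  simp only [Set.mem_insert_iff, Set.mem_singleton_iff] at ha' hb'
  rcases ha' with rfl | rfl | rfl <;> rcases hb' with rfl | rfl | rfl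
  · exact absurd rfl hab
  · exact ⟨c0, mc, h2.symm, h3.symm, fun d hd => by rw [h4] at hd; simpa using hd, h5⟩
  · refine ⟨b0, mb, h1.symm, h3, fun d hd => by rw [h4] at hd; simp at hd; tauto, ?_⟩
    rw [h5, mul_assoc, mul_assoc, cbc.eq]
  · refine ⟨c0, mc, h3.symm, h2.symm, fun d hd => by rw [h4] at hd; simp at hd; tauto, ?_⟩
    rw [h5, cab.eq]
  · exact absurd rfl hab
  · refine ⟨a0, ma, h1, h2, fun d hd => by rw [h4] at hd; simp at hd; tauto, ?_⟩
    rw [h5, mul_assoc, (cab.mul_right cac).eq]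
  · refine ⟨b0, mb, h3, h1.symm, fun d hd => by rw [h4] at hd; simp at hd; tauto, ?_⟩
    rw [h5, (cac.symm).eq, mul_assoc, mul_assoc, cbc.symm.eq]
  · refine ⟨a0, ma, h2, h1, fun d hd => by rw [h4] at hd; simp at hd; tauto, ?_⟩
    rw [h5, mul_assoc, (cab.mul_right cac).eq, cbc.eq]
  · exact absurd rfl hab

theorem comm_zc (h : Geo Z CC) {y a : G} (hy : y ∈ Z) (ha : a ∈ CC y) : Commute a y := by
  obtain ⟨a0, b0, c0, h1, h2, h3, h4, h5⟩ := h.three y hy
  have ma : a0 ∈ CC y := by rw [h4]; simp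
  have mb : b0 ∈ CC y := by rw [h4]; simp
  have mc : c0 ∈ CC y := by rw [h4]; simp
  rw [h5]
  exact ((h.commC y hy a ha a0 ma).mul_right (h.commC y hy a ha b0 mb)).mul_right (h.commC y hy a ha c0 mc)

theorem exists_other (h : Geo Z CC) {y a : G} (hy : y ∈ Z) : ∃ b ∈ CC y, b ≠ a := by
  obtain ⟨a0, b0, c0, h1, h2, h3, h4, h5⟩ := h.three y hy
  by_cases hab : a0 = a
  · exact ⟨b0, by rw [h4]; simp, by rintro rfl; exact h1 hab⟩
  · exact ⟨a0, by rw [h4]; simp, hab⟩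

theorem uniq (h : Geo Z CC) {y y' a b : G} (hy : y ∈ Z) (hy' : y' ∈ Z) (ha : a ∈ CC y) (hb : b ∈ CC y)
    (hab : a ≠ b) (ha' : a ∈ CC y') (hb' : b ∈ CC y') : y = y' := by
  by_contra hne
  obtain ⟨c, -, -, h1, -⟩ := h.dich y hy y' hy' hne (h.abel y hy y' hy' a ha ha')
  exact hab ((h1 a ha ha').trans (h1 b hb hb').symm)

theorem conj_mem (h : Geo Z CC) {g y a : G} (hy : y ∈ Z) (ha : a ∈ CC y) (hg : Commute g a) :
    a ∈ CC (g * y * g⁻¹) := by
  have := h.conjC g y hy a ha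
  rwa [conj_eq_iff'.2 hg] at this

/-- an element commuting with two points of a line commutes with the line -/
theorem comm_line (h : Geo Z CC) {g y a b : G} (hy : y ∈ Z) (ha : a ∈ CC y) (hb : b ∈ CC y) (hab : a ≠ b)
    (hga : Commute g a) (hgb : Commute g b) : Commute g y :=
  conj_eq_iff'.1 (h.uniq (h.conjZ g y hy) hy (h.conj_mem hy ha hga) (h.conj_mem hy hb hgb) hab ha hb)

/-- an element commuting with two points of a line commutes with all points -/
theorem comm_all (h : Geo Z CC) {g y a b d : G} (hy : y ∈ Z) (ha : a ∈ CC y) (hb : b ∈ CC y) (hab : a ≠ b)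
    (hga : Commute g a) (hgb : Commute g b) (hd : d ∈ CC y) : Commute g d := by
  obtain ⟨c, hc, h1, h2, h3, h4⟩ := h.third hy ha hb hab
  have hgy := h.comm_line hy ha hb hab hga hgb
  rcases h3 d hd with rfl | rfl | rfl
  · exact hga
  · exact hgb
  · have h5 : d = b⁻¹ * a⁻¹ * y := by rw [h4]; group
    rw [h5]
    exact (hgb.inv_right.mul_right hga.inv_right).mul_right hgy

section Fin

variable [Finite G]

theorem isPGroup_closure_pair {a b : G} (ha : a * a = 1) (hb : b * b = 1) (hab : Commute a b) :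
    IsPGroup 2 (closure ({a, b} : Set G)) := by
  have hall : ∀ x ∈ closure ({a, b} : Set G), x * x = 1 ∧ Commute x a ∧ Commute x b := by
    intro x hx
    induction hx using closure_induction with
    | mem x hx =>
      rcases hx with rfl | rfl
      · exact ⟨ha, Commute.refl _, hab⟩
      · exact ⟨hb, hab.symm, Commute.refl _⟩
    | one => exact ⟨mul_one 1, Commute.one_left _, Commute.one_left _⟩
    | mul x y hx hy h1 h2 =>
      refine ⟨?_, h1.2.1.mul_left h2.2.1, h1.2.2.mul_left h2.2.2⟩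
      have hc : Commute x y := by
        have : y ∈ centralizer ({x} : Set G) := by
          have hle : closure ({a, b} : Set G) ≤ centralizer ({x} : Set G) := by
            rw [closure_le]
            rintro _ (rfl | rfl)
            · exact mem_centralizer_singleton_iff.2 h1.2.1.symm.eq
            · exact mem_centralizer_singleton_iff.2 h1.2.2.symm.eq
          exact hle hy
        exact (mem_centralizer_singleton_iff.1 this).symm
      calc x * y * (x * y) = x * (y * x) * y := by group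
        _ = (x * x) * (y * y) := by rw [← hc.eq]; group
        _ = 1 := by rw [h1.1, h2.1, mul_one]
    | inv x hx h1 =>
      refine ⟨?_, h1.2.1.inv_left, h1.2.2.inv_left⟩
      rw [← mul_inv_rev, h1.1, inv_one]
  intro x
  exact ⟨1, Subtype.ext (by rw [pow_one, pow_two]; exact (hall x x.2).1)⟩

/-- a 2-group commuting with the point `c` commutes with a line on `c` -/
theorem exists_line_fixed (h : Geo Z CC) {z c : G} (hz : z ∈ Z) (hc : c ∈ CC z) {P : Subgroup G} (hP : IsPGroup 2 P)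
    (hPc : ∀ p ∈ P, Commute p c) : ∃ t ∈ Z, c ∈ CC t ∧ ∀ p ∈ P, Commute p t := by
  obtain ⟨t, ht, h1⟩ := exists_fixed_odd hP (X := {t | t ∈ Z ∧ c ∈ CC t})
    (fun p hp x hx => ⟨h.conjZ p x hx.1, h.conj_mem hx.1 hx.2 (hPc p hp)⟩)
    (by rw [h.card z hz c hc]; decide)
  exact ⟨t, ht.1, ht.2, h1⟩

/-- **(A1)** -/
theorem line (h : Geo Z CC) {a b : G} (ha : a ∈ Pts Z CC) (hb : b ∈ Pts Z CC) (hab : a ≠ b) (hc : Commute a b) :
    ∃ y ∈ Z, a ∈ CC y ∧ b ∈ CC y := by
  obtain ⟨x0, hx0, hax0⟩ := ha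
  obtain ⟨y0, hy0, hby0⟩ := hb
  have ha2 := h.sqC x0 hx0 a hax0
  have hb2 := h.sqC y0 hy0 b hby0
  -- a line `y` on `b` commuting with `a`
  obtain ⟨y, hy, hby, h1⟩ := h.exists_line_fixed hy0 hby0 (isPGroup_closure_pair ha2 hb2 hc) (by
    intro p hp
    have hle : closure ({a, b} : Set G) ≤ centralizer ({b} : Set G) := by
      rw [closure_le]
      rintro _ (rfl | rfl)
      · exact mem_centralizer_singleton_iff.2 hc.eq
      · exact mem_centralizer_singleton_iff.2 rfl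
    exact mem_centralizer_singleton_iff.1 (hle hp))
  have hay : Commute a y := h1 a (subset_closure (by simp))
  have hby' : Commute b y := h1 b (subset_closure (by simp))
  obtain ⟨x, hx, hax, h2⟩ := h.exists_line_fixed hx0 hax0 (isPGroup_closure_pair (h.sqZ y hy) hb2 hby'.symm) (by
    intro p hp
    have hle : closure ({y, b} : Set G) ≤ centralizer ({a} : Set G) := by
      rw [closure_le]
      rintro _ (rfl | rfl)
      · exact mem_centralizer_singleton_iff.2 hay.symm.eq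
      · exact mem_centralizer_singleton_iff.2 hc.symm.eq
    exact mem_centralizer_singleton_iff.1 (hle hp))
  have hyx : Commute y x := h2 y (subset_closure (by simp))
  have hbx : Commute b x := h2 b (subset_closure (by simp))
  by_cases hxy : x = y
  · subst hxy
    exact ⟨x, hx, hax, hby⟩
  obtain ⟨c, hcx, hcy, -, h3⟩ := h.dich x hx y hy hxy hyx.symm
  by_cases hac : a = c
  · subst hac
    exact ⟨y, hy, hcy, hby⟩
  rcases h3 with ⟨h3, -⟩ | ⟨-, -, -, h3⟩
  · exact h.plane x hx y hy hxy hyx.symm h3 a hax b hby hab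
  · exact absurd hay.symm (h3 a hax hac)

/-- `c` central in the centraliser of the involution `j` -/
theorem central_of (h : Geo Z CC) {j u : G} (hj : j * j = 1) (hj1 : j ≠ 1) (hu : u * u = 1) (hu1 : u ≠ 1)
    (huj : Commute u j)
    (hconj : ∀ g, Commute g j → g * u * g⁻¹ ≠ u → ¬ Commute u (g * u * g⁻¹)) {g : G} (hg : Commute g j) :
    Commute g u := by
  rcases zstar_sub (X := centralizer ({j} : Set G)) (mem_centralizer_singleton_iff.2 huj.eq) hu hu1 with
    ⟨x, hx, hne, hc⟩ | ⟨N, hN, hodd, hnorm, hcomm⟩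
  · exact absurd hc (hconj x (mem_centralizer_singleton_iff.1 hx) hne)
  · have h1 : N = ⊥ := h.cf j hj hj1 N (fun n hn => mem_centralizer_singleton_iff.1 (hN hn)) hodd
      (fun x hx n hn => hnorm x (mem_centralizer_singleton_iff.2 hx.eq) n hn)
    have h2 := hcomm g (mem_centralizer_singleton_iff.2 hg.eq)
    rw [h1, mem_bot] at h2
    have h3 : u * g * u⁻¹ = g := by
      rw [mul_inv_eq_one] at h2
      exact h2
    exact (conj_eq_iff'.1 h3).symm

theorem mul_mem_comm (h : Geo Z CC) {z c : G} (hz : z ∈ Z) (hc : c ∈ CC z) : (z * c) * (z * c) = 1 ∧ z * c ≠ 1 := by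
  have h1 := h.comm_zc hz hc
  refine ⟨?_, ?_⟩
  · calc z * c * (z * c) = z * (c * z) * c := by group
      _ = (z * z) * (c * c) := by rw [h1.eq]; group
      _ = 1 := by rw [h.sqZ z hz, h.sqC z hz c hc, mul_one]
  · intro h2
    have h3 : c = z := by
      have := mul_eq_one_iff_eq_inv.1 h2
      rw [this, h.cinv hz hc]
    exact h.disj z hz c hc (h3 ▸ hz)

/-- two points of a line multiply to `y * (third point)` -/
theorem mul_third (h : Geo Z CC) {y a b c : G} (hy : y ∈ Z) (ha : a ∈ CC y) (hb : b ∈ CC y) (hc : c ∈ CC y)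
    (he : y = a * b * c) : a * b = y * c := by
  rw [he, mul_assoc, h.sqC y hy c hc, mul_one]

/-- commuting representations of an element of `TT` agree -/
theorem tt_unique_of_comm (h : Geo Z CC) {y y' x x' : G} (hy : y ∈ Z) (hy' : y' ∈ Z) (hx : x ∈ CC y)
    (hx' : x' ∈ CC y') (he : y * x = y' * x') (hc : Commute y y') : y = y' := by
  by_contra hne
  have hx2 := h.sqC y hy x hx
  have hx2' := h.sqC y' hy' x' hx'
  have hyx := h.comm_zc hy hx
  have hyx' := h.comm_zc hy' hx'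
  -- y' commutes with x = y * (y' * x')
  have hjx : x = y * (y' * x') := by rw [← he, ← mul_assoc, h.sqZ y hy, one_mul]
  have hjx' : x' = y' * (y * x) := by rw [he, ← mul_assoc, h.sqZ y' hy', one_mul]
  have c1 : Commute y' x := by
    rw [hjx]
    exact hc.symm.mul_right ((Commute.refl y').mul_right hyx'.symm)
  have c2 : Commute y x' := by
    rw [hjx']
    exact hc.mul_right ((Commute.refl y).mul_right hyx.symm)
  have c3 : Commute x x' := by
    rw [hjx']
    exact c1.symm.mul_right (hyx.mul_right (Commute.refl x))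
  have hprod : y * y' = x * x' := by
    have h1 : y' = y * (x * x') := by
      have h2 : y * x * x' = y' := by rw [he, mul_assoc, hx2', mul_one]
      rw [← h2, mul_assoc]
    calc y * y' = y * (y * (x * x')) := by rw [← h1]
      _ = x * x' := by rw [← mul_assoc, h.sqZ y hy, one_mul]
  have hxx' : x ≠ x' := by
    rintro rfl
    rw [hx2] at hprod
    exact hne (by rw [mul_eq_one_iff_eq_inv.1 hprod, h.zinv hy'])
  obtain ⟨y2, hy2, h1, h2⟩ := h.line ⟨y, hy, hx⟩ ⟨y', hy', hx'⟩ hxx' c3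
  obtain ⟨x2, hx2m, -, -, -, h3⟩ := h.third hy2 h1 h2 hxx'
  have h4 : x * x' = y2 * x2 := h.mul_third hy2 h1 h2 hx2m h3
  have h5 : y * y' ∉ Z := by rw [hprod, h4]; exact h.tt y2 hy2 x2 hx2m
  obtain ⟨c, hcy, hcy', huniq, h6⟩ := h.dich y hy y' hy' hne hc
  rcases h6 with ⟨h6, -⟩ | ⟨-, -, -, h6⟩
  · exact h5 h6
  have e1 : x = c := by
    by_contra hxc
    exact h6 x hx hxc c1
  obtain ⟨c', hcy1, hcy1', huniq', h7⟩ := h.dich y' hy' y hy (Ne.symm hne) hc.symm
  rcases h7 with ⟨h7, -⟩ | ⟨-, -, -, h7⟩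
  · exact h5 (by rw [hc.eq]; exact h7)
  have e2 : x' = c' := by
    by_contra hxc
    exact h7 x' hx' hxc c2
  exact hxx' (e1.trans ((huniq c' hcy1' hcy1).symm.trans e2.symm))

/-- **(12.5)** -/
theorem tt_central (h : Geo Z CC) {z c g : G} (hz : z ∈ Z) (hc : c ∈ CC z) (hg : Commute g (z * c)) :
    Commute g z := by
  obtain ⟨h1, h2⟩ := h.mul_mem_comm hz hc
  refine h.central_of h1 h2 (h.sqZ z hz) (h.neZ z hz) ((Commute.refl z).mul_right (h.comm_zc hz hc).symm) ?_ hg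
  intro x hx hne hcomm
  apply hne
  refine (h.tt_unique_of_comm hz (h.conjZ x z hz) hc (h.conjC x z hz c hc) ?_ hcomm).symm
  have h3 := conj_eq_iff'.2 hx
  calc z * c = x * (z * c) * x⁻¹ := h3.symm
    _ = x * z * x⁻¹ * (x * c * x⁻¹) := by group

theorem tt_central' (h : Geo Z CC) {z c g : G} (hz : z ∈ Z) (hc : c ∈ CC z) (hg : Commute g (z * c)) :
    Commute g c := by
  have h1 := h.tt_central hz hc hg
  have h2 : c = z * (z * c) := by rw [← mul_assoc, h.sqZ z hz, one_mul]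
  rw [h2]
  exact h1.mul_right hg

theorem tt_unique (h : Geo Z CC) {y y' x x' : G} (hy : y ∈ Z) (hy' : y' ∈ Z) (hx : x ∈ CC y)
    (hx' : x' ∈ CC y') (he : y * x = y' * x') : y = y' ∧ x = x' := by
  have h1 : Commute y (y' * x') := by
    rw [← he]
    exact (Commute.refl y).mul_right (h.comm_zc hy hx).symm
  have h2 : Commute y y' := h.tt_central hy' hx' h1
  have h3 := h.tt_unique_of_comm hy hy' hx hx' he h2
  refine ⟨h3, ?_⟩
  subst h3
  exact mul_left_cancel he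

/-- **(12.6)** -/
theorem zb_central (h : Geo Z CC) {z b g : G} (hz : z ∈ Z) (hb : b ∈ Pts Z CC) (hbz : b ∉ CC z) (hc : Commute z b)
    (hg : Commute g (z * b)) : Commute g b := by
  obtain ⟨y0, hy0, hb0⟩ := hb
  have hb2 := h.sqC y0 hy0 b hb0
  have hj2 : z * b * (z * b) = 1 := by
    calc z * b * (z * b) = z * (b * z) * b := by group
      _ = (z * z) * (b * b) := by rw [← hc.eq]; group
      _ = 1 := by rw [h.sqZ z hz, hb2, mul_one]
  have hj1 : z * b ≠ 1 := by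
    intro h1
    have h2 : z = b := by
      rw [mul_eq_one_iff_eq_inv.1 h1, h.cinv hy0 hb0]
    exact h.disj y0 hy0 b hb0 (h2 ▸ hz)
  refine h.central_of hj2 hj1 hb2 (h.neC y0 hy0 b hb0) (hc.symm.mul_right (Commute.refl b)) ?_ hg
  intro x hx hne hcomm
  -- b1 = x b x⁻¹, z1 = x z x⁻¹
  have hj := conj_eq_iff'.2 hx
  have he : z * b = x * z * x⁻¹ * (x * b * x⁻¹) := by
    calc z * b = x * (z * b) * x⁻¹ := hj.symm
      _ = _ := by group
  have c1 : Commute (x * b * x⁻¹) (z * b) :=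
    (hx.mul_left (hc.symm.mul_right (Commute.refl b))).mul_left hx.inv_left
  have hz1 := h.conjZ x z hz
  have hb1 := h.conjC x y0 hy0 b hb0
  have hy01 := h.conjZ x y0 hy0
  generalize x * z * x⁻¹ = z1 at he hz1
  generalize x * b * x⁻¹ = b1 at he hb1 hne hcomm c1
  generalize x * y0 * x⁻¹ = y1 at hb1 hy01
  have hb12 := h.sqC y1 hy01 b1 hb1
  have ez : z = z * b * b := by rw [mul_assoc, hb2, mul_one]
  have c2 : Commute b1 z := by
    rw [ez]
    exact c1.mul_right hcomm.symm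
  have ez1 : z1 = z * b * b1 := by rw [he, mul_assoc, hb12, mul_one]
  have c3 : Commute z z1 := by
    rw [ez1]
    exact ((Commute.refl z).mul_right hc).mul_right c2.symm
  have hprod : z * z1 = b * b1 := by
    rw [ez1, mul_assoc z b b1, ← mul_assoc z z, h.sqZ z hz, one_mul]
  have hzz1 : z ≠ z1 := by
    rintro rfl
    exact hne (mul_left_cancel he).symm
  obtain ⟨y2, hy2, h1, h2⟩ := h.line ⟨y0, hy0, hb0⟩ ⟨y1, hy01, hb1⟩ (Ne.symm hne) hcomm
  obtain ⟨x2, hx2m, -, -, -, h3⟩ := h.third hy2 h1 h2 (Ne.symm hne)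
  have h4 : b * b1 = y2 * x2 := h.mul_third hy2 h1 h2 hx2m h3
  have h5 : z * z1 ∉ Z := by rw [hprod, h4]; exact h.tt y2 hy2 x2 hx2m
  obtain ⟨c, hcz, hcz1, -, h6⟩ := h.dich z hz z1 hz1 hzz1 c3
  rcases h6 with ⟨h6, -⟩ | ⟨-, h6, h7, -⟩
  · exact h5 h6
  have hc2 := h.sqC z hz c hcz
  have h8 : y2 * x2 = z * z1 * c * c := by rw [← h4, ← hprod, mul_assoc, hc2, mul_one]
  obtain ⟨e1, -⟩ := h.tt_unique hy2 h6 hx2m h7 h8
  -- `z * y2 = z1 * c` is not in `Z`
  have h9 : y2 * z ∉ Z := by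
    have h10 : y2 * z = z1 * c := by
      rw [e1, mul_assoc (z * z1) c z, (h.comm_zc hz hcz).eq, ← mul_assoc, c3.eq, mul_assoc z1 z z, h.sqZ z hz, mul_one]
    rw [h10]
    exact h.tt z1 hz1 c hcz1
  have h10 : y2 ≠ z := by
    rintro rfl
    exact hbz h1
  have h11 : Commute y2 z := (h.comm_line hy2 h1 h2 (Ne.symm hne) hc c2.symm).symm
  obtain ⟨d, -, -, -, h12⟩ := h.dich y2 hy2 z hz h10 h11
  rcases h12 with ⟨h12, -⟩ | ⟨-, -, -, h12⟩
  · exact h9 h12
  by_cases hbd : b = d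
  · subst hbd
    exact h12 b1 h2 hne c2.symm
  · exact h12 b h1 hbd hc

end Fin

end Geo

end Cfsg.Agent.Cit.Nil.RTwo
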