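import Cfsg.Agent.Cit.Nil.RTwo.SGeoTwo
import Cfsg.Agent.Cit.PieceEnd
import Cfsg.Agent.Fischer3.SpCase
import Cfsg.Agent.S0270

/-!
# S1309, `r = 2`, `m = 1`, (S): the geometry is that of `Sp6(2)`

* `Geo.hyps` : the points are a class of 3-transpositions with singular and hyperbolic lines of size three;
* `Geo.card_pts` : 63 points;
* `Geo.main` : `F*(G) = Sp6(2)`.
-/

set_option autoImplicit false
set_option linter.unusedSectionVars false

namespace Cfsg.Agent.Cit.Nil.RTwo

open Subgroup Cfsg Cfsg.Agent.ClassicalGeometry.SympBasic Cfsg.Agent.Fischer3.SpCase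
  Cfsg.Agent.SporadicStructure.FischerSpace

/-! ### Counting transvections -/

theorem transv_inj {m : ℕ} {u v : Fin m ⊕ Fin m → ZMod 2} (hu : u ≠ 0)
    (huv : transv u (1 : ZMod 2) = transv v 1) : u = v := by
  obtain ⟨y, hy⟩ := S0440.exists_form_one hu
  have h1 := S0440.transv_mulVec u y
  rw [huv, S0440.transv_mulVec, hy, one_smul] at h1
  have h2 := add_left_cancel h1
  rcases Hyps.zmod_cases (sympForm m (ZMod 2) y v) with h3 | h3
  · rw [h3, zero_smul] at h2
    exact absurd h2.symm hu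
  · rw [h3, one_smul] at h2
    exact h2.symm

theorem card_transv (m : ℕ) : Nat.card {g : Matrix.symplecticGroup (Fin m) (ZMod 2) |
    ((g : Matrix (Fin m ⊕ Fin m) (Fin m ⊕ Fin m) (ZMod 2)) - 1).rank = 1} + 1 = 2 ^ (2 * m) := by
  let f : {v : Fin m ⊕ Fin m → ZMod 2 // v ≠ 0} → {g : Matrix.symplecticGroup (Fin m) (ZMod 2) |
      ((g : Matrix (Fin m ⊕ Fin m) (Fin m ⊕ Fin m) (ZMod 2)) - 1).rank = 1} :=
    fun v => ⟨transv v.1 1, (S0440.rank_one_iff _).2 ⟨v.1, v.2, rfl⟩⟩
  have hf : Function.Bijective f := by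
    constructor
    · intro u v huv
      exact Subtype.ext (transv_inj u.2 (congrArg Subtype.val huv))
    · rintro ⟨g, hg⟩
      obtain ⟨v, hv, rfl⟩ := (S0440.rank_one_iff g).1 hg
      exact ⟨⟨v, hv⟩, rfl⟩
  rw [← Nat.card_congr (Equiv.ofBijective f hf)]
  have h1 : Nat.card {v : Fin m ⊕ Fin m → ZMod 2 // v ≠ 0} + 1 = Nat.card (Fin m ⊕ Fin m → ZMod 2) := by
    have h2 := Nat.card_congr (Equiv.sumCompl (fun v : Fin m ⊕ Fin m → ZMod 2 => v ≠ 0))
    rw [Nat.card_sum] at h2
    have h3 : Nat.card {v : Fin m ⊕ Fin m → ZMod 2 // ¬ v ≠ 0} = 1 := by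
      rw [Nat.card_eq_one_iff_unique]
      exact ⟨⟨fun a b => Subtype.ext ((not_not.1 a.2).trans (not_not.1 b.2).symm)⟩, ⟨⟨0, by simp⟩⟩⟩
    rw [h3] at h2
    exact h2
  rw [h1, Nat.card_fun, Nat.card_eq_fintype_card (α := ZMod 2), ZMod.card, Nat.card_eq_fintype_card, Fintype.card_sum,
    Fintype.card_fin, ← two_mul]

/-! ### Counting points -/

section Count

variable {H : Type*} [Group H] {D : Set H}

theorem card_V (h : Hyps D) [Finite H] : Nat.card h.V = Nat.card ↥D + 1 := by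
  let f : Option ↥D → h.V := fun o => o.elim 0 h.vec
  have hf : Function.Bijective f := by
    constructor
    · rintro (_ | x) (_ | y) hxy
      · rfl
      · exact absurd hxy.symm (h.vec_ne_zero y)
      · exact absurd hxy (h.vec_ne_zero x)
      · exact congrArg some (h.vec_injective hxy)
    · intro v
      rcases h.eq_vec v with rfl | ⟨x, rfl⟩
      · exact ⟨none, rfl⟩
      · exact ⟨some x, rfl⟩
  rw [← Nat.card_congr (Equiv.ofBijective f hf)]
  exact Finite.card_option

theorem card_ker (h : Hyps D) [Finite H] (x : ↥D) :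
    Nat.card (LinearMap.ker (h.B (h.vec x))) = Nat.card {d : ↥D // Commute (x : H) d} + 1 := by
  let f : Option {d : ↥D // Commute (x : H) d} → LinearMap.ker (h.B (h.vec x)) :=
    fun o => o.elim 0 fun d => ⟨h.vec d.1, by
      rw [LinearMap.mem_ker, h.B_vec_vec]
      exact Hyps.c_eq_zero.2 d.2⟩
  have hf : Function.Bijective f := by
    constructor
    · rintro (_ | a) (_ | b) hxy
      · rfl
      · exact absurd (congrArg Subtype.val hxy).symm (h.vec_ne_zero b.1)
      · exact absurd (congrArg Subtype.val hxy) (h.vec_ne_zero a.1)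
      · exact congrArg some (Subtype.ext (h.vec_injective (congrArg Subtype.val hxy)))
    · rintro ⟨v, hv⟩
      rcases h.eq_vec v with rfl | ⟨y, rfl⟩
      · exact ⟨none, rfl⟩
      · rw [LinearMap.mem_ker, h.B_vec_vec] at hv
        exact ⟨some ⟨y, Hyps.c_eq_zero.1 hv⟩, rfl⟩
  rw [← Nat.card_congr (Equiv.ofBijective f hf)]
  exact Finite.card_option

theorem card_V_eq (h : Hyps D) [Finite H] (x : ↥D) : Nat.card h.V = 2 * Nat.card (LinearMap.ker (h.B (h.vec x))) := by
  have hsurj : Function.Surjective (h.B (h.vec x)) := by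
    have hne : ∃ w, h.B (h.vec x) w ≠ 0 := by
      by_contra hcon
      push Not at hcon
      exact h.vec_ne_zero x (h.eq_zero_of_B _ hcon)
    obtain ⟨w, hw⟩ := hne
    intro a
    rcases Hyps.zmod_cases a with rfl | rfl
    · exact ⟨0, map_zero _⟩
    · refine ⟨w, ?_⟩
      rcases Hyps.zmod_cases (h.B (h.vec x) w) with h1 | h1
      · exact absurd h1 hw
      · exact h1
  have h1 := AddSubgroup.card_mul_index (h.B (h.vec x)).toAddMonoidHom.ker
  have h2 := AddSubgroup.index_ker (h.B (h.vec x)).toAddMonoidHom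
  have h3 : (h.B (h.vec x)).toAddMonoidHom.range = ⊤ := by
    rw [AddMonoidHom.range_eq_top]
    exact hsurj
  rw [h3, Nat.card_congr (AddSubgroup.topEquiv).toEquiv, Nat.card_eq_fintype_card, ZMod.card] at h2
  rw [h2] at h1
  rw [← h1, mul_comm]
  rfl

end Count

variable {G : Type*} [Group G]

namespace Geo

variable {Z : Set G} {CC : G → Set G}

/-- the points in the group they generate -/
def D1 (Z : Set G) (CC : G → Set G) : Set ↥(closure (Pts Z CC)) := {x | (x : G) ∈ Pts Z CC}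

theorem commute_coe {x y : ↥(closure (Pts Z CC))} : Commute x y ↔ Commute (x : G) (y : G) :=
  ⟨fun h => congrArg Subtype.val h, fun h => Subtype.ext h⟩

theorem pts_nonempty (h : Geo Z CC) : (Pts Z CC).Nonempty := by
  obtain ⟨z, hz⟩ := h.nonempty
  obtain ⟨a, b, c, -, -, -, h4, -⟩ := h.three z hz
  exact ⟨a, z, hz, by rw [h4]; simp⟩

section Fin

variable [Finite G]

theorem fdata (h : Geo Z CC) (hcent : ∀ a ∈ Pts Z CC, ∃ d ∈ Pts Z CC, ¬ Commute a d) : FData (D1 Z CC) where
  sq := fun x hx => Subtype.ext (h.pts_sq hx)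
  ne_one := fun x hx h1 => h.pts_ne hx (congrArg Subtype.val h1)
  conj := fun g x hx => h.pts_conj (g : G) hx
  braid := fun x hx y hy hxy => Subtype.ext (h.braid hx hy (fun h1 => hxy (commute_coe.2 h1)))
  single := fun x hx y hy => by
    obtain ⟨g, hg, h1⟩ := h.single hcent hx hy
    exact ⟨⟨g, hg⟩, Subtype.ext h1⟩
  gen := Subgroup.closure_closure_coe_preimage
  nonempty := by
    obtain ⟨a, ha⟩ := h.pts_nonempty
    exact ⟨⟨a, subset_closure ha⟩, ha⟩

/-- the line in the sense of `Fischer3.SpCase` -/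
theorem line_iff (h : Geo Z CC) {x y : ↥(closure (Pts Z CC))} {z : G} (hz : z ∈ Z) (hx : (x : G) ∈ CC z)
    (hy : (y : G) ∈ CC z) (hxy : x ≠ y) (w : ↥(closure (Pts Z CC))) :
    w ∈ Fischer3.SpCase.Line (D1 Z CC) x y ↔ (w : G) ∈ CC z := by
  have hne : (x : G) ≠ y := fun h1 => hxy (Subtype.ext h1)
  constructor
  · rintro ⟨hw, hall⟩
    refine h.line_eq hz hx hy hne hw fun d hd h1 h2 => ?_
    exact commute_coe.1 (hall ⟨d, subset_closure hd⟩ hd (commute_coe.2 h1) (commute_coe.2 h2))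
  · intro hw
    refine ⟨⟨z, hz, hw⟩, fun d hd h1 h2 => commute_coe.2 ?_⟩
    exact h.comm_all hz hx hy hne (commute_coe.1 h1) (commute_coe.1 h2) hw

theorem hyps (h : Geo Z CC) (hcent : ∀ g : G, (∀ d ∈ Pts Z CC, Commute g d) → g = 1) :
    Fischer3.SpCase.Hyps (D1 Z CC) := by
  have hcent' : ∀ a ∈ Pts Z CC, ∃ d ∈ Pts Z CC, ¬ Commute a d := by
    intro a ha
    by_contra hcon
    push Not at hcon
    exact h.pts_ne ha (hcent a hcon)
  refine ⟨h.fdata hcent', ?_, ?_, ?_, ?_, ?_⟩
  · intro g hg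
    refine Subtype.ext (hcent g fun d hd => ?_)
    exact commute_coe.1 (hg ⟨d, subset_closure hd⟩ hd)
  · intro x hx y hy hxy
    refine Subtype.ext (h.noTwins hcent' hx hy fun d hd => ?_)
    have := hxy ⟨d, subset_closure hd⟩ hd
    rwa [commute_coe, commute_coe] at this
  · intro x hx y hy hxy hc
    have hne : (x : G) ≠ y := fun h1 => hxy (Subtype.ext h1)
    obtain ⟨z, hz, hxz, hyz⟩ := h.line hx hy hne (commute_coe.1 hc)
    obtain ⟨c, hcz, hcx, hcy, h1, -⟩ := h.third hz hxz hyz hne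
    have hcm : c ∈ closure (Pts Z CC) := subset_closure ⟨z, hz, hcz⟩
    rw [Set.ncard_eq_three]
    refine ⟨x, y, ⟨c, hcm⟩, hxy, fun h2 => hcx (congrArg Subtype.val h2).symm,
      fun h2 => hcy (congrArg Subtype.val h2).symm, ?_⟩
    ext w
    rw [h.line_iff hz hxz hyz hxy]
    constructor
    · intro hw
      rcases h1 w hw with h2 | h2 | h2
      · exact Or.inl (Subtype.ext h2)
      · exact Or.inr (Or.inl (Subtype.ext h2))
      · exact Or.inr (Or.inr (Subtype.ext h2))
    · rintro (rfl | rfl | rfl)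
      · exact hxz
      · exact hyz
      · exact hcz
  · intro x hx y hy hxy hc d hd
    have hne : (x : G) ≠ y := fun h1 => hxy (Subtype.ext h1)
    obtain ⟨z, hz, hxz, hyz⟩ := h.line hx hy hne (commute_coe.1 hc)
    obtain ⟨a, ha, hda⟩ := h.one_or_all hd hz
    refine ⟨⟨a, subset_closure ⟨z, hz, ha⟩⟩, (h.line_iff hz hxz hyz hxy _).2 ha, commute_coe.2 hda⟩
  · intro x hx y hy hxy z hz hall
    rcases h.hyperbolic hx hy (fun h1 => hxy (commute_coe.2 h1)) hz (fun d hd h1 h2 =>
      commute_coe.1 (hall ⟨d, subset_closure hd⟩ hd (commute_coe.2 h1) (commute_coe.2 h2))) with h1 | h1 | h1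
    · exact Or.inl (Subtype.ext h1)
    · exact Or.inr (Or.inl (Subtype.ext h1))
    · exact Or.inr (Or.inr (Subtype.ext h1))

/-- a point commutes with 30 further points -/
theorem ncard_perp (h : Geo Z CC) {x : G} (hx : x ∈ Pts Z CC) :
    {d | d ∈ Pts Z CC ∧ Commute d x ∧ d ≠ x}.ncard = 30 := by
  classical
  obtain ⟨z, hz, hxz⟩ := hx
  set L : Set G := {t | t ∈ Z ∧ x ∈ CC t} with hL
  have hLf : L.Finite := Set.toFinite L
  have hunion : {d | d ∈ Pts Z CC ∧ Commute d x ∧ d ≠ x} = ↑(hLf.toFinset.biUnion fun t => (Set.toFinite (CC t \ {x})).toFinset) := by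
    ext d
    simp only [Finset.coe_biUnion, Set.mem_iUnion, Set.Finite.coe_toFinset, Set.mem_ofPred_eq, exists_prop,
      Set.mem_sdiff, Set.mem_singleton_iff, hL]
    constructor
    · rintro ⟨hd, hc, hne⟩
      obtain ⟨t, ht, h1, h2⟩ := h.line ⟨z, hz, hxz⟩ hd (Ne.symm hne) hc.symm
      exact ⟨t, ⟨ht, h1⟩, h2, hne⟩
    · rintro ⟨t, ⟨ht, h1⟩, h2, hne⟩
      exact ⟨⟨t, ht, h2⟩, h.commC t ht d h2 x h1, hne⟩
  rw [hunion, Set.ncard_coe_finset, Finset.card_biUnion]
  · have h1 : ∀ t ∈ hLf.toFinset, ((Set.toFinite (CC t \ {x})).toFinset).card = 2 := by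
      intro t ht
      rw [Set.Finite.mem_toFinset] at ht
      obtain ⟨b, hb, hbx⟩ := h.exists_other (a := x) ht.1
      obtain ⟨c, hc, hcx, hcb, h2, -⟩ := h.third ht.1 ht.2 hb (Ne.symm hbx)
      rw [← Set.ncard_eq_toFinset_card _ (Set.toFinite (CC t \ {x})), Set.ncard_eq_two]
      refine ⟨b, c, Ne.symm hcb, ?_⟩
      ext d
      constructor
      · rintro ⟨hd, hdx⟩
        rcases h2 d hd with h3 | h3 | h3
        · exact absurd h3 hdx
        · exact Or.inl h3
        · exact Or.inr h3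
      · rintro (rfl | rfl)
        · exact ⟨hb, hbx⟩
        · exact ⟨hc, hcx⟩
    rw [Finset.sum_congr rfl h1, Finset.sum_const, smul_eq_mul, ← Set.ncard_eq_toFinset_card _ hLf, hL,
      h.card z hz x hxz]
  · intro s hs t ht hst
    simp only [hL, Set.mem_ofPred_eq, Set.Finite.coe_toFinset] at hs ht
    rw [Function.onFun, Finset.disjoint_left]
    intro d hd1 hd2
    simp only [Set.Finite.mem_toFinset, Set.mem_sdiff, Set.mem_singleton_iff] at hd1 hd2
    exact hst (h.uniq hs.1 ht.1 hs.2 hd1.1 (Ne.symm hd1.2) ht.2 hd2.1)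

/-- **63 points** -/
theorem card_pts (h : Geo Z CC) (hcent : ∀ g : G, (∀ d ∈ Pts Z CC, Commute g d) → g = 1) :
    Nat.card ↥(D1 Z CC) = 63 := by
  classical
  have hh := h.hyps hcent
  obtain ⟨a, ha⟩ := h.pts_nonempty
  set x : ↥(D1 Z CC) := ⟨⟨a, subset_closure ha⟩, ha⟩ with hx
  have h1 : Nat.card {d : ↥(D1 Z CC) // Commute (x : ↥(closure (Pts Z CC))) d} = 31 := by
    have e : {d : ↥(D1 Z CC) // Commute (x : ↥(closure (Pts Z CC))) d} ≃
        ↥(insert a {d | d ∈ Pts Z CC ∧ Commute d a ∧ d ≠ a} : Set G) := by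
      refine ⟨fun d => ⟨((d.1 : ↥(closure (Pts Z CC))) : G), ?_⟩, fun d => ⟨⟨⟨d.1, ?_⟩, ?_⟩, ?_⟩, ?_, ?_⟩
      · by_cases h2 : ((d.1 : ↥(closure (Pts Z CC))) : G) = a
        · exact Or.inl h2
        · exact Or.inr ⟨d.1.2, (commute_coe.1 d.2).symm, h2⟩
      · apply Subgroup.subset_closure
        rcases d.2 with h2 | h2
        · rw [h2]; exact ha
        · exact h2.1
      · show (d : G) ∈ Pts Z CC
        rcases d.2 with h2 | h2
        · rw [h2]; exact ha
        · exact h2.1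
      · rw [commute_coe]
        show Commute a (d : G)
        rcases d.2 with h2 | h2
        · rw [h2]
        · exact h2.2.1.symm
      · intro d; rfl
      · intro d; rfl
    rw [Nat.card_congr e, Nat.card_coe_set_eq, Set.ncard_insert_of_notMem, h.ncard_perp ha]
    rintro ⟨-, -, h2⟩
    exact h2 rfl
  have h2 := card_ker hh x
  have h3 := card_V_eq hh x
  have h4 := card_V hh
  rw [h1] at h2
  rw [h2] at h3
  omega

/-- the group generated by the points -/
theorem exists_equiv (h : Geo Z CC) (hcent : ∀ g : G, (∀ d ∈ Pts Z CC, Commute g d) → g = 1) :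
    Nonempty (↥(closure (Pts Z CC)) ≃* PSp 3 (ZMod 2)) := by
  obtain ⟨m, e, -, hm⟩ := Cfsg.Agent.Fischer3.SpCase.exists_equiv_sp (h.hyps hcent)
  have h1 : Nat.card ↥(D1 Z CC) = Nat.card {g : Matrix.symplecticGroup (Fin m) (ZMod 2) |
      ((g : Matrix (Fin m ⊕ Fin m) (Fin m ⊕ Fin m) (ZMod 2)) - 1).rank = 1} := by
    refine Nat.card_congr (Equiv.subtypeEquiv e.toEquiv fun g => ?_)
    exact hm g
  have h2 := card_transv m
  rw [← h1, h.card_pts hcent] at h2
  have hm3 : m = 3 := by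
    have h3 : (2 : ℕ) ^ 6 = 2 ^ (2 * m) := by rw [← h2]; norm_num
    have h4 := Nat.pow_right_injective (le_refl 2) h3
    omega
  subst hm3
  have hc : center (Matrix.symplecticGroup (Fin 3) (ZMod 2)) = ⊥ := by
    rw [← Subgroup.card_eq_one, LieClassical.SympCenter.card_center (by norm_num)]
    rfl
  refine ⟨e.trans (((QuotientGroup.quotientMulEquivOfEq hc).trans QuotientGroup.quotientBot).symm)⟩

/-- the identification -/
theorem main (h : Geo Z CC) (hs : IsSimpleGroup ↥(generalizedFittingSubgroup G))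
    (hna : ¬ IsMulCommutative ↥(generalizedFittingSubgroup G)) :
    ∃ (F : Type) (_ : Field F) (_ : Fintype F), Fintype.card F = 2 ∧
      Nonempty (↥(generalizedFittingSubgroup G) ≃* Cfsg.PSp 3 F) := by
  have hn : (closure (Pts Z CC)).Normal := by
    refine ⟨fun x hx g => ?_⟩
    have h1 : (closure (Pts Z CC)).map (MulAut.conj g).toMonoidHom ≤ closure (Pts Z CC) := by
      rw [MonoidHom.map_closure, closure_le]
      rintro _ ⟨d, hd, rfl⟩
      exact subset_closure (h.pts_conj g hd)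
    exact h1 ⟨x, hx, rfl⟩
  have hne : closure (Pts Z CC) ≠ ⊥ := by
    intro h1
    obtain ⟨a, ha⟩ := h.pts_nonempty
    have h2 : a ∈ closure (Pts Z CC) := subset_closure ha
    rw [h1, mem_bot] at h2
    exact h.pts_ne ha h2
  have hcent : ∀ g : G, (∀ d ∈ Pts Z CC, Commute g d) → g = 1 := by
    intro g hg
    by_contra hg1
    refine Cit.PieceEnd.not_le_centralizer hs hna hne hg1 ?_
    rw [closure_le]
    intro d hd
    exact mem_centralizer_singleton_iff.2 (hg d hd).symm
  obtain ⟨e⟩ := h.exists_equiv hcent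
  have hsimple : IsSimpleGroup (PSp 3 (ZMod 2)) := S0270.result 3 (by norm_num) (by norm_num)
  have hs2 : IsSimpleGroup ↥(closure (Pts Z CC)) := e.isSimpleGroup
  have heq := Cit.PieceEnd.eq_fstar_of_simple hs hna hs2
  refine ⟨ZMod 2, inferInstance, inferInstance, ZMod.card 2, ?_⟩
  rw [← heq]
  exact ⟨e⟩

end Fin

end Geo

end Cfsg.Agent.Cit.Nil.RTwo
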