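import Cfsg.Agent.Cit.Nil.RTwo.SGeo

/-!
# S1309, `r = 2`, `m = 1`, (S): one or all, 3-transpositions

* `Geo.one_or_all` (A3), `Geo.braid` (A2), `Geo.exists_cuv`;
* `Geo.noTwins`, `Geo.line_eq`, `Geo.hyperbolic`.
-/

set_option autoImplicit false
set_option linter.unusedSectionVars false

namespace Cfsg.Agent.Cit.Nil.RTwo

open Subgroup Cfsg

variable {G : Type*} [Group G]

/-! ### Dihedral groups -/

section Dihedral

variable {x z : G} (hx : x * x = 1) (hz : z * z = 1)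
include hx hz

theorem dih_x (k : ℕ) : (x * z) ^ k * x * ((x * z) ^ k)⁻¹ = (x * z) ^ (2 * k) * x := by
  have hxi : x⁻¹ = x := inv_eq_of_mul_eq_one_right hx
  have hzi : z⁻¹ = z := inv_eq_of_mul_eq_one_right hz
  have h1 : SemiconjBy x (x * z)⁻¹ (x * z) := by
    show x * (x * z)⁻¹ = x * z * x
    rw [mul_inv_rev, hxi, hzi, mul_assoc]
  have h2 : x * ((x * z)⁻¹) ^ k = (x * z) ^ k * x := (h1.pow_right k).eq
  rw [← inv_pow, mul_assoc, h2, ← mul_assoc, ← pow_add, two_mul]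

theorem dih_z (k : ℕ) : (x * z) ^ k * z * ((x * z) ^ k)⁻¹ = (x * z) ^ (2 * k) * z := by
  have hxi : x⁻¹ = x := inv_eq_of_mul_eq_one_right hx
  have hzi : z⁻¹ = z := inv_eq_of_mul_eq_one_right hz
  have h1 : SemiconjBy z (x * z)⁻¹ (x * z) := by
    show z * (x * z)⁻¹ = x * z * z
    rw [mul_inv_rev, hxi, hzi, ← mul_assoc, hz, one_mul, mul_assoc, hz, mul_one]
  have h2 : z * ((x * z)⁻¹) ^ k = (x * z) ^ k * z := (h1.pow_right k).eq
  rw [← inv_pow, mul_assoc, h2, ← mul_assoc, ← pow_add, two_mul]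

/-- `(xz)^(2k+1) x` is conjugate to `z` -/
theorem dih_x' (k : ℕ) : (x * z) ^ (2 * k + 1) * x = ((x * z) ^ k * x) * z * ((x * z) ^ k * x)⁻¹ := by
  have hxi : x⁻¹ = x := inv_eq_of_mul_eq_one_right hx
  have h1 := dih_x hx hz k
  have h2 : (x * z) ^ (2 * k + 1) * x = (x * z) * ((x * z) ^ (2 * k) * x) := by
    rw [pow_succ']; group
  rw [h2, ← h1, mul_inv_rev, hxi]
  have h3 : x * z * (x * z) ^ k = (x * z) ^ k * (x * z) := by rw [← pow_succ', ← pow_succ]
  calc x * z * ((x * z) ^ k * x * ((x * z) ^ k)⁻¹) = (x * z * (x * z) ^ k) * x * ((x * z) ^ k)⁻¹ := by group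
    _ = (x * z) ^ k * x * z * (x * ((x * z) ^ k)⁻¹) := by rw [h3]; group

/-- `(xz)^(2k+1) z` is conjugate to `x` -/
theorem dih_z' (k : ℕ) : (x * z) ^ (2 * k + 1) * z = (x * z) ^ k * x * ((x * z) ^ k)⁻¹ := by
  rw [dih_x hx hz k, pow_succ, mul_assoc, mul_assoc x z z, hz, mul_one]

theorem dih_comm {n : ℕ} (h2 : (x * z) ^ n * (x * z) ^ n = 1) :
    Commute x ((x * z) ^ n) ∧ Commute z ((x * z) ^ n) := by
  have hxi : x⁻¹ = x := inv_eq_of_mul_eq_one_right hx
  have hzi : z⁻¹ = z := inv_eq_of_mul_eq_one_right hz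
  have hj : ((x * z) ^ n)⁻¹ = (x * z) ^ n := inv_eq_of_mul_eq_one_right h2
  constructor
  · have h1 : SemiconjBy x (x * z)⁻¹ (x * z) := by
      show x * (x * z)⁻¹ = x * z * x
      rw [mul_inv_rev, hxi, hzi, mul_assoc]
    have h3 : x * ((x * z)⁻¹) ^ n = (x * z) ^ n * x := (h1.pow_right n).eq
    rw [inv_pow, hj] at h3
    exact h3
  · have h1 : SemiconjBy z (x * z)⁻¹ (x * z) := by
      show z * (x * z)⁻¹ = x * z * z
      rw [mul_inv_rev, hxi, hzi, ← mul_assoc, hz, one_mul, mul_assoc, hz, mul_one]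
    have h3 : z * ((x * z)⁻¹) ^ n = (x * z) ^ n * z := (h1.pow_right n).eq
    rw [inv_pow, hj] at h3
    exact h3

end Dihedral

namespace Geo

variable {Z : Set G} {CC : G → Set G}

theorem pts_conj (h : Geo Z CC) (g : G) {a : G} (ha : a ∈ Pts Z CC) : g * a * g⁻¹ ∈ Pts Z CC := by
  obtain ⟨z, hz, ha⟩ := ha
  exact ⟨_, h.conjZ g z hz, h.conjC g z hz a ha⟩

theorem pts_sq (h : Geo Z CC) {a : G} (ha : a ∈ Pts Z CC) : a * a = 1 := by
  obtain ⟨z, hz, ha⟩ := ha
  exact h.sqC z hz a ha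

theorem pts_ne (h : Geo Z CC) {a : G} (ha : a ∈ Pts Z CC) : a ≠ 1 := by
  obtain ⟨z, hz, ha⟩ := ha
  exact h.neC z hz a ha

theorem pts_inv (h : Geo Z CC) {a : G} (ha : a ∈ Pts Z CC) : a⁻¹ = a := inv_eq_of_mul_eq_one_right (h.pts_sq ha)

theorem pts_not (h : Geo Z CC) {a : G} (ha : a ∈ Pts Z CC) : a ∉ Z := by
  obtain ⟨z, hz, ha⟩ := ha
  exact h.disj z hz a ha

section Fin

variable [Finite G]

/-- **(A3)**: a point commutes with a point of every line -/
theorem one_or_all (h : Geo Z CC) {x z : G} (hx : x ∈ Pts Z CC) (hz : z ∈ Z) : ∃ a ∈ CC z, Commute x a := by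
  have hx2 := h.pts_sq hx
  have hz2 := h.sqZ z hz
  by_cases hxz : Commute x z
  · have hP : IsPGroup 2 (zpowers x) := by
      intro y
      refine ⟨1, Subtype.ext ?_⟩
      obtain ⟨k, hk⟩ := mem_zpowers_iff.1 y.2
      rw [pow_one, pow_two]
      show (y : G) * y = 1
      rw [← hk, ← (Commute.refl x).mul_zpow, hx2, one_zpow]
    obtain ⟨a, ha, h1⟩ := exists_fixed_odd hP (X := CC z) (fun p hp a ha => by
      obtain ⟨k, hk⟩ := mem_zpowers_iff.1 hp
      have h2 : Commute p z := by rw [← hk]; exact hxz.zpow_left k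
      have h3 := h.conjC p z hz a ha
      rwa [conj_eq_iff'.2 h2] at h3) (by
      obtain ⟨a, b, c, h1, h2, h3, h4, h5⟩ := h.three z hz
      rw [h4, Set.ncard_eq_three.2 ⟨a, b, c, h1, h2, h3, rfl⟩]
      decide)
    exact ⟨a, ha, h1 x (mem_zpowers x)⟩
  set r := x * z with hr
  rcases Nat.even_or_odd (orderOf r) with ⟨n, hn⟩ | ⟨n, hn⟩
  · -- even order
    have hpos : 0 < orderOf r := orderOf_pos r
    have hj2 : r ^ n * r ^ n = 1 := by rw [← pow_add, ← hn]; exact pow_orderOf_eq_one r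
    have hj1 : r ^ n ≠ 1 := by
      intro h1
      have := orderOf_dvd_of_pow_eq_one h1
      have := Nat.le_of_dvd (by omega) this
      omega
    obtain ⟨cx, cz⟩ := dih_comm hx2 hz2 hj2
    rw [← hr] at cx cz
    rcases Nat.even_or_odd' n with ⟨k, hk | hk⟩
    · -- `n` even
      have hx1 : r ^ n * x ∈ Pts Z CC := by
        rw [hk, ← dih_x hx2 hz2 k]
        exact h.pts_conj _ hx
      have hz1 : r ^ n * z ∈ Z := by
        rw [hk, ← dih_z hx2 hz2 k]
        exact h.conjZ _ z hz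
      generalize r ^ n = j at *
      have e1 : x * (j * x) = j := by rw [← mul_assoc, cx.eq, mul_assoc, hx2, mul_one]
      have e2 : z * (j * z) = j := by rw [← mul_assoc, cz.eq, mul_assoc, hz2, mul_one]
      have n1 : x ≠ j * x := fun h1 => hj1 (mul_right_cancel (h1.symm.trans (one_mul x).symm))
      have n2 : z ≠ j * z := fun h1 => hj1 (mul_right_cancel (h1.symm.trans (one_mul z).symm))
      have c1 : Commute x (j * x) := cx.mul_right (Commute.refl x)
      have c2 : Commute z (j * z) := cz.mul_right (Commute.refl z)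
      obtain ⟨y, hy, h1, h2⟩ := h.line hx hx1 n1 c1
      obtain ⟨x2, hx2m, -, -, -, h3⟩ := h.third hy h1 h2 n1
      have h4 := h.mul_third hy h1 h2 hx2m h3
      rw [e1] at h4
      obtain ⟨c, hcz, hcz1, -, h6⟩ := h.dich z hz (j * z) hz1 n2 c2
      rw [e2] at h6
      rcases h6 with ⟨h6, -⟩ | ⟨-, h6, h7, -⟩
      · exact absurd (h4 ▸ h6) (h.tt y hy x2 hx2m)
      · have h8 : j = j * c * c := by rw [mul_assoc, h.sqC z hz c hcz, mul_one]
        obtain ⟨-, h9⟩ := h.tt_unique hy h6 hx2m h7 (h4.symm.trans h8)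
        exact ⟨c, hcz, h9 ▸ h.commC y hy x h1 x2 hx2m⟩
    · -- `n` odd
      have hb : r ^ n * z ∈ Pts Z CC := by
        rw [hk, dih_z' hx2 hz2 k]
        exact h.pts_conj _ hx
      generalize r ^ n = j at *
      have e2 : z * (j * z) = j := by rw [← mul_assoc, cz.eq, mul_assoc, hz2, mul_one]
      have c2 : Commute z (j * z) := cz.mul_right (Commute.refl z)
      have c3 : Commute x (z * (j * z)) := by rw [e2]; exact cx
      by_cases hbz : j * z ∈ CC z
      · exact ⟨j * z, hbz, h.tt_central' hz hbz c3⟩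
      · have h1 := h.zb_central hz hb hbz c2 c3
        have h2 : z = j⁻¹ * (j * z) := by group
        exfalso
        apply hxz
        rw [h2]
        exact cx.inv_right.mul_right h1
  · -- odd order
    exfalso
    have h1 := dih_x hx2 hz2 n
    rw [← hr] at h1
    have h2 : r ^ (2 * n) * x = z := by
      have h3 : r ^ (2 * n) = r⁻¹ := by
        rw [eq_inv_iff_mul_eq_one, ← pow_succ, ← hn]
        exact pow_orderOf_eq_one r
      rw [h3, hr, mul_inv_rev, h.zinv hz, h.pts_inv hx, mul_assoc, hx2, mul_one]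
    have h3 := h.pts_conj (r ^ n) hx
    rw [h1, h2] at h3
    exact h.pts_not h3 hz

/-- a point of a skew line moves the line to the third one -/
theorem skew_conj (h : Geo Z CC) {u v c a : G} (hu : u ∈ Z) (hv : v ∈ Z) (huv : u ≠ v)
    (huvZ : u * v ∉ Z) (hcu : c ∈ CC u) (hcv : c ∈ CC v) (ha : a ∈ CC u) (hac : a ≠ c) :
    a * v * a = u * v * c ∧ u * v * c ∈ Z ∧ c ∈ CC (u * v * c) ∧ ¬ Commute v a := by
  have cuv := h.abel u hu v hv c hcu hcv
  obtain ⟨c0, h1, h2, h3, h4⟩ := h.dich u hu v hv huv cuv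
  obtain rfl := h3 c hcu hcv
  rcases h4 with ⟨h4, -⟩ | ⟨-, h4, h5, h6⟩
  · exact absurd h4 huvZ
  refine ⟨?_, h4, h5, h6 a ha hac⟩
  have hcv2 := h.comm_zc hv hcv
  have hm : v * a * v⁻¹ ∈ CC u := by
    have := h.conjC v u hu a ha
    rwa [conj_eq_iff'.2 cuv.symm] at this
  have hne1 : v * a * v⁻¹ ≠ a := fun h7 => h6 a ha hac (conj_eq_iff'.1 h7)
  have hne2 : v * a * v⁻¹ ≠ c := by
    intro h7
    apply hac
    have h8 : a = v⁻¹ * c * v := by rw [← h7]; group
    rw [h8, mul_assoc, hcv2.eq, inv_mul_cancel_left]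
  obtain ⟨d, hd, -, -, h7, h8⟩ := h.third hu hcu ha (Ne.symm hac)
  have hvi := h.zinv hv
  have ha2 := h.sqC u hu a ha
  have hc2 := h.sqC u hu c hcu
  have cac := h.commC u hu a ha c hcu
  have hvd : v * a * v = d := by
    rcases h7 _ hm with h9 | h9 | h9
    · exact absurd h9 hne2
    · exact absurd h9 hne1
    · rwa [hvi] at h9
  -- `d = a c u`
  have hd' : d = a * c * u := by
    rw [h8]
    calc d = (a * (c * c) * a) * d := by rw [hc2, mul_one, ha2, one_mul]
      _ = _ := by group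
  rw [hd'] at hvd
  have h9 : v * a = a * c * u * v := by
    rw [← hvd, mul_assoc (v * a) v v, h.sqZ v hv, mul_one]
  calc a * v * a = a * (v * a) := by group
    _ = (a * a) * c * (u * v) := by rw [h9]; group
    _ = c * (u * v) := by rw [ha2, one_mul]
    _ = u * v * c := ((h.comm_zc hu hcu).mul_right hcv2).eq

theorem skew_braid (h : Geo Z CC) {u v c a b : G} (hu : u ∈ Z) (hv : v ∈ Z) (huv : u ≠ v)
    (huvZ : u * v ∉ Z) (hcu : c ∈ CC u) (hcv : c ∈ CC v) (ha : a ∈ CC u) (hac : a ≠ c) (hb : b ∈ CC v)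
    (hbc : b ≠ c) : a * b * a = b * a * b := by
  have cuv := h.abel u hu v hv c hcu hcv
  obtain ⟨e1, hw, hcw, -⟩ := h.skew_conj hu hv huv huvZ hcu hcv ha hac
  obtain ⟨e2, -, -, -⟩ := h.skew_conj hv hu (Ne.symm huv) (by rw [cuv.symm.eq]; exact huvZ) hcv hcu hb hbc
  rw [cuv.symm.eq] at e2
  have hai := h.cinv hu ha
  have hbi := h.cinv hv hb
  have ha2 := h.sqC u hu a ha
  have hb2 := h.sqC v hv b hb
  have cac := h.commC u hu a ha c hcu
  have cbc := h.commC v hv b hb c hcv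
  have m1 : a * b * a ∈ CC (u * v * c) := by
    have := h.conjC a v hv b hb
    rwa [hai, e1] at this
  have m2 : b * a * b ∈ CC (u * v * c) := by
    have := h.conjC b u hu a ha
    rwa [hbi, e2] at this
  have n1 : a * b * a ≠ c := by
    intro h1
    apply hbc
    calc b = a * (a * b * a) * a := by
          rw [show a * (a * b * a) * a = (a * a) * b * (a * a) by group, ha2, one_mul, mul_one]
      _ = c := by rw [h1, cac.eq, mul_assoc, ha2, mul_one]
  have n2 : b * a * b ≠ c := by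
    intro h1
    apply hac
    calc a = b * (b * a * b) * b := by
          rw [show b * (b * a * b) * b = (b * b) * a * (b * b) by group, hb2, one_mul, mul_one]
      _ = c := by rw [h1, cbc.eq, mul_assoc, hb2, mul_one]
  by_contra hne
  -- `(ab)^3 = uv`
  obtain ⟨x, hx, -, -, h3, h4⟩ := h.third hw m1 m2 hne
  have hxc : x = c := by
    rcases h3 c hcw with h5 | h5 | h5
    · exact absurd h5.symm n1
    · exact absurd h5.symm n2
    · exact h5.symm
  subst hxc
  have h5 := h.mul_third hw m1 m2 hx h4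
  have hc2 := h.sqC u hu x hcu
  rw [mul_assoc (u * v) x x, hc2, mul_one] at h5
  -- the involution `t = uv`
  have ht2 : (a * b) ^ 3 * (a * b) ^ 3 = 1 := by
    have h6 : (a * b) ^ 3 = u * v := by rw [← h5, pow_three]; simp only [mul_assoc]
    rw [h6]
    calc u * v * (u * v) = u * (v * u) * v := by group
      _ = (u * u) * (v * v) := by rw [← cuv.eq]; group
      _ = 1 := by rw [h.sqZ u hu, h.sqZ v hv, mul_one]
  obtain ⟨c1, -⟩ := dih_comm ha2 hb2 ht2
  have h6 : (a * b) ^ 3 = u * v := by rw [← h5, pow_three]; simp only [mul_assoc]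
  have h7 : (a * b) ^ 3 * a = (a * b * a) * b * (a * b * a)⁻¹ := by
    have := dih_x' ha2 hb2 1
    rw [pow_one] at this
    exact this
  rw [h6] at h7 c1
  have hpt : u * v * a ∈ Pts Z CC := by
    rw [h7]
    exact h.pts_conj _ ⟨v, hv, hb⟩
  have huv1 : u * v ≠ 1 := by
    intro h8
    apply huv
    rw [mul_eq_one_iff_eq_inv.1 h8, h.zinv hv]
  have hne2 : a ≠ u * v * a := fun h8 => huv1 (mul_right_cancel (h8.symm.trans (one_mul a).symm))
  obtain ⟨y, hy, h8, h9⟩ := h.line ⟨u, hu, ha⟩ hpt hne2 (c1.mul_right (Commute.refl a))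
  obtain ⟨x0, hx0, -, -, -, h10⟩ := h.third hy h8 h9 hne2
  have h11 := h.mul_third hy h8 h9 hx0 h10
  have h12 : a * (u * v * a) = u * v := by
    calc a * (u * v * a) = a * (u * v) * a := by group
      _ = u * v * (a * a) := by rw [c1.eq]; group
      _ = u * v := by rw [ha2, mul_one]
  rw [h12] at h11
  have h13 : y * x0 = u * v * x * x := by rw [← h11, mul_assoc (u * v), hc2, mul_one]
  obtain ⟨h14, -⟩ := h.tt_unique hy hw hx0 hcw h13
  -- so `a` is on the line `uvc`, which is moved by `a`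
  have h15 : Commute a (u * v * x) := by
    rw [← h14]
    exact h.comm_zc hy h8
  have h16 : a * (u * v * x) * a = v := by
    have hau := h.comm_zc hu ha
    calc a * (u * v * x) * a = (a * u) * v * (x * a) := by group
      _ = (u * a) * v * (a * x) := by rw [hau.eq, cac.symm.eq]
      _ = u * (a * v * a) * x := by group
      _ = u * (u * v * x) * x := by rw [e1]
      _ = (u * u) * v * (x * x) := by group
      _ = v := by rw [h.sqZ u hu, hc2, one_mul, mul_one]
  have h17 : u * v * x = v := by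
    rw [h15.eq, mul_assoc, ha2, mul_one] at h16
    exact h16
  apply h.disj u hu x hcu
  have h18 : u * x = 1 := by
    have h19 : u * x * v = v := by
      rw [mul_assoc, (h.comm_zc hv hcv).eq, ← mul_assoc]
      exact h17
    have : u * x * v = 1 * v := by rw [h19, one_mul]
    exact mul_right_cancel this
  have h20 : x * u = 1 := by rw [(h.comm_zc hu hcu).eq, h18]
  have h19 : x = u := by rw [mul_eq_one_iff_eq_inv.1 h20, h.zinv hu]
  rw [h19]
  exact hu

/-- two points which do not commute: a common neighbour -/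
theorem exists_cuv (h : Geo Z CC) {a b u : G} (hb : b ∈ Pts Z CC) (hab : ¬ Commute a b) (hu : u ∈ Z) (ha : a ∈ CC u) :
    ∃ c v, v ∈ Z ∧ c ∈ CC u ∧ c ∈ CC v ∧ b ∈ CC v ∧ c ≠ a ∧ c ≠ b ∧ u ≠ v ∧ u * v ∉ Z ∧ Commute b c := by
  obtain ⟨c, hc, hbc⟩ := h.one_or_all hb hu
  have hca : c ≠ a := by
    rintro rfl
    exact hab hbc.symm
  have hcb : c ≠ b := by
    rintro rfl
    exact hab (h.commC u hu a ha c hc)
  obtain ⟨v, hv, hcv, hbv⟩ := h.line ⟨u, hu, hc⟩ hb hcb hbc.symm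
  have huv : u ≠ v := by
    rintro rfl
    exact hab (h.commC u hu a ha b hbv)
  refine ⟨c, v, hv, hc, hcv, hbv, hca, hcb, huv, ?_, hbc⟩
  intro h1
  obtain ⟨c0, h2, h3, h4, h5⟩ := h.dich u hu v hv huv (h.abel u hu v hv c hc hcv)
  rcases h5 with ⟨-, h5⟩ | ⟨h5, -⟩
  · exact hab (h5 a ha b hbv)
  · exact h5 h1

/-- **(A2)** -/
theorem braid (h : Geo Z CC) {a b : G} (ha : a ∈ Pts Z CC) (hb : b ∈ Pts Z CC) (hab : ¬ Commute a b) :
    a * b * a = b * a * b := by
  obtain ⟨u, hu, hau⟩ := ha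
  obtain ⟨c, v, hv, hcu, hcv, hbv, hca, hcb, huv, huvZ, -⟩ := h.exists_cuv hb hab hu hau
  exact h.skew_braid hu hv huv huvZ hcu hcv hau (Ne.symm hca) hbv (Ne.symm hcb)

/-- conjugate by an element of the group generated by the points -/
theorem exists_conj_of_not_comm (h : Geo Z CC) {a b : G} (ha : a ∈ Pts Z CC) (hb : b ∈ Pts Z CC) (hab : ¬ Commute a b) :
    ∃ g ∈ closure (Pts Z CC), g * a * g⁻¹ = b := by
  refine ⟨a * b, mul_mem (subset_closure ha) (subset_closure hb), ?_⟩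
  have h1 := h.braid ha hb hab
  rw [mul_inv_rev, h.pts_inv ha, h.pts_inv hb]
  calc a * b * a * (b * a) = a * (b * a * b) * a := by group
    _ = (a * a) * b * (a * a) := by rw [← h1]; group
    _ = b := by rw [h.pts_sq ha, one_mul, mul_one]

theorem single (h : Geo Z CC) (hcent : ∀ a ∈ Pts Z CC, ∃ d ∈ Pts Z CC, ¬ Commute a d) {a b : G}
    (ha : a ∈ Pts Z CC) (hb : b ∈ Pts Z CC) : ∃ g ∈ closure (Pts Z CC), g * a * g⁻¹ = b := by
  have trans : ∀ {a b c : G}, (∃ g ∈ closure (Pts Z CC), g * a * g⁻¹ = b) →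
      (∃ g ∈ closure (Pts Z CC), g * b * g⁻¹ = c) → ∃ g ∈ closure (Pts Z CC), g * a * g⁻¹ = c := by
    rintro a b c ⟨g, hg, rfl⟩ ⟨k, hk, rfl⟩
    exact ⟨k * g, mul_mem hk hg, by group⟩
  obtain ⟨d, hd, had⟩ := hcent a ha
  obtain ⟨e, he, hbe⟩ := hcent b hb
  by_cases hdb : Commute d b
  swap
  · exact trans (h.exists_conj_of_not_comm ha hd had) (h.exists_conj_of_not_comm hd hb hdb)
  by_cases hea : Commute e a
  swap
  · exact trans (h.exists_conj_of_not_comm ha he (fun h1 => hea h1.symm))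
      (h.exists_conj_of_not_comm he hb (fun h1 => hbe h1.symm))
  by_cases hde : Commute d e
  swap
  · exact trans (h.exists_conj_of_not_comm ha hd had)
      (trans (h.exists_conj_of_not_comm hd he hde) (h.exists_conj_of_not_comm he hb (fun h1 => hbe h1.symm)))
  have hne : d ≠ e := by
    rintro rfl
    exact hbe hdb.symm
  obtain ⟨y, hy, hdy, hey⟩ := h.line hd he hne hde
  obtain ⟨f, hf, hfd, hfe, -, -⟩ := h.third hy hdy hey hne
  have h1 : ¬ Commute a f := fun h2 => had (h.comm_all hy hey hf (Ne.symm hfe) hea.symm h2 hdy)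
  have h2 : ¬ Commute f b := fun h3 => hbe (h.comm_all hy hdy hf (Ne.symm hfd) hdb.symm h3.symm hey)
  exact trans (h.exists_conj_of_not_comm ha ⟨y, hy, hf⟩ h1) (h.exists_conj_of_not_comm ⟨y, hy, hf⟩ hb h2)

/-- no twins -/
theorem noTwins (h : Geo Z CC) (hcent : ∀ a ∈ Pts Z CC, ∃ d ∈ Pts Z CC, ¬ Commute a d) {x y : G}
    (hx : x ∈ Pts Z CC) (hy : y ∈ Pts Z CC) (hxy : ∀ d ∈ Pts Z CC, (Commute d x ↔ Commute d y)) : x = y := by
  by_contra hne
  have hc : Commute x y := (hxy x hx).1 (Commute.refl x)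
  obtain ⟨z, hz, hxz, hyz⟩ := h.line hx hy hne hc
  obtain ⟨c, hcz, hcx, hcy, h1, -⟩ := h.third hz hxz hyz hne
  obtain ⟨d, hd, hcd⟩ := hcent c ⟨z, hz, hcz⟩
  obtain ⟨e, he, hde⟩ := h.one_or_all hd hz
  rcases h1 e he with rfl | rfl | rfl
  · exact hcd (h.comm_all hz he hyz hne hde ((hxy d hd).1 hde) hcz).symm
  · exact hcd (h.comm_all hz hxz he hne ((hxy d hd).2 hde) hde hcz).symm
  · exact hcd hde.symm

/-- a point commuting with everything commuting with `x` and `y` is on the line -/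
theorem line_eq (h : Geo Z CC) {x y z w : G} (hz : z ∈ Z) (hx : x ∈ CC z) (hy : y ∈ CC z) (hxy : x ≠ y)
    (hw : w ∈ Pts Z CC) (hall : ∀ d ∈ Pts Z CC, Commute d x → Commute d y → Commute d w) : w ∈ CC z := by
  by_contra hwz
  have hc := h.commC z hz x hx y hy
  have cxw := hall x ⟨z, hz, hx⟩ (Commute.refl x) hc
  have cyw := hall y ⟨z, hz, hy⟩ hc.symm (Commute.refl y)
  have hxw : x ≠ w := by
    rintro rfl
    exact hwz hx
  obtain ⟨t, ht, hxt, hwt⟩ := h.line ⟨z, hz, hx⟩ hw hxw cxw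
  have hzt : z ≠ t := by
    rintro rfl
    exact hwz hwt
  have czt := h.abel z hz t ht x hx hxt
  obtain ⟨c, -, -, h1, h2⟩ := h.dich z hz t ht hzt czt
  obtain rfl := h1 x hx hxt
  rcases h2 with ⟨h2, -⟩ | ⟨-, -, -, h2⟩
  swap
  · exact h2 y hy (Ne.symm hxy) (h.comm_line ht hxt hwt hxw hc.symm cyw).symm
  obtain ⟨s, hs, hxs, hsz, hst, h3, h4⟩ := h.loc x z hz t ht hx hxt hzt h2
  obtain ⟨d, hd, hdx⟩ := h.exists_other (a := x) hs
  -- `d` commutes with the points of `z`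
  obtain ⟨c1, -, -, -, h5⟩ := h.dich z hz s hs (Ne.symm hsz) (h.abel z hz s hs x hx hxs)
  have h6 : ∀ e ∈ CC z, Commute d e := by
    rcases h5 with ⟨-, h5⟩ | ⟨h5, -⟩
    · exact fun e he => (h5 e he d hd).symm
    · exact absurd h3 h5
  have h7 : Commute d w := hall d ⟨s, hs, hd⟩ (h6 x hx) (h6 y hy)
  have h8 : Commute d t := h.comm_line ht hxt hwt hxw (h6 x hx) h7
  have cst := h.abel s hs t ht x hxs hxt
  obtain ⟨-, -, -, h9⟩ := h.skew_conj hs ht hst (by rw [cst.eq]; exact h4) hxs hxt hd hdx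
  exact h9 h8.symm

/-- a skew line on a given point -/
theorem exists_skew (h : Geo Z CC) {u x : G} (hu : u ∈ Z) (hx : x ∈ CC u) :
    ∃ t ∈ Z, x ∈ CC t ∧ u ≠ t ∧ u * t ∉ Z := by
  have h1 : 1 < {t | t ∈ Z ∧ x ∈ CC t}.ncard := by rw [h.card u hu x hx]; decide
  obtain ⟨t, ⟨ht, hxt⟩, hne⟩ := Set.exists_ne_of_one_lt_ncard h1 u
  by_cases h2 : u * t ∈ Z
  swap
  · exact ⟨t, ht, hxt, Ne.symm hne, h2⟩
  have cut := h.abel u hu t ht x hx hxt
  obtain ⟨s, hs, hxs, -, hsu, -, h4⟩ := h.loc x t ht u hu hxt hx hne (by rw [cut.symm.eq]; exact h2)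
  exact ⟨s, hs, hxs, Ne.symm hsu, h4⟩

/-- for a pair of non-commuting points no line on one of them has two points in the double perp -/
theorem exists_breaker (h : Geo Z CC) {x y u c : G} (hy : y ∈ Pts Z CC) (hxy : ¬ Commute x y) (hu : u ∈ Z)
    (hx : x ∈ CC u) (hc : c ∈ CC u) (hcx : c ≠ x) :
    ∃ d ∈ Pts Z CC, Commute d x ∧ Commute d y ∧ ¬ Commute d c := by
  obtain ⟨t, ht, hxt, hut, hutZ⟩ := h.exists_skew hu hx
  obtain ⟨d, hd, hyd⟩ := h.one_or_all hy ht
  have hdx : d ≠ x := by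
    rintro rfl
    exact hxy hyd.symm
  refine ⟨d, ⟨t, ht, hd⟩, h.commC t ht d hd x hxt, hyd.symm, ?_⟩
  intro hdc
  have h1 : Commute d u := h.comm_line hu hx hc (Ne.symm hcx) (h.commC t ht d hd x hxt) hdc
  have cut := h.abel u hu t ht x hx hxt
  obtain ⟨-, -, -, h2⟩ := h.skew_conj ht hu (Ne.symm hut) (by rw [cut.symm.eq]; exact hutZ) hxt hx hd hdx
  exact h2 h1.symm

/-- hyperbolic lines -/
theorem hyperbolic (h : Geo Z CC) {x y z : G} (hx : x ∈ Pts Z CC) (hy : y ∈ Pts Z CC) (hxy : ¬ Commute x y)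
    (hz : z ∈ Pts Z CC) (hall : ∀ d ∈ Pts Z CC, Commute d x → Commute d y → Commute d z) :
    z = x ∨ z = y ∨ z = x * y * x := by
  obtain ⟨u, hu, hxu⟩ := hx
  obtain ⟨c, v, hv, hcu, hcv, hyv, hcx, hcy, huv, huvZ, cyc⟩ := h.exists_cuv hy hxy hu hxu
  have cxc := h.commC u hu x hxu c hcu
  obtain ⟨d, hd, cdx, cdy, hdc⟩ := h.exists_breaker hy hxy hu hxu hcu hcx
  have czc : Commute c z := hall c ⟨u, hu, hcu⟩ cxc.symm cyc.symm
  have hzc : z ≠ c := by
    rintro rfl
    exact hdc (hall d hd cdx cdy)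
  obtain ⟨w, hw, hcw, hzw⟩ := h.line ⟨u, hu, hcu⟩ hz (Ne.symm hzc) czc
  obtain ⟨e1, hw', hcw', -⟩ := h.skew_conj hu hv huv huvZ hcu hcv hxu (Ne.symm hcx)
  have hw3 : w = u ∨ w = v ∨ w = u * v * c := by
    refine h.l3 c u hu v hv w hw hcu hcv hcw huv huvZ ?_
    intro n hn hcn hun hvn
    by_cases hwn : w = n
    · exact Or.inl hwn
    right
    by_contra hwnZ
    obtain ⟨e, he, hec⟩ := h.exists_other (a := c) hn
    have hne1 : u ≠ n := by
      rintro rfl
      rw [h.sqZ u hu] at hun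
      exact h.neZ 1 hun rfl
    have hne2 : v ≠ n := by
      rintro rfl
      rw [h.sqZ v hv] at hvn
      exact h.neZ 1 hvn rfl
    obtain ⟨_, -, -, -, h5⟩ := h.dich u hu n hn hne1 (h.abel u hu n hn c hcu hcn)
    obtain ⟨_, -, -, -, h6⟩ := h.dich v hv n hn hne2 (h.abel v hv n hn c hcv hcn)
    have cex : Commute e x := by
      rcases h5 with ⟨-, h5⟩ | ⟨h5, -⟩
      · exact (h5 x hxu e he).symm
      · exact absurd hun h5
    have cey : Commute e y := by
      rcases h6 with ⟨-, h6⟩ | ⟨h6, -⟩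
      · exact (h6 y hyv e he).symm
      · exact absurd hvn h6
    have cez : Commute e z := hall e ⟨n, hn, he⟩ cex cey
    have h7 : Commute z n := h.comm_line hn he hcn hec cez.symm czc.symm
    obtain ⟨-, -, -, h8⟩ := h.skew_conj hw hn hwn hwnZ hcw hcn hzw hzc
    exact h8 h7.symm
  -- if two points `z`, `z'` of a line on `c` are in the double perp, so is `c`
  have key : ∀ z', z' ∈ CC w → z' ≠ c → z' ≠ z → Commute d z' → False := by
    intro z' h1 h2 h3 h4
    exact hdc (h.comm_all hw hzw h1 (Ne.symm h3) (hall d hd cdx cdy) h4 hcw)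
  rcases hw3 with rfl | rfl | rfl
  · left
    by_contra hne
    exact key x hxu (Ne.symm hcx) (Ne.symm hne) cdx
  · right; left
    by_contra hne
    exact key y hyv (Ne.symm hcy) (Ne.symm hne) cdy
  · right; right
    by_contra hne
    have hxi := h.cinv hu hxu
    have m1 : x * y * x ∈ CC (u * v * c) := by
      have := h.conjC x v hv y hyv
      rwa [hxi, e1] at this
    refine key _ m1 ?_ (Ne.symm hne) ((cdx.mul_right cdy).mul_right cdx)
    intro h1
    apply hcy
    have hx2 := h.sqC u hu x hxu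
    calc c = x * c * x := by rw [cxc.eq, mul_assoc, hx2, mul_one]
      _ = x * (x * y * x) * x := by rw [h1]
      _ = (x * x) * y * (x * x) := by group
      _ = y := by rw [hx2, one_mul, mul_one]

end Fin

end Geo

end Cfsg.Agent.Cit.Nil.RTwo
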