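import Cfsg.Agent.Cit.Nil.RTwo.SWorld
import Cfsg.Agent.Cit.Nil.RTwo.UJoin
import Cfsg.Agent.Cit.Nil.RTwo.TPair
import Cfsg.Agent.Cit.Nil.RTwo.TLine

/-!
# Case (S) of S1309, `r = 2`, `m = 1`: `Z_c ∩ C(z)` (the file F2 of section 12)

`SW.ppAll (S : SW Om) (D : DchAll Om) : PPAll Om`: the members of `Z_c ∩ C(z)` commute, there are 15 of them,
hyperbolic lines.
-/

set_option autoImplicit false
set_option linter.style.haveILetI false
set_option linter.unusedSectionVars false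
set_option maxHeartbeats 400000

namespace Cfsg.Agent.Cit.Nil.RTwo

open Subgroup Cfsg Cit

variable {G : Type*} [Group G]

section

variable [Finite G] {Om : Set (Subgroup G)} {K K1 K2 L M L1 L2 : Subgroup G} {z t u v g r s s' y w w' c c' : G}
  {a b x l : Fin 3 → G} {i j i' j' : Fin 3}

/-! ### General facts on p-neighbours with the same graph -/

namespace HP

theorem frameS (P : HP Om z t K x) (h : W2 Om) : Frame Om z K (cj t K) x (fun i => t * x i * t⁻¹) :=
  ⟨P.hK, P.hK' h, P.ne', P.q, P.q'⟩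

theorem mul_mem_CX (h : W2 Om) (P : HP Om z s K x) (hp' : PR Om z s') (hmm : ∀ m ∈ K, s' * m * s'⁻¹ = s * m * s⁻¹) :
    s * s' ∈ CX Om z := by
  have s2 : s * s = 1 := P.t2 h
  have s2' : s' * s' = 1 := hp'.t2 h
  rw [mem_CX]
  intro M hM k hkM
  rw [← mul_inv_eq_iff_eq_mul]
  rcases P.cases h hM with rfl | rfl
  · calc s * s' * k * (s * s')⁻¹ = s * (s' * k * s'⁻¹) * s⁻¹ := by group
      _ = s * (s * k * s⁻¹) * s⁻¹ := by rw [hmm k hkM]
      _ = k := P.tt h k
  · obtain ⟨m, hm, rfl⟩ : ∃ m ∈ K, s * m * s⁻¹ = k := by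
      obtain ⟨m, hm, rfl⟩ := hkM; exact ⟨m, hm, rfl⟩
    calc s * s' * (s * m * s⁻¹) * (s * s')⁻¹ = s * s' * (s' * m * s'⁻¹) * (s * s')⁻¹ := by rw [hmm m hm]
      _ = s * (s' * s') * m * (s * (s' * s'))⁻¹ := by group
      _ = _ := by rw [s2', mul_one]

/-- two p-neighbours of `z` with the same graph are congruent modulo `K X_z` -/
theorem exists_conj_of (h : W2 Om) (P : HP Om z s K x) (hp' : PR Om z s')
    (hact : ∀ i, s' * x i * s'⁻¹ = s * x i * s⁻¹ ∨ s' * x i * s'⁻¹ = z * (s * x i * s⁻¹)) :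
    s * s' ∈ CX Om z ∨ ∃ j, s * (x j * s' * (x j)⁻¹) ∈ CX Om z := by
  have hyz : s * s' * z = z * (s * s') := by
    rw [mul_assoc, ← hp'.comm, ← mul_assoc, ← P.pr.comm, mul_assoc]
  have hact1 : Act z x x (s * s') 1 := by
    intro i
    have e : s * s' * x i * (s * s')⁻¹ = s * (s' * x i * s'⁻¹) * s⁻¹ := by group
    rw [e]
    rcases hact i with h1 | h1
    · left; rw [h1]; exact P.tt h _
    · right
      rw [h1]
      calc s * (z * (s * x i * s⁻¹)) * s⁻¹ = (s * z) * (s * x i * s⁻¹) * s⁻¹ := by group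
        _ = z * (s * (s * x i * s⁻¹) * s⁻¹) := by rw [← P.pr.comm]; group
        _ = _ := by rw [P.tt h]; rfl
  have hcent : ∀ u : G, PR Om z u → (∀ k ∈ K, s * u * k * (s * u)⁻¹ = k) → s * u ∈ CX Om z := by
    intro u hu hk
    refine P.mul_mem_CX h hu ?_
    intro m hm
    have si : s⁻¹ = s := P.tinv h
    have h1 := hk m hm
    calc u * m * u⁻¹ = s⁻¹ * (s * u * m * (s * u)⁻¹) * s := by group
      _ = s⁻¹ * m * s := by rw [h1]
      _ = s * m * s⁻¹ := by rw [si]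
  rcases P.q.inner_cases (hact1.inner P.q hyz) with h1 | ⟨j, h1⟩
  · exact Or.inl (hcent _ hp' h1)
  · right
    refine ⟨j, hcent _ (hp'.conj_comm h (P.q.zc j).symm) ?_⟩
    intro k hk
    have e : s * (x j * s' * (x j)⁻¹) * k * (s * (x j * s' * (x j)⁻¹))⁻¹ =
        (s * x j * s⁻¹) * (s * s' * ((x j)⁻¹ * k * x j) * (s * s')⁻¹) * (s * x j * s⁻¹)⁻¹ := by group
    have hk' : (x j)⁻¹ * k * x j ∈ K := mul_mem (mul_mem (inv_mem (P.q.mem j)) hk) (P.q.mem j)
    rw [e, h1 _ hk']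
    have e2 : x j * ((x j)⁻¹ * k * x j) * (x j)⁻¹ = k := by group
    rw [e2, mul_inv_eq_iff_eq_mul]
    exact (P.hK.comm (P.hK' h) h P.ne' hk (P.q'.mem j)).symm

/-- `s'` commutes with the elements `x_i (s x_i s⁻¹)`: it acts on the axes as `s` does -/
theorem act_of_comm (h : W2 Om) (P : HP Om z s K x) (hp' : PR Om z s')
    (hc : s' * (x i * (s * x i * s⁻¹)) = x i * (s * x i * s⁻¹) * s') :
    s' * x i * s'⁻¹ = s * x i * s⁻¹ ∨ s' * x i * s'⁻¹ = z * (s * x i * s⁻¹) := by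
  have P' : HP Om z s' K x := ⟨hp', P.hK, P.q⟩
  have hKK : cj s' K = cj s K := by
    rcases P.cases h (P'.hK' h) with h4 | h4
    · exact absurd h4 (hp'.sw K P.hK)
    · exact h4
  have hA : s' * x i * s'⁻¹ ∈ cj s K := by
    have h2 : s' * x i * s'⁻¹ ∈ cj s' K := conj_mem_cj (P.q.mem i)
    rwa [hKK] at h2
  have hB : s' * (s * x i * s⁻¹) * s'⁻¹ ∈ K := by
    have h2 : s * x i * s⁻¹ ∈ cj s' K := by rw [hKK]; exact P.q'.mem i
    obtain ⟨m, hm, hm'⟩ := h2
    have hm2 : s' * m * s'⁻¹ = s * x i * s⁻¹ := hm'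
    rw [← hm2, P'.tt h]
    exact hm
  have hAB : s' * x i * s'⁻¹ * (s' * (s * x i * s⁻¹) * s'⁻¹) = x i * (s * x i * s⁻¹) := by
    calc s' * x i * s'⁻¹ * (s' * (s * x i * s⁻¹) * s'⁻¹) = s' * (x i * (s * x i * s⁻¹)) * s'⁻¹ := by group
      _ = _ := by rw [hc, mul_inv_cancel_right]
  have hBA : s' * (s * x i * s⁻¹) * s'⁻¹ * (s' * x i * s'⁻¹) = x i * (s * x i * s⁻¹) := by
    rw [← hAB]
    exact P.hK.comm (P.hK' h) h P.ne' hB hA
  have h3 : (x i)⁻¹ * (s' * (s * x i * s⁻¹) * s'⁻¹) = s * x i * s⁻¹ * (s' * x i * s'⁻¹)⁻¹ := by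
    rw [inv_mul_eq_iff_eq_mul]
    exact (eq_mul_inv_of_mul_eq hBA).trans (mul_assoc _ _ _)
  have h4 : s * x i * s⁻¹ * (s' * x i * s'⁻¹)⁻¹ = 1 ∨ s * x i * s⁻¹ * (s' * x i * s'⁻¹)⁻¹ = z := by
    refine P.hK.inf (P.hK' h) h P.ne' ?_ (mul_mem (P.q'.mem i) (inv_mem hA))
    rw [← h3]; exact mul_mem (inv_mem (P.q.mem i)) hB
  rcases h4 with h4 | h4
  · left; exact (mul_inv_eq_one.1 h4).symm
  · right
    rw [mul_inv_eq_iff_eq_mul] at h4
    rw [h4, P.q.zzx]

end HP

theorem Frame.comm_of (h : W2 Om) (F : Frame Om z K1 K2 a b) (hd : Dir z a b w i j) (hd' : Dir z a b w' i' j')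
    (hij : i = i' ↔ j = j') : w * w' = w' * w := by
  have key : (a i * b j) * (a i' * b j') = (a i' * b j') * (a i * b j) := by
    by_cases hi : i = i'
    · have hj := hij.1 hi
      subst hi; subst hj; rfl
    · have hj : j ≠ j' := fun e => hi (hij.2 e)
      have z2 := F.qa.z2
      calc (a i * b j) * (a i' * b j') = a i * (b j * a i') * b j' := by group
        _ = (a i * a i') * (b j * b j') := by rw [← F.ab h]; group
        _ = z * a i' * a i * (z * b j' * b j) := by rw [F.qa.anti hi, F.qb.anti hj]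
        _ = z * a i' * (a i * z) * (b j' * b j) := by group
        _ = (z * (a i' * z)) * a i * (b j' * b j) := by rw [← F.qa.zc]; group
        _ = (z * z) * a i' * (a i * b j') * b j := by rw [← F.qa.zc]; group
        _ = _ := by rw [z2, one_mul, F.ab h]; group
  have hz : ∀ k l, Commute z (a k * b l) := fun k l => (show Commute z (a k) from F.qa.zc k).mul_right (F.qb.zc l)
  have hzz : Commute z z := Commute.refl z
  have hk : Commute (a i * b j) (a i' * b j') := key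
  have e : Commute w w' := by
    rcases hd with rfl | rfl <;> rcases hd' with rfl | rfl
    · exact hk
    · exact ((hz i j).symm).mul_right hk
    · exact (hz i' j').mul_left hk
    · exact (hzz.mul_right (hz i' j')).mul_left (((hz i j).symm).mul_right hk)
  exact e.eq

end

section

variable [Finite G] {Om : Set (Subgroup G)} {K K1 K2 L M L1 L2 : Subgroup G} {z t u v g r s s' y w w' c c' n : G}
  {a b x l : Fin 3 → G} {i j i' j' : Fin 3}

theorem line_key : ∀ p v : Fin 3 × Fin 3, p.1 = p.2 → (p + v).1 = (p + v).2 → v.1 ≠ 0 →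
    ∀ q : Fin 3 × Fin 3, (q = p ∨ q = p + v ∨ q = p - v) ↔ q.1 = q.2 := by decide

theorem line_key' : ∀ p v q : Fin 3 × Fin 3, v.1 ≠ 0 → v.2 ≠ 0 → (q = p ∨ q = p + v ∨ q = p - v) →
    (p.1 = q.1 ↔ p.2 = q.2) := by decide

namespace SW

variable (S : SW Om)

include S

theorem hn : NoOne Om := S.ne

/-- the directions of one label -/
theorem line_of (F : Frame Om z K1 K2 a b) : ∃ v : Fin 3 × Fin 3, v.1 ≠ 0 ∧ v.2 ≠ 0 ∧
    ∀ c p, p ∈ DC Om z a b c → ∀ q, q ∈ DC Om z a b c ↔ q = p ∨ q = p + v ∨ q = p - v := by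
  obtain ⟨v, h1, h2, h3⟩ := S.line z K1 K2 a b F
  refine ⟨v, h1, h2, ?_⟩
  intro c p hp
  obtain ⟨c', hc'⟩ := h3 p
  have h4 : c' = c := S.uniq z K1 K2 a b F c' c p ((hc' p).2 (Or.inl rfl)) hp
  rw [← h4]; exact hc'

/-- `c Z ∩ Z_c` is empty -/
theorem mul_not_inZ (hc : c ∈ CC Om z) : ¬ InZ Om (z * c) := by
  intro h1
  have hz := CC.inZ hc
  have h2 := eq_of_CX' S.w hz h1 (mul_mem (z_mem_CX S.w) (CC.mem_CX hc))
  exact S.ne z c hc (mul_eq_left.1 h2)

variable (D : DchAll Om)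

include D

theorem dch (hz : c ∈ CC Om z) (ht : c ∈ CC Om t) (hne : z ≠ t) (hzt : z * t = t * z) : Dch Om z t c := by
  obtain ⟨c', h1⟩ := D z t (CC.inZ hz) (CC.inZ ht) hne hzt
  rw [h1.uq c hz ht]; exact h1

theorem lab_of (hz : c ∈ CC Om z) (ht : c ∈ CC Om t) (hne : z ≠ t) (hzt : z * t = t * z) (hf : Fx Om z t) :
    Lab Om z t c ∧ InZ Om (z * t) := by
  rcases (S.dch D hz ht hne hzt).alt with h1 | h1
  · exact ⟨h1.1, h1.2.2.2.1⟩
  · exact (fx_sw_false (CC.inZ hz) hf h1.1).elim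

theorem pr_of (hz : c ∈ CC Om z) (ht : c ∈ CC Om t) (hne : z ≠ t) (hzt : z * t = t * z) (hf : ¬ InZ Om (z * t)) :
    PR Om z t ∧ InZ Om (z * t * c) ∧ c ∈ CC Om (z * t * c) ∧ (∀ a ∈ CC Om z, a ≠ c → t * a ≠ a * t) ∧
      (∀ u, Lab Om z u c → t * u = u * t) := by
  rcases (S.dch D hz ht hne hzt).alt with h1 | h1
  · exact (hf h1.2.2.2.1).elim
  · exact ⟨⟨CC.inZ hz, CC.inZ ht, hne, hzt, h1.1⟩, h1.2.2.2.1, h1.2.2.2.2.1, h1.2.2.2.2.2.1, h1.2.2.2.2.2.2⟩

theorem pr_of' (hz : c ∈ CC Om z) (ht : c ∈ CC Om t) (hzt : z * t = t * z) (hs : Sw Om z t) :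
    PR Om z t ∧ ¬ InZ Om (z * t) ∧ InZ Om (z * t * c) ∧ c ∈ CC Om (z * t * c) ∧
      (∀ a ∈ CC Om z, a ≠ c → t * a ≠ a * t) ∧ (∀ u, Lab Om z u c → t * u = u * t) := by
  have hne : z ≠ t := by
    rintro rfl
    exact fx_sw_false (CC.inZ hz) ((Inn.of_CX (z_mem_CX S.w)).fx S.w) hs
  rcases (S.dch D hz ht hne hzt).alt with h1 | h1
  · exact (fx_sw_false (CC.inZ hz) h1.2.1 hs).elim
  · exact ⟨⟨CC.inZ hz, CC.inZ ht, hne, hzt, h1.1⟩, h1.2.2.1, h1.2.2.2.1, h1.2.2.2.2.1, h1.2.2.2.2.2.1,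
      h1.2.2.2.2.2.2⟩

/-- in the coordinates of a p-neighbour over `c` the directions over `c` are `(i, i)` -/
theorem dc_iff (P : HP Om z t K x) (hz : c ∈ CC Om z) (ht : c ∈ CC Om t) (p : Fin 3 × Fin 3) :
    p ∈ DC Om z x (fun i => t * x i * t⁻¹) c ↔ p.1 = p.2 := by
  have h := S.w
  have F := P.frameS h
  have hct : c * t = t * c := CC.comm_z h ht
  have htz : t * z = z * t := P.pr.comm.symm
  obtain ⟨-, -, -, -, -, hu⟩ := S.pr_of' D hz ht P.pr.comm P.pr.sw
  have key : ∀ p : Fin 3 × Fin 3, p ∈ DC Om z x (fun i => t * x i * t⁻¹) c → p.1 = p.2 := by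
    rintro p ⟨u, lu, hd⟩
    have h1 : Act z x (fun i => t * x i * t⁻¹) t 1 := fun i => Or.inl rfl
    have h2 : Act z (fun i => t * x i * t⁻¹) x t 1 := fun i => Or.inl (by
      show t * (t * x i * t⁻¹) * t⁻¹ = x i
      exact P.tt h _)
    have h3 := F.dir_conj' h htz h1 h2 hd
    have e : t * (u * c) * t⁻¹ = u * c := by
      rw [← mul_assoc, hu u lu, mul_assoc u, ← hct, ← mul_assoc, mul_inv_cancel_right]
    rw [e] at h3
    exact (F.dir_unique h hd h3).1
  obtain ⟨v, hv1, -, hv⟩ := S.line_of F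
  obtain ⟨p0, hp0⟩ := CC.exists_dir h F hz
  have hl := hv c p0 hp0
  rw [hl p]
  exact line_key p0 v (key p0 hp0) (key _ ((hl _).2 (Or.inr (Or.inl rfl)))) hv1 p

theorem lab_e (P : HP Om z t K x) (hz : c ∈ CC Om z) (ht : c ∈ CC Om t) (i : Fin 3) :
    Lab Om z (z * ee z t x i * c) c ∧ Lab Om z (ee z t x i * c) c := by
  have h := S.w
  obtain ⟨u, lt, hd⟩ := (S.dc_iff D P hz ht (i, i)).2 rfl
  have hd' : u * c = z * ee z t x i ∨ u * c = ee z t x i := by
    rcases hd with h1 | h1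
    · left; rw [h1]; exact P.xx_eq i
    · right
      rw [h1]
      show z * (x i * (t * x i * t⁻¹)) = ee z t x i
      rw [P.xx_eq, P.q.zzx]
  have lz := lt.mul h
  have hu : u = u * c * c := by rw [mul_assoc, lt.sq, mul_one]
  rcases hd' with h1 | h1
  · rw [h1] at hu
    have h2 : z * u = ee z t x i * c := by rw [hu, ← mul_assoc, P.q.zzx]
    rw [h2] at lz
    rw [hu] at lt
    exact ⟨lt, lz⟩
  · rw [h1] at hu
    have h2 : z * u = z * ee z t x i * c := by rw [hu, ← mul_assoc]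
    rw [h2] at lz
    rw [hu] at lt
    exact ⟨lz, lt⟩

theorem lab_cases (P : HP Om z t K x) (hz : c ∈ CC Om z) (ht : c ∈ CC Om t) (lu : Lab Om z u c) :
    ∃ i, u = z * ee z t x i * c ∨ u = ee z t x i * c := by
  have h := S.w
  obtain ⟨th, i, j, -, -, -, -, hd, -⟩ := lu.theta h (P.frameS h)
  have h1 : (i, j) ∈ DC Om z x (fun i => t * x i * t⁻¹) c := ⟨u, lu, hd⟩
  have h2 : i = j := (S.dc_iff D P hz ht _).1 h1
  subst h2
  have hu : u = u * c * c := by rw [mul_assoc, lu.sq, mul_one]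
  refine ⟨i, ?_⟩
  rcases hd with h1 | h1
  · left
    rw [hu, h1]
    show x i * (t * x i * t⁻¹) * c = _
    rw [P.xx_eq]
  · right
    rw [hu, h1]
    show z * (x i * (t * x i * t⁻¹)) * c = _
    rw [P.xx_eq, P.q.zzx]

theorem cx_sq (hz : InZ Om z) (hy : y ∈ CX Om z) : y * y = 1 := by
  have z2 := hz.z2 S.w
  rcases S.cx z hz y hy with h1 | h1 | h1 | h1
  · rw [h1, one_mul]
  · rw [h1, z2]
  · exact CC.sq h1
  · have h2 := CC.sq h1
    have h3 : y * z = z * y := CX_le hz S.w hy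
    calc y * y = (z * z) * (y * y) := by rw [z2, one_mul]
      _ = z * (z * y) * y := by group
      _ = z * (y * z) * y := by rw [h3]
      _ = z * y * (z * y) := by group
      _ = 1 := h2

/-- two p-neighbours over `c` commute, their product is in `X_z {1, e_i, z e_i}` -/
theorem comm_pp (P : HP Om z t K x) (hz : c ∈ CC Om z) (ht : c ∈ CC Om t) (hs : c ∈ CC Om s) (hzs : z * s = s * z)
    (hsw : Sw Om z s) : t * s = s * t := by
  have h := S.w
  have hzZ := P.pr.hz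
  obtain ⟨hps, -, -, -, -, hu⟩ := S.pr_of' D hz hs hzs hsw
  have hcs : c * s = s * c := CC.comm_z h hs
  have z2 := P.q.z2
  have t2 : t * t = 1 := P.t2 h
  have s2 : s * s = 1 := hps.t2 h
  have hact : ∀ i, s * x i * s⁻¹ = t * x i * t⁻¹ ∨ s * x i * s⁻¹ = z * (t * x i * t⁻¹) := by
    intro i
    apply P.act_of_comm h hps
    have lab := (S.lab_e D P hz ht i).1
    have h1 := hu _ lab
    rw [P.xx_eq]
    have h2 : s * (z * ee z t x i) * c = z * ee z t x i * s * c := by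
      calc s * (z * ee z t x i) * c = s * (z * ee z t x i * c) := by group
        _ = z * ee z t x i * (c * s) := by rw [h1]; group
        _ = _ := by rw [hcs]; group
    exact mul_right_cancel h2
  have hend : t * s * (t * s) = 1 → t * s = s * t := by
    intro h1
    have h2 := eq_inv_of_mul_eq_one_left h1
    rw [mul_inv_rev, hps.tinv h, P.tinv h] at h2
    exact h2
  apply hend
  rcases P.exists_conj_of h hps hact with h1 | ⟨j, h1⟩
  · exact S.cx_sq D hzZ h1
  · have P' : HP Om z s K x := ⟨hps, P.hK, P.q⟩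
    rw [P'.conj_t h] at h1
    have h2 := S.cx_sq D hzZ h1
    have hcomm : t * (s * ee z s x j) * ee z s x j = ee z s x j * (t * (s * ee z s x j)) :=
      CX_comm (P'.e_mem h j) h1
    have e2 := P'.e_sq h j
    have e : t * s = t * (s * ee z s x j) * ee z s x j := by
      calc t * s = t * s * (ee z s x j * ee z s x j) := by rw [e2, mul_one]
        _ = _ := by group
    rw [e]
    calc t * (s * ee z s x j) * ee z s x j * (t * (s * ee z s x j) * ee z s x j) =
        t * (s * ee z s x j) * ee z s x j * (ee z s x j * (t * (s * ee z s x j))) := by rw [hcomm]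
      _ = t * (s * ee z s x j) * (ee z s x j * ee z s x j) * (t * (s * ee z s x j)) := by group
      _ = 1 := by rw [e2, mul_one, h2]

theorem comm_labs (lu : Lab Om z u c) (lv : Lab Om z v c) : u * v = v * u := by
  have h := S.w
  obtain ⟨K1, K2, a, b, F⟩ := lu.ti.1.exists_frame h
  obtain ⟨-, i, j, -, -, -, -, hd, -⟩ := lu.theta h F
  obtain ⟨-, i', j', -, -, -, -, hd', -⟩ := lv.theta h F
  obtain ⟨v0, h1, h2, h3⟩ := S.line_of F
  have h4 : (i, j) ∈ DC Om z a b c := ⟨u, lu, hd⟩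
  have h5 : (i', j') ∈ DC Om z a b c := ⟨v, lv, hd'⟩
  have h6 := line_key' (i, j) v0 (i', j') h1 h2 ((h3 c _ h4 _).1 h5)
  have h7 := F.comm_of h hd hd' h6
  have hcu : c * u = u * c := lu.comm_t h
  have hcv : c * v = v * c := lv.comm_t h
  have c2 := lu.sq
  calc u * v = u * (c * c) * v := by rw [c2, mul_one]
    _ = (u * c) * (c * v) := by group
    _ = (u * c) * (v * c) := by rw [hcv]
    _ = (v * c) * (u * c) := h7
    _ = v * (c * u) * c := by group
    _ = v * u * (c * c) := by rw [hcu]; group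
    _ = _ := by rw [c2, mul_one]

/-- **the members of `Z_c ∩ C(z)` commute** -/
theorem pp_comm (hc : c ∈ CC Om z) (hu : u ∈ PP Om c z) (hv : v ∈ PP Om c z) : u * v = v * u := by
  have h := S.w
  have hz := CC.inZ hc
  by_cases hzu : z = u
  · rw [← hzu]; exact hv.2.2
  by_cases hzv : z = v
  · rw [← hzv]; exact hu.2.2.symm
  rcases (S.dch D hc hu.2.1 hzu hu.2.2).alt with h1 | h1
  · rcases (S.dch D hc hv.2.1 hzv hv.2.2).alt with h2 | h2
    · exact S.comm_labs D h1.1 h2.1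
    · exact (h2.2.2.2.2.2.2 u h1.1).symm
  · rcases (S.dch D hc hv.2.1 hzv hv.2.2).alt with h2 | h2
    · exact h1.2.2.2.2.2.2 v h2.1
    · obtain ⟨hp, -⟩ := S.pr_of' D hc hu.2.1 hu.2.2 h1.1
      obtain ⟨K, x, P⟩ := hp.exists_hp h
      exact S.comm_pp D P hc hu.2.1 hv.2.1 hv.2.2 h2.1

/-- another line over the same label -/
theorem loc (l : Lab Om z t c) : ∃ s, Lab Om z s c ∧ t * s = s * t ∧ s ≠ z ∧ s ≠ t ∧ ¬ InZ Om (t * s) := by
  have h := S.w
  obtain ⟨K1, K2, a, b, F⟩ := l.ti.1.exists_frame h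
  obtain ⟨-, i, j, -, -, -, -, hd, -⟩ := l.theta h F
  obtain ⟨v0, h1, h2, h3⟩ := S.line_of F
  have h4 : (i, j) ∈ DC Om z a b c := ⟨t, l, hd⟩
  obtain ⟨s, ls, hs⟩ := (h3 c _ h4 ((i, j) + v0)).2 (Or.inr (Or.inl rfl))
  have hts := S.comm_labs D l ls
  have hct : c * t = t * c := l.comm_t h
  have e : t * s = (t * c) * (s * c) := by
    calc t * s = t * (c * c) * s := by rw [l.sq, mul_one]
      _ = (t * c) * (c * s) := by group
      _ = _ := by rw [ls.comm_t h]
  have hdir : ∀ e : G, (e = 1 ∨ e = z) → s * c = e * (t * c) → False := by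
    intro e he h5
    have h6 : Dir z a b (s * c) i j := by
      rw [h5]
      have z2 := l.z2 h
      rcases he with rfl | rfl
      · rw [one_mul]; exact hd
      · rcases hd with h7 | h7
        · right; rw [h7]
        · left; rw [h7, ← mul_assoc, z2, one_mul]
    have h7 := (F.dir_unique h h6 hs).1
    have h8 : i = i + v0.1 := h7
    exact h1 (by
      have := left_eq_add.1 h8
      exact this)
  have hst : s ≠ t := by
    rintro rfl
    exact hdir 1 (Or.inl rfl) (one_mul _).symm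
  refine ⟨s, ls, hts, ls.ne_zt.symm, hst, ?_⟩
  intro h5
  have h6 := S.hn.eq_of_RZ h l.ti.1 h5 (by rw [e]; exact mul_mem l.wz ls.wz)
  refine hdir z (Or.inr rfl) ?_
  have hww : t * c * (t * c) = 1 := by
    calc t * c * (t * c) = t * (c * t) * c := by group
      _ = (t * t) * (c * c) := by rw [hct]; group
      _ = 1 := by rw [l.t2 h, l.sq, one_mul]
  have hwz : t * c * z = z * (t * c) := RZ_le_centralizer h l.wz
  calc s * c = (t * c) * (t * c) * (s * c) := by rw [hww, one_mul]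
    _ = (t * c) * ((t * c) * (s * c)) := by group
    _ = (t * c) * z := by rw [← e, h6]
    _ = _ := hwz

/-- there is a p-neighbour over `c` -/
theorem exists_p (hc : c ∈ CC Om z) : ∃ t, PR Om z t ∧ c ∈ CC Om t := by
  have h := S.w
  obtain ⟨u, lu⟩ := id hc
  obtain ⟨s, ls, h1, h2, h3, h4⟩ := S.loc D (lu.symm h)
  have hs : c ∈ CC Om s := (ls.symm h).mem_CC
  exact ⟨s, (S.pr_of D hc hs h3.symm h1 h4).1, hs⟩

end SW

end

end Cfsg.Agent.Cit.Nil.RTwo
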