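import Cfsg.Agent.Cit.Nil.RTwo.SWorld
import Cfsg.Agent.Cit.Nil.RTwo.UOne
import Cfsg.Agent.Cit.Nil.RTwo.TLine

/-!
# Case (S): planes

* `Plane Om W` : `W` has order 8 and all pairs of elements `≠ 1` are of type I;
* `SW.exists_plane` : every type I pair is contained in a plane;
* `Plane.labs` : every label of `z ∈ W` is the label of a line of `W` on `z`;
* `SW.comm_labels` : `(z, t)` of type I: `CC z` and `CC t` commute;
* `SW.exists_common` : `a ∈ CC z`, `b ∈ CC t`: there is `y` with `a, b ∈ CC y`;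
* `Plane.mem_of_ti` : an element of `Z ∩ C(W)` which is of type I with an element of `W` is in `W`.
-/

set_option autoImplicit false
set_option linter.style.haveILetI false
set_option linter.unusedSectionVars false
set_option maxHeartbeats 400000

namespace Cfsg.Agent.Cit.Nil.RTwo

open Subgroup Cfsg Cit

variable {G : Type*} [Group G]

/-! ### Elementary abelian groups of order 8 -/

/-- independent commuting involutions -/
structure Ind (z t s : G) : Prop where
  z2 : z * z = 1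
  t2 : t * t = 1
  s2 : s * s = 1
  zt : z * t = t * z
  zs : z * s = s * z
  ts : t * s = s * t
  z1 : z ≠ 1
  t1 : t ≠ 1
  tz : t ≠ z
  s1 : s ≠ 1
  sz : s ≠ z
  st : s ≠ t
  szt : s ≠ z * t

section Ind

variable {z t s g : G}

/-- the group `⟨z, t, s⟩` -/
def W8 (h : Ind z t s) : Subgroup G where
  carrier := {g | ∃ i j k : ℕ, g = z ^ i * t ^ j * s ^ k}
  one_mem' := ⟨0, 0, 0, by simp⟩
  mul_mem' := by
    rintro _ _ ⟨i, j, k, rfl⟩ ⟨i', j', k', rfl⟩
    refine ⟨i + i', j + j', k + k', ?_⟩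
    have h1 : Commute (s ^ k) (z ^ i') := (Commute.pow_pow (show Commute s z from h.zs.symm) _ _)
    have h2 : Commute (t ^ j) (z ^ i') := (Commute.pow_pow (show Commute t z from h.zt.symm) _ _)
    have h3 : Commute (s ^ k) (t ^ j') := (Commute.pow_pow (show Commute s t from h.ts.symm) _ _)
    rw [pow_add, pow_add, pow_add]
    calc z ^ i * t ^ j * s ^ k * (z ^ i' * t ^ j' * s ^ k')
        = z ^ i * t ^ j * (s ^ k * z ^ i') * t ^ j' * s ^ k' := by group
      _ = z ^ i * (t ^ j * z ^ i') * (s ^ k * t ^ j') * s ^ k' := by rw [h1.eq]; group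
      _ = z ^ i * z ^ i' * (t ^ j * t ^ j') * (s ^ k * s ^ k') := by rw [h2.eq, h3.eq]; group
  inv_mem' := by
    rintro _ ⟨i, j, k, rfl⟩
    refine ⟨i, j, k, ?_⟩
    have hz : (z ^ i)⁻¹ = z ^ i := by
      rw [← inv_pow, inv_eq_of_mul_eq_one_right h.z2]
    have ht : (t ^ j)⁻¹ = t ^ j := by
      rw [← inv_pow, inv_eq_of_mul_eq_one_right h.t2]
    have hs : (s ^ k)⁻¹ = s ^ k := by
      rw [← inv_pow, inv_eq_of_mul_eq_one_right h.s2]
    have h1 : Commute (s ^ k) (z ^ i) := (Commute.pow_pow (show Commute s z from h.zs.symm) _ _)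
    have h2 : Commute (t ^ j) (z ^ i) := (Commute.pow_pow (show Commute t z from h.zt.symm) _ _)
    have h3 : Commute (s ^ k) (t ^ j) := (Commute.pow_pow (show Commute s t from h.ts.symm) _ _)
    rw [mul_inv_rev, mul_inv_rev, hz, ht, hs, ← mul_assoc, h3.eq, mul_assoc, h1.eq, ← mul_assoc, h2.eq]

theorem pow_two_cases (hz : z * z = 1) (i : ℕ) : z ^ i = 1 ∨ z ^ i = z := by
  rcases Nat.even_or_odd' i with ⟨k, rfl | rfl⟩
  · left; rw [pow_mul, pow_two, hz, one_pow]
  · right; rw [pow_succ, pow_mul, pow_two, hz, one_pow, one_mul]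

theorem mem_W8 (h : Ind z t s) : g ∈ W8 h ↔
    g = 1 ∨ g = z ∨ g = t ∨ g = z * t ∨ g = s ∨ g = z * s ∨ g = t * s ∨ g = z * (t * s) := by
  constructor
  · rintro ⟨i, j, k, rfl⟩
    rcases pow_two_cases h.z2 i with h1 | h1 <;> rcases pow_two_cases h.t2 j with h2 | h2 <;>
    rcases pow_two_cases h.s2 k with h3 | h3 <;> rw [h1, h2, h3] <;> simp [mul_assoc]
  · rintro (rfl | rfl | rfl | rfl | rfl | rfl | rfl | rfl)
    · exact ⟨0, 0, 0, by simp⟩
    · exact ⟨1, 0, 0, by simp⟩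
    · exact ⟨0, 1, 0, by simp⟩
    · exact ⟨1, 1, 0, by simp⟩
    · exact ⟨0, 0, 1, by simp⟩
    · exact ⟨1, 0, 1, by simp⟩
    · exact ⟨0, 1, 1, by simp⟩
    · exact ⟨1, 1, 1, by simp [mul_assoc]⟩

/-- the eight products -/
def E8 (z t s : G) (p : Fin 2 × Fin 2 × Fin 2) : G := z ^ (p.1 : ℕ) * t ^ (p.2.1 : ℕ) * s ^ (p.2.2 : ℕ)

theorem E8_inj (h : Ind z t s) : Function.Injective (E8 z t s) := by
  have hzi : z⁻¹ = z := inv_eq_of_mul_eq_one_right h.z2
  have hti : t⁻¹ = t := inv_eq_of_mul_eq_one_right h.t2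
  have hsi : s⁻¹ = s := inv_eq_of_mul_eq_one_right h.s2
  have hz : ∀ i : Fin 2, z ^ (i : ℕ) = 1 ∧ i = 0 ∨ z ^ (i : ℕ) = z ∧ i = 1 := by
    intro i; fin_cases i <;> simp
  have ht : ∀ i : Fin 2, t ^ (i : ℕ) = 1 ∧ i = 0 ∨ t ^ (i : ℕ) = t ∧ i = 1 := by
    intro i; fin_cases i <;> simp
  have hs : ∀ i : Fin 2, s ^ (i : ℕ) = 1 ∧ i = 0 ∨ s ^ (i : ℕ) = s ∧ i = 1 := by
    intro i; fin_cases i <;> simp
  have hzt : z * t ≠ 1 := fun e => h.tz (by rw [← hzi]; exact (eq_inv_of_mul_eq_one_right e))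
  -- level 2
  have l2 : ∀ i j i' j' : Fin 2, z ^ (i : ℕ) * t ^ (j : ℕ) = z ^ (i' : ℕ) * t ^ (j' : ℕ) → i = i' ∧ j = j' := by
    intro i j i' j' e
    have htz1 : z * t ≠ z := fun e => h.t1 (mul_eq_left.1 e)
    have htz2 : z * t ≠ t := fun e => h.z1 (mul_eq_right.1 e)
    rcases hz i with ⟨a1, rfl⟩ | ⟨a1, rfl⟩ <;> rcases ht j with ⟨a2, rfl⟩ | ⟨a2, rfl⟩ <;>
    rcases hz i' with ⟨a3, rfl⟩ | ⟨a3, rfl⟩ <;> rcases ht j' with ⟨a4, rfl⟩ | ⟨a4, rfl⟩ <;>
    simp only [a1, a2, a3, a4, one_mul, mul_one] at e <;>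
    first
      | exact ⟨rfl, rfl⟩
      | exact absurd e h.z1
      | exact absurd e.symm h.z1
      | exact absurd e h.t1
      | exact absurd e.symm h.t1
      | exact absurd e h.tz
      | exact absurd e.symm h.tz
      | exact absurd e hzt
      | exact absurd e.symm hzt
      | exact absurd e htz1
      | exact absurd e.symm htz1
      | exact absurd e htz2
      | exact absurd e.symm htz2
  -- `s` is not a product
  have ns : ∀ i j i' j' : Fin 2, z ^ (i : ℕ) * t ^ (j : ℕ) * s = z ^ (i' : ℕ) * t ^ (j' : ℕ) → False := by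
    intro i j i' j' e
    have e' : s = (z ^ (i : ℕ) * t ^ (j : ℕ))⁻¹ * (z ^ (i' : ℕ) * t ^ (j' : ℕ)) := by
      rw [← e]; group
    have key : ∀ u v : G, (u = 1 ∨ u = z ∨ u = t ∨ u = z * t) → (v = 1 ∨ v = z ∨ v = t ∨ v = z * t) →
        u⁻¹ * v = 1 ∨ u⁻¹ * v = z ∨ u⁻¹ * v = t ∨ u⁻¹ * v = z * t := by
      have h1 : z * (z * t) = t := by rw [← mul_assoc, h.z2, one_mul]
      have h2 : t * (z * t) = z := by rw [h.zt, ← mul_assoc, h.t2, one_mul]
      have h3 : (z * t)⁻¹ = z * t := by rw [mul_inv_rev, hzi, hti, h.zt]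
      have h4 : z * t * z = t := by rw [h.zt, mul_assoc, h.z2, mul_one]
      have h5 : z * t * t = z := by rw [mul_assoc, h.t2, mul_one]
      have h6 : z * t * (z * t) = 1 := by rw [← mul_assoc, h4, h.t2]
      rintro u v (rfl | rfl | rfl | rfl) (rfl | rfl | rfl | rfl)
      all_goals first
        | (left; simp [hzi, hti, h3, h.z2, h.t2, h6]; done)
        | (right; left; simp [hzi, hti, h3, h2, h5]; done)
        | (right; right; left; simp [hzi, hti, h3, h1, h4]; done)
        | (right; right; right; simp [hzi, hti, h.zt])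
    have hc : ∀ i j : Fin 2, z ^ (i : ℕ) * t ^ (j : ℕ) = 1 ∨ z ^ (i : ℕ) * t ^ (j : ℕ) = z ∨
        z ^ (i : ℕ) * t ^ (j : ℕ) = t ∨ z ^ (i : ℕ) * t ^ (j : ℕ) = z * t := by
      intro i j
      rcases hz i with ⟨a1, -⟩ | ⟨a1, -⟩ <;> rcases ht j with ⟨a2, -⟩ | ⟨a2, -⟩ <;> rw [a1, a2] <;> simp
    rcases key _ _ (hc i j) (hc i' j') with h1 | h1 | h1 | h1 <;> rw [← e'] at h1
    · exact h.s1 h1
    · exact h.sz h1
    · exact h.st h1
    · exact h.szt h1
  rintro ⟨i, j, k⟩ ⟨i', j', k'⟩ e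
  simp only [E8] at e
  rcases hs k with ⟨a1, rfl⟩ | ⟨a1, rfl⟩ <;> rcases hs k' with ⟨a2, rfl⟩ | ⟨a2, rfl⟩ <;>
  simp only [a1, a2, mul_one] at e
  · obtain ⟨rfl, rfl⟩ := l2 _ _ _ _ e; rfl
  · exact (ns _ _ _ _ e.symm).elim
  · exact (ns _ _ _ _ e).elim
  · obtain ⟨rfl, rfl⟩ := l2 _ _ _ _ (mul_right_cancel e); rfl

theorem E8_mem (h : Ind z t s) (p : Fin 2 × Fin 2 × Fin 2) : E8 z t s p ∈ W8 h := ⟨_, _, _, rfl⟩

theorem card_W8 (h : Ind z t s) : Nat.card (W8 h) = 8 := by
  let f : Fin 2 × Fin 2 × Fin 2 → W8 h := fun p => ⟨E8 z t s p, E8_mem h p⟩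
  have hf : Function.Bijective f := by
    constructor
    · intro p q e
      exact E8_inj h (congrArg Subtype.val e)
    · rintro ⟨g, hg⟩
      rw [mem_W8] at hg
      rcases hg with rfl | rfl | rfl | rfl | rfl | rfl | rfl | rfl
      · exact ⟨(0, 0, 0), Subtype.ext (by simp [f, E8])⟩
      · exact ⟨(1, 0, 0), Subtype.ext (by simp [f, E8])⟩
      · exact ⟨(0, 1, 0), Subtype.ext (by simp [f, E8])⟩
      · exact ⟨(1, 1, 0), Subtype.ext (by simp [f, E8])⟩
      · exact ⟨(0, 0, 1), Subtype.ext (by simp [f, E8])⟩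
      · exact ⟨(1, 0, 1), Subtype.ext (by simp [f, E8])⟩
      · exact ⟨(0, 1, 1), Subtype.ext (by simp [f, E8])⟩
      · exact ⟨(1, 1, 1), Subtype.ext (by simp [f, E8, mul_assoc])⟩
  rw [← Nat.card_congr (Equiv.ofBijective f hf)]
  simp

/-- a group of order 8 containing `z, t, s` is `W8` -/
theorem eq_W8 (h : Ind z t s) {W : Subgroup G} (hW : Nat.card W = 8) (hz : z ∈ W) (ht : t ∈ W) (hs : s ∈ W) :
    W = W8 h := by
  have hle : W8 h ≤ W := by
    rintro _ ⟨i, j, k, rfl⟩
    exact mul_mem (mul_mem (pow_mem hz _) (pow_mem ht _)) (pow_mem hs _)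
  haveI : Finite W := Nat.finite_of_card_ne_zero (by rw [hW]; norm_num)
  exact (Subgroup.eq_of_le_of_card_ge hle (by rw [hW, card_W8 h])).symm

end Ind

/-! ### Planes -/

/-- `W` is a plane -/
structure Plane (Om : Set (Subgroup G)) (W : Subgroup G) : Prop where
  card : Nat.card W = 8
  ti : ∀ x ∈ W, ∀ y ∈ W, x ≠ 1 → y ≠ 1 → x ≠ y → TI Om x y

section

variable [Finite G] {Om : Set (Subgroup G)} {K K1 K2 L M L1 L2 W : Subgroup G} {z t u v g r s x y w c c' d : G}
  {a b : Fin 3 → G}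

/-- the label of a line is centralised by the centraliser of the line -/
theorem Lab.comm_line (h : W2 Om) (l : Lab Om z s c) (hgz : g * z = z * g) (hgs : g * s = s * g) : g * c = c * g := by
  have h1 := l.conj h g
  have e1 : g * z * g⁻¹ = z := by rw [hgz, mul_inv_cancel_right]
  have e2 : g * s * g⁻¹ = s := by rw [hgs, mul_inv_cancel_right]
  rw [e1, e2] at h1
  have h2 := h1.unique h l
  rwa [mul_inv_eq_iff_eq_mul] at h2

theorem exists_not_mem (hW : Nat.card W = 8) (x y : G) : ∃ s ∈ W, s ≠ 1 ∧ s ≠ x ∧ s ≠ y ∧ s ≠ x * y := by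
  classical
  by_contra hcon
  push Not at hcon
  have h1 : (W : Set G) ⊆ ↑({1, x, y, x * y} : Finset G) := by
    intro s hs
    simp only [Finset.coe_insert, Finset.coe_singleton, Set.mem_insert_iff, Set.mem_singleton_iff]
    by_cases h1 : s = 1
    · exact Or.inl h1
    by_cases h2 : s = x
    · exact Or.inr (Or.inl h2)
    by_cases h3 : s = y
    · exact Or.inr (Or.inr (Or.inl h3))
    · exact Or.inr (Or.inr (Or.inr (hcon s hs h1 h2 h3)))
  have h2 := Set.ncard_le_ncard h1 (Finset.finite_toSet _)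
  rw [Set.ncard_coe_finset] at h2
  have h3 : (W : Set G).ncard = 8 := by
    rw [← hW, ← Nat.card_coe_set_eq]; rfl
  rw [h3] at h2
  have h4 := Finset.card_le_four (a := (1 : G)) (b := x) (c := y) (d := x * y)
  omega

namespace Plane

theorem exists_ti (P : Plane Om W) (hx : x ∈ W) (hx1 : x ≠ 1) : ∃ y ∈ W, TI Om x y := by
  obtain ⟨y, hy, h1, h2, -⟩ := exists_not_mem P.card x x
  exact ⟨y, hy, P.ti x hx y hy hx1 h1 (Ne.symm h2)⟩

theorem inZ (P : Plane Om W) (hx : x ∈ W) (hx1 : x ≠ 1) : InZ Om x := by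
  obtain ⟨y, -, h1⟩ := P.exists_ti hx hx1
  exact h1.1

theorem sq (P : Plane Om W) (h : W2 Om) (hx : x ∈ W) : x * x = 1 := by
  by_cases h1 : x = 1
  · rw [h1, one_mul]
  · exact (P.inZ hx h1).z2 h

theorem comm (P : Plane Om W) (hx : x ∈ W) (hy : y ∈ W) : x * y = y * x := by
  by_cases h1 : x = 1
  · rw [h1, one_mul, mul_one]
  by_cases h2 : y = 1
  · rw [h2, one_mul, mul_one]
  by_cases h3 : x = y
  · rw [h3]
  · exact (P.ti x hx y hy h1 h2 h3).2.2.2.1

theorem ind (P : Plane Om W) (h : W2 Om) (hx : x ∈ W) (hy : y ∈ W) (hs : s ∈ W) (x1 : x ≠ 1) (y1 : y ≠ 1)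
    (yx : y ≠ x) (s1 : s ≠ 1) (sx : s ≠ x) (sy : s ≠ y) (sxy : s ≠ x * y) : Ind x y s :=
  ⟨P.sq h hx, P.sq h hy, P.sq h hs, P.comm hx hy, P.comm hx hs, P.comm hy hs, x1, y1, yx, s1, sx, sy, sxy⟩

/-- two elements outside a line `{1, x, y, xy}` have their product on the line -/
theorem mul_mem_line (P : Plane Om W) (h : W2 Om) (hx : x ∈ W) (hy : y ∈ W) (x1 : x ≠ 1) (y1 : y ≠ 1) (yx : y ≠ x)
    (hu : u ∈ W) (hv : v ∈ W) (u1 : u ≠ 1) (ux : u ≠ x) (uy : u ≠ y) (uxy : u ≠ x * y)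
    (v1 : v ≠ 1) (vx : v ≠ x) (vy : v ≠ y) (vxy : v ≠ x * y) :
    u * v = 1 ∨ u * v = x ∨ u * v = y ∨ u * v = x * y := by
  have I := P.ind h hx hy hu x1 y1 yx u1 ux uy uxy
  have hvW := hv
  rw [eq_W8 I P.card hx hy hu, mem_W8] at hvW
  have hu2 := P.sq h hu
  rcases hvW with e | e | e | e | e | e | e | e
  · exact absurd e v1
  · exact absurd e vx
  · exact absurd e vy
  · exact absurd e vxy
  · left; rw [e, hu2]
  · right; left
    rw [e, I.zs, ← mul_assoc, hu2, one_mul]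
  · right; right; left
    rw [e, I.ts, ← mul_assoc, hu2, one_mul]
  · right; right; right
    rw [e]
    calc u * (x * (y * u)) = u * x * (y * u) := by group
      _ = x * u * (u * y) := by rw [← I.zs, I.ts]
      _ = x * (u * u) * y := by group
      _ = x * y := by rw [hu2, mul_one]

end Plane

namespace SW

variable (S : SW Om)

include S

theorem noOne : NoOne Om := fun z c hc => S.ne z c hc

theorem cc_cases (hz : InZ Om z) {d0 d1 d2 : G} (h0 : d0 ∈ CC Om z) (h1 : d1 ∈ CC Om z) (h2 : d2 ∈ CC Om z)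
    (h01 : d0 ≠ d1) (h02 : d0 ≠ d2) (h12 : d1 ≠ d2) (hc : c ∈ CC Om z) : c = d0 ∨ c = d1 ∨ c = d2 := by
  obtain ⟨c0, c1, c2, hcc, -⟩ := S.three z hz
  rw [hcc] at h0 h1 h2 hc
  simp only [Set.mem_insert_iff, Set.mem_singleton_iff] at h0 h1 h2 hc
  rcases h0 with rfl | rfl | rfl <;> rcases h1 with rfl | rfl | rfl <;> rcases h2 with rfl | rfl | rfl <;>
  first
    | exact absurd rfl h01
    | exact absurd rfl h02
    | exact absurd rfl h12
    | exact hc
    | (rcases hc with hc | hc | hc <;> simp [hc])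

/-- the labels of `z` commute -/
theorem cc_comm (hc : c ∈ CC Om z) (hd : d ∈ CC Om z) : c * d = d * c := by
  have hz := CC.inZ hc
  obtain ⟨c0, c1, c2, hcc, h01, h02, h12, hm⟩ := S.three z hz
  have m0 : c0 ∈ CC Om z := by rw [hcc]; simp
  have m1 : c1 ∈ CC Om z := by rw [hcc]; simp
  have m2 : c2 ∈ CC Om z := by rw [hcc]; simp
  have key : ∀ x y w : G, x ∈ CC Om z → y ∈ CC Om z → w ∈ CC Om z → x * y * w = z → x * y = y * x := by
    intro x y w hx hy hw e
    have hw2 := CC.sq hw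
    have hx2 := CC.sq hx
    have hy2 := CC.sq hy
    have hwz := CC.comm_z S.w hw
    have hz2 := hz.z2 S.w
    have e1 : x * y = z * w := by rw [← e, mul_assoc, hw2, mul_one]
    have e2 : x * y * (x * y) = 1 := by
      rw [e1]
      calc z * w * (z * w) = z * (w * z) * w := by group
        _ = z * (z * w) * w := by rw [hwz]
        _ = (z * z) * (w * w) := by group
        _ = 1 := by rw [hz2, hw2, one_mul]
    have e3 : (x * y)⁻¹ = x * y := inv_eq_of_mul_eq_one_right e2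
    rw [mul_inv_rev, CC.inv hx, CC.inv hy] at e3
    exact e3.symm
  have k01 : c0 * c1 = c1 * c0 := key _ _ _ m0 m1 m2 hm
  have hz0 := CC.comm_z S.w m0
  have hz1 := CC.comm_z S.w m1
  have e2 : c2 = c1 * c0 * z := by
    rw [← hm]
    calc c2 = (c1 * (c0 * c0) * c1) * c2 := by rw [CC.sq m0, mul_one, CC.sq m1, one_mul]
      _ = _ := by group
  have k02 : c0 * c2 = c2 * c0 := by
    rw [e2]
    calc c0 * (c1 * c0 * z) = (c0 * c1) * (c0 * z) := by group
      _ = (c1 * c0) * (z * c0) := by rw [k01, hz0]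
      _ = _ := by group
  have k12 : c1 * c2 = c2 * c1 := by
    rw [e2]
    calc c1 * (c1 * c0 * z) = c1 * (c0 * c1) * z := by rw [k01]; group
      _ = c1 * c0 * (c1 * z) := by group
      _ = c1 * c0 * z * c1 := by rw [hz1]; group
  rw [hcc] at hc hd
  simp only [Set.mem_insert_iff, Set.mem_singleton_iff] at hc hd
  rcases hc with rfl | rfl | rfl <;> rcases hd with rfl | rfl | rfl <;>
  first
    | rfl
    | exact k01
    | exact k01.symm
    | exact k02
    | exact k02.symm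
    | exact k12
    | exact k12.symm

theorem cx_comm (hz : InZ Om z) (hx : x ∈ CX Om z) (hc : c ∈ CC Om z) : x * c = c * x := by
  have hcz := CC.comm_z S.w hc
  rcases S.cx z hz x hx with rfl | rfl | h1 | h1
  · rw [one_mul, mul_one]
  · exact hcz.symm
  · exact S.cc_comm h1 hc
  · have h2 := S.cc_comm h1 hc
    have h3 : z * (x * c) = z * (c * x) := by
      calc z * (x * c) = z * x * c := by group
        _ = c * z * x := by rw [h2]; group
        _ = z * (c * x) := by rw [hcz]; group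
    exact mul_left_cancel h3

theorem cx_comm' (hz : InZ Om z) (hx : x ∈ CX Om z) (hy : y ∈ CX Om z) : x * y = y * x := by
  have hxz := CX_le hz S.w hx
  rcases S.cx z hz y hy with rfl | rfl | h1 | h1
  · rw [one_mul, mul_one]
  · exact hxz
  · exact S.cx_comm hz hx h1
  · have h2 := S.cx_comm hz hx h1
    have h3 : z * (x * y) = z * (y * x) := by
      calc z * (x * y) = (z * x) * y := by group
        _ = x * (z * y) := by rw [← hxz]; group
        _ = z * (y * x) := by rw [h2]; group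
    exact mul_left_cancel h3

/-- an element of `C(z)` in `Z` of type I with `z` commutes with the labels of `z` -/
theorem lab_comm (l : Lab Om z t c) (hd : d ∈ CC Om z) : d * t = t * d := by
  have h1 : d * (t * c) = t * c * d := CX_comm l.wz (CC.mem_CX hd)
  have h2 : c * d = d * c := S.cc_comm l.mem_CC hd
  have h3 : d * t * c = t * d * c := by
    calc d * t * c = d * (t * c) := by group
      _ = t * c * d := h1
      _ = t * (c * d) := by group
      _ = t * d * c := by rw [h2]; group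
  exact mul_right_cancel h3

end SW

end

/-! ### Directions -/

section

variable [Finite G] {Om : Set (Subgroup G)} {K K1 K2 L M L1 L2 W : Subgroup G} {z t u v g r s x y w w' c c' d : G}
  {a b : Fin 3 → G}

theorem Frame.dir_z (F : Frame Om z K1 K2 a b) {i j : Fin 3} (hd : Dir z a b w i j) : w * z = z * w := by
  have h1 : a i * b j * z = z * (a i * b j) := by rw [mul_assoc, ← F.qb.zc, ← mul_assoc, ← F.qa.zc, mul_assoc]
  rcases hd with rfl | rfl
  · exact h1
  · rw [mul_assoc, h1]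

/-- two directions commute iff they are equal or differ in both coordinates -/
theorem Frame.dir_comm (F : Frame Om z K1 K2 a b) (h : W2 Om) {i j i' j' : Fin 3} (hd : Dir z a b w i j)
    (hd' : Dir z a b w' i' j') : w * w' = w' * w ↔ (i = i' ↔ j = j') := by
  have hz2 := F.qa.z2
  have hz1 := F.qa.z1
  have hzz := F.qa.zzx
  -- the commutator of `a i * b j` and `a i' * b j'`
  have hprod : ∀ i j i' j' : Fin 3, (a i * b j) * (a i' * b j') = (a i * a i') * (b j * b j') := by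
    intro i j i' j'
    calc (a i * b j) * (a i' * b j') = a i * (b j * a i') * b j' := by group
      _ = a i * (a i' * b j) * b j' := by rw [F.ab h]
      _ = _ := by group
  have ha : ∀ i i' : Fin 3, a i * a i' = (if i = i' then 1 else z) * (a i' * a i) := by
    intro i i'
    by_cases e : i = i'
    · rw [if_pos e, e, one_mul]
    · rw [if_neg e, F.qa.anti e, mul_assoc]
  have hb : ∀ i i' : Fin 3, b i * b i' = (if i = i' then 1 else z) * (b i' * b i) := by
    intro i i'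
    by_cases e : i = i'
    · rw [if_pos e, e, one_mul]
    · rw [if_neg e, F.qb.anti e, mul_assoc]
  have hzc : ∀ (P : Prop) [Decidable P] (i i' : Fin 3), (a i * a i') * (if P then 1 else z) =
      (if P then 1 else z) * (a i * a i') := by
    intro P _ i i'
    by_cases e : P
    · rw [if_pos e, mul_one, one_mul]
    · rw [if_neg e, mul_assoc, ← F.qa.zc, ← mul_assoc, ← F.qa.zc, mul_assoc]
  have key : (a i * b j) * (a i' * b j') = ((if i = i' then 1 else z) * (if j = j' then 1 else z)) *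
      ((a i' * b j') * (a i * b j)) := by
    rw [hprod, hprod, ha i i', hb j j']
    calc (if i = i' then 1 else z) * (a i' * a i) * ((if j = j' then 1 else z) * (b j' * b j)) =
        (if i = i' then 1 else z) * ((a i' * a i) * (if j = j' then 1 else z)) * (b j' * b j) := by group
      _ = (if i = i' then 1 else z) * ((if j = j' then 1 else z) * (a i' * a i)) * (b j' * b j) := by rw [hzc]
      _ = _ := by group
  have key2 : (a i * b j) * (a i' * b j') = (a i' * b j') * (a i * b j) ↔ (i = i' ↔ j = j') := by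
    rw [key]
    constructor
    · intro e
      have e' := mul_eq_right.1 e
      by_cases e1 : i = i' <;> by_cases e2 : j = j' <;> simp [e1, e2] at e' ⊢ <;> exact hz1 e'
    · intro e
      by_cases e1 : i = i'
      · have e2 := e.1 e1
        rw [if_pos e1, if_pos e2]; group
      · have e2 : ¬ j = j' := fun e2 => e1 (e.2 e2)
        rw [if_neg e1, if_neg e2, hz2, one_mul]
  rw [← key2]
  have hwz := F.dir_z hd
  have hwz' := F.dir_z hd'
  have hz0 : a i * b j * z = z * (a i * b j) := F.dir_z (Or.inl rfl)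
  have hz0' : a i' * b j' * z = z * (a i' * b j') := F.dir_z (Or.inl rfl)
  have e1 : (z * (a i * b j)) * (a i' * b j') = z * ((a i * b j) * (a i' * b j')) := mul_assoc _ _ _
  have e2 : (a i' * b j') * (z * (a i * b j)) = z * ((a i' * b j') * (a i * b j)) := by
    rw [← mul_assoc, hz0', mul_assoc]
  have e3 : (a i * b j) * (z * (a i' * b j')) = z * ((a i * b j) * (a i' * b j')) := by
    rw [← mul_assoc, hz0, mul_assoc]
  have e4 : (z * (a i' * b j')) * (a i * b j) = z * ((a i' * b j') * (a i * b j)) := mul_assoc _ _ _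
  have e5 : (z * (a i * b j)) * (z * (a i' * b j')) = (a i * b j) * (a i' * b j') := by
    rw [mul_assoc, e3, hzz]
  have e6 : (z * (a i' * b j')) * (z * (a i * b j)) = (a i' * b j') * (a i * b j) := by
    rw [mul_assoc, e2, hzz]
  rcases hd with rfl | rfl <;> rcases hd' with rfl | rfl
  · exact Iff.rfl
  · rw [e3, e4]; exact ⟨fun e => mul_left_cancel e, fun e => by rw [e]⟩
  · rw [e1, e2]; exact ⟨fun e => mul_left_cancel e, fun e => by rw [e]⟩
  · rw [e5, e6]

/-- the direction of a line -/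
theorem Lab.exists_dir (h : W2 Om) (F : Frame Om z K1 K2 a b) (l : Lab Om z t c) :
    ∃ p : Fin 3 × Fin 3, Dir z a b (t * c) p.1 p.2 ∧ p ∈ DC Om z a b c := by
  obtain ⟨th, i, j, -, -, -, -, hd, -⟩ := l.theta h F
  exact ⟨(i, j), hd, t, l, hd⟩

namespace SW

variable (S : SW Om)

include S

/-- two lines on `z` commute iff their directions commute -/
theorem line_comm (F : Frame Om z K1 K2 a b) (l : Lab Om z t c) (l' : Lab Om z s c') {p q : Fin 3 × Fin 3}
    (hp : Dir z a b (t * c) p.1 p.2) (hq : Dir z a b (s * c') q.1 q.2) :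
    t * s = s * t ↔ (p.1 = q.1 ↔ p.2 = q.2) := by
  rw [← F.dir_comm S.w hp hq]
  have h1 : c * s = s * c := S.lab_comm l' l.mem_CC
  have h2 : c' * t = t * c' := S.lab_comm l l'.mem_CC
  have h3 : c * c' = c' * c := S.cc_comm l.mem_CC l'.mem_CC
  have e1 : t * c * (s * c') = t * s * (c * c') := by
    calc t * c * (s * c') = t * (c * s) * c' := by group
      _ = _ := by rw [h1]; group
  have e2 : s * c' * (t * c) = s * t * (c * c') := by
    calc s * c' * (t * c) = s * (c' * t) * c := by group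
      _ = s * t * (c' * c) := by rw [h2]; group
      _ = _ := by rw [h3]
  rw [e1, e2]
  exact ⟨fun e => by rw [e], fun e => mul_right_cancel e⟩

/-- a second line commuting with the given line, with another label -/
theorem exists_second (l : Lab Om z t c) : ∃ s d, Lab Om z s d ∧ d ≠ c ∧ t * s = s * t := by
  obtain ⟨K1, K2, a, b, F⟩ := l.ti.1.exists_frame S.w
  obtain ⟨p, hp, hpc⟩ := l.exists_dir S.w F
  obtain ⟨v, hv1, hv2, hv⟩ := S.line z K1 K2 a b F
  obtain ⟨d, hd⟩ := hv (p + (v.1, -v.2))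
  obtain ⟨s, l', hq⟩ := (hd (p + (v.1, -v.2))).2 (Or.inl rfl)
  have hne : ∀ v : Fin 3 × Fin 3, v.1 ≠ 0 → v.2 ≠ 0 → ∀ p : Fin 3 × Fin 3,
      p ≠ p + (v.1, -v.2) ∧ p ≠ p + (v.1, -v.2) + v ∧ p ≠ p + (v.1, -v.2) - v ∧
      (p.1 = (p + (v.1, -v.2)).1 ↔ p.2 = (p + (v.1, -v.2)).2) := by decide
  obtain ⟨n1, n2, n3, n4⟩ := hne v hv1 hv2 p
  refine ⟨s, d, l', ?_, (S.line_comm F l l' hp hq).2 n4⟩
  rintro rfl
  rcases (hd p).1 hpc with e | e | e
  · exact n1 e
  · exact n2 e
  · exact n3 e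

/-- the plane generated by two commuting lines on `z` with different labels -/
theorem plane_of (l : Lab Om z t c) (l' : Lab Om z s d) (hne : d ≠ c) (hts : t * s = s * t) :
    ∃ I : Ind z t s, Plane Om (W8 I) := by
  have h := S.w
  have hti : TI Om t s := S.four z t s c d l l' (Ne.symm hne) hts
  have hzt := l.ti
  have hzs := l'.ti
  have I : Ind z t s := by
    refine ⟨l.z2 h, l.t2 h, l'.t2 h, l.zt, l'.zt, hts, l.ti.1.z1 h, l.ti.2.1.z1 h, (l.ne_zt).symm,
      l'.ti.2.1.z1 h, (l'.ne_zt).symm, hti.2.2.1.symm, ?_⟩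
    rintro rfl
    exact hne (l'.unique h (l.mul h))
  refine ⟨I, card_W8 I, ?_⟩
  have mem : ∀ {g : G}, g ∈ W8 I → g = 1 ∨ g = z ∨ g = t ∨ g = z * t ∨ g = s ∨ g = z * s ∨ g = t * s ∨
      g = z * (t * s) := fun hg => (mem_W8 I).1 hg
  have hinn : ∀ {x : G}, InZ Om x → Inn Om x z → Inn Om x t → Inn Om x s → ∀ g ∈ W8 I, Inn Om x g := by
    intro x hx h1 h2 h3 g hg
    rcases mem hg with rfl | rfl | rfl | rfl | rfl | rfl | rfl | rfl
    · exact Inn.one
    · exact h1
    · exact h2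
    · exact h1.mul h2 hx h
    · exact h3
    · exact h1.mul h3 hx h
    · exact h2.mul h3 hx h
    · exact h1.mul (h2.mul h3 hx h) hx h
  have self : ∀ {x : G}, InZ Om x → Inn Om x x := fun {x} hx => Inn.of_CX (z_mem_CX h)
  have iz : ∀ g ∈ W8 I, Inn Om z g := hinn l.ti.1 (self l.ti.1) hzt.2.2.2.2 hzs.2.2.2.2
  have it : ∀ g ∈ W8 I, Inn Om t g := hinn l.ti.2.1 (hzt.symm h).2.2.2.2 (self l.ti.2.1) hti.2.2.2.2
  have is : ∀ g ∈ W8 I, Inn Om s g := hinn l'.ti.2.1 (hzs.symm h).2.2.2.2 (hti.symm h).2.2.2.2 (self l'.ti.2.1)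
  have zts : z ≠ t * s := by
    intro e
    apply I.szt
    rw [e]
    calc s = (t * t) * s := by rw [I.t2, one_mul]
      _ = t * (t * s) := mul_assoc _ _ _
      _ = t * (s * t) := congrArg (t * ·) I.ts
      _ = t * s * t := (mul_assoc _ _ _).symm
  have hInZ : ∀ g ∈ W8 I, g ≠ 1 → InZ Om g := by
    intro g hg hg1
    have hc : z * (t * s) = t * s * z := by rw [← mul_assoc, I.zt, mul_assoc, I.zs, ← mul_assoc]
    have hts' : InZ Om (t * s) := hti.mul_inZ h
    have hz_ts : TI Om z (t * s) :=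
      ⟨l.ti.1, hts', zts, hc, iz _ ((mem_W8 I).2 (by tauto))⟩
    rcases mem hg with rfl | rfl | rfl | rfl | rfl | rfl | rfl | rfl
    · exact absurd rfl hg1
    · exact l.ti.1
    · exact l.ti.2.1
    · exact hzt.mul_inZ h
    · exact l'.ti.2.1
    · exact hzs.mul_inZ h
    · exact hts'
    · exact hz_ts.mul_inZ h
  have hcomm : ∀ x ∈ W8 I, ∀ y ∈ W8 I, x * y = y * x := by
    intro x hx y hy
    obtain ⟨i, j, k, rfl⟩ := hx
    obtain ⟨i', j', k', rfl⟩ := hy
    have cz : ∀ n, Commute (z ^ n) (z ^ i' * t ^ j' * s ^ k') := fun n =>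
      (((Commute.refl z).pow_pow _ _).mul_right ((show Commute z t from I.zt).pow_pow _ _)).mul_right
        ((show Commute z s from I.zs).pow_pow _ _)
    have ct : ∀ n, Commute (t ^ n) (z ^ i' * t ^ j' * s ^ k') := fun n =>
      (((show Commute t z from I.zt.symm).pow_pow _ _).mul_right ((Commute.refl t).pow_pow _ _)).mul_right
        ((show Commute t s from I.ts).pow_pow _ _)
    have cs : ∀ n, Commute (s ^ n) (z ^ i' * t ^ j' * s ^ k') := fun n =>
      (((show Commute s z from I.zs.symm).pow_pow _ _).mul_right ((show Commute s t from I.ts.symm).pow_pow _ _)).mul_right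
        ((Commute.refl s).pow_pow _ _)
    exact (((cz i).mul_left (ct j)).mul_left (cs k)).eq
  intro x hx y hy hx1 hy1 hxy
  have hxZ := hInZ x hx hx1
  refine ⟨hxZ, hInZ y hy hy1, hxy, hcomm x hx y hy, ?_⟩
  exact hinn hxZ ((iz x hx).symm l.ti.1 hxZ h) ((it x hx).symm l.ti.2.1 hxZ h) ((is x hx).symm l'.ti.2.1 hxZ h) y hy

theorem exists_plane (l : Lab Om z t c) : ∃ W, Plane Om W ∧ z ∈ W ∧ t ∈ W := by
  obtain ⟨s, d, l', hne, hts⟩ := S.exists_second l
  obtain ⟨I, P⟩ := S.plane_of l l' hne hts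
  exact ⟨_, P, (mem_W8 I).2 (by tauto), (mem_W8 I).2 (by tauto)⟩

/-- every label of `z ∈ W` is the label of a line of `W` on `z` -/
theorem labs (P : Plane Om W) (hz : z ∈ W) (hz1 : z ≠ 1) (hc : c ∈ CC Om z) : ∃ v ∈ W, Lab Om z v c := by
  have h := S.w
  obtain ⟨t, ht, t1, tz, -⟩ := exists_not_mem P.card z z
  obtain ⟨s, hs, s1, sz, st, szt⟩ := exists_not_mem P.card z t
  have I := P.ind h hz ht hs hz1 t1 tz s1 sz st szt
  have ts1 : t * s ≠ 1 := fun e => st (by
    have := eq_inv_of_mul_eq_one_right e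
    rw [inv_eq_of_mul_eq_one_right I.t2] at this
    exact this)
  have zts : z ≠ t * s := by
    intro e
    apply szt
    rw [e]
    calc s = (t * t) * s := by rw [I.t2, one_mul]
      _ = t * (t * s) := mul_assoc _ _ _
      _ = t * (s * t) := congrArg (t * ·) I.ts
      _ = t * s * t := (mul_assoc _ _ _).symm
  obtain ⟨d0, l0⟩ := (P.ti z hz t ht hz1 t1 tz.symm).exists_lab h
  obtain ⟨d1, l1⟩ := (P.ti z hz s hs hz1 s1 sz.symm).exists_lab h
  obtain ⟨d2, l2⟩ := (P.ti z hz (t * s) (mul_mem ht hs) hz1 ts1 zts).exists_lab h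
  have c0 := l0.mem_CC
  have c1 := l1.mem_CC
  have c2 := l2.mem_CC
  have hZ := P.inZ hz hz1
  -- the product of the three labels is in `⟨z⟩`
  have hprod : d0 * d1 * d2 = 1 ∨ d0 * d1 * d2 = z := by
    refine RZ_inf_CX h hZ ?_ (mul_mem (mul_mem l0.cz l1.cz) l2.cz)
    have h1 := mul_mem (mul_mem l0.wz l1.wz) l2.wz
    have k1 : d0 * s = s * d0 := S.lab_comm l1 c0
    have k2 : d0 * (t * s) = t * s * d0 := S.lab_comm l2 c0
    have k3 : d1 * (t * s) = t * s * d1 := S.lab_comm l2 c1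
    have e : t * d0 * (s * d1) * (t * s * d2) = d0 * d1 * d2 := by
      calc t * d0 * (s * d1) * (t * s * d2) = t * (d0 * s) * (d1 * (t * s)) * d2 := by group
        _ = t * s * d0 * (t * s * d1) * d2 := by rw [k1, k3]; group
        _ = t * s * (d0 * (t * s)) * d1 * d2 := by group
        _ = (t * s * (t * s)) * d0 * d1 * d2 := by rw [k2]; group
        _ = _ := by rw [P.sq h (mul_mem ht hs), one_mul]
    rwa [e] at h1
  have kz : ∀ x ∈ CC Om z, x = 1 ∨ x = z → False := by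
    rintro x hx (rfl | rfl)
    · exact S.ne _ _ hx rfl
    · exact CC.ne_z h hx rfl
  have k01 : d0 * d1 = d1 * d0 := S.cc_comm c0 c1
  have k02 : d0 * d2 = d2 * d0 := S.cc_comm c0 c2
  have k12 : d1 * d2 = d2 * d1 := S.cc_comm c1 c2
  have n01 : d0 ≠ d1 := by
    rintro rfl
    rw [CC.sq c0, one_mul] at hprod
    exact kz _ c2 hprod
  have n02 : d0 ≠ d2 := by
    rintro rfl
    rw [k01, mul_assoc, CC.sq c0, mul_one] at hprod
    exact kz _ c1 hprod
  have n12 : d1 ≠ d2 := by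
    rintro rfl
    rw [mul_assoc, CC.sq c1, mul_one] at hprod
    exact kz _ c0 hprod
  rcases S.cc_cases hZ c0 c1 c2 n01 n02 n12 hc with rfl | rfl | rfl
  · exact ⟨t, ht, l0⟩
  · exact ⟨s, hs, l1⟩
  · exact ⟨t * s, mul_mem ht hs, l2⟩

/-- a plane on `z` commutes with the labels of `z` -/
theorem cent (P : Plane Om W) (hz : z ∈ W) (hc : c ∈ CC Om z) (hx : x ∈ W) : c * x = x * c := by
  have h := S.w
  have hz1 : z ≠ 1 := (CC.inZ hc).z1 h
  by_cases x1 : x = 1
  · rw [x1, one_mul, mul_one]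
  by_cases xz : z = x
  · rw [← xz]; exact CC.comm_z h hc
  obtain ⟨d, l⟩ := (P.ti z hz x hx hz1 x1 xz).exists_lab h
  exact S.lab_comm l hc

/-- **the labels of `z` and `t` commute, `(z, t)` of type I** -/
theorem comm_labels (l : Lab Om z t c) {a b : G} (ha : a ∈ CC Om z) (hb : b ∈ CC Om t) : a * b = b * a := by
  have h := S.w
  obtain ⟨W, P, hz, ht⟩ := S.exists_plane l
  obtain ⟨v, hv, l'⟩ := S.labs P ht (l.ti.2.1.z1 h) hb
  exact l'.comm_line h (S.cent P hz ha ht) (S.cent P hz ha hv)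

/-- **coplanar labels** -/
theorem exists_common (l : Lab Om z t c) {a b : G} (ha : a ∈ CC Om z) (hb : b ∈ CC Om t) :
    ∃ y, a ∈ CC Om y ∧ b ∈ CC Om y := by
  have h := S.w
  obtain ⟨W, P, hz, ht⟩ := S.exists_plane l
  have z1 := l.ti.1.z1 h
  have t1 := l.ti.2.1.z1 h
  obtain ⟨u, hu, la⟩ := S.labs P hz z1 ha
  obtain ⟨v, hv, lb⟩ := S.labs P ht t1 hb
  have u1 := la.ti.2.1.z1 h
  have uz : u ≠ z := la.ne_zt.symm
  have v1 := lb.ti.2.1.z1 h
  have vt : v ≠ t := lb.ne_zt.symm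
  -- members of the line `{1, z, u, z u}` have the label `a`
  have hA : ∀ y, y = z ∨ y = u ∨ y = z * u → a ∈ CC Om y := by
    rintro y (rfl | rfl | rfl)
    · exact ha
    · exact (la.symm h).mem_CC
    · exact ((la.mul h).symm h).mem_CC
  have hB : ∀ y, y = t ∨ y = v ∨ y = t * v → b ∈ CC Om y := by
    rintro y (rfl | rfl | rfl)
    · exact hb
    · exact (lb.symm h).mem_CC
    · exact ((lb.mul h).symm h).mem_CC
  by_cases e1 : t = z ∨ t = u ∨ t = z * u
  · exact ⟨t, hA t e1, hb⟩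
  by_cases e2 : v = z ∨ v = u ∨ v = z * u
  · exact ⟨v, hA v e2, hB v (Or.inr (Or.inl rfl))⟩
  push Not at e1 e2
  have e3 := P.mul_mem_line h hz hu z1 u1 uz ht hv t1 e1.1 e1.2.1 e1.2.2 v1 e2.1 e2.2.1 e2.2.2
  have tv1 : t * v ≠ 1 := fun e => vt (by
    have := eq_inv_of_mul_eq_one_right e
    rw [inv_eq_of_mul_eq_one_right (P.sq h ht)] at this
    exact this)
  exact ⟨t * v, hA _ (e3.resolve_left tv1), hB _ (Or.inr (Or.inr rfl))⟩

end SW

end

end Cfsg.Agent.Cit.Nil.RTwo
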