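import Cfsg.Agent.Cit.Nil.RTwo.Pair

/-!
# S1309, `r = 2`, `m = 1`: the T-only world, (8.2)-(8.9)
-/

set_option autoImplicit false
set_option linter.unusedSectionVars false

namespace Cfsg.Agent.Cit.Nil.RTwo

open Subgroup Cfsg Cfsg.Agent.Cit

variable {G : Type*} [Group G] [Finite G] {Om : Set (Subgroup G)} {K L M : Subgroup G} {g t x y z s : G}

theorem eq_of_RZ (h : W2 Om) (hT : TO Om) (hz : InZ Om z) {v : G} (hv : InZ Om v) (hr : v ∈ RZ Om z) : v = z :=
  hT z v hz hv (Inn.of_RZ hz h hr)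

/-- (8.2) `z t ∉ Z` for a pair of type p -/
theorem PR.not_mem (hp : PR Om z t) (h : W2 Om) (hT : TO Om) : ¬ InZ Om (z * t) := by
  intro hzt
  obtain ⟨K, x, P⟩ := hp.exists_hp h
  set e := ee z t x 0 with he
  have hxz : x 0 * z = z * x 0 := (P.q.zc 0).symm
  have hs : InZ Om (t * e) := by rw [he, ← P.conj_t h]; exact hp.ht.conj h _
  have hps : PR Om (t * e) z := by
    have := (hp.symm h hT).conj h (x 0)
    rwa [P.conj_t h, hxz, mul_inv_cancel_right] at this
  have het := P.e_t h 0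
  have hez := P.e_z h 0
  have t2 : t * t = 1 := P.t2 h
  have hst : t * e ≠ t := fun h2 => P.e_ne_one h 0 (mul_eq_left.1 h2)
  rcases pr_or_fr h hs hp.ht hst (by rw [mul_assoc, het, ← mul_assoc]) with h2 | h2
  · have h3 : FR Om (t * e) (z * t) := by
      refine ⟨hs, hzt, ?_, ?_, fun M hM => ?_⟩
      · intro h4
        apply P.e_ne_z h 0
        rw [hp.comm] at h4
        exact mul_left_cancel h4
      · calc t * e * (z * t) = t * (e * z) * t := by group
          _ = t * (z * e) * t := by rw [hez]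
          _ = (t * z) * (e * t) := by group
          _ = (z * t) * (t * e) := by rw [het, hp.comm]
          _ = _ := by group
      · exact sw_mul h hM hps.sw h2.sw hps.comm.symm h2.comm.symm
    have h4 := (h3.exists_w h hT).1
    have h5 : t * e * (z * t) = e * z := by
      calc t * e * (z * t) = t * e * (t * z) := by rw [hp.comm]
        _ = t * (e * t) * z := by group
        _ = t * (t * e) * z := by rw [het]
        _ = (t * t) * (e * z) := by group
        _ = e * z := by rw [t2, one_mul]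
    rw [h5] at h4
    exact P.e_ne_one h 0 (mul_eq_right.1 (eq_of_RZ h hT hp.hz h4 (mul_mem (P.e_mem h 0) (z_mem_RZ hp.hz h))))
  · have h4 := (h2.exists_w h hT).1
    have h5 : t * e * t = e := by rw [mul_assoc, het, ← mul_assoc, t2, one_mul]
    rw [h5] at h4
    exact P.e_ne_z h 0 (eq_of_RZ h hT hp.hz h4 (P.e_mem h 0))

/-- commuting elements of `Z` with product outside `Z` -/
theorem pr_of (h : W2 Om) (hT : TO Om) (hz : InZ Om z) (ht : InZ Om t) (hne : z ≠ t) (hc : z * t = t * z)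
    (hn : ¬ InZ Om (z * t)) : PR Om z t := by
  rcases pr_or_fr h hz ht hne hc with h1 | h1
  · exact h1
  · exact absurd (h1.exists_w h hT).1 hn

namespace HP

variable {x l : Fin 3 → G} {i j : Fin 3}

theorem te_mem (P : HP Om z t K x) (h : W2 Om) (i : Fin 3) : InZ Om (t * ee z t x i) := by
  rw [← P.conj_t h]; exact P.pr.ht.conj h _

/-- `(z, t e_i)` -/
theorem pr_te (P : HP Om z t K x) (h : W2 Om) (i : Fin 3) : PR Om z (t * ee z t x i) := by
  rw [← P.conj_t h]; exact P.pr.conj_comm h (P.q.zc i).symm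

/-- `(t, t e_i)` -/
theorem pr_tte (P : HP Om z t K x) (h : W2 Om) (hT : TO Om) (i : Fin 3) : PR Om t (t * ee z t x i) := by
  refine pr_of h hT P.pr.ht (P.te_mem h i) (fun h1 => P.e_ne_one h i (mul_eq_left.1 h1.symm)) ?_ ?_
  · rw [mul_assoc, P.e_t h]
  · rw [← mul_assoc, P.t2 h, one_mul]
    exact fun h1 => P.e_ne_z h i (eq_of_RZ h hT P.pr.hz h1 (P.e_mem h i))

/-- `e_i` interchanges the members over `t` -/
theorem e_sw (P : HP Om z t K x) (h : W2 Om) (hT : TO Om) (i : Fin 3) (hM : Mem Om t M) :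
    cj (ee z t x i) M ≠ M := by
  intro h1
  apply (P.pr_tte h hT i).sw M hM
  rw [cj_mul, h1]
  exact (Inn.of_CX (z_mem_CX h)).cj_eq hM h

theorem z_sw (P : HP Om z t K x) (h : W2 Om) (hT : TO Om) (hM : Mem Om t M) : cj z M ≠ M :=
  (P.pr.symm h hT).sw M hM

/-- `z e_i` fixes the members over `t` -/
theorem c_fx (P : HP Om z t K x) (h : W2 Om) (hT : TO Om) (i : Fin 3) (hM : Mem Om t M) :
    cj (z * ee z t x i) M = M :=
  sw_mul h hM (fun _ hK => P.z_sw h hT hK) (fun _ hK => P.e_sw h hT i hK) P.pr.comm (P.e_t h i)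

theorem c_t (P : HP Om z t K x) (h : W2 Om) (i : Fin 3) : z * ee z t x i * t = t * (z * ee z t x i) := by
  rw [mul_assoc, P.e_t h, ← mul_assoc, P.pr.comm, mul_assoc]

theorem c_sq (P : HP Om z t K x) (h : W2 Om) (i : Fin 3) : z * ee z t x i * (z * ee z t x i) = 1 := by
  calc z * ee z t x i * (z * ee z t x i) = z * (ee z t x i * z) * ee z t x i := by group
    _ = z * z * (ee z t x i * ee z t x i) := by rw [P.e_z h]; group
    _ = 1 := by rw [P.q.z2, P.e_sq h, one_mul]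

theorem c_mul (P : HP Om z t K x) (h : W2 Om) (i j : Fin 3) :
    z * ee z t x i * (z * ee z t x j) = ee z t x i * ee z t x j := by
  calc z * ee z t x i * (z * ee z t x j) = z * (ee z t x i * z) * ee z t x j := by group
    _ = z * z * (ee z t x i * ee z t x j) := by rw [P.e_z h]; group
    _ = _ := by rw [P.q.z2, one_mul]

/-- (8.4) -/
theorem exists_inn (P : HP Om z t K x) (h : W2 Om) (hT : TO Om) : ∃ i, Inn Om t (z * ee z t x i) := by
  obtain ⟨L, l, Q⟩ := (P.pr.symm h hT).exists_hp h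
  have hact : ∀ i, ∃ σ, Act t l l (z * ee z t x i) σ := fun i =>
    Q.q.exists_act Q.q (P.c_fx h hT i Q.hK) (P.c_t h i)
  choose σ hσ using hact
  have h1 : ∀ i, σ i * σ i = 1 := by
    intro i
    have h2 := (hσ i).comp Q.q.z2 (hσ i) (P.c_t h i)
    rw [P.c_sq h] at h2
    exact h2.unique Q.q (Act.one l t)
  have h2 : σ 0 * σ 1 = σ 2 := by
    have h3 := (hσ 1).comp Q.q.z2 (hσ 0) (P.c_t h 0)
    rw [P.c_mul h, show (1 : Fin 3) = 0 + 1 from rfl, P.e_mul h] at h3
    exact h3.unique Q.q (hσ 2)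
  have key : ∀ a b : Equiv.Perm (Fin 3), a * a = 1 → b * b = 1 → (a * b) * (a * b) = 1 →
      a = 1 ∨ b = 1 ∨ a * b = 1 := by decide
  have hinn : ∀ i, σ i = 1 → Inn Om t (z * ee z t x i) := by
    intro i hi
    have h3 := hσ i
    rw [hi] at h3
    refine Q.inn_of h ?_ (h3.inner Q.q (P.c_t h i))
    rw [mul_assoc, P.e_z h]
  rcases key _ _ (h1 0) (h1 1) (by rw [h2]; exact h1 2) with h3 | h3 | h3
  · exact ⟨0, hinn _ h3⟩
  · exact ⟨1, hinn _ h3⟩
  · exact ⟨2, hinn _ (by rw [← h2]; exact h3)⟩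

/-- (8.5) -/
theorem c_not_CX' (P : HP Om z t K x) (h : W2 Om) (hT : TO Om) (i : Fin 3) : z * ee z t x i ∉ CX Om t := by
  intro hc
  obtain ⟨L, l, Q⟩ := (P.pr.symm h hT).exists_hp h
  obtain ⟨j, hj⟩ := Q.exists_inn h hT
  have h1 : l j * (t * ee z t x i) * (l j)⁻¹ = t * ee t z l j * ee z t x i := by
    have hlc : (z * ee z t x i) * l j = l j * (z * ee z t x i) := mem_CX.1 hc L Q.hK _ (Q.q.mem j)
    have h2 : ee z t x i = z * (z * ee z t x i) := by rw [P.q.zzx]
    calc l j * (t * ee z t x i) * (l j)⁻¹ = (l j * t) * (z * (z * ee z t x i)) * (l j)⁻¹ := by rw [← h2]; group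
      _ = (t * l j) * z * ((z * ee z t x i) * (l j)⁻¹) := by rw [Q.q.zc]; group
      _ = (t * l j) * z * ((l j)⁻¹ * (z * ee z t x i)) := by
        congr 1
        rw [eq_inv_mul_iff_mul_eq, ← mul_assoc, ← hlc, mul_inv_cancel_right]
      _ = t * (l j * z * (l j)⁻¹) * (z * ee z t x i) := by group
      _ = t * (z * ee t z l j) * (z * ee z t x i) := by rw [Q.conj_t h]
      _ = t * (ee t z l j * z) * (z * ee z t x i) := by rw [Q.e_t h]
      _ = t * ee t z l j * (z * z) * ee z t x i := by group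
      _ = _ := by rw [P.q.z2, mul_one]
  have h3 : t * ee t z l j * ee z t x i = z := by
    refine hT z _ P.pr.hz ?_ (hj.mul (Inn.of_RZ P.pr.hz h (P.e_mem h i)) P.pr.hz h)
    rw [← h1]; exact (P.te_mem h i).conj h _
  have h4 : t * ee t z l j = z * ee z t x i := by
    rw [← P.e_inv h i, eq_mul_inv_iff_mul_eq]; exact h3
  exact Q.c_not_CX h j (by rw [h4]; exact hc)

/-- `R_z ∩ X_t = 1` -/
theorem RZ_inf_CX (P : HP Om z t K x) (h : W2 Om) (hT : TO Om) {r : G} (hr : r ∈ RZ Om z) (hc : r ∈ CX Om t) :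
    r = 1 := by
  obtain ⟨L, hL⟩ := P.pr.ht
  have hfx : cj r L = L := (Inn.of_CX hc).cj_eq hL h
  rcases P.RZ_comm h hr (CX_le P.pr.ht h hc) with h1 | h1 | ⟨i, h1 | h1⟩
  · exact h1
  · rw [h1] at hfx; exact absurd hfx (P.z_sw h hT hL)
  · rw [h1] at hfx; exact absurd hfx (P.e_sw h hT i hL)
  · rw [h1] at hc; exact absurd hc (P.c_not_CX' h hT i)

/-- (8.5) `X_t ∩ C(z)` centralises `E_z` -/
theorem comm_e (P : HP Om z t K x) (h : W2 Om) (hT : TO Om) (hy : y ∈ CX Om t) (hyz : y * z = z * y) (i : Fin 3) :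
    y * ee z t x i = ee z t x i * y := by
  have h1 : y * ee z t x i * y⁻¹ * (ee z t x i)⁻¹ = 1 := by
    refine P.RZ_inf_CX h hT (mul_mem (RZ_conj_comm h hyz (P.e_mem h i)) (inv_mem (P.e_mem h i))) ?_
    have h2 : y * ee z t x i * y⁻¹ * (ee z t x i)⁻¹ = y * (ee z t x i * y⁻¹ * (ee z t x i)⁻¹) := by group
    rw [h2]
    exact mul_mem hy (CX_conj_comm h (P.e_t h i) (inv_mem hy))
  rwa [mul_inv_eq_one, mul_inv_eq_iff_eq_mul] at h1

/-- `y` commuting with `t`, `z`, `e_i` and fixing `K` acts on `R_z` as an element of `E_z` -/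
theorem cases_of_fix (P : HP Om z t K x) (h : W2 Om) (hyt : y * t = t * y) (hyz : y * z = z * y)
    (hye : ∀ i, y * ee z t x i = ee z t x i * y) (hf : cj y K = K) : y ∈ CX Om z ∨ ∃ j, y * ee z t x j ∈ CX Om z := by
  have hact : Act z x x y 1 := by
    intro i
    have h1 : y * x i * y⁻¹ ∈ K := by
      have := conj_mem_cj (g := y) (P.q.mem i)
      rwa [hf] at this
    have h2 : y * (t * x i * t⁻¹) * y⁻¹ = t * (y * x i * y⁻¹) * t⁻¹ := by
      have h3 : y * t = t * y := hyt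
      have h4 : t⁻¹ * y⁻¹ = y⁻¹ * t⁻¹ := by rw [← mul_inv_rev, ← mul_inv_rev, h3]
      calc y * (t * x i * t⁻¹) * y⁻¹ = (y * t) * x i * (t⁻¹ * y⁻¹) := by group
        _ = (t * y) * x i * (y⁻¹ * t⁻¹) := by rw [h3, h4]
        _ = _ := by group
    have h3 : (y * x i * y⁻¹) * (t * (y * x i * y⁻¹) * t⁻¹) = x i * (t * x i * t⁻¹) := by
      rw [← h2]
      have h4 : y * (z * ee z t x i) * y⁻¹ = z * ee z t x i := by
        calc y * (z * ee z t x i) * y⁻¹ = (y * z) * ee z t x i * y⁻¹ := by group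
          _ = z * (y * ee z t x i) * y⁻¹ := by rw [hyz]; group
          _ = _ := by rw [hye]; group
      rw [← P.xx_eq] at h4
      rw [← h4]; group
    have h5 : (x i)⁻¹ * (y * x i * y⁻¹) = (t * x i * t⁻¹) * (t * (y * x i * y⁻¹) * t⁻¹)⁻¹ := by
      rw [eq_mul_inv_iff_mul_eq, mul_assoc, h3, inv_mul_cancel_left]
    have h6 : (x i)⁻¹ * (y * x i * y⁻¹) = 1 ∨ (x i)⁻¹ * (y * x i * y⁻¹) = z := by
      refine P.hK.inf (P.hK' h) h P.ne' (mul_mem (inv_mem (P.q.mem i)) h1) ?_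
      rw [h5]
      exact mul_mem (P.q'.mem i) (inv_mem (conj_mem_cj h1))
    rcases h6 with h6 | h6
    · left
      exact (inv_mul_eq_one.1 h6).symm
    · right
      rw [inv_mul_eq_iff_eq_mul, ← P.q.zc] at h6
      exact h6
  rcases P.q.inner_cases (hact.inner P.q hyz) with h1 | ⟨j, h1⟩
  · exact Or.inl (P.mem_CX_of h hyt h1)
  · exact Or.inr ⟨j, P.mul_e_mem h hyt h1⟩

/-- (8.5) `X_t ∩ C(z) ≤ ⟨t⟩ E_z X_z` -/
theorem CX_cases (P : HP Om z t K x) (h : W2 Om) (hT : TO Om) (hy : y ∈ CX Om t) (hyz : y * z = z * y) :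
    (cj y K = K ∧ (y ∈ CX Om z ∨ ∃ j, y * ee z t x j ∈ CX Om z)) ∨
      (cj y K ≠ K ∧ (y * t ∈ CX Om z ∨ ∃ j, y * t * ee z t x j ∈ CX Om z)) := by
  have hyt : y * t = t * y := CX_le P.pr.ht h hy
  have hye := P.comm_e h hT hy hyz
  by_cases hf : cj y K = K
  · exact Or.inl ⟨hf, P.cases_of_fix h hyt hyz hye hf⟩
  · right
    refine ⟨hf, P.cases_of_fix h (by rw [hyt, mul_assoc, hyt]) ?_ ?_ ?_⟩
    · rw [mul_assoc, ← P.pr.comm, ← mul_assoc, hyz, mul_assoc]
    · intro i
      rw [mul_assoc, ← P.e_t h, ← mul_assoc, hye, mul_assoc]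
    · refine sw_mul h P.hK (fun M hM => ?_) P.pr.sw hyz P.pr.comm.symm
      rcases P.cases h hM with rfl | rfl
      · exact hf
      · intro h1
        apply hf
        rw [← cj_mul, hyt, cj_mul] at h1
        exact cj_inj.1 h1

/-- (8.6) -/
theorem exists_eq (P : HP Om z t K x) (Q : HP Om t z L l) (h : W2 Om) (hT : TO Om)
    (hi : Inn Om t (z * ee z t x i)) : ∃ a, t * ee z t x i = z * ee t z l a := by
  have hcz : z * ee z t x i * z = z * (z * ee z t x i) := by rw [mul_assoc, P.e_z h]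
  rcases Q.q.inner_cases (hi L Q.hK) with h1 | ⟨a, h1⟩
  · exact absurd (Q.mem_CX_of h hcz h1) (P.c_not_CX' h hT i)
  refine ⟨a, ?_⟩
  set c := z * ee z t x i with hc
  set f := ee t z l a with hf
  have hcf : c * f ∈ CX Om t := Q.mul_e_mem h hcz h1
  have hcfz : c * f * z = z * (c * f) := by rw [mul_assoc, Q.e_t h, ← mul_assoc, hcz, mul_assoc]
  have hcInn : Inn Om z c := Inn.of_RZ P.pr.hz h (mul_mem (z_mem_RZ P.pr.hz h) (P.e_mem h i))
  -- `c f` moves `K`
  have hmv : cj (c * f) K ≠ K := by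
    intro h2
    apply Q.e_sw h hT a P.hK
    rw [cj_mul] at h2
    have h3 := hcInn.cj_eq P.hK h
    exact cj_inj.1 (h2.trans h3.symm)
  have hInn : Inn Om z (c * f * t) := by
    rcases P.CX_cases h hT hcf hcfz with ⟨h2, -⟩ | ⟨-, h2 | ⟨j, h2⟩⟩
    · exact absurd h2 hmv
    · exact Inn.of_CX h2
    · exact (Inn.of_RZ P.pr.hz h (P.e_mem h j)).mul_right (Inn.of_CX h2) P.pr.hz h
  have hft : f * t = t * f := Q.e_z h a
  have hInn' : Inn Om z (t * f) := by
    rw [mul_assoc, hft] at hInn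
    exact hcInn.mul_left hInn P.pr.hz h
  -- conjugate `t e_i` by `l a`
  have hlc : c * l a = l a * c := by
    have := h1 (l a) (Q.q.mem a)
    rwa [Q3.conj_self, mul_inv_eq_iff_eq_mul] at this
  have h2 : l a * (t * ee z t x i) * (l a)⁻¹ = t * f * ee z t x i := by
    have h3 : ee z t x i = z * c := by rw [hc, P.q.zzx]
    calc l a * (t * ee z t x i) * (l a)⁻¹ = (l a * t) * (z * c) * (l a)⁻¹ := by rw [← h3]; group
      _ = (t * l a) * z * (c * (l a)⁻¹) := by rw [Q.q.zc]; group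
      _ = (t * l a) * z * ((l a)⁻¹ * c) := by
        congr 1
        rw [eq_inv_mul_iff_mul_eq, ← mul_assoc, ← hlc, mul_inv_cancel_right]
      _ = t * (l a * z * (l a)⁻¹) * c := by group
      _ = t * (z * f) * c := by rw [Q.conj_t h]
      _ = t * (f * z) * c := by rw [hf, Q.e_t h]
      _ = t * f * (z * c) := by group
      _ = _ := by rw [← h3]
  have h3 : t * f * ee z t x i = z := by
    refine hT z _ P.pr.hz ?_ (hInn'.mul (Inn.of_RZ P.pr.hz h (P.e_mem h i)) P.pr.hz h)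
    rw [← h2]; exact (P.te_mem h i).conj h _
  have h4 : t * f = z * ee z t x i := by
    rw [← P.e_inv h i, eq_mul_inv_iff_mul_eq]; exact h3
  have h5 : f = t * (z * ee z t x i) := by rw [← h4, ← mul_assoc, P.t2 h, one_mul]
  rw [h5]
  calc t * ee z t x i = t * (z * (z * ee z t x i)) := by rw [P.q.zzx]
    _ = (t * z) * (z * ee z t x i) := by group
    _ = (z * t) * (z * ee z t x i) := by rw [P.pr.comm]
    _ = _ := by group

end HP

end Cfsg.Agent.Cit.Nil.RTwo
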