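import Cfsg.Agent.Cit.Nil.RTwo.TenZ

/-!
# (10.1) of the blueprint

`V = ⟨z, s⟩` a type I line with label `c`, `t ∈ Z ∩ C(V)`.

* `Lab.comm_of` : `C(V)` centralises the label;
* `Lab.conj_f` : `t` of type f with respect to `s`: `t z c ∈ t^{R_s}`;
* `Lab.e_eq` : moreover `t` of type p with respect to `z`: `s c = z e_i` for some `i`;
* `f_twice'` : `t` of type f with respect to `z` and `s`: some `t^r`, `r ∈ R_s`, is of type I with respect to `z`;
* `Lab.status` : if `t` is not of type I with respect to the elements of `V`: the four cases.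
-/

set_option autoImplicit false
set_option linter.style.haveILetI false
set_option linter.unusedSectionVars false
set_option maxHeartbeats 400000

namespace Cfsg.Agent.Cit.Nil.RTwo

open Subgroup Cfsg Cit

variable {G : Type*} [Group G] [Finite G] {Om : Set (Subgroup G)} {K K1 K2 L M L1 L2 : Subgroup G}
  {z t u v g r s y w c c' : G} {x l : Fin 3 → G}

theorem Lab.comm_of (h : W2 Om) (l : Lab Om z s c) (hgz : g * z = z * g) (hgs : g * s = s * g) : g * c = c * g := by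
  have h1 := l.conj h g
  rw [hgz, mul_inv_cancel_right, hgs, mul_inv_cancel_right] at h1
  have h2 := l.unique h h1
  rw [eq_mul_inv_iff_mul_eq] at h2
  exact h2.symm

/-- `t` inverts `k ∈ L1` and `m ∈ L2` -/
theorem FT.conj_dir (hp : FT Om s t) (h : W2 Om) (hL1 : Mem Om s L1) (hL2 : Mem Om s L2) (hne : L1 ≠ L2) {k m : G}
    (hk : k ∈ L1) (hkk : k * k = s) (hm : m ∈ L2) (hmm : m * m = s) (htk : t * k * t⁻¹ = k ∨ t * k * t⁻¹ = s * k)
    (htm : t * m * t⁻¹ = m ∨ t * m * t⁻¹ = s * m) : ∃ r ∈ RZ Om s, r * t * r⁻¹ = t * (k * m) := by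
  obtain ⟨-, r1, hr1, e1⟩ := hp.inv_axis h hL1 hk hkk htk
  obtain ⟨-, r2, hr2, e2⟩ := hp.inv_axis h hL2 hm hmm htm
  refine ⟨r1 * r2, mul_mem (hL1.le_RZ hr1) (hL2.le_RZ hr2), ?_⟩
  have e3 := hL1.comm hL2 h hne hr1 hm
  calc r1 * r2 * t * (r1 * r2)⁻¹ = r1 * (r2 * t * r2⁻¹) * r1⁻¹ := by group
    _ = r1 * t * r1⁻¹ * (r1 * m) * r1⁻¹ := by rw [e2]; group
    _ = t * k * (m * r1) * r1⁻¹ := by rw [e1, e3]
    _ = _ := by group

/-- (10.1): `t z c ∈ t^{R_s}` -/
theorem Lab.conj_f (h : W2 Om) (l : Lab Om z s c) (hf : FT Om s t) (htz : t * z = z * t) :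
    ∃ r ∈ RZ Om s, r * t * r⁻¹ = t * (z * c) := by
  obtain ⟨K1, K2, L1, L2, a, b, p, q, C⟩ := l.ti.exists_cf h
  have h1 := C.fix_or htz (hf.fr.fx L1 C.l1)
  have h2 := C.swl.fix_or htz (hf.fr.fx L2 C.l2)
  rcases C.symm.tc_eq h (l.symm h) with h3 | h3
  · rw [h3]
    exact hf.conj_dir h C.l1 C.l2 C.lne (C.qc.mem 0) (C.qc.sq 0) (C.qd.mem 0) (C.qd.sq 0) h1 h2
  · have hzs : t * (s * p 0) * t⁻¹ = s * (t * p 0 * t⁻¹) := by
      calc t * (s * p 0) * t⁻¹ = (t * s) * p 0 * t⁻¹ := by group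
        _ = (s * t) * p 0 * t⁻¹ := by rw [hf.fr.comm]
        _ = _ := by group
    have hss : s * p 0 * (s * p 0) = s := by
      calc s * p 0 * (s * p 0) = s * (p 0 * s) * p 0 := by group
        _ = s * (s * p 0) * p 0 := by rw [C.qc.zc]
        _ = (s * s) * (p 0 * p 0) := by group
        _ = s := by rw [C.t2, C.qc.sq, one_mul]
    rw [h3, ← mul_assoc s]
    refine hf.conj_dir h C.l1 C.l2 C.lne (mul_mem C.qc.zmem (C.qc.mem 0)) hss (C.qd.mem 0) (C.qd.sq 0) ?_ h2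
    rw [hzs]
    rcases h1 with h1 | h1
    · left; rw [h1]
    · right; rw [h1]

/-- (10.1): `t` of type p with respect to `z`, of type f with respect to `s`: `s c = z e_i` -/
theorem Lab.e_eq (h : W2 Om) (h1 : NE Om) (l : Lab Om z s c) (P : HP Om z t K x) (hf : FT Om s t) :
    ∃ i, s * c = z * ee z t x i := by
  have htz : t * z = z * t := P.pr.comm.symm
  have hts : t * s = s * t := hf.fr.comm.symm
  have htc : t * c = c * t := l.comm_of h htz hts
  have h2 : s * c * t = t * (s * c) := by rw [mul_assoc, ← htc, ← mul_assoc, ← hts, mul_assoc]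
  rcases P.RZ_comm h l.wz h2 with h3 | h3 | ⟨i, h3 | h3⟩
  · exfalso
    apply l.ne_t h
    rw [← l.cinv, eq_comm]
    exact eq_inv_of_mul_eq_one_left h3
  · exfalso
    apply l.ne_zmt h
    rw [l.zt, ← h3, ← mul_assoc, l.t2 h, one_mul]
  · exfalso
    obtain ⟨r, -, hr⟩ := l.conj_f h hf htz
    have h4 : InZ Om (t * (z * c)) := by rw [← hr]; exact hf.fr.ht.conj h r
    have h5 := h4.conj h (x i)
    have hxc : x i * c = c * x i := (mem_CX.1 l.cz K P.hK _ (P.q.mem i)).symm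
    have hxz : x i * z = z * x i := (P.q.zc i).symm
    have e1 : x i * (t * (z * c)) * (x i)⁻¹ = z * (t * s) := by
      calc x i * (t * (z * c)) * (x i)⁻¹ = (x i * t * (x i)⁻¹) * ((x i * z) * c * (x i)⁻¹) := by group
        _ = (t * (s * c)) * ((z * x i) * c * (x i)⁻¹) := by rw [P.conj_t h, h3, hxz]
        _ = (t * (s * c)) * (z * (x i * c) * (x i)⁻¹) := by group
        _ = (t * (s * c)) * (z * c) := by rw [hxc]; group
        _ = t * s * (c * z) * c := by group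
        _ = t * s * (z * c) * c := by rw [l.comm_z h]
        _ = t * (s * z) * (c * c) := by group
        _ = t * (z * s) := by rw [l.sq, mul_one, l.zt]
        _ = (t * z) * s := by group
        _ = z * (t * s) := by rw [htz, mul_assoc]
    rw [e1] at h5
    have hsw : Sw Om z (t * s) := P.pr.sw'.mul_fx (l.ti.fr h).fx'
    have h6 : PR Om z (t * s) := by
      refine ⟨P.pr.hz, ?_, ?_, ?_, hsw⟩
      · rw [hts]; exact hf.mul h
      · intro e
        rw [← e] at hsw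
        exact fx_sw_false P.pr.hz ((Inn.of_CX (z_mem_CX h)).fx h) hsw
      · rw [← mul_assoc, ← htz, mul_assoc, l.zt, mul_assoc]
    exact h6.not_mul h h1 h5
  · exact ⟨i, h3⟩

/-- (6.6): `t` of type f with respect to `z` and `s` -/
theorem f_twice' (h : W2 Om) (hti : TI Om z s) (h1 : FT Om z t) (h2 : FT Om s t) :
    ∃ r ∈ RZ Om s, TI Om z (r * t * r⁻¹) := by
  obtain ⟨K1, K2, L1, L2, a, b, p, q, C⟩ := hti.exists_cf h
  have htz : t * z = z * t := h1.fr.comm.symm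
  have hts : t * s = s * t := h2.fr.comm.symm
  obtain ⟨-, r, hr, hrt⟩ := C.star h h2 htz
  refine ⟨r, C.l1.le_RZ hr, ?_⟩
  rw [hrt]
  obtain ⟨σ, hσ, e1, e2⟩ := h1.act h C.k1 C.qa
  have hK1 : cj t K1 = K1 := h1.fr.fx K1 C.k1
  have e3 : σ 0 = 0 := by
    rcases C.symm.fix_or hts hK1 with e4 | e4 <;> rcases hσ 0 with e5 | e5
    · exact (C.qa.inj (Or.inl (e4.symm.trans e5))).symm
    · exact (C.qa.inj (Or.inr (e4.symm.trans e5))).symm
    · exact C.qa.inj (Or.inr (e5.symm.trans e4))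
    · exact (C.qa.inj (Or.inl (mul_left_cancel (e4.symm.trans e5)))).symm
  have e4 := rf_of e3 e2
  rw [e4] at hσ
  have e5 := (C.act_p0 h).comp C.z2 hσ htz
  have e6 : rf 0 * rf 0 = 1 := by decide
  rw [e6] at e5
  have hz' := C.star_z h htz
  have e7 := h.inn_both C.k1 (C.star_inZ h h2 htz) (C.star_ne h h2).symm (e5.inner C.qa hz')
  exact ⟨C.k1.inZ, C.star_inZ h h2 htz, C.star_ne h h2, hz'.symm, e7.1⟩

/-- the types of `t ∈ Z ∩ C(V)` if it is not of type I with respect to the elements of `V` -/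
theorem Lab.status (h : W2 Om) (h1 : NE Om) (l : Lab Om z s c) (ht : InZ Om t) (hzt : z * t = t * z)
    (hst : s * t = t * s) (n1 : ¬ TI Om z t) (n2 : ¬ TI Om s t) (n3 : ¬ TI Om (z * s) t) (m1 : z ≠ t) (m2 : s ≠ t)
    (m3 : z * s ≠ t) :
    (FT Om z t ∧ FT Om s t ∧ FT Om (z * s) t) ∨ (PR Om z t ∧ PR Om s t ∧ FT Om (z * s) t) ∨
      (PR Om z t ∧ FT Om s t ∧ PR Om (z * s) t) ∨ (FT Om z t ∧ PR Om s t ∧ PR Om (z * s) t) := by
  have h2 : PTwo Om z s := by
    by_contra h2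
    exact h1 z ((l.eq_one h h2) ▸ l.mem_CC)
  have hz := l.ti.1
  have hs := l.ti.2.1
  have hzs : InZ Om (z * s) := (l.ti.mul h).2.1
  have hzst : z * s * t = t * (z * s) := by rw [mul_assoc, hst, ← mul_assoc, hzt, mul_assoc]
  have key : ∀ {v : G}, InZ Om v → v ≠ t → v * t = t * v → ¬ TI Om v t →
      (Fx Om v t → FT Om v t) ∧ (Sw Om v t → PR Om v t) := by
    intro v hv hne hc hn
    rcases tcases h hv ht hne hc with h3 | h3 | h3
    · exact ⟨fun h4 => (fx_sw_false hv h4 h3.sw).elim, fun _ => h3⟩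
    · exact ⟨fun _ => h3, fun h4 => (fx_sw_false hv h3.fr.fx h4).elim⟩
    · exact absurd h3 hn
  obtain ⟨a1, b1⟩ := key hz m1 hzt n1
  obtain ⟨a2, b2⟩ := key hs m2 hst n2
  obtain ⟨a3, b3⟩ := key hzs m3 hzst n3
  rcases eps_two h l.ti h2 hzt.symm hst.symm with ⟨e1, e2, e3⟩ | ⟨e1, e2, e3⟩ | ⟨e1, e2, e3⟩ | ⟨e1, e2, e3⟩
  · exact Or.inl ⟨a1 e1, a2 e2, a3 e3⟩
  · exact Or.inr (Or.inl ⟨b1 e1, b2 e2, a3 e3⟩)
  · exact Or.inr (Or.inr (Or.inl ⟨b1 e1, a2 e2, b3 e3⟩))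
  · exact Or.inr (Or.inr (Or.inr ⟨a1 e1, b2 e2, b3 e3⟩))

end Cfsg.Agent.Cit.Nil.RTwo
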