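import Cfsg.Agent.Cit.Nil.RTwo.TenOne
import Cfsg.Agent.Cit.Nil.RTwo.TTwo

/-!
# (10.2) of the blueprint

* `U10 Om` : the world of section 10: no label is trivial, the directions of a label contain a diagonal through
  each of their points;
* `DelC Om c z t` : `z`, `t` are connected by type I lines with the label `c`;
* `U10.conn` : commuting members of `Z_c = {b | c ∈ CC Om b}` are connected.
-/

set_option autoImplicit false
set_option linter.style.haveILetI false
set_option linter.unusedSectionVars false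
set_option maxHeartbeats 400000

namespace Cfsg.Agent.Cit.Nil.RTwo

open Subgroup Cfsg Cit

variable {G : Type*} [Group G]

/-- the world of section 10 -/
structure U10 (Om : Set (Subgroup G)) : Prop where
  w : W2 Om
  ne : NE Om
  diag : ∀ ⦃z : G⦄ ⦃K1 K2 : Subgroup G⦄ ⦃a b : Fin 3 → G⦄, Frame Om z K1 K2 a b → ∀ (c : G) (p : Fin 3 × Fin 3),
    p ∈ DC Om z a b c → (∀ i, (p.1 + i, p.2 + i) ∈ DC Om z a b c) ∨ (∀ i, (p.1 + i, p.2 - i) ∈ DC Om z a b c)

/-- connected by type I lines with the label `c` -/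
def DelC (Om : Set (Subgroup G)) (c z t : G) : Prop := Relation.ReflTransGen (fun u v => Lab Om u v c) z t

variable [Finite G] {Om : Set (Subgroup G)} {K K1 K2 L M L1 L2 : Subgroup G} {z t u v g r s y w c c' : G}
  {x l a b : Fin 3 → G}

theorem Lab.del (l : Lab Om z t c) : DelC Om c z t := Relation.ReflTransGen.single l

theorem DelC.refl (c z : G) : DelC Om c z z := Relation.ReflTransGen.refl

theorem DelC.trans (h1 : DelC Om c z t) (h2 : DelC Om c t s) : DelC Om c z s := Relation.ReflTransGen.trans h1 h2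

theorem DelC.symm (h : W2 Om) (hd : DelC Om c z t) : DelC Om c t z := by
  induction hd with
  | refl => exact Relation.ReflTransGen.refl
  | tail _ h2 ih => exact Relation.ReflTransGen.head (h2.symm h) ih

theorem DelC.conj (h : W2 Om) (hd : DelC Om c z t) (hg : g * c = c * g) :
    DelC Om c (g * z * g⁻¹) (g * t * g⁻¹) := by
  have hc : g * c * g⁻¹ = c := by rw [hg, mul_inv_cancel_right]
  induction hd with
  | refl => exact Relation.ReflTransGen.refl
  | tail _ h2 ih =>
    refine Relation.ReflTransGen.tail ih ?_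
    have h3 := h2.conj h g
    rwa [hc] at h3

theorem DelC.mem_CC (h : W2 Om) (hd : DelC Om c z t) (hc : c ∈ CC Om z) : c ∈ CC Om t := by
  induction hd with
  | refl => exact hc
  | tail _ h2 _ => exact (h2.symm h).mem_CC

/-- `r` commutes with `s` and the label -/
theorem DelC.conj_iff (h : W2 Om) (hs : DelC Om c z s) (hr : r * s = s * r) (hrc : r * c = c * r) :
    DelC Om c z t ↔ DelC Om c z (r * t * r⁻¹) := by
  have hrs : r * s * r⁻¹ = s := by rw [hr, mul_inv_cancel_right]
  have hrc' : r⁻¹ * c = c * r⁻¹ := by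
    rw [inv_mul_eq_iff_eq_mul, ← mul_assoc, hrc, mul_inv_cancel_right]
  constructor
  · intro h1
    have h2 := ((hs.symm h).trans h1).conj h hrc
    rw [hrs] at h2
    exact hs.trans h2
  · intro h1
    have h2 := ((hs.symm h).trans h1).conj h hrc'
    have e1 : r⁻¹ * s * r⁻¹⁻¹ = s := by rw [inv_inv, mul_assoc, ← hr]; group
    have e2 : r⁻¹ * (r * t * r⁻¹) * r⁻¹⁻¹ = t := by group
    rw [e1, e2] at h2
    exact hs.trans h2

/-- type I pairs in `Z_c` have the label `c` -/
theorem TI.lab (h : W2 Om) (hti : TI Om z t) (hc : c ∈ CC Om z) (hc' : c ∈ CC Om t) : Lab Om z t c := by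
  obtain ⟨d, l⟩ := hti.exists_lab h
  have h1 : c * (t * d) = t * d * c := CX_comm l.wz (CC.mem_CX hc)
  have h2 : c * t = t * c := CX_le hti.2.1 h (CC.mem_CX hc')
  have h3 : d * c = c * d := by
    have h4 : t * (d * c) = t * (c * d) := by
      rw [← mul_assoc, ← h1, ← mul_assoc, h2, mul_assoc]
    exact mul_left_cancel h4
  by_cases h4 : d = c
  · rw [← h4]; exact l
  · exact (fx_sw_false hti.2.1 ((Inn.of_CX (CC.mem_CX hc')).fx h) (l.sw h hc h3 h4)).elim

theorem HP.frame (P : HP Om z t K x) (h : W2 Om) : Frame Om z K (cj t K) x (fun i => t * x i * t⁻¹) :=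
  ⟨P.hK, P.hK' h, P.ne', P.q, P.q'⟩

theorem HP.dir_iff (P : HP Om z t K x) {i : Fin 3} :
    Dir z x (fun i => t * x i * t⁻¹) w i i ↔ (w = ee z t x i ∨ w = z * ee z t x i) := by
  unfold Dir
  simp only
  rw [P.xx_eq, P.q.zzx]
  exact or_comm

theorem HP.e_dir (P : HP Om z t K x) (h : W2 Om) {i j : Fin 3} (h1 : w = ee z t x i ∨ w = z * ee z t x i)
    (h2 : w = z * ee z t x j) : i = j :=
  ((P.frame h).dir_unique h (P.dir_iff.2 h1) (P.dir_iff.2 (Or.inr h2))).1

/-- a line with the label `c` -/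
theorem Lab.status' (h : W2 Om) (h1 : NE Om) (l : Lab Om z s c) (ht : c ∈ CC Om t)
    (hzt : z * t = t * z) (hst : s * t = t * s) (hnd : ¬ DelC Om c z t) :
    (FT Om z t ∧ FT Om s t ∧ FT Om (z * s) t) ∨ (PR Om z t ∧ PR Om s t ∧ FT Om (z * s) t) ∨
      (PR Om z t ∧ FT Om s t ∧ PR Om (z * s) t) ∨ (FT Om z t ∧ PR Om s t ∧ PR Om (z * s) t) := by
  have lm := l.mul h
  refine l.status h h1 (CC.inZ ht) hzt hst ?_ ?_ ?_ ?_ ?_ ?_
  · intro h2; exact hnd (h2.lab h l.mem_CC ht).del
  · intro h2; exact hnd (l.del.trans (h2.lab h (l.symm h).mem_CC ht).del)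
  · intro h2; exact hnd (lm.del.trans (h2.lab h (lm.symm h).mem_CC ht).del)
  · rintro rfl; exact hnd (DelC.refl _ _)
  · rintro rfl; exact hnd l.del
  · rintro rfl; exact hnd lm.del

theorem add_sub_key (i i0 : Fin 3) : i0 + (i - i0) = i := by revert i i0; decide

theorem sub_sub_key (i i0 : Fin 3) : i0 - (i - i0) = -i0 - i := by revert i i0; decide

theorem perm3_key (σ τ ρ : Equiv.Perm (Fin 3)) (h1 : σ * σ = 1) (h2 : σ ≠ 1) (h3 : τ * τ = 1) (h4 : τ ≠ 1)
    (h5 : ρ * ρ = 1) (h6 : ρ ≠ 1) : ρ * (τ * σ) ≠ 1 := by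
  revert σ τ ρ; decide

/-- all directions of the graph of `t` occur over `c` -/
theorem HP.del_of_all (h : W2 Om) (h1 : NE Om) (P : HP Om z t K x) (ht : c ∈ CC Om t)
    (hdir : ∀ i, ∃ s, Lab Om z s c ∧ (s * c = ee z t x i ∨ s * c = z * ee z t x i)) : DelC Om c z t := by
  by_contra hnd
  have htc : t * c = c * t := (CC.comm_z h ht).symm
  have htz : t * z = z * t := P.pr.comm.symm
  have key : ∀ i, ∃ s, FT Om s t ∧ s = z * ee z t x i * c := by
    intro i
    obtain ⟨s0, l0, hs0⟩ := hdir i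
    have hs0t : s0 * t = t * s0 := by
      have h2 : s0 * c * t = t * (s0 * c) := by
        rcases hs0 with h3 | h3
        · rw [h3, P.e_t h]
        · rw [h3, mul_assoc, P.e_t h, ← mul_assoc, ← mul_assoc, htz]
      have h3 : s0 * t * c = t * s0 * c := by
        rw [mul_assoc, htc, ← mul_assoc, h2, mul_assoc]
      exact mul_right_cancel h3
    have lm := l0.mul h
    have h4 : ∃ s, Lab Om z s c ∧ FT Om s t ∧ (s * c = ee z t x i ∨ s * c = z * ee z t x i) := by
      rcases l0.status' h h1 ht P.pr.comm hs0t hnd with h3 | h3 | h3 | h3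
      · exact (P.pr.not_fr h3.1.fr).elim
      · refine ⟨z * s0, lm, h3.2.2, ?_⟩
        rw [mul_assoc]
        rcases hs0 with h5 | h5
        · right; rw [h5]
        · left; rw [h5, P.q.zzx]
      · exact ⟨s0, l0, h3.2.1, hs0⟩
      · exact (P.pr.not_fr h3.1.fr).elim
    obtain ⟨s, l, hf, hs⟩ := h4
    obtain ⟨j, hj⟩ := l.e_eq h h1 P hf
    have hij := P.e_dir h hs hj
    subst hij
    refine ⟨s, hf, ?_⟩
    rw [← hj, mul_assoc, l.sq, mul_one]
  choose s hf hs using key
  have hcE : ∀ i, c * (z * ee z t x i) = z * ee z t x i * c := by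
    intro i
    obtain ⟨s0, l0, -⟩ := hdir i
    exact CX_comm (mul_mem (z_mem_RZ P.pr.hz h) (P.e_mem h i)) l0.cz
  have hcc : c * c = 1 := CC.sq ht
  have hprod : s 0 * (s 1 * s 2) = c := by
    have e3 : ee z t x 0 * ee z t x 1 = z * ee z t x 2 := P.e_mul h 0
    have e4 : z * ee z t x 0 * (z * ee z t x 1) = z * ee z t x 2 := by
      calc z * ee z t x 0 * (z * ee z t x 1) = z * (ee z t x 0 * z) * ee z t x 1 := by group
        _ = (z * z) * (ee z t x 0 * ee z t x 1) := by rw [P.e_z h]; group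
        _ = _ := by rw [P.q.z2, one_mul, e3]
    have e5 : z * ee z t x 2 * (z * ee z t x 2) = 1 := by
      calc z * ee z t x 2 * (z * ee z t x 2) = z * (ee z t x 2 * z) * ee z t x 2 := by group
        _ = (z * z) * (ee z t x 2 * ee z t x 2) := by rw [P.e_z h]; group
        _ = 1 := by rw [P.q.z2, one_mul, P.e_sq h]
    rw [hs 0, hs 1, hs 2]
    calc z * ee z t x 0 * c * (z * ee z t x 1 * c * (z * ee z t x 2 * c))
        = z * ee z t x 0 * (c * (z * ee z t x 1)) * (c * (z * ee z t x 2)) * c := by group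
      _ = z * ee z t x 0 * (z * ee z t x 1) * (c * (z * ee z t x 2)) * c * c := by
          rw [hcE 1, hcE 2]
          calc z * ee z t x 0 * (z * ee z t x 1 * c) * (z * ee z t x 2 * c) * c
              = z * ee z t x 0 * (z * ee z t x 1) * (c * (z * ee z t x 2)) * c * c := by group
            _ = _ := by rw [hcE 2]
      _ = z * ee z t x 0 * (z * ee z t x 1) * (z * ee z t x 2) * (c * c) * c := by rw [hcE 2]; group
      _ = c := by rw [e4, e5, hcc, one_mul, one_mul]
  obtain ⟨L, hL⟩ := CC.inZ ht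
  obtain ⟨l, q⟩ := h.exists_q3 hL
  have hft : ∀ i, FT Om t (s i) := fun i => (hf i).symm' h h1
  obtain ⟨σ0, a0, b0, c0⟩ := (hft 0).act h hL q
  obtain ⟨σ1, a1, b1, c1⟩ := (hft 1).act h hL q
  obtain ⟨σ2, a2, b2, c2⟩ := (hft 2).act h hL q
  have e1 := a2.comp q.z2 a1 (hft 1).fr.comm.symm
  have e2 := e1.comp q.z2 a0 (hft 0).fr.comm.symm
  rw [hprod] at e2
  have e3 : Act t l l c 1 := Act.of_inner q (Inn.of_CX (CC.mem_CX ht) L hL)
  exact perm3_key _ _ _ b2 c2 b1 c1 b0 c0 (e2.unique q e3)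

namespace Cf

variable {a b p q : Fin 3 → G} (C : Cf Om z s K1 K2 L1 L2 a b p q)

include C

/-- an element of order 4 of `L1` commuting with `z` -/
theorem of_comm_z {k : G} (hk : k ∈ L1) (hkk : k * k = s) (hkz : k * z = z * k) : k = p 0 ∨ k = s * p 0 := by
  obtain ⟨i, hi⟩ := C.qc.of_sq hk hkk
  by_cases h0 : i = 0
  · subst h0; exact hi
  · exfalso
    have h1 := C.zc k hk
    rw [← hkz, mul_inv_cancel_right] at h1
    have h2 : p 0 * k * (p 0)⁻¹ = s * k := by
      rcases hi with rfl | rfl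
      · exact C.qc.conj_ne (Ne.symm h0)
      · calc p 0 * (s * p i) * (p 0)⁻¹ = (p 0 * s) * p i * (p 0)⁻¹ := by group
          _ = s * (p 0 * p i * (p 0)⁻¹) := by rw [← C.qc.zc]; group
          _ = _ := by rw [C.qc.conj_ne (Ne.symm h0)]
    rw [h2] at h1
    exact C.qc.zne _ h1.symm

theorem fix_or' {k : G} (hk : k ∈ L1) (hkk : k * k = s) (hkz : k * z = z * k) (hts : t * s = s * t)
    (htz : t * z = z * t) (htL : cj t L1 = L1) : t * k * t⁻¹ = k ∨ t * k * t⁻¹ = s * k := by
  have h1 := C.fix_or htz htL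
  rcases C.of_comm_z hk hkk hkz with rfl | rfl
  · exact h1
  · have e : t * (s * p 0) * t⁻¹ = s * (t * p 0 * t⁻¹) := by
      calc t * (s * p 0) * t⁻¹ = (t * s) * p 0 * t⁻¹ := by group
        _ = (s * t) * p 0 * t⁻¹ := by rw [hts]
        _ = _ := by group
    rw [e]
    rcases h1 with h1 | h1
    · left; rw [h1]
    · right; rw [h1]

end Cf

/-- the f-point of a line: the conjugation of `t` by an element over `s` -/
theorem Lab.exists_star (h : W2 Om) (F : Frame Om z K1 K2 a b) (l : Lab Om z s c) {p : Fin 3 × Fin 3}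
    (hp : Dir z a b (s * c) p.1 p.2) (hf : FT Om s t) (htz : t * z = z * t) :
    ∃ th, th * z = z * th ∧ Act z a a th (rf p.1) ∧ Act z b b th (rf p.2) ∧
      ∃ r ∈ RZ Om s, r * t * r⁻¹ = t * th := by
  obtain ⟨th, h1, h2, h3, ⟨L, hL, hth⟩, ha, hb, -⟩ := l.exists_theta h F hp
  obtain ⟨K1', K2', L1, L2, a', b', p', q', C⟩ := l.ti.exists_cf h
  have hts : t * s = s * t := hf.fr.comm.symm
  have h4 : t * th * t⁻¹ = th ∨ t * th * t⁻¹ = s * th := by
    rcases C.l1.cases C.l2 h C.lne hL with rfl | rfl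
    · exact C.fix_or' hth h1 h2 hts htz (hf.fr.fx L hL)
    · exact C.swl.fix_or' hth h1 h2 hts htz (hf.fr.fx L hL)
  obtain ⟨-, r, hr, hrt⟩ := hf.inv_axis h hL hth h1 h4
  exact ⟨th, h2, ha, hb, r, hL.le_RZ hr, hrt⟩

theorem isPGroup_zp (ht : InZ Om t) (h : W2 Om) : IsPGroup 2 (zpowers t) := isPGroup_zpowers_of_sq (ht.z2 h)

/-- pairs of type p in `Z_c` -/
theorem U10.conn_p (U : U10 Om) (hp : PR Om z t) (hc : c ∈ CC Om z) (ht : c ∈ CC Om t) : DelC Om c z t := by
  have h := U.w
  obtain ⟨K, x, P⟩ := hp.exists_hp h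
  have F := P.frame h
  by_contra hnd
  have htc : t * c = c * t := (CC.comm_z h ht).symm
  have htz : t * z = z * t := hp.comm.symm
  obtain ⟨p, hpD, hfix⟩ := DC.exists_fixed h F hc (isPGroup_zp hp.ht h)
    (by
      intro g hg
      obtain ⟨n, rfl⟩ := mem_zpowers_iff.1 hg
      exact (Commute.zpow_left htz n))
    (by
      intro g hg
      obtain ⟨n, rfl⟩ := mem_zpowers_iff.1 hg
      exact (Commute.zpow_left htc n))
  -- the direction is on the graph
  have hpp : p.1 = p.2 := by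
    have h2 := hfix t (mem_zpowers t) _ (Or.inl rfl)
    have e : t * (x p.1 * (t * x p.2 * t⁻¹)) * t⁻¹ = x p.2 * (t * x p.1 * t⁻¹) := by
      calc t * (x p.1 * (t * x p.2 * t⁻¹)) * t⁻¹ = (t * x p.1 * t⁻¹) * (t * (t * x p.2 * t⁻¹) * t⁻¹) := by group
        _ = (t * x p.1 * t⁻¹) * x p.2 := by rw [P.tt h]
        _ = _ := (P.xx' h p.2 p.1).symm
    rw [e] at h2
    exact (F.dir_unique h h2 (Or.inl rfl : Dir z x (fun i => t * x i * t⁻¹) (x p.2 * (t * x p.1 * t⁻¹)) p.2 p.1)).1
  obtain ⟨i0, j0⟩ := p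
  simp only at hpp
  subst hpp
  rcases U.diag F c _ hpD with hd | hd
  · apply hnd
    refine P.del_of_all h U.ne ht fun i => ?_
    have h2 := hd (i - i0)
    have e : i0 + (i - i0) = i := add_sub_key i i0
    simp only at h2
    rw [e] at h2
    obtain ⟨s, l, hs⟩ := h2
    exact ⟨s, l, P.dir_iff.1 hs⟩
  · obtain ⟨s0, l0, hs0⟩ := hpD
    have hs0t : s0 * t = t * s0 := by
      have h2 : s0 * c * t = t * (s0 * c) := by
        rcases P.dir_iff.1 hs0 with h3 | h3
        · rw [h3, P.e_t h]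
        · rw [h3, mul_assoc, P.e_t h, ← mul_assoc, ← mul_assoc, htz]
      have h3 : s0 * t * c = t * s0 * c := by
        rw [mul_assoc, htc, ← mul_assoc, h2, mul_assoc]
      exact mul_right_cancel h3
    have lm := l0.mul h
    have h4 : ∃ s, Lab Om z s c ∧ FT Om s t ∧ Dir z x (fun i => t * x i * t⁻¹) (s * c) i0 i0 := by
      rcases l0.status' h U.ne ht hp.comm hs0t hnd with h3 | h3 | h3 | h3
      · exact (hp.not_fr h3.1.fr).elim
      · refine ⟨z * s0, lm, h3.2.2, ?_⟩
        rw [mul_assoc, P.dir_iff]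
        rcases P.dir_iff.1 hs0 with h5 | h5
        · right; rw [h5]
        · left; rw [h5, P.q.zzx]
      · exact ⟨s0, l0, h3.2.1, hs0⟩
      · exact (hp.not_fr h3.1.fr).elim
    obtain ⟨s, l, hf, hs⟩ := h4
    obtain ⟨th, hthz, ha, -, r, hr, hrt⟩ := l.exists_star h F (p := (i0, i0)) hs hf htz
    have hrc : r * c = c * r := (CX_comm hr l.ct).symm
    have hrs : r * s = s * r := RZ_le_centralizer h hr
    have htZ : InZ Om (t * th) := by rw [← hrt]; exact hp.ht.conj h r
    have htC : c ∈ CC Om (t * th) := by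
      have h5 := CC.conj h ht r
      rwa [hrc, mul_inv_cancel_right, hrt] at h5
    have hsw : Sw Om z (t * th) := by
      refine hp.sw'.mul_fx ?_
      rcases fx_or_sw h hp.hz hthz with h6 | h6
      · exact h6
      · exfalso
        -- `th` acts on `K`
        have h7 : cj th K ≠ K := h6 K P.hK
        have h8 : th * x 0 * th⁻¹ ∈ K := by
          rcases ha 0 with h9 | h9
          · rw [h9]; exact P.q.mem _
          · rw [h9]; exact mul_mem P.q.zmem (P.q.mem _)
        have h9 := P.hK.inf (P.hK.cj_comm h hthz) h h7.symm h8 (conj_mem_cj (P.q.mem 0))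
        rcases ha 0 with h10 | h10
        · rw [h10] at h9
          rcases h9 with h9 | h9
          · exact P.q.ne_one _ h9
          · exact P.q.ne_z _ h9
        · rw [h10] at h9
          rcases h9 with h9 | h9
          · exact P.q.zx_ne_one _ h9
          · exact P.q.zx_ne_z _ h9
    have hzth : z * (t * th) = t * th * z := by
      rw [← mul_assoc, ← htz, mul_assoc, ← hthz, mul_assoc]
    have hne : z ≠ t * th := by
      intro e
      rw [← e] at hsw
      exact fx_sw_false P.pr.hz ((Inn.of_CX (z_mem_CX h)).fx h) hsw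
    have P' : HP Om z (t * th) K x := ⟨⟨hp.hz, htZ, hne, hzth, hsw⟩, P.hK, P.q⟩
    apply hnd
    rw [l.del.conj_iff h hrs hrc, hrt]
    refine P'.del_of_all h U.ne htC fun i => ?_
    have h5 := hd (i - i0)
    have e : i0 + (i - i0) = i := add_sub_key i i0
    have e' : i0 - (i - i0) = rf i0 i := by
      rw [rf_apply]; exact sub_sub_key i i0
    simp only at h5
    rw [e, e'] at h5
    obtain ⟨s', l', hs'⟩ := h5
    refine ⟨s', l', ?_⟩
    have e6 : ee z (t * th) x i = z * x i * (t * x (rf i0 i) * t⁻¹) ∨ ee z (t * th) x i = x i * (t * x (rf i0 i) * t⁻¹) := by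
      have e7 : ee z (t * th) x i = z * x i * (t * (th * x i * th⁻¹) * t⁻¹) := by rw [ee]; group
      rw [e7]
      rcases ha i with h8 | h8
      · left; rw [h8]
      · right
        rw [h8]
        calc z * x i * (t * (z * x (rf i0 i)) * t⁻¹) = z * x i * ((t * z) * x (rf i0 i) * t⁻¹) := by group
          _ = z * (x i * z) * (t * x (rf i0 i) * t⁻¹) := by rw [htz]; group
          _ = (z * z) * x i * (t * x (rf i0 i) * t⁻¹) := by rw [← P.q.zc]; group
          _ = _ := by rw [P.q.z2, one_mul]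
    rcases hs' with h8 | h8 <;> rcases e6 with h9 | h9
    · right; rw [h8, h9, mul_assoc, P.q.zzx]
    · left; rw [h8, h9]
    · left; rw [h8, h9, mul_assoc]
    · right; rw [h8, h9]

/-- a line over `c` centralised by `t` of type f -/
theorem FT.exists_line (h : W2 Om) (hp : FT Om z t) (hc : c ∈ CC Om z) (htc : t * c = c * t) :
    ∃ s, Lab Om z s c ∧ s * t = t * s := by
  obtain ⟨K1, K2, a, b, F⟩ := hp.fr.hz.exists_frame h
  have htz : t * z = z * t := hp.fr.comm.symm
  obtain ⟨p, ⟨s, l, hs⟩, hfix⟩ := DC.exists_fixed h F hc (isPGroup_zp hp.fr.ht h)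
    (by
      intro g hg
      obtain ⟨n, rfl⟩ := mem_zpowers_iff.1 hg
      exact (Commute.zpow_left htz n))
    (by
      intro g hg
      obtain ⟨n, rfl⟩ := mem_zpowers_iff.1 hg
      exact (Commute.zpow_left htc n))
  refine ⟨s, l, ?_⟩
  obtain ⟨σ, hσ, -, -⟩ := hp.act h F.k1 F.qa
  obtain ⟨τ, hτ, -, -⟩ := hp.act h F.k2 F.qb
  have hw : Dir z a b (a p.1 * b p.2) p.1 p.2 := Or.inl rfl
  have h1 := hfix t (mem_zpowers t) _ hw
  have h2 := F.dir_conj (w := a p.1 * b p.2) htz hσ hτ hw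
  obtain ⟨e1, e2⟩ := F.dir_unique h h2 h1
  have f1 := hσ p.1
  have f2 := hτ p.2
  rw [e1] at f1
  rw [e2] at f2
  obtain ⟨g1, -⟩ := hp.inv_axis h F.k1 (F.qa.mem p.1) (F.qa.sq p.1) f1
  obtain ⟨g2, -⟩ := hp.inv_axis h F.k2 (F.qb.mem p.2) (F.qb.sq p.2) f2
  have h3 : t * (a p.1 * b p.2) * t⁻¹ = a p.1 * b p.2 := by
    calc t * (a p.1 * b p.2) * t⁻¹ = (t * a p.1 * t⁻¹) * (t * b p.2 * t⁻¹) := by group
      _ = (z * a p.1) * (z * b p.2) := by rw [g1, g2]
      _ = z * (a p.1 * z) * b p.2 := by group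
      _ = z * (z * a p.1) * b p.2 := by rw [F.qa.zc]
      _ = _ := by rw [F.qa.zzx]
  rw [mul_inv_eq_iff_eq_mul] at h3
  have h4 : s * c * t = t * (s * c) := by
    rcases hs with h5 | h5
    · rw [h5, ← h3]
    · rw [h5, mul_assoc, ← h3, ← mul_assoc, ← htz, mul_assoc]
  have h5 : s * t * c = t * s * c := by
    rw [mul_assoc, htc, ← mul_assoc, h4, mul_assoc]
  exact mul_right_cancel h5

/-- **(10.2)**: commuting members of `Z_c` are connected by lines with the label `c` -/
theorem U10.conn (U : U10 Om) (hc : c ∈ CC Om z) (ht : c ∈ CC Om t) (hzt : z * t = t * z) : DelC Om c z t := by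
  have h := U.w
  by_cases hne : z = t
  · rw [hne]; exact DelC.refl _ _
  rcases tcases h (CC.inZ hc) (CC.inZ ht) hne hzt with hp | hp | hp
  · exact U.conn_p hp hc ht
  · by_contra hnd
    have htc : t * c = c * t := (CC.comm_z h ht).symm
    obtain ⟨s, l, hst⟩ := hp.exists_line h hc htc
    rcases l.status' h U.ne ht hzt hst hnd with h3 | h3 | h3 | h3
    · obtain ⟨r, hr, hti⟩ := f_twice' h l.ti hp h3.2.1
      have hrc : r * c = c * r := (CX_comm hr l.ct).symm
      have hrs : r * s = s * r := RZ_le_centralizer h hr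
      have htC : c ∈ CC Om (r * t * r⁻¹) := by
        have h5 := CC.conj h ht r
        rwa [hrc, mul_inv_cancel_right] at h5
      apply hnd
      rw [l.del.conj_iff h hrs hrc]
      exact (hti.lab h hc htC).del
    · exact (h3.1.not_fr hp.fr).elim
    · exact (h3.1.not_fr hp.fr).elim
    · exact hnd (l.del.trans (U.conn_p h3.2.1 (l.symm h).mem_CC ht))
  · exact (hp.lab h hc ht).del

end Cfsg.Agent.Cit.Nil.RTwo
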