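import Cfsg.Agent.Cit.Nil.RTwo.TLine
import Cfsg.Agent.Cit.Nil.RTwo.LTwo

/-!
# (10.0) of the blueprint: pairs of type p and f in the world `c ≠ 1`

`NE Om` : no label is trivial.

* `InZ.eq_of_RZ` : `Z ∩ R_z = {z}`;
* `FT.mul` : `z t ∈ Z` for a pair of type f;
* `HP.pr_tte'` : `(t, t e_i)` is a pair of type p; `HP.e_sw'` : `e_i` swaps the members over `t`;
* `PR.symmN`, `FT.symm'` : types are symmetric;
* `PR.not_mul` : `z t ∉ Z` for a pair of type p.
-/

set_option autoImplicit false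
set_option linter.style.haveILetI false
set_option linter.unusedSectionVars false
set_option maxHeartbeats 400000

namespace Cfsg.Agent.Cit.Nil.RTwo

open Subgroup Cfsg Cit

variable {G : Type*} [Group G]

/-- no label is trivial -/
def NE (Om : Set (Subgroup G)) : Prop := ∀ z, (1 : G) ∉ CC Om z

section

variable [Finite G] {Om : Set (Subgroup G)} {K K1 K2 L M L1 L2 : Subgroup G} {z t u v g r s y w c c' : G}
  {x l : Fin 3 → G}

/-- `Z ∩ R_z = {z}` -/
theorem InZ.eq_of_RZ (h : W2 Om) (h1 : NE Om) (hz : InZ Om z) (hv : InZ Om v) (hr : v ∈ RZ Om z) : v = z := by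
  by_contra hne
  have hti : TI Om z v := ⟨hz, hv, Ne.symm hne, (RZ_le_centralizer h hr).symm, Inn.of_RZ hz h hr⟩
  obtain ⟨c, l⟩ := hti.exists_lab h
  have h2 : c ∈ RZ Om z := by
    have h3 := mul_mem (inv_mem hr) l.wz
    rwa [inv_mul_cancel_left] at h3
  rcases Nil.RTwo.RZ_inf_CX h hz h2 l.cz with h3 | h3
  · exact h1 z (h3 ▸ l.mem_CC)
  · exact l.ne_z h h3

/-- `z t ∈ Z` for a pair of type f -/
theorem FT.conj_z (hp : FT Om z t) (h : W2 Om) : ∃ r ∈ RZ Om z, r * t * r⁻¹ = z * t := by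
  obtain ⟨K, hK⟩ := hp.fr.hz
  obtain ⟨x, hx, -, -, h2⟩ := hp.coord h hK
  refine ⟨x 2, hK.le_RZ (hx.mem 2), ?_⟩
  have : t * (x 2)⁻¹ * t⁻¹ = x 2 := by
    have h3 : t * (x 2)⁻¹ * t⁻¹ = (t * x 2 * t⁻¹)⁻¹ := by group
    rw [h3, h2, mul_inv_rev, hx.zinv, hx.inv, hx.zc 2, mul_assoc, hx.z2, mul_one]
  calc x 2 * t * (x 2)⁻¹ = x 2 * (t * (x 2)⁻¹ * t⁻¹) * t := by group
    _ = z * t := by rw [this, hx.sq]

theorem FT.mul (hp : FT Om z t) (h : W2 Om) : InZ Om (z * t) := by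
  obtain ⟨r, -, hr⟩ := hp.conj_z h
  rw [← hr]; exact hp.fr.ht.conj h r

theorem InZ.mul_of (h : W2 Om) (hz : InZ Om z) (ht : InZ Om t) (hne : z ≠ t) (hc : z * t = t * z)
    (hn : ¬ PR Om z t) : InZ Om (z * t) := by
  rcases tcases h hz ht hne hc with h1 | h1 | h1
  · exact absurd h1 hn
  · exact h1.mul h
  · exact (h1.mul h).2.1

theorem pr_of' (h : W2 Om) (hz : InZ Om z) (ht : InZ Om t) (hne : z ≠ t) (hc : z * t = t * z)
    (hn : ¬ InZ Om (z * t)) : PR Om z t := by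
  by_contra h1
  exact hn (hz.mul_of h ht hne hc h1)

namespace HP

variable {i j : Fin 3}

theorem te_inZ (P : HP Om z t K x) (h : W2 Om) (i : Fin 3) : InZ Om (t * ee z t x i) := by
  rw [← P.conj_t h]; exact P.pr.ht.conj h _

/-- `(z, t e_i)` -/
theorem pr_te' (P : HP Om z t K x) (h : W2 Om) (i : Fin 3) : PR Om z (t * ee z t x i) := by
  rw [← P.conj_t h]; exact P.pr.conj_comm h (P.q.zc i).symm

theorem te_ne (P : HP Om z t K x) (h : W2 Om) (i : Fin 3) : t ≠ t * ee z t x i := fun h1 =>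
  P.e_ne_one h i (mul_eq_left.1 h1.symm)

theorem te_comm (P : HP Om z t K x) (h : W2 Om) (i : Fin 3) : t * (t * ee z t x i) = t * ee z t x i * t := by
  rw [mul_assoc, P.e_t h]

theorem e_notN (P : HP Om z t K x) (h : W2 Om) (h1 : NE Om) (i : Fin 3) : ¬ InZ Om (ee z t x i) := fun h2 =>
  P.e_ne_z h i (P.pr.hz.eq_of_RZ h h1 h2 (P.e_mem h i))

/-- `(t, t e_i)` -/
theorem pr_tte' (P : HP Om z t K x) (h : W2 Om) (h1 : NE Om) (i : Fin 3) : PR Om t (t * ee z t x i) := by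
  refine pr_of' h P.pr.ht (P.te_inZ h i) (P.te_ne h i) (P.te_comm h i) ?_
  rw [← mul_assoc, P.t2 h, one_mul]
  exact P.e_notN h h1 i

/-- `(t e_i, t)` -/
theorem pr_tet' (P : HP Om z t K x) (h : W2 Om) (h1 : NE Om) (i : Fin 3) : PR Om (t * ee z t x i) t := by
  refine pr_of' h (P.te_inZ h i) P.pr.ht (P.te_ne h i).symm (P.te_comm h i).symm ?_
  rw [mul_assoc, P.e_t h, ← mul_assoc, P.t2 h, one_mul]
  exact P.e_notN h h1 i

/-- `e_i` interchanges the members over `t` -/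
theorem e_sw' (P : HP Om z t K x) (h : W2 Om) (h1 : NE Om) (i : Fin 3) : Sw Om t (ee z t x i) := by
  intro M hM h2
  apply (P.pr_tte' h h1 i).sw M hM
  rw [cj_mul, h2]
  exact (Inn.of_CX (z_mem_CX h)).cj_eq hM h

/-- `z` interchanges the members over `t` -/
theorem z_sw' (P : HP Om z t K x) (h : W2 Om) (h1 : NE Om) : Sw Om t z := by
  have h2 : z = ee z t x 0 * ee z t x 1 * ee z t x 2 := by
    have h3 := P.e_mul h 0
    rw [show (0 : Fin 3) + 1 = 1 from rfl, show (0 : Fin 3) + 2 = 2 from rfl] at h3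
    rw [h3, mul_assoc, P.e_sq h, mul_one]
  rw [h2]
  exact ((P.e_sw' h h1 0).mul h (P.e_sw' h h1 1) (P.e_t h 0) (P.e_t h 1)).mul_sw (P.e_sw' h h1 2)

end HP

theorem PR.symmN (hp : PR Om z t) (h : W2 Om) (h1 : NE Om) : PR Om t z := by
  obtain ⟨K, x, P⟩ := hp.exists_hp h
  exact ⟨hp.ht, hp.hz, hp.ne.symm, hp.comm.symm, P.z_sw' h h1⟩

theorem FT.symm' (hp : FT Om z t) (h : W2 Om) (h1 : NE Om) : FT Om t z := by
  rcases tcases h hp.fr.ht hp.fr.hz hp.fr.ne.symm hp.fr.comm.symm with h2 | h2 | h2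
  · exact ((h2.symmN h h1).not_fr hp.fr).elim
  · exact h2
  · exact (hp.ninn (h2.symm h).2.2.2.2).elim

/-- `z t ∉ Z` for a pair of type p -/
theorem PR.not_mul (hp : PR Om z t) (h : W2 Om) (h1 : NE Om) : ¬ InZ Om (z * t) := by
  intro hzt
  obtain ⟨K, x, P⟩ := hp.exists_hp h
  set s := t * ee z t x 0 with hs
  have hsZ : InZ Om s := P.te_inZ h 0
  have hst : PR Om s t := P.pr_tet' h h1 0
  have hsz : PR Om s z := by
    have h2 := (hp.symmN h h1).conj h (x 0)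
    rwa [P.conj_t h, ← (P.q.zc 0), mul_inv_cancel_right] at h2
  have hcz : s * z = z * s := hsz.comm
  have hct : s * t = t * s := hst.comm
  have hprod : s * (z * t) = z * ee z t x 0 := by
    calc s * (z * t) = (s * z) * t := by group
      _ = z * (s * t) := by rw [hcz, mul_assoc]
      _ = z * (t * s) := by rw [hct]
      _ = z * ((t * t) * ee z t x 0) := by rw [hs]; group
      _ = _ := by rw [P.t2 h, one_mul]
  have hne : s ≠ z * t := by
    intro e
    have h2 : s * (z * t) = 1 := by rw [← e]; exact hsZ.z2 h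
    rw [hprod] at h2
    apply P.e_ne_z h 0
    rw [← inv_eq_of_mul_eq_one_right h2]
    exact P.q.zinv
  have hp3 : PR Om s (z * t) := by
    refine pr_of' h hsZ hzt hne ?_ ?_
    · rw [← mul_assoc, hcz, mul_assoc, hct, mul_assoc]
    · rw [hprod]
      intro h2
      have h3 := P.pr.hz.eq_of_RZ h h1 h2 (mul_mem (z_mem_RZ P.pr.hz h) (P.e_mem h 0))
      exact P.e_ne_one h 0 (mul_eq_left.1 h3)
  exact fx_sw_false hsZ (hsz.sw'.mul h hst.sw' hcz.symm hct.symm) hp3.sw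

end

end Cfsg.Agent.Cit.Nil.RTwo
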