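import Cfsg.Agent.Cit.Nil.RTwo.Lab

/-!
# The reflections `θ` ((1.5) of the blueprint)
-/

set_option autoImplicit false
set_option linter.style.haveILetI false
set_option linter.unusedSectionVars false
set_option maxHeartbeats 400000

namespace Cfsg.Agent.Cit.Nil.RTwo

open Subgroup Cfsg Cit

variable {G : Type*} [Group G]

/-- frames for the two members over `z` -/
structure Frame (Om : Set (Subgroup G)) (z : G) (K1 K2 : Subgroup G) (a b : Fin 3 → G) : Prop where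
  k1 : Mem Om z K1
  k2 : Mem Om z K2
  ne : K1 ≠ K2
  qa : Q3 K1 z a
  qb : Q3 K2 z b

/-- `w` has the direction `(i, j)` -/
def Dir (z : G) (a b : Fin 3 → G) (w : G) (i j : Fin 3) : Prop := w = a i * b j ∨ w = z * (a i * b j)

/-- the reflection at `i` -/
def rf (i : Fin 3) : Equiv.Perm (Fin 3) := Equiv.swap (i + 1) (i + 2)

theorem rf_apply (i k : Fin 3) : rf i k = -i - k := by revert i k; decide

theorem rf_of {σ : Equiv.Perm (Fin 3)} {i : Fin 3} (h1 : σ i = i) (h2 : σ ≠ 1) : σ = rf i := by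
  revert σ i; decide

section

variable [Finite G] {Om : Set (Subgroup G)} {K K1 K2 L L1 L2 : Subgroup G} {z t g x y w c c' : G}
  {a b p q : Fin 3 → G}

theorem InZ.exists_frame (hz : InZ Om z) (h : W2 Om) : ∃ K1 K2 a b, Frame Om z K1 K2 a b := by
  obtain ⟨K1, h1⟩ := hz
  obtain ⟨K2, h2, hne, -⟩ := h1.other h
  obtain ⟨a, qa⟩ := h.exists_q3 h1
  obtain ⟨b, qb⟩ := h.exists_q3 h2
  exact ⟨K1, K2, a, b, h1, h2, hne, qa, qb⟩

theorem Frame.swap (F : Frame Om z K1 K2 a b) : Frame Om z K2 K1 b a := ⟨F.k2, F.k1, F.ne.symm, F.qb, F.qa⟩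

theorem Frame.ab (F : Frame Om z K1 K2 a b) (h : W2 Om) (i j : Fin 3) : a i * b j = b j * a i :=
  F.k1.comm F.k2 h F.ne (F.qa.mem i) (F.qb.mem j)

/-- directions are unique -/
theorem Frame.dir_unique (F : Frame Om z K1 K2 a b) (h : W2 Om) {i j i' j' : Fin 3} (h1 : Dir z a b w i j)
    (h2 : Dir z a b w i' j') : i = i' ∧ j = j' := by
  have h3 : a i * b j = a i' * b j' ∨ a i * b j = z * (a i' * b j') := by
    rcases h1 with h1 | h1 <;> rcases h2 with h2 | h2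
    · exact Or.inl (h1.symm.trans h2)
    · exact Or.inr (h1.symm.trans h2)
    · right; rw [← h2, h1, F.qa.zzx]
    · left; exact mul_left_cancel (h1.symm.trans h2)
  obtain ⟨u, hu, hu'⟩ : ∃ u, (u = 1 ∨ u = z) ∧ a i * b j = u * (a i' * b j') := by
    rcases h3 with h3 | h3
    · exact ⟨1, Or.inl rfl, by rw [h3, one_mul]⟩
    · exact ⟨z, Or.inr rfl, h3⟩
  have huK1 : u ∈ K1 := by rcases hu with rfl | rfl; exacts [one_mem _, F.qa.zmem]
  -- `(u a i')⁻¹ a i = b j' (b j)⁻¹`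
  have h4 : (u * a i')⁻¹ * a i = b j' * (b j)⁻¹ := by
    rw [inv_mul_eq_iff_eq_mul, ← mul_assoc, eq_mul_inv_iff_mul_eq, hu', mul_assoc]
  have h5 : (u * a i')⁻¹ * a i ∈ K1 := mul_mem (inv_mem (mul_mem huK1 (F.qa.mem _))) (F.qa.mem _)
  have h6 : (u * a i')⁻¹ * a i ∈ K2 := by rw [h4]; exact mul_mem (F.qb.mem _) (inv_mem (F.qb.mem _))
  constructor
  · rcases F.k1.inf F.k2 h F.ne h5 h6 with h7 | h7
    · rw [inv_mul_eq_one] at h7
      apply F.qa.inj
      rcases hu with rfl | rfl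
      · left; rw [← h7, one_mul]
      · right; exact h7.symm
    · rw [inv_mul_eq_iff_eq_mul] at h7
      apply F.qa.inj
      rcases hu with rfl | rfl
      · right; rw [h7, one_mul, F.qa.zc]
      · left; rw [h7, F.qa.zc, mul_assoc, F.qa.z2, mul_one]
  · rw [h4] at h5 h6
    rcases F.k1.inf F.k2 h F.ne h5 h6 with h7 | h7
    · rw [mul_inv_eq_one] at h7
      exact F.qb.inj (Or.inl h7.symm)
    · rw [mul_inv_eq_iff_eq_mul] at h7
      exact (F.qb.inj (Or.inr h7)).symm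

/-- a non-central involution of `R_z` has a direction -/
theorem Frame.exists_dir (F : Frame Om z K1 K2 a b) (h : W2 Om) (hw : w ∈ RZ Om z) (hw2 : w * w = 1)
    (h1 : w ≠ 1) (hz : w ≠ z) : ∃ i j, Dir z a b w i j := by
  obtain ⟨k, hk, l, hl, rfl⟩ := (mem_RZ F.k1 F.k2 h F.ne).1 hw
  have hc := F.k1.comm F.k2 h F.ne hk hl
  have hsq : (k * k) * (l * l) = 1 := by
    rw [← hw2]
    calc k * k * (l * l) = k * (k * l) * l := by group
      _ = k * (l * k) * l := by rw [hc]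
      _ = _ := by group
  have hzz := F.qa.zzx
  have key : ∀ {K : Subgroup G} {x : Fin 3 → G}, Q3 K z x → ∀ k ∈ K, (k * k = 1 ∧ (k = 1 ∨ k = z)) ∨
      (k * k = z ∧ ∃ i, k = x i ∨ k = z * x i) := by
    intro K x Q k hk
    rcases Q.cov k hk with rfl | rfl | ⟨i, rfl | rfl⟩
    · left; exact ⟨by group, Or.inl rfl⟩
    · left; exact ⟨Q.z2, Or.inr rfl⟩
    · right; exact ⟨Q.sq i, i, Or.inl rfl⟩
    · right
      refine ⟨?_, i, Or.inr rfl⟩
      calc z * x i * (z * x i) = z * (x i * z) * x i := by group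
        _ = z * (z * x i) * x i := by rw [Q.zc]
        _ = z := by rw [Q.zzx, Q.sq]
  rcases key F.qa k hk with ⟨h3, h4⟩ | ⟨h3, i, h4⟩ <;> rcases key F.qb l hl with ⟨h5, h6⟩ | ⟨h5, j, h6⟩
  · exfalso
    rcases h4 with rfl | rfl <;> rcases h6 with rfl | rfl
    · exact h1 (by group)
    · exact hz (by group)
    · exact hz (by group)
    · exact h1 F.qa.z2
  · rw [h3, h5, one_mul] at hsq
    exact absurd hsq F.qa.z1
  · rw [h3, h5, mul_one] at hsq
    exact absurd hsq F.qa.z1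
  · refine ⟨i, j, ?_⟩
    rcases h4 with rfl | rfl <;> rcases h6 with rfl | rfl
    · exact Or.inl rfl
    · right; rw [← mul_assoc, ← F.qa.zc, mul_assoc]
    · right; rw [mul_assoc]
    · left; rw [mul_assoc, ← mul_assoc (a i), ← F.qa.zc, mul_assoc, hzz]

/-- the action of `C(z)` on the directions, `K1, K2` fixed -/
theorem Frame.dir_conj (F : Frame Om z K1 K2 a b) {σ τ : Equiv.Perm (Fin 3)} {i j : Fin 3}
    (hg : g * z = z * g) (h1 : Act z a a g σ) (h2 : Act z b b g τ) (hd : Dir z a b w i j) :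
    Dir z a b (g * w * g⁻¹) (σ i) (τ j) := by
  have hgz : g * z * g⁻¹ = z := by rw [hg, mul_inv_cancel_right]
  have hab : Dir z a b (g * (a i * b j) * g⁻¹) (σ i) (τ j) := by
    have e : g * (a i * b j) * g⁻¹ = (g * a i * g⁻¹) * (g * b j * g⁻¹) := by group
    rw [e]
    rcases h1 i with h3 | h3 <;> rcases h2 j with h4 | h4 <;> rw [h3, h4]
    · exact Or.inl rfl
    · right; rw [← mul_assoc, ← F.qa.zc, mul_assoc]
    · right; rw [mul_assoc]
    · left; rw [mul_assoc, ← mul_assoc (a (σ i)), ← F.qa.zc, mul_assoc, F.qa.zzx]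
  rcases hd with rfl | rfl
  · exact hab
  · have e : g * (z * (a i * b j)) * g⁻¹ = (g * z * g⁻¹) * (g * (a i * b j) * g⁻¹) := by group
    rw [e, hgz]
    rcases hab with h3 | h3
    · right; rw [h3]
    · left; rw [h3, F.qa.zzx]

/-- the action of `C(z)` on the directions, `K1, K2` interchanged -/
theorem Frame.dir_conj' (F : Frame Om z K1 K2 a b) (h : W2 Om) {σ τ : Equiv.Perm (Fin 3)} {i j : Fin 3}
    (hg : g * z = z * g) (h1 : Act z a b g σ) (h2 : Act z b a g τ) (hd : Dir z a b w i j) :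
    Dir z a b (g * w * g⁻¹) (τ j) (σ i) := by
  have hgz : g * z * g⁻¹ = z := by rw [hg, mul_inv_cancel_right]
  have hab : Dir z a b (g * (a i * b j) * g⁻¹) (τ j) (σ i) := by
    have e : g * (a i * b j) * g⁻¹ = (g * a i * g⁻¹) * (g * b j * g⁻¹) := by group
    rw [e]
    rcases h1 i with h3 | h3 <;> rcases h2 j with h4 | h4 <;> rw [h3, h4]
    · left; exact (F.ab h _ _).symm
    · right; rw [← mul_assoc, ← F.qb.zc, mul_assoc, F.ab h]
    · right; rw [mul_assoc, F.ab h]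
    · left; rw [mul_assoc, ← mul_assoc (b (σ i)), ← F.qb.zc, mul_assoc, F.qa.zzx, F.ab h]
  rcases hd with rfl | rfl
  · exact hab
  · have e : g * (z * (a i * b j)) * g⁻¹ = (g * z * g⁻¹) * (g * (a i * b j) * g⁻¹) := by group
    rw [e, hgz]
    rcases hab with h3 | h3
    · right; rw [h3]
    · left; rw [h3, F.qa.zzx]

/-- an element of `C(z)` acts on the frames -/
theorem Frame.act_cases (F : Frame Om z K1 K2 a b) (h : W2 Om) (hg : g * z = z * g) :
    (cj g K1 = K1 ∧ cj g K2 = K2 ∧ ∃ σ τ, Act z a a g σ ∧ Act z b b g τ) ∨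
      (cj g K1 = K2 ∧ cj g K2 = K1 ∧ ∃ σ τ, Act z a b g σ ∧ Act z b a g τ) := by
  have h5 : cj g K1 ≠ cj g K2 := fun e => F.ne (cj_inj.1 e)
  rcases F.k1.cases F.k2 h F.ne (F.k1.cj_comm h hg) with h1 | h1 <;>
  rcases F.k1.cases F.k2 h F.ne (F.k2.cj_comm h hg) with h2 | h2
  · exact absurd (h1.trans h2.symm) h5
  · left
    obtain ⟨σ, h3⟩ := F.qa.exists_act F.qa h1 hg
    obtain ⟨τ, h4⟩ := F.qb.exists_act F.qb h2 hg
    exact ⟨h1, h2, σ, τ, h3, h4⟩
  · right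
    obtain ⟨σ, h3⟩ := F.qa.exists_act F.qb h1 hg
    obtain ⟨τ, h4⟩ := F.qb.exists_act F.qa h2 hg
    exact ⟨h1, h2, σ, τ, h3, h4⟩
  · exact absurd (h1.trans h2.symm) h5

/-! ### The reflection `θ` -/

namespace Cf

variable {a' b' : Fin 3 → G} (C : Cf Om z t K1 K2 L1 L2 a' b' p q) (h : W2 Om)

include C h

/-- `p 0` is a reflection on the axes of `K1` -/
theorem act_theta (qa : Q3 K1 z a) : ∃ i, (a' 0 = a i ∨ a' 0 = z * a i) ∧ Act z a a (p 0) (rf i) := by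
  obtain ⟨r1, r2⟩ := C.symm.rot h
  have hpz : p 0 * z = z * p 0 := C.symm.ta0.symm
  have hK : cj (p 0) K1 = K1 := h.h3 C.l1 C.k1 (C.qc.mem 0) (C.qc.sq 0) hpz
  obtain ⟨σ, hσ⟩ := qa.exists_act qa hK hpz
  obtain ⟨i, hi⟩ := qa.of_sq (C.qa.mem 0) (C.qa.sq 0)
  have hzz := qa.zzx
  have hm : ∀ k : G, p 0 * (z * k) * (p 0)⁻¹ = z * (p 0 * k * (p 0)⁻¹) := by
    intro k
    calc p 0 * (z * k) * (p 0)⁻¹ = (p 0 * z) * k * (p 0)⁻¹ := by group
      _ = (z * p 0) * k * (p 0)⁻¹ := by rw [hpz]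
      _ = _ := by group
  have h1 : σ i = i := by
    have h2 : p 0 * a i * (p 0)⁻¹ = a i := by
      rcases hi with hi | hi
      · rw [← hi]; exact r1
      · have h3 : a i = z * a' 0 := by rw [hi, hzz]
        rw [h3, hm, r1]
    rcases hσ i with h3 | h3
    · exact (qa.inj (Or.inl (h2.symm.trans h3))).symm
    · exact (qa.inj (Or.inr (h2.symm.trans h3))).symm
  have h2 : σ ≠ 1 := by
    rintro rfl
    have h3 := hσ.inner qa hpz (a' 1) (C.qa.mem 1)
    rcases r2 with r2 | r2 <;> rcases h3 with h3 | h3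
    · exact absurd (C.qa.inj (Or.inl (r2.symm.trans h3))) (by decide)
    · exact absurd (C.qa.inj (Or.inr (r2.symm.trans h3))) (by decide)
    · exact absurd (C.qa.inj (Or.inr (h3.symm.trans r2))) (by decide)
    · exact absurd (C.qa.inj (Or.inl (mul_left_cancel (r2.symm.trans h3)))) (by decide)
  exact ⟨i, hi, by rw [← rf_of h1 h2]; exact hσ⟩

/-- `t c` has the direction of `a' 0 b' 0` -/
theorem tc_eq (l : Lab Om z t c) : t * c = a' 0 * b' 0 ∨ t * c = z * (a' 0 * b' 0) := by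
  obtain ⟨k, hk, m, hm, hkm⟩ := (mem_RZ C.k1 C.k2 h C.kne).1 l.wz
  have hact : ∀ k' ∈ K1, t * c * k' * (t * c)⁻¹ = a' 0 * k' * (a' 0)⁻¹ := by
    intro k' hk'
    rw [← C.ta k' hk']
    have e := mem_CX.1 l.cz K1 C.k1 k' hk'
    calc t * c * k' * (t * c)⁻¹ = t * (c * k') * c⁻¹ * t⁻¹ := by group
      _ = _ := by rw [e]; group
  have hact2 : ∀ k' ∈ K2, t * c * k' * (t * c)⁻¹ = b' 0 * k' * (b' 0)⁻¹ := by
    intro k' hk'
    rw [← C.tb k' hk']
    have e := mem_CX.1 l.cz K2 C.k2 k' hk'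
    calc t * c * k' * (t * c)⁻¹ = t * (c * k') * c⁻¹ * t⁻¹ := by group
      _ = _ := by rw [e]; group
  have h1 : ∀ k' ∈ K1, k * k' * k⁻¹ = a' 0 * k' * (a' 0)⁻¹ := by
    intro k' hk'
    rw [← hact k' hk', ← hkm]
    have e := C.k1.comm C.k2 h C.kne hk' hm
    calc k * k' * k⁻¹ = k * (k' * m) * m⁻¹ * k⁻¹ := by group
      _ = _ := by rw [e]; group
  have h2 : ∀ k' ∈ K2, m * k' * m⁻¹ = b' 0 * k' * (b' 0)⁻¹ := by
    intro k' hk'
    rw [← hact2 k' hk', ← hkm]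
    have e := C.k1.comm C.k2 h C.kne hk (mul_mem (mul_mem hm hk') (inv_mem hm))
    calc m * k' * m⁻¹ = (m * k' * m⁻¹) * k * k⁻¹ := by group
      _ = (k * (m * k' * m⁻¹)) * k⁻¹ := by rw [e]
      _ = _ := by group
  have h3 := C.qa.eq_or_of_act hk (C.qa.mem 0) (h1 _ (C.qa.mem 0)) (h1 _ (C.qa.mem 1))
  have h4 := C.qb.eq_or_of_act hm (C.qb.mem 0) (h2 _ (C.qb.mem 0)) (h2 _ (C.qb.mem 1))
  rw [← hkm]
  rcases h3 with rfl | rfl <;> rcases h4 with rfl | rfl
  · left; rfl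
  · right; rw [← mul_assoc, ← C.qa.zc, mul_assoc]
  · right; rw [mul_assoc]
  · left; rw [mul_assoc, ← mul_assoc (a' 0), ← C.qa.zc, mul_assoc, C.qa.zzx]

/-- (1.5), the swap case -/
theorem theta_sw (l : Lab Om z t c) (hx : x ∈ CX Om z) (hxc : x * c = c * x) (hL : cj x L1 = L2)
    (hL' : cj x L2 = L1) : p 0 * x * (p 0)⁻¹ = x * z * c := by
  have hxt := (l.comm_iff h hx).1 hxc
  have hxz : x * z = z * x := CX_le l.ti.1 h hx
  have hzc := C.symm.tc_eq h (l.symm h)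
  have hpz : p 0 * z = z * p 0 := C.symm.ta0.symm
  have hxt' : x * t * x⁻¹ = t := by rw [hxt, mul_inv_cancel_right]
  have htt := C.qc.zzx
  have hxpq : (x * p 0 * x⁻¹) * (x * q 0 * x⁻¹) = p 0 * q 0 := by
    have h1 : x * (z * c) * x⁻¹ = z * c := by
      rw [← mul_assoc, hxz, mul_assoc z, hxc]; group
    have h2 : ∀ u : G, x * (t * u) * x⁻¹ = t * (x * u * x⁻¹) := by
      intro u
      calc x * (t * u) * x⁻¹ = (x * t * x⁻¹) * (x * u * x⁻¹) := by group
        _ = _ := by rw [hxt']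
    have h3 : x * (p 0 * q 0) * x⁻¹ = p 0 * q 0 := by
      rcases hzc with h4 | h4
      · rw [← h4]; exact h1
      · have h5 : p 0 * q 0 = t * (z * c) := by rw [h4, htt]
        rw [h5, h2, h1]
    rw [← h3]; group
  have hm1 : x * q 0 * x⁻¹ ∈ L1 := by rw [← hL']; exact conj_mem_cj (C.qd.mem 0)
  have hm2 : x * p 0 * x⁻¹ ∈ L2 := by rw [← hL]; exact conj_mem_cj (C.qc.mem 0)
  have hcm := C.l1.comm C.l2 h C.lne hm1 hm2
  -- `(p 0)⁻¹ (x q 0 x⁻¹) = q 0 (x p 0 x⁻¹)⁻¹`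
  have h1 : (p 0)⁻¹ * (x * q 0 * x⁻¹) = q 0 * (x * p 0 * x⁻¹)⁻¹ := by
    rw [inv_mul_eq_iff_eq_mul, ← mul_assoc, eq_mul_inv_iff_mul_eq, hcm, hxpq]
  have h2 := C.l1.inf C.l2 h C.lne (mul_mem (inv_mem (C.qc.mem 0)) hm1)
    (by rw [h1]; exact mul_mem (C.qd.mem 0) (inv_mem hm2))
  rw [h1] at h2
  -- `x p 0 x⁻¹ = q 0` or `t q 0`
  have h3 : x * p 0 * x⁻¹ = q 0 ∨ x * p 0 * x⁻¹ = t * q 0 := by
    rcases h2 with h2 | h2
    · left; rw [mul_inv_eq_one] at h2; exact h2.symm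
    · right
      rw [mul_inv_eq_iff_eq_mul] at h2
      rw [h2, htt]
  have h4 : p 0 * x * (p 0)⁻¹ * x⁻¹ = p 0 * (x * p 0 * x⁻¹)⁻¹ := by group
  have h5 : p 0 * x * (p 0)⁻¹ * x⁻¹ = z * c ∨ p 0 * x * (p 0)⁻¹ * x⁻¹ = t * (z * c) := by
    have hq : (q 0)⁻¹ = t * q 0 := C.qd.inv 0
    have hq2 : (t * q 0)⁻¹ = q 0 := by
      rw [mul_inv_rev, hq, C.tinv, mul_assoc, ← C.qd.zc, htt]
    have hpt : ∀ u, p 0 * (t * u) = t * (p 0 * u) := fun u => by rw [← mul_assoc, ← C.qc.zc, mul_assoc]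
    rw [h4]
    rcases h3 with h3 | h3 <;> rcases hzc with h6 | h6
    · right; rw [h3, hq, h6, hpt]
    · left; rw [h3, hq, h6, hpt]
    · left; rw [h3, hq2, h6]
    · right; rw [h3, hq2, h6, htt]
  have h6 : p 0 * x * (p 0)⁻¹ * x⁻¹ ∈ CX Om z := mul_mem (CX_conj_comm h hpz hx) (inv_mem hx)
  have h7 : p 0 * x * (p 0)⁻¹ * x⁻¹ = z * c := by
    rcases h5 with h5 | h5
    · exact h5
    · exfalso
      rw [h5] at h6
      have h8 : t ∈ CX Om z := by
        have := mul_mem h6 (inv_mem (mul_mem (z_mem_CX h) l.cz))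
        rwa [mul_inv_cancel_right] at this
      exact z_not_CX h l.ti.2.1 l.ti.1 l.ne_zt.symm h8
  rw [mul_inv_eq_iff_eq_mul] at h7
  rw [h7, mul_assoc, ← hxc, ← mul_assoc, ← hxz]

end Cf

namespace Lab

variable (h : W2 Om) (l : Lab Om z t c)

include h l

/-- (1.5) -/
theorem theta (F : Frame Om z K1 K2 a b) : ∃ th i j, th * th = t ∧ th * z = z * th ∧ th * c = c * th ∧
    (∃ L, Mem Om t L ∧ th ∈ L) ∧ Dir z a b (t * c) i j ∧ Act z a a th (rf i) ∧ Act z b b th (rf j) ∧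
    ∀ x ∈ CX Om z, x * c = c * x → (Fx Om t x ∧ th * x * th⁻¹ = x) ∨ (Sw Om t x ∧ th * x * th⁻¹ = x * z * c) := by
  obtain ⟨K1', K2', L1, L2, a', b', p, q, C⟩ := l.ti.exists_cf h
  wlog hK : K1' = K1 generalizing K1' K2' a' b'
  · refine this K2' K1' b' a' C.swk ?_
    rcases F.k1.cases F.k2 h F.ne C.k1 with h1 | h1
    · exact absurd h1 hK
    · rcases F.k1.cases F.k2 h F.ne C.k2 with h2 | h2
      · exact h2
      · exact absurd (h1.trans h2.symm) C.kne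
  subst hK
  have hK2 : K2' = K2 := by
    rcases F.k1.cases F.k2 h F.ne C.k2 with h2 | h2
    · exact absurd h2.symm C.kne
    · exact h2
  subst hK2
  obtain ⟨i, hi, hai⟩ := C.act_theta h F.qa
  obtain ⟨j, hj, haj⟩ := C.swk.act_theta h F.qb
  have hpc : p 0 * c = c * p 0 := (mem_CX.1 l.ct L1 C.l1 _ (C.qc.mem 0)).symm
  refine ⟨p 0, i, j, C.qc.sq 0, C.symm.ta0.symm, hpc, ⟨L1, C.l1, C.qc.mem 0⟩, ?_, hai, haj, ?_⟩
  · have h1 := C.tc_eq h l
    have e1 : a' 0 * b' 0 = a i * b j ∨ a' 0 * b' 0 = z * (a i * b j) := by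
      rcases hi with hi | hi <;> rcases hj with hj | hj <;> rw [hi, hj]
      · left; rfl
      · right; rw [← mul_assoc, ← F.qa.zc, mul_assoc]
      · right; rw [mul_assoc]
      · left; rw [mul_assoc, ← mul_assoc (a i), ← F.qa.zc, mul_assoc, F.qa.zzx]
    rcases h1 with h1 | h1 <;> rcases e1 with e1 | e1 <;> rw [Dir, h1, e1]
    · left; rfl
    · right; rfl
    · right; rfl
    · left; rw [F.qa.zzx]
  · intro x hx hxc
    have hxt := (l.comm_iff h hx).1 hxc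
    have hxz : x * z = z * x := CX_le l.ti.1 h hx
    have hxa : x * a' 0 = a' 0 * x := mem_CX.1 hx _ C.k1 _ (C.qa.mem 0)
    have h5 : cj x L1 ≠ cj x L2 := fun e => C.lne (cj_inj.1 e)
    rcases C.l1.cases C.l2 h C.lne (C.l1.cj_comm h hxt) with h1 | h1 <;>
    rcases C.l1.cases C.l2 h C.lne (C.l2.cj_comm h hxt) with h2 | h2
    · exact absurd (h1.trans h2.symm) h5
    · left
      refine ⟨?_, ?_⟩
      · intro K hK
        rcases C.l1.cases C.l2 h C.lne hK with rfl | rfl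
        · exact h1
        · exact h2
      · have h3 := (C.pow_or h hxz hxt hxa h1).1
        rw [mul_inv_eq_iff_eq_mul] at h3
        rw [← h3, mul_inv_cancel_right]
    · right
      refine ⟨?_, C.theta_sw h l hx hxc h1 h2⟩
      intro K hK
      rcases C.l1.cases C.l2 h C.lne hK with rfl | rfl
      · rw [h1]; exact C.lne.symm
      · rw [h2]; exact C.lne
    · exact absurd (h1.trans h2.symm) h5

end Lab

end

end Cfsg.Agent.Cit.Nil.RTwo
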