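import Cfsg.Agent.Cit.Nil.RTwo.Trans
import Cfsg.Agent.Cit.Nil.RTwo.TTwo

/-!
# THEOREM 1 (section 3 of the blueprint)

* `CaseS Om z a b c0 c1 c2` : the case (S);
* `thm_one` : all translations are in `D0` (cases (A), (U)) or `CaseS`.
-/

set_option autoImplicit false
set_option linter.style.haveILetI false
set_option linter.unusedSectionVars false
set_option maxHeartbeats 400000

namespace Cfsg.Agent.Cit.Nil.RTwo

open Subgroup Cfsg Cit

variable {G : Type*} [Group G]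

/-- the case (S) -/
structure CaseS (Om : Set (Subgroup G)) (z : G) (a b : Fin 3 → G) (c0 c1 c2 : G) : Prop where
  cc : CC Om z = {c0, c1, c2}
  n01 : c0 ≠ c1
  n02 : c0 ≠ c2
  n12 : c1 ≠ c2
  mul : c0 * c1 * c2 = z
  cen : ∀ c ∈ CC Om z, ∀ x ∈ CX Om z, x * c = c * x
  ex : ∃ g v, Tra z a b g v ∧ g * c0 * g⁻¹ = c1 ∧ g * c1 * g⁻¹ = c2 ∧ g * c2 * g⁻¹ = c0 ∧ v ∉ D0 Om z a b ∧
    ∀ g' v', Tra z a b g' v' → v' ∈ D0 Om z a b ∨ v' - v ∈ D0 Om z a b ∨ v' + v ∈ D0 Om z a b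

section

variable [Finite G] {Om : Set (Subgroup G)} {K K1 K2 L L1 L2 : Subgroup G} {z t g g' x y w c c' u : G}
  {a b : Fin 3 → G} {v v' : Fin 3 × Fin 3}

/-- Z* in `X_z`: an involution of `X_z` central in the Sylow 2-subgroup `T` and weakly closed in `T` is central -/
theorem cent_of_weak (h : W2 Om) (hF : CF Om) (hz : InZ Om z) {T : Subgroup G} (hT : Syl T (CX Om z))
    (hu : u ∈ CX Om z) (hu2 : u * u = 1) (hu1 : u ≠ 1) (huT : ∀ s ∈ T, s * u = u * s)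
    (hw : ∀ x ∈ CX Om z, x * u * x⁻¹ ∈ T → x * u * x⁻¹ = u) : ∀ x ∈ CX Om z, x * u = u * x := by
  rcases zstar_sub hu hu2 hu1 with ⟨y, hy, h1, h2⟩ | ⟨N, hN, ho, hn, hc⟩
  · exfalso
    apply h1
    -- `u' = y u y⁻¹` is conjugate in `C_X(u)` into `T`
    have hTu : T ≤ CX Om z ⊓ centralizer {u} :=
      le_inf hT.1 (fun s hs => mem_centralizer_singleton_iff.2 (huT s hs))
    have hS : Syl T (CX Om z ⊓ centralizer {u}) := LB.syl_of_le hT hTu inf_le_left
    have hu' : y * u * y⁻¹ ∈ CX Om z ⊓ centralizer {u} :=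
      ⟨(CX Om z).mul_mem ((CX Om z).mul_mem hy hu) ((CX Om z).inv_mem hy), mem_centralizer_singleton_iff.2 h2.symm⟩
    have hsq : y * u * y⁻¹ * (y * u * y⁻¹) = 1 := by
      calc y * u * y⁻¹ * (y * u * y⁻¹) = y * (u * u) * y⁻¹ := by group
        _ = 1 := by rw [hu2]; group
    obtain ⟨n, ⟨hnX, hnu⟩, h3⟩ := LB.exists_conj_mem hS hu' (isPGroup_zpowers_of_sq hsq)
    have e : n * (y * u * y⁻¹) * n⁻¹ = (n * y) * u * (n * y)⁻¹ := by group
    rw [e] at h3
    have h4 := hw _ (mul_mem hnX hy) h3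
    rw [← e] at h4
    have h5 : n * u = u * n := mem_centralizer_singleton_iff.1 hnu
    calc y * u * y⁻¹ = n⁻¹ * (n * (y * u * y⁻¹) * n⁻¹) * n := by group
      _ = n⁻¹ * (u * n) := by rw [h4, mul_assoc]
      _ = u := by rw [← h5]; group
  · have h1 : N = ⊥ := by
      refine CX_odd h hF hz hN ?_ ?_
      · intro x hx
        rw [mem_normalizer_iff]
        intro n
        constructor
        · exact fun hn' => hn x hx n hn'
        · intro hn'
          have h2 := hn x⁻¹ (inv_mem hx) _ hn'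
          have e : x⁻¹ * (x * n * x⁻¹) * x⁻¹⁻¹ = n := by group
          rwa [e] at h2
      · intro h2
        exact (Nat.not_even_iff_odd.2 ho) (even_iff_two_dvd.2 h2)
    intro x hx
    have h2 := hc x hx
    rw [h1, mem_bot] at h2
    rw [mul_inv_eq_one, mul_inv_eq_iff_eq_mul] at h2
    exact h2.symm

/-- **THEOREM 1** -/
theorem thm_one (h : W2 Om) (hF : CF Om) (F : Frame Om z K1 K2 a b) (hn : (CC Om z).Nonempty) :
    (∀ g v, Tra z a b g v → v ∈ D0 Om z a b) ∨ ∃ c0 c1 c2, CaseS Om z a b c0 c1 c2 := by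
  by_cases hU : ∀ g v, Tra z a b g v → v ∈ D0 Om z a b
  · exact Or.inl hU
  right
  push Not at hU
  obtain ⟨g, v, hg, hv⟩ := hU
  have hz := F.k1.inZ
  have hz2 := hz.z2 h
  obtain ⟨T, hT⟩ := Hyp.exists_syl (CX Om z)
  have hzT := z_mem_of_syl h hz hT
  obtain ⟨c0, hc0, hc0T, hc0'⟩ := CC.exists_comm_of h hT hT.2.1 (fun s hs => CX_le hz h (hT.1 hs))
    (fun s hs => mem_normalizer_iff_cj.1 (le_normalizer hs)) hn
  -- Frattini
  obtain ⟨d, hd, hdT⟩ : ∃ d, Tra z a b d v ∧ cj d T = T := by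
    have h1 : Syl (cj g T) (CX Om z) := by
      have := hT.cj g
      rwa [cj_CX h hg.comm] at this
    obtain ⟨x, hx, h2⟩ := h1.exists_conj hT
    refine ⟨x * g, ?_, by rw [cj_mul, h2]⟩
    have := hg.mul hz2 (Tra.of_CX h F hx)
    rwa [add_zero] at this
  obtain ⟨c1, hc1e⟩ : ∃ c1, c1 = d * c0 * d⁻¹ := ⟨_, rfl⟩
  have hc1 : c1 ∈ CC Om z := by rw [hc1e]; exact CC.conj_comm h hc0 hd.comm
  have hc1T : c1 ∈ T := by
    rw [hc1e, ← hdT]; exact conj_mem_cj hc0T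
  have hc1' : ∀ s ∈ T, s * c1 = c1 * s := by
    intro s hs
    have h1 : d⁻¹ * s * d ∈ T := by rw [← mem_cj, hdT]; exact hs
    have h2 := hc0' _ h1
    rw [hc1e]
    calc s * (d * c0 * d⁻¹) = d * ((d⁻¹ * s * d) * c0) * d⁻¹ := by group
      _ = d * (c0 * (d⁻¹ * s * d)) * d⁻¹ := by rw [h2]
      _ = _ := by group
  have h01 : c0 * c1 = c1 * c0 := hc1' c0 hc0T
  obtain ⟨p0, hp0⟩ := CC.exists_dir h F hc0
  have hp1 : p0 + v ∈ DC Om z a b c1 := by rw [hc1e]; exact hd.dc h F hp0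
  have hneg : ∀ {w : Fin 3 × Fin 3}, -w ∈ D0 Om z a b → w ∈ D0 Om z a b := by
    intro w hw
    have := D0.neg hw
    rwa [neg_neg] at this
  have hvv : v + v = -v := by
    have key : ∀ v : Fin 3 × Fin 3, v + v = -v := by decide
    exact key v
  have n01 : c0 ≠ c1 := by
    intro e
    rw [← e] at hp1
    exact hv ((D0.iff h F hp0).2 hp1)
  obtain ⟨c2, hc2e⟩ : ∃ c2, c2 = z * c0 * c1 := ⟨_, rfl⟩
  have hc2 : c2 ∈ CC Om z := by rw [hc2e]; exact CC.third h F hc0 hc1 h01 n01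
  have hc2T : c2 ∈ T := by rw [hc2e]; exact T.mul_mem (T.mul_mem hzT hc0T) hc1T
  have hc2' : ∀ s ∈ T, s * c2 = c2 * s := by
    intro s hs
    have e1 : Commute s z := CX_le hz h (hT.1 hs)
    have e2 : Commute s c0 := hc0' s hs
    have e3 : Commute s c1 := hc1' s hs
    rw [hc2e]
    exact ((e1.mul_right e2).mul_right e3).eq
  have hp2 : p0 - v ∈ DC Om z a b c2 := by
    have h1 := DC.third h F hp0 hp1 h01 n01
    have key : ∀ p v : Fin 3 × Fin 3, -p - (p + v) = p - v := by decide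
    rw [key, ← hc2e] at h1
    exact h1
  -- the sets `DC` are disjoint
  have hsub : ∀ {c : G} {p q : Fin 3 × Fin 3}, p ∈ DC Om z a b c → q ∈ DC Om z a b c → q - p ∈ D0 Om z a b :=
    fun hp hq => D0.sub_mem hp hq
  have disj : ∀ {p : Fin 3 × Fin 3}, ¬ (p ∈ DC Om z a b c0 ∧ p ∈ DC Om z a b c1) ∧
      ¬ (p ∈ DC Om z a b c0 ∧ p ∈ DC Om z a b c2) ∧ ¬ (p ∈ DC Om z a b c1 ∧ p ∈ DC Om z a b c2) := by
    intro p
    refine ⟨fun ⟨h1, h2⟩ => hv ?_, fun ⟨h1, h2⟩ => hv ?_, fun ⟨h1, h2⟩ => hv ?_⟩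
    · have h3 := D0.add h F (hsub h1 hp0) (hsub hp1 h2)
      have e : p0 - p + (p - (p0 + v)) = -v := by abel
      rw [e] at h3
      exact hneg h3
    · have h3 := D0.add h F (hsub h1 hp0) (hsub hp2 h2)
      have e : p0 - p + (p - (p0 - v)) = v := by abel
      rwa [e] at h3
    · have h3 := D0.add h F (hsub h1 hp1) (hsub hp2 h2)
      have e : p0 + v - p + (p - (p0 - v)) = v + v := by abel
      rw [e, hvv] at h3
      exact hneg h3
  have n02 : c0 ≠ c2 := by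
    rintro e
    exact (disj (p := p0)).2.1 ⟨hp0, e ▸ hp0⟩
  have n12 : c1 ≠ c2 := by
    rintro e
    exact (disj (p := p0 + v)).2.2 ⟨hp1, e ▸ hp1⟩
  -- `CC ∩ T`
  have hall : ∀ c ∈ CC Om z, c ∈ T → c = c0 ∨ c = c1 ∨ c = c2 := by
    intro c hc hcT
    by_cases e0 : c = c0
    · exact Or.inl e0
    by_cases e1 : c = c1
    · exact Or.inr (Or.inl e1)
    · right; right
      rw [hc2e]
      exact CC.eq_three h hc0 hc1 hc h01 (hc0' c hcT).symm (hc1' c hcT).symm n01 (Ne.symm e0) (Ne.symm e1)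
  -- weak closure
  have hweak : ∀ c ∈ CC Om z, c ∈ T → ∀ x ∈ CX Om z, x * c * x⁻¹ ∈ T → x * c * x⁻¹ = c := by
    intro c hc hcT x hx h1
    have h2 : x * c * x⁻¹ ∈ CC Om z := CC.conj_comm h hc (CX_le hz h hx)
    have h3 := hall _ h2 h1
    have h4 : ∀ {p : Fin 3 × Fin 3}, p ∈ DC Om z a b c → p ∈ DC Om z a b (x * c * x⁻¹) :=
      fun hp => DC.conj_CX h F hp hx
    rcases hall c hc hcT with rfl | rfl | rfl
    · rcases h3 with h3 | h3 | h3
      · exact h3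
      · exact absurd ⟨hp0, h3 ▸ h4 hp0⟩ disj.1
      · exact absurd ⟨hp0, h3 ▸ h4 hp0⟩ disj.2.1
    · rcases h3 with h3 | h3 | h3
      · exact absurd ⟨h3 ▸ h4 hp1, hp1⟩ disj.1
      · exact h3
      · exact absurd ⟨hp1, h3 ▸ h4 hp1⟩ disj.2.2
    · rcases h3 with h3 | h3 | h3
      · exact absurd ⟨h3 ▸ h4 hp2, hp2⟩ disj.2.1
      · exact absurd ⟨h3 ▸ h4 hp2, hp2⟩ disj.2.2
      · exact h3
  have hne1 : ∀ c ∈ CC Om z, c ≠ 1 := by
    rintro c hc rfl
    exact n01 ((CC.eq_one h hc hc0).trans (CC.eq_one h hc hc1).symm)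
  have hcent : ∀ c ∈ CC Om z, c ∈ T → (∀ s ∈ T, s * c = c * s) → ∀ x ∈ CX Om z, x * c = c * x :=
    fun c hc hcT hcs => cent_of_weak h hF hz hT (CC.mem_CX hc) (CC.sq hc) (hne1 c hc) hcs (hweak c hc hcT)
  have cen0 := hcent c0 hc0 hc0T hc0'
  have cen1 := hcent c1 hc1 hc1T hc1'
  have cen2 := hcent c2 hc2 hc2T hc2'
  have hcc : ∀ c ∈ CC Om z, c = c0 ∨ c = c1 ∨ c = c2 := by
    intro c hc
    obtain ⟨x, hx, h1, h2⟩ := CC.exists_conj h hT hc
    have h3 : ∀ d ∈ CC Om z, (∀ x ∈ CX Om z, x * d = d * x) → x * c * x⁻¹ = d → c = d := by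
      intro d _ hd1 hd2
      have h4 : c = x⁻¹ * d * x := by rw [← hd2]; group
      rw [h4, mul_assoc, ← hd1 x hx]; group
    rcases hall _ h1 h2 with h4 | h4 | h4
    · exact Or.inl (h3 c0 hc0 cen0 h4)
    · exact Or.inr (Or.inl (h3 c1 hc1 cen1 h4))
    · exact Or.inr (Or.inr (h3 c2 hc2 cen2 h4))
  have hd1 : d * c1 * d⁻¹ = c2 := by
    have h1 : p0 - v ∈ DC Om z a b (d * c1 * d⁻¹) := by
      have h2 := hd.dc h F hp1
      have e : p0 + v + v = p0 - v := by rw [add_assoc, hvv, sub_eq_add_neg]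
      rwa [e] at h2
    rcases hcc _ (CC.conj_comm h hc1 hd.comm) with h2 | h2 | h2
    · exact absurd ⟨h2 ▸ h1, hp2⟩ disj.2.1
    · exact absurd ⟨h2 ▸ h1, hp2⟩ disj.2.2
    · exact h2
  have hd2 : d * c2 * d⁻¹ = c0 := by
    have h1 : p0 ∈ DC Om z a b (d * c2 * d⁻¹) := by
      have h2 := hd.dc h F hp2
      rwa [sub_add_cancel] at h2
    rcases hcc _ (CC.conj_comm h hc2 hd.comm) with h2 | h2 | h2
    · exact h2
    · exact absurd ⟨hp0, h2 ▸ h1⟩ disj.1
    · exact absurd ⟨hp0, h2 ▸ h1⟩ disj.2.1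
  refine ⟨c0, c1, c2, ?_, n01, n02, n12, ?_, ?_, d, v, hd, hc1e.symm, hd1, hd2, hv, ?_⟩
  · ext c
    simp only [Set.mem_insert_iff, Set.mem_singleton_iff]
    constructor
    · exact hcc c
    · rintro (rfl | rfl | rfl)
      · exact hc0
      · exact hc1
      · exact hc2
  · rw [hc2e]
    have hz0 := CC.comm_z h hc0
    have hz1 := CC.comm_z h hc1
    calc c0 * c1 * (z * c0 * c1) = c0 * (c1 * z) * c0 * c1 := by group
      _ = (c0 * z) * (c1 * c0) * c1 := by rw [hz1]; group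
      _ = z * (c0 * c0) * (c1 * c1) := by rw [hz0, ← h01]; group
      _ = z := by rw [CC.sq hc0, CC.sq hc1, mul_one, mul_one]
  · intro c hc
    rcases hcc c hc with rfl | rfl | rfl
    · exact cen0
    · exact cen1
    · exact cen2
  · intro g' v' hg'
    have h1 := hg'.dc h F hp0
    rcases hcc _ (CC.conj_comm h hc0 hg'.comm) with h2 | h2 | h2 <;> rw [h2] at h1
    · exact Or.inl ((D0.iff h F hp0).2 h1)
    · right; left
      have h3 := hsub hp1 h1
      have e : p0 + v' - (p0 + v) = v' - v := by abel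
      rwa [e] at h3
    · right; right
      have h3 := hsub hp2 h1
      have e : p0 + v' - (p0 - v) = v' + v := by abel
      rwa [e] at h3

/-- (A) or the labels are non-trivial -/
theorem CC.eq_singleton (h : W2 Om) (h1 : (1 : G) ∈ CC Om z) : CC Om z = {1} := by
  ext c
  rw [Set.mem_singleton_iff]
  exact ⟨fun hc => CC.eq_one h h1 hc, fun hc => by rw [hc]; exact h1⟩

end

end Cfsg.Agent.Cit.Nil.RTwo
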