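import Cfsg.Agent.Cit.Nil.RTwo.TrX
import Cfsg.Agent.Cit.Nil.RTwo.TenP
import Cfsg.Agent.Lib.KleinGen

/-!
# `r = 2`, `m = 1`, (11.4): `K ∩ X = ⟨z⟩`, the Sylow 2-subgroups of `X` are commutative

* `TrX.fix` : `n ∈ N_X(A)` commuting with `x_i` in its action on `A` centralises `z`;
* `TrX.false_of_comm` : (11.4).
-/

set_option autoImplicit false
set_option linter.style.haveILetI false
set_option linter.unusedSectionVars false
set_option maxHeartbeats 400000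

namespace Cfsg.Agent.Cit.Nil.RTwo

open Subgroup Cfsg Cfsg.Agent.Cit

variable {G : Type*} [Group G] [Finite G] {Om : Set (Subgroup G)} {K L M X A : Subgroup G}
  {g g' t y z s d k n : G} {x : Fin 3 → G}

theorem syl_map_subtype (S : Sylow 2 X) : Syl ((S : Subgroup X).map X.subtype) X := by
  haveI : Fact (Nat.Prime 2) := ⟨Nat.prime_two⟩
  refine ⟨?_, S.isPGroup'.map _, ?_⟩
  · rintro _ ⟨x, -, rfl⟩; exact x.2
  · rw [relIndex, subgroupOf, comap_map_eq_self_of_injective X.subtype_injective]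
    exact S.not_dvd_index

namespace TrX

variable (r : TrX Om X)

include r

/-- an element of `N_X(A)` whose action on `A` commutes with that of `x i` centralises `z` -/
theorem fix (P : HP Om z t K x) (hA : ∀ i, ee z t x i ∈ A) (hAz : ∀ a ∈ A, a * z = z * a) (hn : n ∈ X)
    (hnA : ∀ a ∈ A, n * a * n⁻¹ ∈ A) (i : Fin 3)
    (hc : ∀ a ∈ A, n * (x i * a * (x i)⁻¹) * n⁻¹ = x i * (n * a * n⁻¹) * (x i)⁻¹) : n * z * n⁻¹ = z := by
  have h := r.w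
  have hz := P.pr.hz
  obtain ⟨e, he⟩ : ∃ e, e = ee z t x (i + 1) := ⟨_, rfl⟩
  have heA : e ∈ A := by rw [he]; exact hA _
  have h1 : x i * e * (x i)⁻¹ = z * e := by rw [he]; exact P.x_e_ne h (i_ne1 i)
  obtain ⟨v, hv⟩ : ∃ v, v = n * e * n⁻¹ := ⟨_, rfl⟩
  have hvA : v ∈ A := by rw [hv]; exact hnA e heA
  have h2 := hc e heA
  rw [h1, ← hv] at h2
  have h3 : n * z * n⁻¹ = x i * (v * (x i)⁻¹ * v⁻¹) := by
    calc n * z * n⁻¹ = (n * (z * e) * n⁻¹) * (n * e * n⁻¹)⁻¹ := by group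
      _ = x i * v * (x i)⁻¹ * v⁻¹ := by rw [h2, ← hv]
      _ = _ := by group
  have hxR : x i ∈ RZ Om z := P.hK.le_RZ (P.q.mem i)
  have h4 : n * z * n⁻¹ ∈ RZ Om z := by
    rw [h3]
    exact mul_mem hxR (RZ_conj_comm h (hAz v hvA) (inv_mem hxR))
  by_contra hne
  exact r.not_ti hn ⟨hz, hz.conj h n, fun e => hne e.symm, (RZ_le_centralizer h h4).symm, Inn.of_RZ hz h h4⟩

/-- `z` is centralised by `N_X(A)` -/
theorem cent_normalizer (P : HP Om z t K x) (hA : Syl A X) (hAc : ∀ a ∈ A, ∀ b ∈ A, a * b = b * a) (hzA : z ∈ A)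
    (heA : ∀ i, ee z t x i ∈ A) (hxA : ∀ i, cj (x i) A = A) (hn : n ∈ X) (hnA : cj n A = A) : n * z * n⁻¹ = z := by
  haveI : Fact (Nat.Prime 2) := ⟨Nat.prime_two⟩
  obtain ⟨N0, hN0⟩ : ∃ N0 : Subgroup G, N0 = X ⊓ normalizer (A : Set G) := ⟨_, rfl⟩
  have hle : N0 ≤ normalizer (A : Set G) := by rw [hN0]; exact inf_le_right
  have hle' : N0 ≤ X := by rw [hN0]; exact inf_le_left
  have hN0' : ∀ m, m ∈ X → m ∈ normalizer (A : Set G) → m ∈ N0 := fun m h1 h2 => by rw [hN0]; exact ⟨h1, h2⟩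
  let φ : normalizer (A : Set G) →* MulAut A := A.normalizerMonoidHom
  have hφ : ∀ (g : normalizer (A : Set G)) (a : A), ((φ g a : A) : G) = g * a * (g : G)⁻¹ := fun g a => rfl
  let f : N0 →* MulAut A := φ.comp (inclusion hle)
  have hf : ∀ (g : N0) (a : A), ((f g a : A) : G) = g * a * (g : G)⁻¹ := fun g a => rfl
  have hxm : ∀ i, x i ∈ normalizer (A : Set G) := fun i => mem_normalizer_iff_cj.2 (hxA i)
  have hodd : Odd (Nat.card f.range) := by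
    rw [← Nat.not_even_iff_odd, even_iff_two_dvd]
    intro h2
    have h3 : Syl A N0 := LB.syl_of_le hA (by rw [hN0]; exact le_inf hA.1 le_normalizer) hle'
    apply h3.2.2
    refine h2.trans ?_
    rw [← index_ker f]
    refine index_dvd_of_le ?_
    rintro ⟨a, ha⟩ haA
    rw [mem_subgroupOf] at haA
    rw [MonoidHom.mem_ker]
    ext b
    rw [hf]
    show a * b * a⁻¹ = b
    rw [hAc a haA b b.2, mul_inv_cancel_right]
  -- the four-group
  let X0 : MulAut A := φ ⟨x 0, hxm 0⟩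
  let Y0 : MulAut A := φ ⟨x 1, hxm 1⟩
  have hzc : ∀ a ∈ A, z * a * z⁻¹ = a := fun a ha => by rw [hAc z hzA a ha, mul_inv_cancel_right]
  have hconj : ∀ i, ∀ a ∈ A, x i * a * (x i)⁻¹ ∈ A := fun i a ha => by
    have := conj_mem_cj (g := x i) ha
    rwa [hxA i] at this
  have hsq : ∀ i, φ ⟨x i, hxm i⟩ * φ ⟨x i, hxm i⟩ = 1 := by
    intro i
    ext a
    show x i * (x i * a * (x i)⁻¹) * (x i)⁻¹ = a
    have e : x i * (x i * a * (x i)⁻¹) * (x i)⁻¹ = (x i * x i) * a * (x i * x i)⁻¹ := by group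
    rw [e, P.q.sq]
    exact hzc a a.2
  have hXY : X0 * Y0 = Y0 * X0 := by
    ext a
    show x 0 * (x 1 * a * (x 1)⁻¹) * (x 0)⁻¹ = x 1 * (x 0 * a * (x 0)⁻¹) * (x 1)⁻¹
    have e : x 0 * (x 1 * a * (x 1)⁻¹) * (x 0)⁻¹ = (x 0 * x 1) * a * (x 0 * x 1)⁻¹ := by group
    rw [e, P.q.sw (show (0 : Fin 3) ≠ 1 by decide)]
    have e2 : z * (x 1 * x 0) * a * (z * (x 1 * x 0))⁻¹ = z * (x 1 * (x 0 * a * (x 0)⁻¹) * (x 1)⁻¹) * z⁻¹ := by group
    rw [e2]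
    exact hzc _ (hconj 1 _ (hconj 0 _ a.2))
  have hprod : X0 * Y0 = φ ⟨x 2, hxm 2⟩ := by
    ext a
    show x 0 * (x 1 * a * (x 1)⁻¹) * (x 0)⁻¹ = x 2 * a * (x 2)⁻¹
    have e : x 0 * (x 1 * a * (x 1)⁻¹) * (x 0)⁻¹ = (x 0 * x 1) * a * (x 0 * x 1)⁻¹ := by group
    have e2 : x 0 * x 1 = x 2 := P.q.mul 0
    rw [e, e2]
  have hnorm : ∀ i, ∀ γ ∈ f.range, φ ⟨x i, hxm i⟩ * γ * (φ ⟨x i, hxm i⟩)⁻¹ ∈ f.range := by
    rintro i _ ⟨m, rfl⟩
    have hmX : x i * m * (x i)⁻¹ ∈ N0 := hN0' _ (r.fs.nor.conj_mem _ (hle' m.2) _)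
      (mul_mem (mul_mem (hxm i) (hle m.2)) (inv_mem (hxm i)))
    refine ⟨⟨x i * m * (x i)⁻¹, hmX⟩, ?_⟩
    have e1 : f ⟨x i * m * (x i)⁻¹, hmX⟩ = φ (⟨x i, hxm i⟩ * ⟨m, hle m.2⟩ * ⟨x i, hxm i⟩⁻¹) := rfl
    rw [e1, map_mul, map_mul, map_inv]
    rfl
  have hstab : ∀ i, f.range ⊓ centralizer {φ ⟨x i, hxm i⟩} ≤ MulAction.stabilizer (MulAut A) (⟨z, hzA⟩ : A) := by
    rintro i _ ⟨⟨m, rfl⟩, hm⟩
    replace hm := mem_centralizer_singleton_iff.1 hm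
    rw [MulAction.mem_stabilizer_iff]
    apply Subtype.ext
    show (m : G) * z * (m : G)⁻¹ = z
    refine r.fix P heA (fun a ha => hAc a ha z hzA) (hle' m.2) (fun a ha => ?_) i (fun a ha => ?_)
    · have := (mem_normalizer_iff.1 (hle m.2) a).1 ha
      exact this
    · have h1 := congrArg (fun γ : MulAut A => ((γ ⟨a, ha⟩ : A) : G)) hm
      exact h1
  have hfin := Lib.KleinGen.le_of_klein f.range (MulAction.stabilizer (MulAut A) (⟨z, hzA⟩ : A)) hodd X0 Y0 (hsq 0)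
    (hsq 1) hXY (hnorm 0) (hnorm 1) (hstab 0) (hstab 1) (by rw [hprod]; exact hstab 2)
  have hnN : n ∈ N0 := by rw [hN0]; exact ⟨hn, mem_normalizer_iff_cj.2 hnA⟩
  have h1 := hfin ⟨⟨n, hnN⟩, rfl⟩
  rw [MulAction.mem_stabilizer_iff] at h1
  exact congrArg Subtype.val h1

/-- **(11.4)** -/
theorem false_of_comm (hz : InZ Om z) (S : Sylow 2 X) (hS : IsMulCommutative (S : Subgroup X)) : False := by
  haveI : Fact (Nat.Prime 2) := ⟨Nat.prime_two⟩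
  have h := r.w
  obtain ⟨g, hg, hp⟩ := r.exists_pr hz
  obtain ⟨K, x, P⟩ := hp.exists_hp h
  obtain ⟨t, ht⟩ : ∃ t, t = g * z * g⁻¹ := ⟨_, rfl⟩
  rw [← ht] at hp P
  have htX : t ∈ X := r.zle t hp.ht
  have htop : (⊤ : Subgroup G) ≤ normalizer (X : Set G) := by rw [normalizer_eq_top_iff.2 r.fs.nor]
  obtain ⟨Q0, hQ0, hRQ, hA⟩ := LB.exists_two_sup (isPGroup_RZ h hz) (le_top.trans htop)
  obtain ⟨A, hAd⟩ : ∃ A, A = Q0 ⊓ X := ⟨_, rfl⟩
  rw [← hAd] at hA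
  have hAc : ∀ a ∈ A, ∀ b ∈ A, a * b = b * a := by
    obtain ⟨k, -, hk⟩ := (syl_map_subtype S).exists_conj hA
    intro a ha b hb
    rw [← hk] at ha hb
    obtain ⟨a', ⟨a'', ha'', rfl⟩, rfl⟩ := ha
    obtain ⟨b', ⟨b'', hb'', rfl⟩, rfl⟩ := hb
    have h1 : a'' * b'' = b'' * a'' := congrArg Subtype.val (hS.is_comm.comm ⟨a'', ha''⟩ ⟨b'', hb''⟩)
    have h2 : (a'' : G) * b'' = b'' * a'' := congrArg Subtype.val h1
    show k * (a'' : G) * k⁻¹ * (k * (b'' : G) * k⁻¹) = k * (b'' : G) * k⁻¹ * (k * (a'' : G) * k⁻¹)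
    calc k * (a'' : G) * k⁻¹ * (k * (b'' : G) * k⁻¹) = k * ((a'' : G) * b'') * k⁻¹ := by group
      _ = k * ((b'' : G) * a'') * k⁻¹ := by rw [h2]
      _ = _ := by group
  have hRA : ∀ y ∈ RZ Om z, cj y A = A := by
    intro y hy
    rw [hAd, cj_inf, mem_normalizer_iff_cj.1 (le_normalizer (hRQ hy)), mem_normalizer_iff_cj.1 (htop (mem_top y))]
  have hzA : z ∈ A := by rw [hAd]; exact ⟨hRQ (z_mem_RZ hz h), r.zle z hz⟩
  have heX : ∀ i, ee z t x i ∈ X := by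
    intro i
    have h1 := P.conj_t h i
    have h2 : ee z t x i = t⁻¹ * (x i * t * (x i)⁻¹) := by rw [h1]; group
    rw [h2]
    exact mul_mem (inv_mem htX) (r.fs.nor.conj_mem _ htX _)
  have heA : ∀ i, ee z t x i ∈ A := fun i => by rw [hAd]; exact ⟨hRQ (P.e_mem h i), heX i⟩
  have hxA : ∀ i, cj (x i) A = A := fun i => hRA _ (P.hK.le_RZ (P.q.mem i))
  -- `t` is conjugate under `C_X(z)` into `A`
  have hAz : A ≤ X ⊓ centralizer {z} :=
    le_inf hA.1 fun a ha => mem_centralizer_singleton_iff.2 (hAc a ha z hzA)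
  have hS1 : Syl A (X ⊓ centralizer {z}) := LB.syl_of_le hA hAz inf_le_left
  obtain ⟨c, ⟨hcX, hcz⟩, hct⟩ := LB.exists_conj_mem hS1 (m := t)
    ⟨htX, mem_centralizer_singleton_iff.2 hp.comm.symm⟩ (isPGroup_zpowers_of_sq (hp.t2 h))
  obtain ⟨t', ht'⟩ : ∃ t', t' = c * t * c⁻¹ := ⟨_, rfl⟩
  rw [← ht'] at hct
  have ht'' : t' = (c * g) * z * (c * g)⁻¹ := by rw [ht', ht]; group
  have hAt : A ≤ X ⊓ centralizer {t'} :=
    le_inf hA.1 fun a ha => mem_centralizer_singleton_iff.2 (hAc a ha t' hct)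
  have hS2 : Syl A (X ⊓ centralizer {t'}) := LB.syl_of_le hA hAt inf_le_left
  have hcg : c * g ∈ X := mul_mem hcX hg
  have hS3 : Syl (cj (c * g) A) (X ⊓ centralizer {t'}) := by
    have h1 := hA.cj (c * g)
    have h2 : cj (c * g) X = X := mem_normalizer_iff_cj.1 (htop (mem_top _))
    rw [h2] at h1
    refine LB.syl_of_le h1 (le_inf h1.1 ?_) inf_le_left
    rintro _ ⟨a, ha, rfl⟩
    rw [mem_centralizer_singleton_iff, ht'']
    show (c * g) * a * (c * g)⁻¹ * ((c * g) * z * (c * g)⁻¹) = (c * g) * z * (c * g)⁻¹ * ((c * g) * a * (c * g)⁻¹)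
    calc (c * g) * a * (c * g)⁻¹ * ((c * g) * z * (c * g)⁻¹) = (c * g) * (a * z) * (c * g)⁻¹ := by group
      _ = (c * g) * (z * a) * (c * g)⁻¹ := by rw [hAc a ha z hzA]
      _ = _ := by group
  obtain ⟨d, ⟨hdX, hdt⟩, hd⟩ := hS3.exists_conj hS2
  rw [← cj_mul] at hd
  have h1 := r.cent_normalizer P hA hAc hzA heA hxA (mul_mem hdX hcg) hd
  have h2 : d * t' = t' * d := mem_centralizer_singleton_iff.1 hdt
  have h3 : t' = z := by
    rw [← h1]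
    calc t' = d * t' * d⁻¹ := by rw [h2, mul_inv_cancel_right]
      _ = _ := by rw [ht'']; group
  apply hp.ne
  have h4 : c * z = z * c := mem_centralizer_singleton_iff.1 hcz
  calc z = c⁻¹ * (c * z) := by group
    _ = c⁻¹ * (z * c) := by rw [h4]
    _ = c⁻¹ * (t' * c) := by rw [h3]
    _ = t := by rw [ht']; group

end TrX

end Cfsg.Agent.Cit.Nil.RTwo
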