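import Cfsg.Agent.Cit.Nil.RTwo.TrX
import Cfsg.Agent.TwoFusion.StronglyEmbeddedBasic

/-!
# `r = 2`, `m = 1`, section 11: `K ∩ X = ⟨z⟩`, `X` strongly embedded (11.3)

`TrX.false_of_se` : `X = F*(G)` has no strongly embedded subgroup.
-/

set_option autoImplicit false
set_option linter.style.haveILetI false
set_option linter.unusedSectionVars false

namespace Cfsg.Agent.Cit.Nil.RTwo

open Subgroup Cfsg Cfsg.Agent.Cit

variable {G : Type*} [Group G] [Finite G] {Om : Set (Subgroup G)} {K L M X : Subgroup G} {g g' t x y z s d k : G}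

namespace TrX

variable (r : TrX Om X)

include r

/-- `e_i ∈ X` -/
theorem e_mem {a : Fin 3 → G} (P : HP Om z t K a) (i : Fin 3) : ee z t a i ∈ X := by
  have ht := r.zle t P.pr.ht
  have h1 := P.conj_t r.w i
  have h2 : ee z t a i = t⁻¹ * (a i * t * (a i)⁻¹) := by rw [h1, inv_mul_cancel_left]
  rw [h2]
  exact mul_mem (inv_mem ht) (r.fs.nor.conj_mem _ ht _)

/-- no element of `R_z` except `z` is conjugate to `z` under `X` -/
theorem not_conj_RZ (hz : InZ Om z) (hg : g ∈ X) (hne : g * z * g⁻¹ ≠ z) : g * z * g⁻¹ ∉ RZ Om z := by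
  intro h1
  refine r.not_ti hg ⟨hz, hz.conj r.w g, hne.symm, ?_, Inn.of_RZ hz r.w h1⟩
  exact (RZ_le_centralizer r.w h1).symm

/-- **(11.3)** -/
theorem false_of_se (hz : InZ Om z) {H : Subgroup X} (hH : IsStronglyEmbedded H) : False := by
  obtain ⟨g, hg, hp⟩ := r.exists_pr hz
  obtain ⟨K, a, P⟩ := hp.exists_hp r.w
  have he := r.e_mem P 0
  have ho : orderOf (⟨ee z (g * z * g⁻¹) a 0, he⟩ : X) = 2 :=
    orderOf_eq_prime (Subtype.ext (by rw [pow_two]; exact P.e_sq r.w 0))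
      (fun h1 => P.e_ne_one r.w 0 (congrArg Subtype.val h1))
  have hoz : orderOf (⟨z, r.zle z hz⟩ : X) = 2 :=
    orderOf_eq_prime (Subtype.ext (by rw [pow_two]; exact hz.z2 r.w))
      (fun h1 => hz.z1 r.w (congrArg Subtype.val h1))
  obtain ⟨⟨c, hc⟩, h1⟩ := isConj_iff.1 (Cfsg.Agent.TwoFusion.StronglyEmbeddedBasic.isConj_of_involutions hH _ _ hoz ho)
  have h2 : c * z * c⁻¹ = ee z (g * z * g⁻¹) a 0 := congrArg Subtype.val h1
  refine r.not_conj_RZ hz hc ?_ ?_
  · rw [h2]; exact P.e_ne_z r.w 0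
  · rw [h2]; exact P.e_mem r.w 0

end TrX

end Cfsg.Agent.Cit.Nil.RTwo
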