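import Cfsg.Agent.Cit.Nil.RTwo.World
import Cfsg.Agent.GH.QAZStar

/-!
# `r = 2`, `m = 1`, section 11: `K ∩ X = ⟨z⟩` for all members, `X = F*(G)`

* `TrX Om X`;
* `TrX.pm` (a), `TrX.not_ti` (b), `TrX.inn` (c);
* `TrX.exists_pr` : some `g z g⁻¹`, `g ∈ X`, is a neighbour of `z` which swaps the members over `z`;
* `TrX.ee_mem` : `E_z(t) ≤ X`.
-/

set_option autoImplicit false
set_option linter.style.haveILetI false
set_option linter.unusedSectionVars false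

namespace Cfsg.Agent.Cit.Nil.RTwo

open Subgroup Cfsg Cfsg.Agent.Cit

variable {G : Type*} [Group G] [Finite G] {Om : Set (Subgroup G)} {K L M X : Subgroup G} {g g' t x y z s d k : G}

/-- `K ∩ X = ⟨z⟩` -/
structure TrX (Om : Set (Subgroup G)) (X : Subgroup G) : Prop where
  w : W2 Om
  fs : ROne.FSimp X
  inf : ∀ z K, Mem Om z K → ∀ y ∈ K, y ∈ X → y = 1 ∨ y = z
  zle : ∀ z, InZ Om z → z ∈ X
  c3 : C3E Om

namespace TrX

variable (r : TrX Om X)

include r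

/-- (a) -/
theorem pm (hK : Mem Om z K) (hd : d ∈ X) (hdK : cj d K = K) : ∀ k ∈ K, d * k * d⁻¹ = k ∨ d * k * d⁻¹ = z * k := by
  intro k hk
  have h0 : d * k * d⁻¹ ∈ K := by
    have := conj_mem_cj (g := d) hk
    rwa [hdK] at this
  have h2 : d * k * d⁻¹ * k⁻¹ ∈ X := by
    have h3 : d * k * d⁻¹ * k⁻¹ = d * (k * d⁻¹ * k⁻¹) := by group
    rw [h3]
    exact mul_mem hd (r.fs.nor.conj_mem _ (inv_mem hd) k)
  rcases r.inf z K hK _ (mul_mem h0 (inv_mem hk)) h2 with h3 | h3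
  · exact Or.inl (mul_inv_eq_one.1 h3)
  · right; rwa [mul_inv_eq_iff_eq_mul] at h3

/-- an element of `g K g⁻¹` (`g ∈ X`) which normalises `K` acts on it as an inner automorphism -/
theorem pm_cj (hK : Mem Om z K) (hg : g ∈ X) (hy : y ∈ cj g K) (hyK : cj y K = K) :
    ∀ k ∈ K, y * k * y⁻¹ = k ∨ y * k * y⁻¹ = z * k := by
  intro k hk
  have h0 : y * k * y⁻¹ ∈ K := by
    have := conj_mem_cj (g := y) hk
    rwa [hyK] at this
  -- `y = g m g⁻¹ = d m`, `d ∈ X`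
  have hm : g⁻¹ * y * g ∈ K := mem_cj.1 hy
  obtain ⟨m, hmdef⟩ : ∃ m, m = g⁻¹ * y * g := ⟨_, rfl⟩
  rw [← hmdef] at hm
  obtain ⟨d, hd⟩ : ∃ d, d = y * m⁻¹ := ⟨_, rfl⟩
  have hdX : d ∈ X := by
    have h1 : d = g * (m * g⁻¹ * m⁻¹) := by rw [hd, hmdef]; group
    rw [h1]
    exact mul_mem hg (r.fs.nor.conj_mem _ (inv_mem hg) m)
  have hdm : y = d * m := by rw [hd]; group
  have hdK : cj d K = K := by
    rw [hd, cj_mul, mem_normalizer_iff_cj.1 (le_normalizer (inv_mem hm)), hyK]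
  have h1 := r.pm hK hdX hdK (m * k * m⁻¹) (mul_mem (mul_mem hm hk) (inv_mem hm))
  have h2 : y * k * y⁻¹ = d * (m * k * m⁻¹) * d⁻¹ := by rw [hdm]; group
  have h3 : m * k * m⁻¹ = k ∨ m * k * m⁻¹ = z * k := Inn.of_mem hK r.w hm K hK k hk
  rw [h2]
  have hz2 := hK.inZ.z2 r.w
  rcases h3 with h3 | h3 <;> rw [h3] at h1 ⊢
  · exact h1
  · rcases h1 with h1 | h1
    · right; exact h1
    · left; rw [h1, ← mul_assoc, hz2, one_mul]

/-- **(b)** -/
theorem not_ti (hg : g ∈ X) : ¬ TI Om z (g * z * g⁻¹) := by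
  rintro ⟨hz, ht, hne, hcomm, hi⟩
  obtain ⟨K, hK⟩ := hz
  have hL : Mem Om (g * z * g⁻¹) (cj g K) := hK.cj r.w g
  have hi' : Inn Om (g * z * g⁻¹) z := hi.symm hK.inZ ht r.w
  obtain ⟨l, ql⟩ := r.w.exists_q3 hL
  have hinn := hi' _ hL
  rcases ql.inner_cases hinn with h1 | ⟨j, h1⟩
  · exact hne (hK.inZ.eq_of_cent hL r.w fun k hk => by
      have := h1 k hk; rwa [mul_inv_eq_iff_eq_mul] at this)
  · have hyz : l j * z = z * l j := by
      have := h1 (l j) (ql.mem j)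
      rw [Q3.conj_self, mul_inv_eq_iff_eq_mul] at this
      exact this.symm
    have hyK : cj (l j) K = K := r.w.h3 hL hK (ql.mem j) (ql.sq j) hyz
    have h2 := r.pm_cj hK hg (ql.mem j) hyK
    -- `t = (l j)²` centralises `K`
    apply hne
    symm
    refine ht.eq_of_cent hK r.w fun k hk => ?_
    have hz2 := hK.inZ.z2 r.w
    have h3 : l j * (l j * k * (l j)⁻¹) * (l j)⁻¹ = k := by
      rcases h2 k hk with h4 | h4
      · rw [h4, h4]
      · rw [h4]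
        have e : l j * (z * k) * (l j)⁻¹ = z * (l j * k * (l j)⁻¹) := by
          calc l j * (z * k) * (l j)⁻¹ = (l j * z) * k * (l j)⁻¹ := by group
            _ = (z * l j) * k * (l j)⁻¹ := by rw [hyz]
            _ = _ := by group
        rw [e, h4, ← mul_assoc, hz2, one_mul]
    rw [← mul_inv_eq_iff_eq_mul]
    calc g * z * g⁻¹ * k * (g * z * g⁻¹)⁻¹ = (l j * l j) * k * (l j * l j)⁻¹ := by rw [ql.sq]
      _ = l j * (l j * k * (l j)⁻¹) * (l j)⁻¹ := by group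
      _ = k := h3

/-- (c) -/
theorem inn (hK : Mem Om z K) (ht : InZ Om t) (htK : cj t K = K) : Inn Om z t := by
  by_cases hne : t = z
  · subst hne; exact Inn.of_CX (z_mem_CX r.w)
  · exact (r.w.inn_both hK ht hne (r.pm hK (r.zle t ht) htK)).1

/-- commuting pairs in `Z` : type I or `PR` -/
theorem ti_or_pr (hz : InZ Om z) (ht : InZ Om t) (hne : z ≠ t) (hc : z * t = t * z) : TI Om z t ∨ PR Om z t := by
  by_cases h1 : ∃ K, Mem Om z K ∧ cj t K = K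
  · obtain ⟨K, hK, h2⟩ := h1
    exact Or.inl ⟨hz, ht, hne, hc, r.inn hK ht h2⟩
  · push Not at h1
    exact Or.inr ⟨hz, ht, hne, hc, h1⟩

theorem pr_of (hz : InZ Om z) (hg : g ∈ X) (hne : z ≠ g * z * g⁻¹) (hc : z * (g * z * g⁻¹) = g * z * g⁻¹ * z) :
    PR Om z (g * z * g⁻¹) :=
  (r.ti_or_pr hz (hz.conj r.w g) hne hc).resolve_left (r.not_ti hg)

/-- some neighbour of `z` which is conjugate to `z` under `X` swaps the members over `z` -/
theorem exists_pr (hz : InZ Om z) : ∃ g ∈ X, PR Om z (g * z * g⁻¹) := by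
  have f := r.fs
  haveI := f.sim
  have hnc : ¬ IsMulCommutative X := by
    intro h2
    exact f.na fun x hx y hy => congrArg Subtype.val (h2.is_comm.comm ⟨x, hx⟩ ⟨y, hy⟩)
  have hzX := r.zle z hz
  obtain ⟨⟨g, hg⟩, h2, h3⟩ := GH.QA.not_isolated f.sim hnc (u := (⟨z, hzX⟩ : X))
    (Subtype.ext (hz.z2 r.w)) (fun h2 => hz.z1 r.w (congrArg Subtype.val h2))
  have h2' : z * (g * z * g⁻¹) = g * z * g⁻¹ * z := congrArg Subtype.val h2
  have h3' : z ≠ g * z * g⁻¹ := fun h4 => h3 (Subtype.ext h4.symm)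
  exact ⟨g, hg, r.pr_of hz hg h3' h2'⟩

/-- `[t, k] ∈ X` -/
theorem comm_mem (hd : d ∈ X) (k : G) : d * k * d⁻¹ * k⁻¹ ∈ X := by
  have h3 : d * k * d⁻¹ * k⁻¹ = d * (k * d⁻¹ * k⁻¹) := by group
  rw [h3]
  exact mul_mem hd (r.fs.nor.conj_mem _ (inv_mem hd) k)

end TrX

end Cfsg.Agent.Cit.Nil.RTwo
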