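import Cfsg.Agent.Cit.Nil.RTwo.QLem

/-!
# Type I pairs (section 1 of the blueprint)

`Cf Om z t K1 K2 L1 L2 a b c d` : a pair `(z, t)` of type I with frames: `K1, K2` the members over `z`, `L1, L2` the
members over `t`, `t` acts on `K1, K2` as `a 0, b 0`, `z` acts on `L1, L2` as `c 0, d 0`.
-/

set_option autoImplicit false
set_option linter.style.haveILetI false
set_option linter.unusedSectionVars false
set_option maxHeartbeats 400000

namespace Cfsg.Agent.Cit.Nil.RTwo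

open Subgroup Cfsg Cit

variable {G : Type*} [Group G]

/-- `(z, t)` is a pair of type I -/
def TI (Om : Set (Subgroup G)) (z t : G) : Prop :=
  InZ Om z ∧ InZ Om t ∧ z ≠ t ∧ z * t = t * z ∧ Inn Om z t

/-- `x` fixes the members over `t` -/
def Fx (Om : Set (Subgroup G)) (t x : G) : Prop := ∀ K, Mem Om t K → cj x K = K

/-- `x` moves the members over `t` -/
def Sw (Om : Set (Subgroup G)) (t x : G) : Prop := ∀ K, Mem Om t K → cj x K ≠ K

/-- the structure of a type I line: label `c` -/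
structure Lab (Om : Set (Subgroup G)) (z t c : G) : Prop where
  ti : TI Om z t
  sq : c * c = 1
  cz : c ∈ CX Om z
  ct : c ∈ CX Om t
  wz : t * c ∈ RZ Om z
  wt : z * c ∈ RZ Om t

/-- see the head of the file -/
structure Cf (Om : Set (Subgroup G)) (z t : G) (K1 K2 L1 L2 : Subgroup G) (a b c d : Fin 3 → G) : Prop where
  k1 : Mem Om z K1
  k2 : Mem Om z K2
  kne : K1 ≠ K2
  l1 : Mem Om t L1
  l2 : Mem Om t L2
  lne : L1 ≠ L2
  qa : Q3 K1 z a
  qb : Q3 K2 z b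
  qc : Q3 L1 t c
  qd : Q3 L2 t d
  ne : z ≠ t
  comm : z * t = t * z
  ta : ∀ k ∈ K1, t * k * t⁻¹ = a 0 * k * (a 0)⁻¹
  tb : ∀ k ∈ K2, t * k * t⁻¹ = b 0 * k * (b 0)⁻¹
  zc : ∀ k ∈ L1, z * k * z⁻¹ = c 0 * k * (c 0)⁻¹
  zd : ∀ k ∈ L2, z * k * z⁻¹ = d 0 * k * (d 0)⁻¹

section

variable [Finite G] {Om : Set (Subgroup G)} {K K1 K2 L L1 L2 : Subgroup G} {z t g x y : G} {a b c d : Fin 3 → G}

/-- a frame in which an inner involutory automorphism is `x 0` -/
theorem exists_frame (h : W2 Om) (hK : Mem Om z K) (ht : InZ Om t) (hne : t ≠ z)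
    (hi : ∀ k ∈ K, t * k * t⁻¹ = k ∨ t * k * t⁻¹ = z * k) :
    ∃ a, Q3 K z a ∧ ∀ k ∈ K, t * k * t⁻¹ = a 0 * k * (a 0)⁻¹ := by
  obtain ⟨x, hx⟩ := h.exists_q3 hK
  rcases hx.inner_cases hi with h1 | ⟨j, h1⟩
  · exfalso
    exact hne (ht.eq_of_cent hK h fun k hk => by
      have := h1 k hk
      rwa [mul_inv_eq_iff_eq_mul] at this)
  · refine ⟨_, hx.rot j, ?_⟩
    simpa using h1

theorem TI.exists_cf (h : W2 Om) (hti : TI Om z t) : ∃ K1 K2 L1 L2 a b c d, Cf Om z t K1 K2 L1 L2 a b c d := by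
  obtain ⟨⟨K1, hK1⟩, ⟨L1, hL1⟩, hne, hc, hi⟩ := hti
  obtain ⟨K2, hK2, hkne, -⟩ := hK1.other h
  obtain ⟨L2, hL2, hlne, -⟩ := hL1.other h
  have hi' := hi.symm hK1.inZ hL1.inZ h
  obtain ⟨a, qa, ha⟩ := exists_frame h hK1 hL1.inZ hne.symm (hi K1 hK1)
  obtain ⟨b, qb, hb⟩ := exists_frame h hK2 hL1.inZ hne.symm (hi K2 hK2)
  obtain ⟨c, qc, hc'⟩ := exists_frame h hL1 hK1.inZ hne (hi' L1 hL1)
  obtain ⟨d, qd, hd⟩ := exists_frame h hL2 hK1.inZ hne (hi' L2 hL2)
  exact ⟨K1, K2, L1, L2, a, b, c, d, hK1, hK2, hkne, hL1, hL2, hlne, qa, qb, qc, qd, hne, hc, ha, hb, hc', hd⟩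

namespace Cf

variable (C : Cf Om z t K1 K2 L1 L2 a b c d) (h : W2 Om)

include C

theorem symm : Cf Om t z L1 L2 K1 K2 c d a b :=
  ⟨C.l1, C.l2, C.lne, C.k1, C.k2, C.kne, C.qc, C.qd, C.qa, C.qb, C.ne.symm, C.comm.symm, C.zc, C.zd, C.ta, C.tb⟩

theorem swk : Cf Om z t K2 K1 L1 L2 b a c d :=
  ⟨C.k2, C.k1, C.kne.symm, C.l1, C.l2, C.lne, C.qb, C.qa, C.qc, C.qd, C.ne, C.comm, C.tb, C.ta, C.zc, C.zd⟩

theorem swl : Cf Om z t K1 K2 L2 L1 a b d c :=
  ⟨C.k1, C.k2, C.kne, C.l2, C.l1, C.lne.symm, C.qa, C.qb, C.qd, C.qc, C.ne, C.comm, C.ta, C.tb, C.zd, C.zc⟩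

theorem ta0 : t * a 0 = a 0 * t := by
  have h1 := C.ta _ (C.qa.mem 0)
  rwa [Q3.conj_self, mul_inv_eq_iff_eq_mul] at h1

theorem ta1 : t * a 1 * t⁻¹ = z * a 1 := by
  rw [C.ta _ (C.qa.mem 1), C.qa.conj_ne (by decide)]

theorem z2 : z * z = 1 := C.qa.z2
theorem t2 : t * t = 1 := C.qc.z2
theorem zinv : z⁻¹ = z := C.qa.zinv
theorem tinv : t⁻¹ = t := C.qc.zinv

include h

/-- `a 0` acts on `L1` as a rotation by a quarter about `c 0` -/
theorem rot : a 0 * c 0 * (a 0)⁻¹ = c 0 ∧ (a 0 * c 1 * (a 0)⁻¹ = c 2 ∨ a 0 * c 1 * (a 0)⁻¹ = t * c 2) := by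
  have h1 := h.h3 C.k1 C.l1 (C.qa.mem 0) (C.qa.sq 0) C.ta0.symm
  refine C.qc.quarter (fun k hk => ?_) fun k hk => ?_
  · have := conj_mem_cj (g := a 0) hk
    rwa [h1] at this
  · rw [← C.zc k hk]
    have : a 0 * (a 0 * k * (a 0)⁻¹) * (a 0)⁻¹ = (a 0 * a 0) * k * (a 0 * a 0)⁻¹ := by group
    rw [this, C.qa.sq]

theorem ac : a 0 * c 0 = c 0 * a 0 := by
  have h1 := (C.rot h).1
  rwa [mul_inv_eq_iff_eq_mul] at h1

theorem ab : a 0 * b 0 = b 0 * a 0 := C.k1.comm C.k2 h C.kne (C.qa.mem 0) (C.qb.mem 0)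

/-- `a 1 c 0 (a 1)⁻¹ = ± a 0 c 0` -/
theorem conj_ac : a 1 * c 0 * (a 1)⁻¹ = a 0 * c 0 ∨ a 1 * c 0 * (a 1)⁻¹ = z * (a 0 * c 0) := by
  have h1 := (C.symm.rot h).2
  have h12 : a 1 * a 2 = a 0 := C.qa.mul12 0
  have e : a 1 * c 0 * (a 1)⁻¹ = a 1 * (c 0 * a 1 * (c 0)⁻¹)⁻¹ * c 0 := by group
  rw [e]
  rcases h1 with h1 | h1
  · right
    rw [h1, C.qa.inv, ← mul_assoc (a 1), ← C.qa.zc, mul_assoc z, h12, mul_assoc]
  · left
    rw [h1, mul_inv_rev, C.qa.inv, C.zinv, mul_assoc z, ← C.qa.zc, C.qa.zzx, h12]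

omit h in
/-- `a 1 t (a 1)⁻¹ = z t` -/
theorem a1t : a 1 * t * (a 1)⁻¹ = z * t := by
  have h1 := C.ta1
  have h3 : t * a 1 = z * a 1 * t := by rwa [mul_inv_eq_iff_eq_mul] at h1
  have h4 : a 1 * t = z * (t * a 1) := by
    rw [h3, ← mul_assoc, ← mul_assoc, C.z2, one_mul]
  rw [h4]; group

omit h in
theorem b1t : b 1 * t * (b 1)⁻¹ = z * t := C.swk.a1t

omit h in
theorem a1z : a 1 * z = z * a 1 := (C.qa.zc 1).symm

/-- `a 1 b 1` commutes with `t` -/
theorem vt : (a 1 * b 1) * t = t * (a 1 * b 1) := by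
  have h1 := C.a1t
  have h2 := C.b1t
  rw [mul_inv_eq_iff_eq_mul] at h1 h2
  calc a 1 * b 1 * t = a 1 * (b 1 * t) := by group
    _ = a 1 * (z * t * b 1) := by rw [h2]
    _ = (a 1 * z) * t * b 1 := by group
    _ = z * (a 1 * t) * b 1 := by rw [C.a1z]; group
    _ = z * (z * t * a 1) * b 1 := by rw [h1]
    _ = (z * z) * t * (a 1 * b 1) := by group
    _ = _ := by rw [C.z2, one_mul]

/-- `a 1 b 1` commutes with `a 0 b 0` -/
theorem vw : (a 1 * b 1) * (a 0 * b 0) = (a 0 * b 0) * (a 1 * b 1) := by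
  have h1 := C.qa.sw (show (1 : Fin 3) ≠ 0 by decide)
  have h2 := C.qb.sw (show (1 : Fin 3) ≠ 0 by decide)
  have e1 : b 1 * a 0 = a 0 * b 1 := (C.k1.comm C.k2 h C.kne (C.qa.mem 0) (C.qb.mem 1)).symm
  have e2 : b 0 * a 1 = a 1 * b 0 := (C.k1.comm C.k2 h C.kne (C.qa.mem 1) (C.qb.mem 0)).symm
  calc (a 1 * b 1) * (a 0 * b 0) = a 1 * (b 1 * a 0) * b 0 := by group
    _ = (a 1 * a 0) * (b 1 * b 0) := by rw [e1]; group
    _ = (z * (a 0 * a 1)) * (z * (b 0 * b 1)) := by rw [h1, h2]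
    _ = z * (a 0 * a 1 * z) * (b 0 * b 1) := by group
    _ = z * (z * (a 0 * a 1)) * (b 0 * b 1) := by rw [C.qa.zcomm (mul_mem (C.qa.mem 0) (C.qa.mem 1))]
    _ = (a 0 * a 1) * (b 0 * b 1) := by rw [C.qa.zzx]
    _ = a 0 * (a 1 * b 0) * b 1 := by group
    _ = a 0 * (b 0 * a 1) * b 1 := by rw [e2]
    _ = _ := by group

omit h in
/-- `z` acts on `cj g L1` as `g c 0 g⁻¹` if `g` commutes with `z` -/
theorem act_cj (hg : g * z = z * g) {m : G} (hm : m ∈ cj g L1) :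
    (g * c 0 * g⁻¹) * m * (g * c 0 * g⁻¹)⁻¹ = z * m * z⁻¹ := by
  rw [mem_cj] at hm
  have h1 := C.zc _ hm
  calc (g * c 0 * g⁻¹) * m * (g * c 0 * g⁻¹)⁻¹ = g * (c 0 * (g⁻¹ * m * g) * (c 0)⁻¹) * g⁻¹ := by group
    _ = g * (z * (g⁻¹ * m * g) * z⁻¹) * g⁻¹ := by rw [h1]
    _ = (g * z) * (g⁻¹ * m * g) * (g * z)⁻¹ := by group
    _ = (z * g) * (g⁻¹ * m * g) * (z * g)⁻¹ := by rw [hg]
    _ = _ := by group

/-- `a 0` is not in `K2` -/
theorem a0_not : a 0 ∉ K2 := by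
  intro h1
  rcases C.k1.inf C.k2 h C.kne (C.qa.mem 0) h1 with h2 | h2
  · exact C.qa.ne_one 0 h2
  · exact C.qa.ne_z 0 h2

/-- `z` does not centralise `L1` -/
theorem z_not (h1 : ∀ k ∈ L1, z * k = k * z) : False :=
  C.ne (C.k1.inZ.eq_of_cent C.l1 h h1)

/-- `P1`: `t` lies in `R_z` -/
theorem p1 (hv : cj (a 1 * b 1) L1 = L1) : t = a 0 * b 0 ∨ t = z * (a 0 * b 0) := by
  have hz1 : cj z L1 = L1 := by
    have := h.h3 C.k1 C.l1 (C.qa.mem 0) (C.qa.sq 0) C.ta0.symm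
    rw [← C.qa.sq 0, cj_mul, this, this]
  have hM : cj (b 1) L1 = cj (a 1) L1 := by
    have h1 : cj (a 1) (cj (a 1) (cj (b 1) L1)) = cj (a 1) L1 := by
      rw [← cj_mul, ← cj_mul, mul_assoc, cj_mul, hv]
    have h2 : a 1 * (a 1) = z := C.qa.sq 1
    rw [← cj_mul, h2, ← cj_mul, (C.qb.zc 1), cj_mul, hz1] at h1
    exact h1
  have q := C.qc.conj (a 1)
  rw [C.a1t] at q
  have hu : a 1 * c 0 * (a 1)⁻¹ ∈ cj (a 1) L1 := conj_mem_cj (C.qc.mem 0)
  have hv' : b 1 * c 0 * (b 1)⁻¹ ∈ cj (a 1) L1 := by rw [← hM]; exact conj_mem_cj (C.qc.mem 0)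
  have key : ∀ m ∈ cj (a 1) L1, (a 1 * c 0 * (a 1)⁻¹) * m * (a 1 * c 0 * (a 1)⁻¹)⁻¹ =
      (b 1 * c 0 * (b 1)⁻¹) * m * (b 1 * c 0 * (b 1)⁻¹)⁻¹ := by
    intro m hm
    rw [C.act_cj C.a1z hm]
    rw [← hM] at hm
    rw [C.act_cj C.swk.a1z hm]
  have h5 := q.eq_or_of_act hu hv' (key _ (q.mem 0)) (key _ (q.mem 1))
  -- `a 0 = z^i (z t)^j b 0`
  have h6 := C.conj_ac h
  have h7 := C.swk.conj_ac h
  have hcan : ∀ e : G, a 0 * c 0 = e * (b 0 * c 0) → a 0 = e * b 0 := by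
    intro e he
    rw [← mul_assoc] at he
    exact mul_right_cancel he
  have hno : ¬ (a 0 = b 0) ∧ ¬ (a 0 = z * b 0) := by
    constructor
    · intro h8; exact C.a0_not h (h8 ▸ C.qb.mem 0)
    · intro h8; exact C.a0_not h (h8 ▸ K2.mul_mem C.qb.zmem (C.qb.mem 0))
  have hbi : (b 0)⁻¹ = z * b 0 := C.qb.inv 0
  have hfin : a 0 = t * b 0 ∨ a 0 = z * (t * b 0) → t = a 0 * b 0 ∨ t = z * (a 0 * b 0) := by
    rintro (h8 | h8)
    · right
      rw [h8]
      have : z * (t * b 0 * b 0) = (z * t) * (b 0 * b 0) := by group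
      rw [this, C.qb.sq, C.comm, mul_assoc, C.z2, mul_one]
    · left
      rw [h8]
      have : z * (t * b 0) * b 0 = (z * t) * (b 0 * b 0) := by group
      rw [this, C.qb.sq, C.comm, mul_assoc, C.z2, mul_one]
  rcases h5 with h5 | h5 <;> rcases h6 with h6 | h6 <;> rcases h7 with h7 | h7 <;> rw [h6, h7] at h5
  · exact absurd (mul_right_cancel h5) hno.1
  · exact absurd (hcan z h5) hno.2
  · rw [← C.qa.zzx (b 0 * c 0)] at h5
    exact absurd (hcan z (mul_left_cancel h5)) hno.2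
  · exact absurd (mul_right_cancel (mul_left_cancel h5)) hno.1
  · refine hfin (Or.inr ?_)
    rw [hcan _ h5, mul_assoc]
  · refine hfin (Or.inl ?_)
    rw [hcan (z * t * z) (by rw [h5]; group), C.comm, mul_assoc t, C.z2, mul_one]
  · refine hfin (Or.inl ?_)
    rw [mul_assoc] at h5
    exact hcan _ (mul_left_cancel h5)
  · refine hfin (Or.inr ?_)
    rw [mul_assoc] at h5
    have h8 := mul_left_cancel h5
    rw [hcan (t * z) (by rw [h8]; group), ← C.comm, mul_assoc]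

/-- `P2`: `c 0 d 0 = z^i t^j a 0 b 0` -/
theorem p2 (hv : cj (a 1 * b 1) L1 = L2) : c 0 * d 0 = a 0 * b 0 ∨ c 0 * d 0 = z * (a 0 * b 0) ∨
    c 0 * d 0 = t * (a 0 * b 0) ∨ c 0 * d 0 = z * (t * (a 0 * b 0)) := by
  have hz1 : cj z L1 = L1 := by
    have := h.h3 C.k1 C.l1 (C.qa.mem 0) (C.qa.sq 0) C.ta0.symm
    rw [← C.qa.sq 0, cj_mul, this, this]
  have hM : cj (b 1) L1 = cj (a 1) L2 := by
    have h1 : cj (a 1) (cj (a 1) (cj (b 1) L1)) = cj (a 1) L2 := by
      rw [← hv, cj_mul (a 1) (b 1)]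
    have h2 : a 1 * (a 1) = z := C.qa.sq 1
    rw [← cj_mul, h2, ← cj_mul, (C.qb.zc 1), cj_mul, hz1] at h1
    exact h1
  have q := C.qd.conj (a 1)
  rw [C.a1t] at q
  have hu : a 1 * d 0 * (a 1)⁻¹ ∈ cj (a 1) L2 := conj_mem_cj (C.qd.mem 0)
  have hv' : b 1 * c 0 * (b 1)⁻¹ ∈ cj (a 1) L2 := by rw [← hM]; exact conj_mem_cj (C.qc.mem 0)
  have key : ∀ m ∈ cj (a 1) L2, (b 1 * c 0 * (b 1)⁻¹) * m * (b 1 * c 0 * (b 1)⁻¹)⁻¹ =
      (a 1 * d 0 * (a 1)⁻¹) * m * (a 1 * d 0 * (a 1)⁻¹)⁻¹ := by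
    intro m hm
    rw [C.swl.act_cj C.a1z hm]
    rw [← hM] at hm
    rw [C.swk.act_cj C.swk.a1z hm]
  have h5 := q.eq_or_of_act hv' hu (key _ (q.mem 0)) (key _ (q.mem 1))
  have h6 := C.swl.conj_ac h
  have h7 := C.swk.conj_ac h
  have hbi : (b 0)⁻¹ = z * b 0 := C.qb.inv 0
  have hta : t * a 0 = a 0 * t := C.ta0
  have htb : t * b 0 = b 0 * t := C.swk.ta0
  have hza : z * a 0 = a 0 * z := C.qa.zc 0
  have hzb : z * b 0 = b 0 * z := C.qb.zc 0
  have hab : a 0 * b 0 = b 0 * a 0 := C.ab h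
  have hcan : ∀ e : G, e * b 0 = b 0 * e → b 0 * c 0 = e * (a 0 * d 0) → c 0 * d 0 = z * e * t * (a 0 * b 0) := by
    intro e he h8
    calc c 0 * d 0 = (b 0)⁻¹ * (b 0 * c 0) * d 0 := by group
      _ = z * b 0 * (e * (a 0 * d 0)) * d 0 := by rw [h8, hbi]
      _ = z * (b 0 * e) * a 0 * (d 0 * d 0) := by group
      _ = z * (e * b 0) * a 0 * t := by rw [he, C.qd.sq]
      _ = z * e * (b 0 * (a 0 * t)) := by group
      _ = z * e * (b 0 * (t * a 0)) := by rw [hta]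
      _ = z * e * ((b 0 * t) * a 0) := by group
      _ = z * e * (t * (b 0 * a 0)) := by rw [← htb]; group
      _ = z * e * (t * (a 0 * b 0)) := by rw [hab]
      _ = _ := by group
  have e1 : b 0 * c 0 = 1 * (a 0 * d 0) → c 0 * d 0 = z * (t * (a 0 * b 0)) := by
    intro h8
    rw [hcan 1 (by group) h8]; group
  have e2 : b 0 * c 0 = z * (a 0 * d 0) → c 0 * d 0 = t * (a 0 * b 0) := by
    intro h8
    rw [hcan z hzb h8, C.z2]; group
  have e3 : b 0 * c 0 = t * (a 0 * d 0) → c 0 * d 0 = z * (a 0 * b 0) := by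
    intro h8
    rw [hcan t htb h8]
    have : z * t * t * (a 0 * b 0) = z * (t * t) * (a 0 * b 0) := by group
    rw [this, C.t2]; group
  have e4 : b 0 * c 0 = z * t * (a 0 * d 0) → c 0 * d 0 = a 0 * b 0 := by
    intro h8
    rw [hcan (z * t) (by rw [mul_assoc, htb, ← mul_assoc, hzb, mul_assoc]) h8]
    have : z * (z * t) * t * (a 0 * b 0) = (z * z) * (t * t) * (a 0 * b 0) := by group
    rw [this, C.t2, C.z2]; group
  have hzt : ∀ y : G, z * (z * t * (z * y)) = z * t * y := by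
    intro y
    calc z * (z * t * (z * y)) = (z * z) * (t * z) * y := by group
      _ = z * t * y := by rw [C.z2, C.comm]; group
  rcases h5 with h5 | h5 <;> rcases h7 with h7 | h7 <;> rcases h6 with h6 | h6 <;> rw [h6, h7] at h5
  · exact Or.inr (Or.inr (Or.inr (e1 (by rw [h5]; group))))
  · exact Or.inr (Or.inr (Or.inl (e2 h5)))
  · exact Or.inr (Or.inr (Or.inl (e2 (by rw [← h5, C.qa.zzx]))))
  · exact Or.inr (Or.inr (Or.inr (e1 (by rw [mul_left_cancel h5]; group))))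
  · exact Or.inl (e4 h5)
  · refine Or.inr (Or.inl (e3 ?_))
    rw [h5]
    calc z * t * (z * (a 0 * d 0)) = (z * (t * z)) * (a 0 * d 0) := by group
      _ = (z * z) * t * (a 0 * d 0) := by rw [← C.comm]; group
      _ = _ := by rw [C.z2, one_mul]
  · refine Or.inr (Or.inl (e3 ?_))
    have h8 : b 0 * c 0 = z * (z * t * (a 0 * d 0)) := by rw [← h5, C.qa.zzx]
    rw [h8, mul_assoc z t, C.qa.zzx]
  · refine Or.inl (e4 ?_)
    have h8 : b 0 * c 0 = z * (z * t * (z * (a 0 * d 0))) := by rw [← h5, C.qa.zzx]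
    rw [h8, hzt]

/-- `a 0 b 0` or `z a 0 b 0` centralises `L1` -/
theorem s_or : (∀ k ∈ L1, (a 0 * b 0) * k = k * (a 0 * b 0)) ∨ (∀ k ∈ L1, (z * (a 0 * b 0)) * k = k * (z * (a 0 * b 0))) := by
  obtain ⟨r1, r2⟩ := C.rot h
  obtain ⟨r3, r4⟩ := C.swk.rot h
  have hc0 : (a 0 * b 0) * c 0 = c 0 * (a 0 * b 0) := by
    rw [mul_inv_eq_iff_eq_mul] at r1 r3
    rw [mul_assoc, r3, ← mul_assoc, r1, mul_assoc]
  have hc01 : c 0 * c 1 = c 2 := C.qc.mul 0
  have hc02 : c 0 * c 2 = t * c 1 := C.qc.mul2' 0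
  have hta : t * a 0 = a 0 * t := C.ta0
  have htb : t * b 0 = b 0 * t := C.swk.ta0
  have hat : a 0 * t * (a 0)⁻¹ = t := by rw [← hta, mul_inv_cancel_right]
  -- action of `a 0` on `c 2`
  have hac2 : a 0 * c 2 * (a 0)⁻¹ = c 0 * (a 0 * c 1 * (a 0)⁻¹) := by
    rw [← hc01]
    calc a 0 * (c 0 * c 1) * (a 0)⁻¹ = (a 0 * c 0 * (a 0)⁻¹) * (a 0 * c 1 * (a 0)⁻¹) := by group
      _ = _ := by rw [r1]
  have hmain : (a 0 * b 0) * c 1 * (a 0 * b 0)⁻¹ = c 1 ∨ (a 0 * b 0) * c 1 * (a 0 * b 0)⁻¹ = t * c 1 := by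
    have e1 : (a 0 * b 0) * c 1 * (a 0 * b 0)⁻¹ = a 0 * (b 0 * c 1 * (b 0)⁻¹) * (a 0)⁻¹ := by group
    have e2 : a 0 * (t * c 2) * (a 0)⁻¹ = t * (a 0 * c 2 * (a 0)⁻¹) := by
      calc a 0 * (t * c 2) * (a 0)⁻¹ = (a 0 * t * (a 0)⁻¹) * (a 0 * c 2 * (a 0)⁻¹) := by group
        _ = _ := by rw [hat]
    have e3 : c 0 * (t * c 2) = c 1 := by
      rw [← mul_assoc, ← C.qc.zc, mul_assoc, hc02, C.qc.zzx]
    rw [e1]
    rcases r4 with r4 | r4 <;> rcases r2 with r2 | r2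
    · right; rw [r4, hac2, r2, hc02]
    · left; rw [r4, hac2, r2, e3]
    · left; rw [r4, e2, hac2, r2, hc02, C.qc.zzx]
    · right; rw [r4, e2, hac2, r2, e3]
  rcases hmain with h1 | h1
  · left
    intro k hk
    refine C.qc.comm_of hc0 ?_ hk
    rwa [mul_inv_eq_iff_eq_mul] at h1
  · right
    intro k hk
    have hz0 := C.symm.ta0
    have hz1 := C.symm.ta1
    refine C.qc.comm_of ?_ ?_ hk
    · rw [mul_assoc, hc0, ← mul_assoc, hz0, mul_assoc]
    · rw [mul_inv_eq_iff_eq_mul] at h1 hz1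
      calc z * (a 0 * b 0) * c 1 = z * ((a 0 * b 0) * c 1) := by group
        _ = z * (t * c 1 * (a 0 * b 0)) := by rw [h1]
        _ = (z * t) * c 1 * (a 0 * b 0) := by group
        _ = t * (z * c 1) * (a 0 * b 0) := by rw [C.comm]; group
        _ = t * (t * c 1 * z) * (a 0 * b 0) := by rw [hz1]
        _ = (t * t) * c 1 * (z * (a 0 * b 0)) := by group
        _ = _ := by rw [C.t2, one_mul]

/-- no Hadamard: one of `a 0 b 0`, `z a 0 b 0` centralises `L1` and `L2` -/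
theorem exists_w : ∃ w, (w = a 0 * b 0 ∨ w = z * (a 0 * b 0)) ∧ (∀ k ∈ L1, w * k = k * w) ∧ (∀ k ∈ L2, w * k = k * w) := by
  have key : ∀ {K1 K2 L1 L2 : Subgroup G} {a b c d : Fin 3 → G}, Cf Om z t K1 K2 L1 L2 a b c d →
      (∀ k ∈ L1, (a 0 * b 0) * k = k * (a 0 * b 0)) → (∀ k ∈ L2, (z * (a 0 * b 0)) * k = k * (z * (a 0 * b 0))) →
      False := by
    intro K1 K2 L1 L2 a b c d C h1 h2
    have hzne : ∀ {L : Subgroup G}, (∀ k ∈ L, (a 0 * b 0) * k = k * (a 0 * b 0)) →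
        (∀ k ∈ L, (z * (a 0 * b 0)) * k = k * (z * (a 0 * b 0))) → ∀ k ∈ L, z * k = k * z := by
      intro L h3 h4 k hk
      have h5 := h3 k hk
      have h6 := h4 k hk
      rw [mul_assoc, h5, ← mul_assoc, ← mul_assoc] at h6
      exact mul_right_cancel (by rw [mul_assoc]; rw [mul_assoc, mul_assoc] at h6; simpa [mul_assoc] using h6)
    rcases C.l1.cases C.l2 h C.lne (C.l1.cj_comm h (C.vt h)) with h3 | h3
    · rcases C.p1 h h3 with h4 | h4
      · refine C.swl.z_not h (hzne (fun k hk => ?_) h2)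
        rw [← h4]; exact C.qd.zcomm hk
      · refine C.z_not h (hzne h1 fun k hk => ?_)
        rw [← h4]; exact C.qc.zcomm hk
    · refine C.swl.z_not h (hzne (fun k hk => ?_) h2)
      rw [← h3, mem_cj] at hk
      have h4 := h1 _ hk
      have h5 := C.vw h
      have h6 : (a 0 * b 0) * (a 1 * b 1)⁻¹ = (a 1 * b 1)⁻¹ * (a 0 * b 0) := by
        rw [mul_inv_eq_iff_eq_mul, mul_assoc, ← h5]; group
      calc a 0 * b 0 * k = ((a 0 * b 0) * (a 1 * b 1)) * ((a 1 * b 1)⁻¹ * k * (a 1 * b 1)) * (a 1 * b 1)⁻¹ := by group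
        _ = (a 1 * b 1) * ((a 0 * b 0) * ((a 1 * b 1)⁻¹ * k * (a 1 * b 1))) * (a 1 * b 1)⁻¹ := by rw [← h5]; group
        _ = (a 1 * b 1) * (((a 1 * b 1)⁻¹ * k * (a 1 * b 1)) * (a 0 * b 0)) * (a 1 * b 1)⁻¹ := by rw [h4]
        _ = k * (a 1 * b 1) * ((a 0 * b 0) * (a 1 * b 1)⁻¹) := by group
        _ = k * (a 1 * b 1) * ((a 1 * b 1)⁻¹ * (a 0 * b 0)) := by rw [h6]
        _ = _ := by group
  rcases C.s_or h with h1 | h1 <;> rcases C.swl.s_or h with h2 | h2
  · exact ⟨_, Or.inl rfl, h1, h2⟩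
  · exact (key C h1 h2).elim
  · exact (key C.swl h2 h1).elim
  · exact ⟨_, Or.inr rfl, h1, h2⟩

omit h in
/-- `s = a 0 b 0` and `z s` act on `K1` as `a 0` -/
theorem act_w (h : W2 Om) {w : G} (hw : w = a 0 * b 0 ∨ w = z * (a 0 * b 0)) :
    ∀ k ∈ K1, w * k * w⁻¹ = a 0 * k * (a 0)⁻¹ := by
  intro k hk
  have h1 : ∀ k ∈ K1, (a 0 * b 0) * k * (a 0 * b 0)⁻¹ = a 0 * k * (a 0)⁻¹ := by
    intro k hk
    have h2 := C.k1.comm C.k2 h C.kne hk (C.qb.mem 0)
    calc (a 0 * b 0) * k * (a 0 * b 0)⁻¹ = a 0 * (b 0 * k) * (b 0)⁻¹ * (a 0)⁻¹ := by group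
      _ = a 0 * (k * b 0) * (b 0)⁻¹ * (a 0)⁻¹ := by rw [h2]
      _ = _ := by group
  rcases hw with rfl | rfl
  · exact h1 k hk
  · have h2 : z * (a 0 * b 0) * k * (z * (a 0 * b 0))⁻¹ = z * ((a 0 * b 0) * k * (a 0 * b 0)⁻¹) * z⁻¹ := by group
    rw [h2, h1 k hk, C.qa.zcomm (mul_mem (mul_mem (C.qa.mem 0) hk) (inv_mem (C.qa.mem 0))), mul_inv_cancel_right]

theorem w_swap {w : G} (hw : w = a 0 * b 0 ∨ w = z * (a 0 * b 0)) : w = b 0 * a 0 ∨ w = z * (b 0 * a 0) := by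
  rwa [← C.ab h]

theorem w_comm_t {w : G} (hw : w = a 0 * b 0 ∨ w = z * (a 0 * b 0)) : w * t = t * w := by
  have hta : t * a 0 = a 0 * t := C.ta0
  have htb : t * b 0 = b 0 * t := C.swk.ta0
  have h1 : a 0 * b 0 * t = t * (a 0 * b 0) := by
    rw [mul_assoc, ← htb, ← mul_assoc, ← hta, mul_assoc]
  rcases hw with rfl | rfl
  · exact h1
  · rw [mul_assoc, h1, ← mul_assoc, C.comm, mul_assoc]

theorem w_sq {w : G} (hw : w = a 0 * b 0 ∨ w = z * (a 0 * b 0)) : w * w = 1 := by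
  have h1 : a 0 * b 0 * (a 0 * b 0) = 1 := by
    calc a 0 * b 0 * (a 0 * b 0) = a 0 * (b 0 * a 0) * b 0 := by group
      _ = a 0 * (a 0 * b 0) * b 0 := by rw [C.ab h]
      _ = (a 0 * a 0) * (b 0 * b 0) := by group
      _ = 1 := by rw [C.qa.sq, C.qb.sq, C.z2]
  rcases hw with rfl | rfl
  · exact h1
  · have hza : z * a 0 = a 0 * z := C.qa.zc 0
    have hzb : z * b 0 = b 0 * z := C.qb.zc 0
    calc z * (a 0 * b 0) * (z * (a 0 * b 0)) = z * (a 0 * (b 0 * z)) * (a 0 * b 0) := by group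
      _ = z * (a 0 * (z * b 0)) * (a 0 * b 0) := by rw [hzb]
      _ = z * ((a 0 * z) * b 0) * (a 0 * b 0) := by group
      _ = z * (z * (a 0 * b 0)) * (a 0 * b 0) := by rw [← hza]; group
      _ = 1 := by rw [C.qa.zzx, h1]

theorem w_mem_RZ {w : G} (hw : w = a 0 * b 0 ∨ w = z * (a 0 * b 0)) : w ∈ RZ Om z := by
  have h1 : a 0 * b 0 ∈ RZ Om z := mul_mem (C.k1.le_RZ (C.qa.mem 0)) (C.k2.le_RZ (C.qb.mem 0))
  rcases hw with rfl | rfl
  · exact h1
  · exact mul_mem (C.k1.le_RZ C.qa.zmem) h1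

/-- `t w` centralises `K1` -/
theorem tw_comm {w : G} (hw : w = a 0 * b 0 ∨ w = z * (a 0 * b 0)) : ∀ k ∈ K1, (t * w) * k = k * (t * w) := by
  intro k hk
  have h1 := C.act_w h hw k hk
  have h2 := C.ta (w * k * w⁻¹) (by rw [h1]; exact mul_mem (mul_mem (C.qa.mem 0) hk) (inv_mem (C.qa.mem 0)))
  have h3 : t * w * k * (t * w)⁻¹ = k := by
    calc t * w * k * (t * w)⁻¹ = t * (w * k * w⁻¹) * t⁻¹ := by group
      _ = a 0 * (a 0 * k * (a 0)⁻¹) * (a 0)⁻¹ := by rw [h2, h1]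
      _ = (a 0 * a 0) * k * (a 0 * a 0)⁻¹ := by group
      _ = k := by rw [C.qa.sq, C.qa.zcomm hk, mul_inv_cancel_right]
  rwa [mul_inv_eq_iff_eq_mul] at h3

/-- an element which centralises `K1` and lies in `{w, z w}` does not exist -/
theorem w_not {w : G} (hw : w = a 0 * b 0 ∨ w = z * (a 0 * b 0)) (hc : ∀ k ∈ K1, w * k = k * w) : False := by
  have h1 := C.act_w h hw (a 1) (C.qa.mem 1)
  rw [hc _ (C.qa.mem 1), mul_inv_cancel_right, C.qa.conj_ne (by decide)] at h1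
  exact C.qa.zne _ h1.symm

/-- the label -/
theorem exists_lab : ∃ c', Lab Om z t c' := by
  obtain ⟨w, hw, hw1, hw2⟩ := C.exists_w h
  obtain ⟨w', hw', hw1', hw2'⟩ := C.symm.exists_w h
  have hwt := C.w_comm_t h hw
  have hti : TI Om z t := ⟨C.k1.inZ, C.l1.inZ, C.ne, C.comm, by
    intro K hK k hk
    have key : ∀ {K : Subgroup G} {a : Fin 3 → G}, Q3 K z a → (∀ k ∈ K, t * k * t⁻¹ = a 0 * k * (a 0)⁻¹) →
        ∀ k ∈ K, t * k * t⁻¹ = k ∨ t * k * t⁻¹ = z * k := by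
      intro K a q h1 k hk
      rw [h1 k hk]
      rcases q.cov k hk with rfl | rfl | ⟨i, rfl | rfl⟩
      · left; group
      · left; rw [← q.zc, mul_inv_cancel_right]
      · by_cases hi : i = 0
        · subst hi; left; exact Q3.conj_self 0
        · right; exact q.conj_ne (Ne.symm hi)
      · have h4 : a 0 * (z * a i) * (a 0)⁻¹ = z * (a 0 * a i * (a 0)⁻¹) := by
          calc a 0 * (z * a i) * (a 0)⁻¹ = (a 0 * z) * a i * (a 0)⁻¹ := by group
            _ = (z * a 0) * a i * (a 0)⁻¹ := by rw [q.zc]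
            _ = _ := by group
        rw [h4]
        by_cases hi : i = 0
        · subst hi; left; rw [Q3.conj_self 0]
        · right; rw [q.conj_ne (Ne.symm hi)]
    rcases C.k1.cases C.k2 h C.kne hK with rfl | rfl
    · exact key C.qa C.ta k hk
    · exact key C.qb C.tb k hk⟩
  have hzw : ∀ y : G, z * (z * y) = y := C.qa.zzx
  have htt : ∀ y : G, t * (t * y) = y := C.qc.zzx
  refine ⟨t * w, hti, ?_, ?_, ?_, ?_, ?_⟩
  · calc t * w * (t * w) = t * (w * t) * w := by group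
      _ = (t * t) * (w * w) := by rw [hwt]; group
      _ = 1 := by rw [C.t2, C.w_sq h hw, mul_one]
  · rw [mem_CX]
    intro K hK k hk
    rcases C.k1.cases C.k2 h C.kne hK with rfl | rfl
    · exact C.tw_comm h hw k hk
    · exact C.swk.tw_comm h (C.w_swap h hw) k hk
  · rw [mem_CX]
    intro K hK k hk
    rcases C.l1.cases C.l2 h C.lne hK with rfl | rfl
    · rw [mul_assoc, hw1 k hk, ← mul_assoc, C.qc.zcomm hk, mul_assoc]
    · rw [mul_assoc, hw2 k hk, ← mul_assoc, C.qd.zcomm hk, mul_assoc]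
  · rw [htt]; exact C.w_mem_RZ h hw
  · -- `z t w ∈ R_t`
    have hw'R := C.symm.w_mem_RZ h hw'
    have htR : t ∈ RZ Om t := C.l1.le_RZ C.qc.zmem
    -- no `w' ∈ {w, t w, z w}`
    have n1 : w' ≠ w := fun e => C.symm.w_not h hw' (by rw [e]; exact hw1)
    have n2 : w' ≠ t * w := fun e => C.symm.w_not h hw' (by
      rw [e]; intro k hk; rw [mul_assoc, hw1 k hk, ← mul_assoc, C.qc.zcomm hk, mul_assoc])
    have n3 : w' ≠ z * w := fun e => by
      refine C.w_not h (w := w') ?_ hw1'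
      rcases hw with rfl | rfl
      · exact Or.inr e
      · left; rw [e, hzw]
    have hfour : w' = z * (t * w) ∨ (t = w ∧ z ∈ RZ Om t) := by
      rcases C.l1.cases C.l2 h C.lne (C.l1.cj_comm h (C.vt h)) with h3 | h3
      · -- `P1`
        right
        have htw : t = w := by
          have h4 := C.p1 h h3
          by_contra hne
          -- then `t = z w`
          have h5 : t = z * w := by
            rcases h4 with h4 | h4 <;> rcases hw with h6 | h6
            · exact absurd (h4.trans h6.symm) hne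
            · rw [h6, hzw]; exact h4
            · rw [h6]; exact h4
            · exact absurd (h4.trans h6.symm) hne
          apply C.z_not h
          intro k hk
          have h6 : z = t * w⁻¹ := by rw [h5, mul_inv_cancel_right]
          have h7 : w⁻¹ * k = k * w⁻¹ := by
            rw [inv_mul_eq_iff_eq_mul, ← mul_assoc, hw1 k hk, mul_inv_cancel_right]
          rw [h6, mul_assoc, h7, ← mul_assoc, C.qc.zcomm hk, mul_assoc]
        refine ⟨htw, ?_⟩
        rcases C.k1.cases C.k2 h C.kne (C.k1.cj_comm h (C.symm.vt h)) with h4 | h4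
        · have h5 : z = w' ∨ z = t * w' := by
            rcases C.symm.p1 h h4 with h5 | h5 <;> rcases hw' with h6 | h6
            · left; rw [h6]; exact h5
            · right; rw [h6, htt]; exact h5
            · right; rw [h6]; exact h5
            · left; rw [h6]; exact h5
          rcases h5 with h5 | h5
          · rw [h5]; exact hw'R
          · rw [h5]; exact mul_mem htR hw'R
        · -- `w = z^i t^j w'`
          have h5 : w = w' ∨ w = t * w' ∨ w = z * w' ∨ w = z * (t * w') := by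
            have h6 := C.symm.p2 h h4
            have e1 : ∀ y, t * (z * y) = z * (t * y) := fun y => by rw [← mul_assoc, ← C.comm, mul_assoc]
            rcases hw with h7 | h7 <;> rcases hw' with h8 | h8 <;> rcases h6 with h6 | h6 | h6 | h6 <;>
              rw [h7, h8, h6]
            · left; rfl
            · right; left; rfl
            · right; right; left; rfl
            · right; right; right; exact e1 _
            · right; left; rw [htt]
            · left; rfl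
            · right; right; right; rw [htt]
            · right; right; left; rw [e1]
            · right; right; left; rfl
            · right; right; right; rfl
            · left; rw [hzw]
            · right; left; rw [e1, hzw]
            · right; right; right; rw [htt]
            · right; right; left; rfl
            · right; left; rw [htt, hzw]
            · left; rw [e1, hzw]
          rcases h5 with h5 | h5 | h5 | h5
          · exact absurd h5.symm n1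
          · exact absurd (by rw [h5, htt]) n2
          · have h6 : z = w * w'⁻¹ := by rw [h5, mul_inv_cancel_right]
            rw [h6, ← htw]; exact mul_mem htR (inv_mem hw'R)
          · have h6 : z = w * (t * w')⁻¹ := by rw [h5, mul_inv_cancel_right]
            rw [h6, ← htw]; exact mul_mem htR (inv_mem (mul_mem htR hw'R))
      · left
        have h5 : w' = w ∨ w' = z * w ∨ w' = t * w ∨ w' = z * (t * w) := by
          have h6 := C.p2 h h3
          have e1 : ∀ y, t * (z * y) = z * (t * y) := fun y => by rw [← mul_assoc, ← C.comm, mul_assoc]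
          rcases hw with h7 | h7 <;> rcases hw' with h8 | h8 <;> rcases h6 with h6 | h6 | h6 | h6 <;>
            rw [h7, h8, h6]
          · left; rfl
          · right; left; rfl
          · right; right; left; rfl
          · right; right; right; rfl
          · right; right; left; rfl
          · right; right; right; exact e1 _
          · left; rw [htt]
          · right; left; rw [e1, htt]
          · right; left; rw [hzw]
          · left; rfl
          · right; right; right; rw [e1, hzw]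
          · right; right; left; exact (e1 _).symm
          · right; right; right; rw [e1, hzw]
          · right; right; left; rfl
          · right; left; rw [htt, hzw]
          · left; rw [e1, htt]
        rcases h5 with h5 | h5 | h5 | h5
        · exact absurd h5 n1
        · exact absurd h5 n3
        · exact absurd h5 n2
        · exact h5
    rcases hfour with h4 | ⟨h4, h5⟩
    · rw [← h4]; exact hw'R
    · rw [← h4, C.t2, mul_one]; exact h5

end Cf

end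

end Cfsg.Agent.Cit.Nil.RTwo
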