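import Cfsg.Agent.Cit.Nil.RTwo.UFour
import Cfsg.Agent.Cit.Nil.RTwo.AFour

/-!
# The case (U), `k = 1`: section U5 of `CIT-6b-r2m1-U-helper141.md` (no disjoint pairs)

* `UW.inn_case`, `UW.dj_lemma` : for a disjoint pair `(z, v)` the elements `s ∈ Z ∩ v X_z ∩ C(v)` are `v` and
  `z f_j = l_j z l_j⁻¹`;
* `UW.dj_cent` : `[X_z, v] = 1`; `UW.dj_label` : the labels on `z` are the `z t'_j`;
* `UW.dj_comm` : the elements of `Z ∩ C(z)` commute; `UW.no_dj` : there are no disjoint pairs.
-/

set_option autoImplicit false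
set_option linter.style.haveILetI false
set_option linter.unusedSectionVars false
set_option maxHeartbeats 400000

namespace Cfsg.Agent.Cit.Nil.RTwo

open Subgroup Cfsg Cit

variable {G : Type*} [Group G]

theorem perm_fix3 (σ : Equiv.Perm (Fin 3)) (h : σ * σ = 1) : ∃ k, σ k = k := by
  revert σ; decide

theorem fun_fix3 : ∀ π : Fin 3 → Fin 3, (∀ j, π (π j) = j) → ∃ j, π j = j := by decide

section

variable [Finite G] {Om : Set (Subgroup G)} {K K1 K2 L M L1 L2 : Subgroup G} {z t u v g r s s' y w c c' : G}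
  {a b p q x l : Fin 3 → G} {i j : Fin 3}

namespace UW

variable (W : UW Om)

include W

theorem inn_case (D : DP Om z v K x L l) (hs : InZ Om s) (hsv : v * s = s * v) (hne : s ≠ v)
    (hx : v * s ∈ CX Om z) :
    Fx Om v (z * (v * s)) ∧ ((∃ j, s = z * ee v z l j) ∨ ¬ Inn Om v (z * (v * s))) := by
  have h := W.w
  have hn := W.no
  have hzZ := D.P.pr.hz
  have hvZ := D.P.pr.ht
  have hzv : z * v = v * z := D.P.pr.comm
  have v2 : v * v = 1 := D.P.t2 h
  have z2 : z * z = 1 := D.P.q.z2
  have s2 : s * s = 1 := hs.z2 h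
  have hiz : v * s * z = z * (v * s) := CX_le hzZ h hx
  have hiv : v * s * v = v * (v * s) := by rw [mul_assoc, ← hsv]
  have hii : v * s * (v * s) = 1 := by
    calc v * s * (v * s) = v * (s * v) * s := by group
      _ = v * (v * s) * s := by rw [hsv]
      _ = (v * v) * (s * s) := by group
      _ = 1 := by rw [v2, s2, one_mul]
  have hsw : Sw Om v (v * s) := by
    rcases fx_or_sw h hvZ hiv with h1 | h1
    · exfalso
      have h2 : Fx Om v s := by
        have h3 : Fx Om v (v * (v * s)) := ((Inn.of_CX (z_mem_CX h)).fx h).mul h1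
        rwa [← mul_assoc, v2, one_mul] at h3
      rcases W.pr_or_ti hvZ hs (Ne.symm hne) hsv with h3 | h3
      · exact fx_sw_false hvZ h2 h3.sw
      · have h4 := eq_of_CX' h hzZ (h3.mul_inZ h) hx
        apply D.P.pr.not_inZ h hn
        have h5 : s = v * z := by rw [← h4, ← mul_assoc, v2, one_mul]
        rw [hzv, ← h5]; exact hs
    · exact h1
  obtain ⟨n, hnd⟩ : ∃ n, n = z * (v * s) := ⟨_, rfl⟩
  have hnF : Fx Om v n := by rw [hnd]; exact (D.P.sw_z h hn).mul h hsw hzv hiv
  have hnz : n * z = z * n := by rw [hnd, mul_assoc, hiz]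
  have hnX : n ∈ CX Om z := by rw [hnd]; exact mul_mem (z_mem_CX h) hx
  have hnv : n * v = v * n := by
    rw [hnd]
    calc z * (v * s) * v = z * (v * s * v) := by group
      _ = (z * v) * (v * s) := by rw [hiv]; group
      _ = _ := by rw [hzv]; group
  have hsn : s = v * z * n := by
    rw [hnd]
    calc s = (v * v) * s := by rw [v2, one_mul]
      _ = v * (z * z) * (v * s) := by rw [z2]; group
      _ = _ := by group
  rw [← hnd]
  refine ⟨hnF, ?_⟩
  by_cases hin : Inn Om v n
  swap
  · exact Or.inr hin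
  left
  have hkey : ∀ j, n * l j = l j * n → n = v * ee v z l j := by
    intro j hj
    have e1 : l j * s * (l j)⁻¹ = z * (v * ee v z l j * n) := by
      have hlv : l j * v * (l j)⁻¹ = v := by rw [← D.Q.q.zc, mul_inv_cancel_right]
      have hln : l j * n * (l j)⁻¹ = n := by rw [← hj, mul_inv_cancel_right]
      calc l j * s * (l j)⁻¹ = (l j * v * (l j)⁻¹) * (l j * z * (l j)⁻¹) * (l j * n * (l j)⁻¹) := by
            rw [hsn]; group
        _ = v * (z * ee v z l j) * n := by rw [hlv, hln, D.Q.conj_t h]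
        _ = (v * z) * ee v z l j * n := by group
        _ = _ := by rw [← hzv]; group
    have h1 : z * (v * ee v z l j * n) = z := by
      refine eq_of_CX' h hzZ ?_ (mul_mem (z_mem_CX h) (mul_mem (D.cx' j) hnX))
      rw [← e1]; exact hs.conj h _
    have h2 : v * ee v z l j * n = 1 := mul_eq_left.1 h1
    have h3 := eq_inv_of_mul_eq_one_right h2
    rw [h3, inv_eq_of_mul_eq_one_right (D.Q.c_sq h j)]
  rcases D.Q.q.inner_cases (hin L D.Q.hK) with h1 | ⟨j, h1⟩
  · exfalso
    have h2 : ∀ j, n = v * ee v z l j := by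
      intro j
      apply hkey
      have := h1 (l j) (D.Q.q.mem j)
      rwa [mul_inv_eq_iff_eq_mul] at this
    have h3 : ee v z l 0 = ee v z l 1 := mul_left_cancel ((h2 0).symm.trans (h2 1))
    exact absurd (D.Q.e_inj h h3) (by decide)
  · refine ⟨j, ?_⟩
    have h2 := hkey j (by
      have := h1 (l j) (D.Q.q.mem j)
      rwa [mul_inv_cancel_right, mul_inv_eq_iff_eq_mul] at this)
    rw [hsn, h2, ← hzv]
    calc z * v * (v * ee v z l j) = z * (v * v) * ee v z l j := by group
      _ = _ := by rw [v2, mul_one]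

/-- **LEMMA (U5)** -/
theorem dj_lemma (D : DP Om z v K x L l) (hs : InZ Om s) (hsv : v * s = s * v) (hne : s ≠ v)
    (hx : v * s ∈ CX Om z) : ∃ j, s = z * ee v z l j := by
  have h := W.w
  have hn := W.no
  obtain ⟨hnF, hor⟩ := W.inn_case D hs hsv hne hx
  rcases hor with h0 | hni
  · exact h0
  exfalso
  have hzZ := D.P.pr.hz
  have hvZ := D.P.pr.ht
  have hzv : z * v = v * z := D.P.pr.comm
  have v2 : v * v = 1 := D.P.t2 h
  have z2 : z * z = 1 := D.P.q.z2
  have s2 : s * s = 1 := hs.z2 h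
  have hiz : v * s * z = z * (v * s) := CX_le hzZ h hx
  have hiv : v * s * v = v * (v * s) := by rw [mul_assoc, ← hsv]
  obtain ⟨i0, hi0⟩ : ∃ i0, i0 = v * s := ⟨_, rfl⟩
  obtain ⟨n, hnd⟩ : ∃ n, n = z * i0 := ⟨_, rfl⟩
  rw [← hi0] at hni hnF hx hiz hiv
  rw [← hnd] at hni hnF
  have hii : i0 * i0 = 1 := by
    rw [hi0]
    calc v * s * (v * s) = v * (s * v) * s := by group
      _ = v * (v * s) * s := by rw [hsv]
      _ = (v * v) * (s * s) := by group
      _ = 1 := by rw [v2, s2, one_mul]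
  have hsi : s = v * i0 := by rw [hi0, ← mul_assoc, v2, one_mul]
  have hnz : n * z = z * n := by rw [hnd, mul_assoc, hiz]
  have hnX : n ∈ CX Om z := by rw [hnd]; exact mul_mem (z_mem_CX h) hx
  have hnv : n * v = v * n := by
    rw [hnd]
    calc z * i0 * v = z * (i0 * v) := by group
      _ = (z * v) * i0 := by rw [hiv]; group
      _ = _ := by rw [hzv]; group
  have hnn : n * n = 1 := by
    rw [hnd]
    calc z * i0 * (z * i0) = z * (i0 * z) * i0 := by group
      _ = (z * z) * (i0 * i0) := by rw [hiz]; group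
      _ = 1 := by rw [z2, hii, one_mul]
  have hsn : s = v * z * n := by
    rw [hnd, hsi]
    calc v * i0 = v * (z * z) * i0 := by rw [z2, mul_one]
      _ = _ := by group
  have hsz : s * z = z * s := by
    rw [hsi]
    calc v * i0 * z = v * (i0 * z) := by group
      _ = (v * z) * i0 := by rw [hiz]; group
      _ = _ := by rw [← hzv]; group
  -- `(z, s)` is of type p
  have hpr : PR Om z s := by
    refine ⟨hzZ, hs, ?_, hsz.symm, ?_⟩
    · intro e
      apply D.P.pr.ne
      refine (eq_of_CX' h hzZ hvZ ?_).symm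
      have h1 : v = i0 * z := by rw [hi0, e, mul_assoc, s2, mul_one]
      rw [h1]
      exact mul_mem hx (z_mem_CX h)
    · have h1 : Sw Om z (v * i0) := D.P.pr.sw'.mul_fx ((Inn.of_CX hx).fx h)
      rw [hsi]; exact h1
  have hee : ∀ k, ee z s x k = ee z v x k := by
    intro k
    have h1 : i0 * x k * i0⁻¹ = x k := by
      rw [mem_CX.1 hx K D.P.hK _ (D.P.q.mem k), mul_inv_cancel_right]
    rw [ee, ee, hsi]
    have e : v * i0 * x k * (v * i0)⁻¹ = v * (i0 * x k * i0⁻¹) * v⁻¹ := by group
    rw [e, h1]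
  have P' : HP Om z s K x := ⟨hpr, D.P.hK, D.P.q⟩
  obtain ⟨M, m, Q'⟩ := (hpr.symm' h hn).exists_hp h
  rcases P'.joined_or Q' h hn with ⟨m', F⟩ | D'
  · -- joined
    have hsv' : s * v = i0 := by rw [← hsv, hi0]
    have hx' : s * v ∈ CX Om z := by rw [hsv']; exact hx
    obtain ⟨h1, -⟩ := F.three h hn hvZ hsv (Ne.symm hne) hx'
    rw [hsv', ← hnd] at h1
    -- `m_0 v m_0⁻¹ = e_0 n`
    have hmn : m' 0 * n * (m' 0)⁻¹ = n := by
      rw [← mem_CX.1 h1 M F.Q.hK _ (F.Q.q.mem 0), mul_inv_cancel_right]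
    have hvs : v = s * z * n := by
      rw [hnd]
      calc v = s * (s * v) := by rw [← mul_assoc, s2, one_mul]
        _ = s * i0 := by rw [hsv']
        _ = s * (z * z) * i0 := by rw [z2, mul_one]
        _ = _ := by group
    have hms : m' 0 * s * (m' 0)⁻¹ = s := by rw [← F.Q.q.zc, mul_inv_cancel_right]
    obtain ⟨zk, hzk⟩ : ∃ zk, zk = m' 0 * v * (m' 0)⁻¹ := ⟨_, rfl⟩
    have hzk1 : zk = ee z s x 0 * n := by
      calc zk = (m' 0 * s * (m' 0)⁻¹) * (m' 0 * z * (m' 0)⁻¹) * (m' 0 * n * (m' 0)⁻¹) := by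
            rw [hzk]; conv_lhs => rw [hvs]
            group
        _ = s * (s * ee z s x 0) * n := by rw [hms, hmn, F.conj_z h]
        _ = _ := by rw [← mul_assoc s s, s2, one_mul]
    have hzkZ : InZ Om zk := by rw [hzk]; exact hvZ.conj h _
    have ht0 : z * ee z s x 0 ∈ CX Om zk := by
      have h2 : z * ee z s x 0 ∈ CX Om v := by rw [hee]; exact D.cx 0
      have h3 := (CX_conj h (m' 0)).2 h2
      rwa [F.conj_c h, ← hzk] at h3
    have he0 : ee z s x 0 ∈ RZ Om z := F.P.e_mem h 0
    have hzkz : z * zk = zk * z := by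
      rw [hzk1]
      calc z * (ee z s x 0 * n) = (z * ee z s x 0) * n := by group
        _ = ee z s x 0 * (z * n) := by rw [← F.P.e_z h]; group
        _ = _ := by rw [← hnz]; group
    have hti : TI Om z zk := by
      refine ⟨hzZ, hzkZ, ?_, hzkz, ?_⟩
      · intro e
        apply F.P.e_not_CX h 0
        have h2 : ee z s x 0 = z * n⁻¹ := by rw [eq_mul_inv_iff_mul_eq, ← hzk1, ← e]
        rw [h2]
        exact mul_mem (z_mem_CX h) (inv_mem hnX)
      · rw [hzk1]
        exact (Inn.of_RZ hzZ h he0).mul (Inn.of_CX hnX) hzZ h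
    obtain ⟨c', l'⟩ := hti.exists_lab h
    -- `zk i0 = z e_0`
    have hzki : zk * i0 = z * ee z s x 0 := by
      rw [hzk1, hnd]
      calc ee z s x 0 * (z * i0) * i0 = ee z s x 0 * z * (i0 * i0) := by group
        _ = _ := by rw [hii, mul_one, F.P.e_z h]
    have hi0zk : i0 ∈ CX Om zk := by
      have h2 := mul_mem (inv_mem (z_mem_CX (Om := Om) (z := zk) h)) ht0
      rwa [← hzki, inv_mul_cancel_left] at h2
    have h3 : i0⁻¹ * c' ∈ RZ Om z := by
      have h4 := mul_mem (inv_mem (mul_mem (z_mem_RZ hzZ h) he0)) l'.wz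
      rw [← hzki] at h4
      have e : (zk * i0)⁻¹ * (zk * c') = i0⁻¹ * c' := by group
      rwa [e] at h4
    have hc' : c' = i0 := by
      rcases RZ_inf_CX h hzZ h3 (mul_mem (inv_mem hx) l'.cz) with h4 | h4
      · exact (inv_mul_eq_one.1 h4).symm
      · exfalso
        apply z_not_CX h hzZ hzkZ hti.2.2.1
        rw [← h4]
        exact mul_mem (inv_mem hi0zk) l'.ct
    have h4 : n ∈ RZ Om zk := by
      have := l'.wt
      rwa [hc', ← hnd] at this
    have h5 : n ∈ RZ Om v := by
      have h6 := RZ_conj h (m' 0)⁻¹ h4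
      have e1 : (m' 0)⁻¹ * n * (m' 0)⁻¹⁻¹ = n := by
        rw [inv_inv, mul_assoc]
        rw [mul_inv_eq_iff_eq_mul] at hmn
        rw [← hmn, inv_mul_cancel_left]
      have e2 : (m' 0)⁻¹ * zk * (m' 0)⁻¹⁻¹ = v := by rw [hzk]; group
      rwa [e1, e2] at h6
    exact hni (Inn.of_RZ hvZ h h5)
  · -- disjoint
    obtain ⟨σ, hσ⟩ := D.Q.q.exists_act D.Q.q (hnF L D.Q.hK) hnv
    have hσσ : σ * σ = 1 := by
      have h2 := hσ.comp D.Q.q.z2 hσ hnv
      rw [hnn] at h2
      exact h2.unique D.Q.q (Act.one l v)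
    have hσ1 : σ ≠ 1 := by
      rintro rfl
      exact hni (D.Q.inn_of h hnz (hσ.inner D.Q.q hnv))
    obtain ⟨k, hk⟩ := perm_fix3 σ hσσ
    have h1 : n * l k * n⁻¹ = v * l k := D.Q.q.outer_inv hnv hnn hσ hσ1 hk
    have hlv : l k * v * (l k)⁻¹ = v := by rw [← D.Q.q.zc, mul_inv_cancel_right]
    have hln : l k * n * (l k)⁻¹ = v * n := by
      rw [mul_inv_eq_iff_eq_mul] at h1 ⊢
      calc l k * n = (v * v) * (l k * n) := by rw [v2, one_mul]
        _ = v * (v * l k * n) := by group
        _ = _ := by rw [← h1]; group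
    have hfv : ee v z l k * v = v * ee v z l k := D.Q.e_z h k
    have hfz : ee v z l k * z = z * ee v z l k := D.Q.e_t h k
    -- `n` commutes with `t'_k`
    have hnt : n * (v * ee v z l k) = v * ee v z l k * n := by
      have hnz' : z * n * z⁻¹ = n := by rw [← hnz, mul_inv_cancel_right]
      have e : n * (v * ee v z l k) * n⁻¹ = v * ee v z l k := by
        rw [← D.Q.xx_eq]
        have e1 : n * (l k * (z * l k * z⁻¹)) * n⁻¹ = (n * l k * n⁻¹) * (n * (z * l k * z⁻¹) * n⁻¹) := by group
        have e2 : n * (z * l k * z⁻¹) * n⁻¹ = z * (n * l k * n⁻¹) * z⁻¹ := by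
          have e3 : z⁻¹ * n⁻¹ = n⁻¹ * z⁻¹ := by rw [← mul_inv_rev, ← mul_inv_rev, hnz]
          calc n * (z * l k * z⁻¹) * n⁻¹ = (n * z) * l k * (z⁻¹ * n⁻¹) := by group
            _ = (z * n) * l k * (n⁻¹ * z⁻¹) := by rw [hnz, e3]
            _ = _ := by group
        rw [e1, e2, h1]
        calc v * l k * (z * (v * l k) * z⁻¹) = v * l k * ((z * v) * l k * z⁻¹) := by group
          _ = v * (l k * v) * (z * l k * z⁻¹) := by rw [hzv]; group
          _ = v * (v * l k) * (z * l k * z⁻¹) := by rw [D.Q.q.zc]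
          _ = (v * v) * (l k * (z * l k * z⁻¹)) := by group
          _ = _ := by rw [v2, one_mul]
      rwa [mul_inv_eq_iff_eq_mul] at e
    have hnf : n * ee v z l k = ee v z l k * n := by
      have h2 : v * (n * ee v z l k) = v * (ee v z l k * n) := by
        calc v * (n * ee v z l k) = (v * n) * ee v z l k := by group
          _ = n * (v * ee v z l k) := by rw [← hnv]; group
          _ = _ := by rw [hnt]; group
      exact mul_left_cancel h2
    obtain ⟨f, hf⟩ : ∃ f, f = v * ee v z l k := ⟨_, rfl⟩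
    have hfX : f ∈ CX Om z := by rw [hf]; exact D.cx' k
    -- `s'' = l_k s l_k⁻¹ = s t'_k`
    have e1 : l k * s * (l k)⁻¹ = s * f := by
      have e2 : l k * s * (l k)⁻¹ = (l k * v * (l k)⁻¹) * (l k * z * (l k)⁻¹) * (l k * n * (l k)⁻¹) := by
        rw [hsn]; group
      rw [e2, hlv, hln, D.Q.conj_t h, hf]
      conv_rhs => rw [hsn]
      calc v * (z * ee v z l k) * (v * n) = v * z * (ee v z l k * v) * n := by group
        _ = v * z * v * (ee v z l k * n) := by rw [hfv]; group
        _ = v * z * (v * n) * ee v z l k := by rw [← hnf]; group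
        _ = _ := by rw [← hnv]; group
    have hsf : s * f = f * s := by
      have c1 : Commute f v := by rw [hf]; exact D.Q.c_z h k
      have c2 : Commute f z := by rw [hf]; exact D.Q.c_t h k
      have c3 : Commute f n := by rw [hf]; exact hnt.symm
      have c4 : Commute f s := by rw [hsn]; exact (c1.mul_right c2).mul_right c3
      exact c4.eq.symm
    have hf1 : f ≠ 1 := by rw [hf]; exact D.Q.c_ne_one h k
    have hsfZ : InZ Om (s * f) := by rw [← e1]; exact hs.conj h _
    have hss : s * (s * f) = f := by rw [← mul_assoc, s2, one_mul]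
    obtain ⟨hF', hor'⟩ := W.inn_case D' (s := s * f) hsfZ (by rw [mul_assoc s f s, ← hsf])
      (fun e => hf1 (mul_eq_left.1 e)) (by rw [hss]; exact hfX)
    rw [hss] at hF' hor'
    have hlab : z * f ∈ CC Om z := by rw [hf]; exact (D.lab h 0 k).mem_CC
    rcases hor' with ⟨j, hj⟩ | hni'
    · -- `t'_k = z (s f*_j)`
      have h2 : f = z * (s * ee s z m j) := by
        calc f = s * (s * f) := hss.symm
          _ = (s * z) * ee s z m j := by rw [hj]; group
          _ = _ := by rw [hsz]; group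
      have h3 : f ∈ CC Om z := by rw [h2]; exact (D'.lab h 0 j).mem_CC
      exact CC.not_mul h h3 hlab
    · have lu := (W.lab_e D.P hlab 0).1
      have hu : InZ Om (z * ee z v x 0 * (z * f)) := lu.ti.2.1
      have ht0s : z * ee z v x 0 ∈ CX Om s := by rw [← hee]; exact D'.cx 0
      have hcs : s * (z * f) = z * f * s := by
        calc s * (z * f) = (s * z) * f := by group
          _ = z * (s * f) := by rw [hsz]; group
          _ = _ := by rw [hsf]; group
      have ht0s' : s * (z * ee z v x 0) = z * ee z v x 0 * s := (CX_le hs h ht0s).symm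
      refine W.no_ft (z := s) (t := z * ee z v x 0 * (z * f)) ⟨⟨hs, hu, ?_, ?_, ?_⟩, ?_⟩
      · intro e
        refine fx_sw_false hzZ ((lu.ti.2.2.2.2).fx h) ?_
        rw [← e]; exact hpr.sw'
      · calc s * (z * ee z v x 0 * (z * f)) = (s * (z * ee z v x 0)) * (z * f) := by group
          _ = z * ee z v x 0 * (s * (z * f)) := by rw [ht0s']; group
          _ = _ := by rw [hcs]; group
      · have h2 : Fx Om s (z * ee z v x 0 * (z * f)) := ((Inn.of_CX ht0s).fx h).mul hF'
        exact h2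
      · intro h2
        exact hni' ((Inn.of_CX ht0s).mul_left h2 hs h)

end UW

end

end Cfsg.Agent.Cit.Nil.RTwo
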