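import Cfsg.Agent.Cit.Nil.RTwo.UFive

/-!
# The case (U), `k = 1`: section U5 of `CIT-6b-r2m1-U-helper141.md`, the end

* `UW.dj_cent` : `[X_z, v] = 1` for a disjoint pair `(z, v)`;
* `UW.dj_all` : the elements of `Z ∩ v X_z`; `UW.dj_label` : the labels on `z` are the `z t'_j`;
* `UW.dj_comm` : the elements of `Z ∩ C(z)` commute; `UW.no_dj` : there are no disjoint pairs.
-/

set_option autoImplicit false
set_option linter.style.haveILetI false
set_option linter.unusedSectionVars false
set_option maxHeartbeats 400000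

namespace Cfsg.Agent.Cit.Nil.RTwo

open Subgroup Cfsg Cit

variable {G : Type*} [Group G]

section

variable [Finite G] {Om : Set (Subgroup G)} {K K1 K2 L M L1 L2 : Subgroup G} {z t u v g r s s' y w c c' : G}
  {a b p q x l : Fin 3 → G} {i j : Fin 3}

namespace UW

variable (W : UW Om)

include W

/-- `[X_z, v] = 1` -/
theorem dj_cent (D : DP Om z v K x L l) (hy : y ∈ CX Om z) : y * v = v * y := by
  have h := W.w
  have hn := W.no
  have hvz : v * z = z * v := D.P.pr.comm.symm
  have hzZ := D.P.pr.hz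
  have htn : ∀ y ∈ CX Om z, v * y * v⁻¹ ∈ CX Om z := fun y hy => CX_conj_comm h hvz hy
  have htn' : zpowers v ≤ normalizer (CX Om z : Set G) := by
    rw [zpowers_le, mem_normalizer_iff_cj]
    exact cj_CX h hvz
  have ht1 : v ≠ 1 := D.P.pr.ht.z1 h
  rcases zstar_sub (X := CX Om z ⊔ zpowers v) (u := v) (mem_sup_right (mem_zpowers v)) (D.P.t2 h) ht1 with
    ⟨g, hg, hne, hc⟩ | ⟨N, hNX, hodd, hNn, hN⟩
  · exfalso
    obtain ⟨y, hy, u, hu, rfl⟩ := LB.exists_mul_of_mem_sup htn' hg
    have hut : u * v * u⁻¹ = v := by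
      obtain ⟨k, rfl⟩ := mem_zpowers_iff.1 hu
      rw [← ((Commute.refl v).zpow_right k).eq, mul_inv_cancel_right]
    have h1 : y * u * v * (y * u)⁻¹ = y * v * y⁻¹ := by
      calc y * u * v * (y * u)⁻¹ = y * (u * v * u⁻¹) * y⁻¹ := by group
        _ = _ := by rw [hut]
    rw [h1] at hne hc
    have hx : v * (y * v * y⁻¹) ∈ CX Om z := by
      have h2 : v * (y * v * y⁻¹) = (v * y * v⁻¹) * (v * v) * y⁻¹ := by group
      rw [h2, D.P.t2 h, mul_one]
      exact mul_mem (htn y hy) (inv_mem hy)
    obtain ⟨j, hj⟩ := W.dj_lemma D (D.P.pr.ht.conj h y) hc hne hx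
    have e1 : l j * z * (l j)⁻¹ = y * v * y⁻¹ := by rw [hj, D.Q.conj_t h]
    have h3 : z * ee z v x 0 ∈ RZ Om (y * v * y⁻¹) := by
      have h4 := RZ_conj h (l j) (D.P.c_mem h 0)
      rwa [D.conj_c h, e1] at h4
    have h4 : z * ee z v x 0 ∈ RZ Om v := by
      have h5 := RZ_conj h y⁻¹ h3
      have e2 : y⁻¹ * (z * ee z v x 0) * y⁻¹⁻¹ = z * ee z v x 0 := by
        rw [inv_inv, mul_assoc, ← CX_comm (D.P.c_mem h 0) hy, inv_mul_cancel_left]
      have e3 : y⁻¹ * (y * v * y⁻¹) * y⁻¹⁻¹ = v := by group
      rwa [e2, e3] at h5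
    exact D.not_joined h hn h4
  · have h1 : N ⊓ CX Om z = ⊥ := by
      refine CX_odd h W.cf hzZ inf_le_right ?_ ?_
      · intro g hg
        rw [mem_normalizer_iff_cj, cj_inf, mem_normalizer_iff_cj.1 (le_normalizer hg)]
        congr 1
        refine le_antisymm ?_ ?_
        · rintro _ ⟨n, hn, rfl⟩
          exact hNn g (mem_sup_left hg) n hn
        · intro n hn
          rw [mem_cj]
          have := hNn g⁻¹ (mem_sup_left ((CX Om z).inv_mem hg)) n hn
          rwa [inv_inv] at this
      · intro h2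
        have h3 := h2.trans (card_dvd_of_le (inf_le_left : N ⊓ CX Om z ≤ N))
        rw [← Nat.not_even_iff_odd, even_iff_two_dvd] at hodd
        exact hodd h3
    have h2 : v * y * v⁻¹ * y⁻¹ ∈ N ⊓ CX Om z :=
      ⟨hN y (mem_sup_left hy), (CX Om z).mul_mem (htn y hy) ((CX Om z).inv_mem hy)⟩
    rw [h1, Subgroup.mem_bot, mul_inv_eq_one, mul_inv_eq_iff_eq_mul] at h2
    exact h2.symm

/-- `Z ∩ v X_z = {v, z f_j}` -/
theorem dj_all (D : DP Om z v K x L l) (hs : InZ Om s) (hx : v * s ∈ CX Om z) :
    s = v ∨ ∃ j, s = z * ee v z l j := by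
  by_cases hne : s = v
  · exact Or.inl hne
  right
  have h1 := W.dj_cent D hx
  refine W.dj_lemma D hs ?_ hne hx
  have h2 : v * (s * v) = v * (v * s) := by rw [← mul_assoc]; exact h1
  exact (mul_left_cancel h2).symm

theorem dj_v_ne (D : DP Om z v K x L l) (j : Fin 3) : z * ee v z l j ≠ v := by
  intro e
  apply D.P.pr.ne
  have h1 : l j * z * (l j)⁻¹ = v := by rw [D.Q.conj_t W.w, e]
  have h2 : l j * v * (l j)⁻¹ = v := by rw [← D.Q.q.zc, mul_inv_cancel_right]
  have h3 := h1.trans h2.symm
  exact mul_left_cancel (mul_right_cancel h3)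

/-- the labels on `z` are the elements `z t'_j` -/
theorem dj_label (D : DP Om z v K x L l) (hc : c ∈ CC Om z) : ∃ j, c = z * (v * ee v z l j) := by
  have h := W.w
  have hn := W.no
  have hzZ := D.P.pr.hz
  have hvZ := D.P.pr.ht
  have hzv : z * v = v * z := D.P.pr.comm
  have v2 : v * v = 1 := D.P.t2 h
  have z2 : z * z = 1 := D.P.q.z2
  have c2 : c * c = 1 := CC.sq hc
  have ci : c⁻¹ = c := CC.inv hc
  have hcX : c ∈ CX Om z := CC.mem_CX hc
  have hcz : c * z = z * c := CC.comm_z h hc
  have hcv : c * v = v * c := W.dj_cent D hcX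
  have hfz : ∀ j, ee v z l j * z = z * ee v z l j := fun j => D.Q.e_t h j
  have hfv : ∀ j, ee v z l j * v = v * ee v z l j := fun j => D.Q.e_z h j
  have hvf : ∀ j, v * (z * ee v z l j) = z * (v * ee v z l j) := by
    intro j; rw [← mul_assoc, ← hzv, mul_assoc]
  -- `c` permutes the `z f_j`
  have key : ∀ j, ∃ m, c * (z * ee v z l j) * c⁻¹ = z * ee v z l m := by
    intro j
    have h1 : InZ Om (c * (z * ee v z l j) * c⁻¹) := by
      rw [← D.Q.conj_t h]; exact (hzZ.conj h _).conj h _
    have h2 : v * (c * (z * ee v z l j) * c⁻¹) ∈ CX Om z := by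
      have e : v * (c * (z * ee v z l j) * c⁻¹) = c * (v * (z * ee v z l j)) * c⁻¹ := by
        calc v * (c * (z * ee v z l j) * c⁻¹) = (v * c) * (z * ee v z l j) * c⁻¹ := by group
          _ = _ := by rw [← hcv]; group
      rw [e, hvf]
      exact mul_mem (mul_mem hcX (mul_mem (z_mem_CX h) (D.cx' j))) (inv_mem hcX)
    rcases W.dj_all D h1 h2 with h3 | h3
    · exfalso
      apply W.dj_v_ne D j
      rw [mul_inv_eq_iff_eq_mul, ← hcv] at h3
      exact mul_left_cancel h3
    · exact h3
  choose π hπ using key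
  have hππ : ∀ j, π (π j) = j := by
    intro j
    have h1 := hπ (π j)
    rw [← hπ j] at h1
    have e : c * (c * (z * ee v z l j) * c⁻¹) * c⁻¹ = z * ee v z l j := by
      rw [ci]
      calc c * (c * (z * ee v z l j) * c) * c = (c * c) * (z * ee v z l j) * (c * c) := by group
        _ = _ := by rw [c2, one_mul, mul_one]
    rw [e] at h1
    exact (D.Q.e_inj h (mul_left_cancel h1)).symm
  obtain ⟨j, hj⟩ := fun_fix3 π hππ
  have hcs : c * (z * ee v z l j) = z * ee v z l j * c := by
    have h1 := hπ j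
    rw [hj] at h1
    rwa [mul_inv_eq_iff_eq_mul] at h1
  have hcf : c * ee v z l j = ee v z l j * c := by
    have h1 : z * (c * ee v z l j) = z * (ee v z l j * c) := by
      calc z * (c * ee v z l j) = (z * c) * ee v z l j := by group
        _ = c * (z * ee v z l j) := by rw [← hcz]; group
        _ = _ := by rw [hcs]; group
    exact mul_left_cancel h1
  have es : z * v * (v * ee v z l j) = z * ee v z l j := by
    calc z * v * (v * ee v z l j) = z * (v * v) * ee v z l j := by group
      _ = _ := by rw [v2, mul_one]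
  have F := D.fp h hn j
  rw [es] at F
  have hjn : JN Om z (z * ee v z l j) := ⟨_, _, _, _, F⟩
  have hrs : z * ee z v x 0 * (z * ee v z l j) = z * ee v z l j * (z * ee z v x 0) := by
    have h1 : (v * ee v z l j) * (z * ee z v x 0) = z * ee z v x 0 * (v * ee v z l j) :=
      CX_comm (D.P.c_mem h 0) (D.cx' j)
    have h2 : (z * ee z v x 0) * v = v * (z * ee z v x 0) := CX_le hvZ h (D.cx 0)
    have h3 : (z * ee z v x 0) * z = z * (z * ee z v x 0) := D.P.c_z h 0
    have h4 : z * ee v z l j = z * v * (v * ee v z l j) := es.symm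
    have c1 : Commute (z * ee z v x 0) (z * v * (v * ee v z l j)) :=
      (Commute.mul_right h3 h2).mul_right h1.symm
    rw [h4]; exact c1.eq
  have hrF : Fx Om (z * ee v z l j) (z * ee z v x 0) := by
    have h1 : z * ee z v x 0 ∈ RZ Om (z * ee v z l j) := by
      have h4 := RZ_conj h (l j) (D.P.c_mem h 0)
      rwa [D.conj_c h, D.Q.conj_t h] at h4
    exact (Inn.of_RZ F.P.pr.ht h h1).fx h
  have lab := (W.lab_e D.P hc 0).1
  have hlabj : ∀ m, z * (v * ee v z l m) ∈ CC Om z := fun m => (D.lab h 0 m).mem_CC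
  have hr : z * ee z v x 0 * c * c = z * ee z v x 0 := by rw [mul_assoc, c2, mul_one]
  have ff : ∀ m, j ≠ m → ee v z l j * ee v z l m = v * ee v z l (th3 j m) := fun m hm => D.Q.ee_ne h hm
  rcases hjn.six_seven h hn lab hcs (Or.inl hr) hrs hrF with ⟨-, h1⟩ | ⟨-, h1⟩
  · -- `z s c = f_j c ∈ Z`
    have e1 : z * (z * ee v z l j) * c = ee v z l j * c := by rw [D.P.q.zzx]
    rw [e1] at h1
    have h2 : v * (ee v z l j * c) ∈ CX Om z := by
      rw [← mul_assoc]; exact mul_mem (D.cx' j) hcX
    rcases W.dj_all D h1.pr.ht h2 with h3 | ⟨m, h3⟩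
    · exfalso
      have h4 : c = v * ee v z l j := by
        calc c = (ee v z l j * ee v z l j) * c := by rw [D.Q.e_sq h, one_mul]
          _ = ee v z l j * (ee v z l j * c) := by group
          _ = _ := by rw [h3, hfv]
      apply CC.not_mul h hc
      rw [h4]; exact hlabj j
    · have h4 : c = z * (ee v z l j * ee v z l m) := by
        calc c = (ee v z l j * ee v z l j) * c := by rw [D.Q.e_sq h, one_mul]
          _ = ee v z l j * (ee v z l j * c) := by group
          _ = (ee v z l j * z) * ee v z l m := by rw [h3]; group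
          _ = _ := by rw [hfz]; group
      by_cases hm : j = m
      · exfalso
        subst hm
        rw [D.Q.e_sq h, mul_one] at h4
        exact CC.ne_z h hc h4
      · rw [ff m hm] at h4
        exact ⟨_, h4⟩
  · -- `s c ∈ Z`
    have h2 : v * (z * ee v z l j * c) ∈ CX Om z := by
      have e2 : v * (z * ee v z l j * c) = z * (v * ee v z l j) * c := by
        calc v * (z * ee v z l j * c) = v * (z * ee v z l j) * c := by group
          _ = _ := by rw [hvf]
      rw [e2]; exact mul_mem (mul_mem (z_mem_CX h) (D.cx' j)) hcX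
    rcases W.dj_all D h1.pr.ht h2 with h3 | ⟨m, h3⟩
    · refine ⟨j, ?_⟩
      calc c = (ee v z l j * ee v z l j) * (z * z) * c := by rw [D.Q.e_sq h, z2, one_mul, one_mul]
        _ = ee v z l j * (ee v z l j * z) * (z * c) := by group
        _ = ee v z l j * (z * ee v z l j) * (z * c) := by rw [hfz]
        _ = (ee v z l j * z) * (ee v z l j * z) * c := by group
        _ = (z * ee v z l j) * (z * ee v z l j * c) := by rw [hfz]; group
        _ = z * (ee v z l j * v) := by rw [h3]; group
        _ = _ := by rw [hfv]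
    · exfalso
      have h4 : c = ee v z l j * ee v z l m := by
        have h5 : ee v z l j * c = ee v z l m := by
          have : z * (ee v z l j * c) = z * ee v z l m := by rw [← h3]; group
          exact mul_left_cancel this
        calc c = (ee v z l j * ee v z l j) * c := by rw [D.Q.e_sq h, one_mul]
          _ = ee v z l j * (ee v z l j * c) := by group
          _ = _ := by rw [h5]
      by_cases hm : j = m
      · subst hm
        rw [D.Q.e_sq h] at h4
        exact hn z c hc h4
      · rw [ff m hm] at h4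
        apply CC.not_mul h hc
        rw [h4]; exact hlabj _

end UW

theorem comm_of_closure {S : Set G} (hS : ∀ a ∈ S, ∀ b ∈ S, a * b = b * a) {a b : G} (ha : a ∈ closure S)
    (hb : b ∈ closure S) : a * b = b * a := by
  have h1 : closure S ≤ centralizer S := by
    rw [closure_le]
    intro c hc
    show c ∈ centralizer S
    rw [mem_centralizer_iff]
    intro d hd
    exact hS d hd c hc
  have h2 : closure S ≤ centralizer (closure S : Set G) := by
    rw [closure_le]
    intro c hc
    show c ∈ centralizer (closure S : Set G)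
    rw [mem_centralizer_iff]
    intro d hd
    have h3 := h1 hd
    rw [mem_centralizer_iff] at h3
    exact (h3 c hc).symm
  have h3 := h2 hb
  rw [mem_centralizer_iff] at h3
  exact h3 a ha

theorem cj_closureU (g : G) (S : Set G) : cj g (closure S) = closure ((fun x => g * x * g⁻¹) '' S) := by
  rw [cj_def, MonoidHom.map_closure]; rfl

namespace UW

variable (W : UW Om)

include W

/-- the commuting set of a disjoint pair -/
theorem dj_S (D : DP Om z v K x L l) :
    ∀ a ∈ ({z, v} ∪ Set.range (ee z v x) ∪ Set.range (ee v z l) : Set G),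
      ∀ b ∈ ({z, v} ∪ Set.range (ee z v x) ∪ Set.range (ee v z l) : Set G), a * b = b * a := by
  have h := W.w
  have hzv : z * v = v * z := D.P.pr.comm
  have h1 : ∀ i, ee z v x i * z = z * ee z v x i := fun i => D.P.e_z h i
  have h2 : ∀ i, ee z v x i * v = v * ee z v x i := fun i => D.P.e_t h i
  have h3 : ∀ i, ee v z l i * z = z * ee v z l i := fun i => D.Q.e_t h i
  have h4 : ∀ i, ee v z l i * v = v * ee v z l i := fun i => D.Q.e_z h i
  have h5 : ∀ i j, ee z v x i * ee v z l j = ee v z l j * ee z v x i := by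
    intro i j
    have h6 : z * ee z v x i * ee v z l j = ee v z l j * (z * ee z v x i) := CX_comm (D.Q.e_mem h j) (D.cx i)
    have h7 : z * (ee z v x i * ee v z l j) = z * (ee v z l j * ee z v x i) := by
      calc z * (ee z v x i * ee v z l j) = z * ee z v x i * ee v z l j := by group
        _ = (ee v z l j * z) * ee z v x i := by rw [h6]; group
        _ = _ := by rw [h3]; group
    exact mul_left_cancel h7
  have h6 : ∀ i j, ee z v x i * ee z v x j = ee z v x j * ee z v x i := fun i j => D.P.e_comm h i j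
  have h7 : ∀ i j, ee v z l i * ee v z l j = ee v z l j * ee v z l i := fun i j => D.Q.e_comm h i j
  rintro a (((rfl | rfl) | ⟨i, rfl⟩) | ⟨i, rfl⟩) b (((rfl | rfl) | ⟨j, rfl⟩) | ⟨j, rfl⟩)
  · rfl
  · exact hzv
  · exact (h1 _).symm
  · exact (h3 _).symm
  · exact hzv.symm
  · rfl
  · exact (h2 _).symm
  · exact (h4 _).symm
  · exact h1 _
  · exact h2 _
  · exact h6 _ _
  · exact h5 _ _
  · exact h3 _
  · exact h4 _
  · exact (h5 _ _).symm
  · exact h7 _ _

theorem dj_mem (D : DP Om z v K x L l) (hs : InZ Om s) (hsz : s * z = z * s) :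
    s ∈ closure ({z, v} ∪ Set.range (ee z v x) ∪ Set.range (ee v z l) : Set G) := by
  have h := W.w
  obtain ⟨S, hS⟩ : ∃ S : Set G, S = {z, v} ∪ Set.range (ee z v x) ∪ Set.range (ee v z l) := ⟨_, rfl⟩
  rw [← hS]
  have m1 : z ∈ closure S := subset_closure (by rw [hS]; exact Or.inl (Or.inl (Or.inl rfl)))
  have m2 : v ∈ closure S := subset_closure (by rw [hS]; exact Or.inl (Or.inl (Or.inr rfl)))
  have m3 : ∀ i, ee z v x i ∈ closure S := fun i => subset_closure (by rw [hS]; exact Or.inl (Or.inr ⟨i, rfl⟩))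
  have m4 : ∀ i, ee v z l i ∈ closure S := fun i => subset_closure (by rw [hS]; exact Or.inr ⟨i, rfl⟩)
  by_cases hne : z = s
  · rw [← hne]; exact m1
  rcases W.pr_or_ti D.P.pr.hz hs hne hsz.symm with h1 | h1
  · have key : ∀ u, u ∈ closure S → (u = v ∨ ∃ j, u = z * ee v z l j) → ∀ m, x m * s * (x m)⁻¹ = u →
        s ∈ closure S := by
      intro u hu hu' m hm
      have e3 : ee z v x m * ee z v x m = 1 := D.P.e_sq h m
      rcases hu' with rfl | ⟨j, rfl⟩
      · have e : x m * (u * ee z u x m) * (x m)⁻¹ = u := by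
          calc x m * (u * ee z u x m) * (x m)⁻¹ = (x m * u * (x m)⁻¹) * (x m * ee z u x m * (x m)⁻¹) := by group
            _ = u * (ee z u x m * ee z u x m) := by rw [D.P.conj_t h, D.P.x_e_self h]; group
            _ = u := by rw [e3, mul_one]
        have e2 : s = u * ee z u x m := mul_left_cancel (mul_right_cancel (hm.trans e.symm))
        rw [e2]; exact mul_mem m2 (m3 m)
      · have v2 : v * v = 1 := D.P.t2 h
        have hfc : x m * ee v z l j * (x m)⁻¹ = ee z v x m * ee v z l j := by
          have e4 : ee v z l j = v * (v * ee v z l j) := by rw [← mul_assoc, v2, one_mul]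
          calc x m * ee v z l j * (x m)⁻¹ = x m * (v * (v * ee v z l j)) * (x m)⁻¹ := by rw [← e4]
            _ = (x m * v * (x m)⁻¹) * (x m * (v * ee v z l j) * (x m)⁻¹) := by group
            _ = v * ee z v x m * (v * ee v z l j) := by rw [D.P.conj_t h, D.conj_c' h]
            _ = v * (ee z v x m * v) * ee v z l j := by group
            _ = (v * v) * (ee z v x m * ee v z l j) := by rw [D.P.e_t h]; group
            _ = _ := by rw [v2, one_mul]
        have e : x m * (z * (ee z v x m * ee v z l j)) * (x m)⁻¹ = z * ee v z l j := by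
          calc x m * (z * (ee z v x m * ee v z l j)) * (x m)⁻¹ =
              (x m * z * (x m)⁻¹) * (x m * ee z v x m * (x m)⁻¹) * (x m * ee v z l j * (x m)⁻¹) := by group
            _ = z * ee z v x m * (ee z v x m * ee v z l j) := by
              rw [D.P.x_e_self h, hfc, ← D.P.q.zc, mul_inv_cancel_right]
            _ = z * (ee z v x m * ee z v x m) * ee v z l j := by group
            _ = _ := by rw [e3, mul_one]
        have e2 : s = z * (ee z v x m * ee v z l j) := mul_left_cancel (mul_right_cancel (hm.trans e.symm))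
        rw [e2]; exact mul_mem m1 (mul_mem (m3 m) (m4 j))
    have mem : ∀ u, (u = v ∨ ∃ j, u = z * ee v z l j) → u ∈ closure S := by
      rintro u (rfl | ⟨j, rfl⟩)
      · exact m2
      · exact mul_mem m1 (m4 j)
    rcases W.exists_conj D.P h1 with h2 | ⟨m, h2⟩
    · exact mem _ (W.dj_all D hs h2)
    · have h3 := W.dj_all D (hs.conj h (x m)) h2
      exact key _ (mem _ h3) h3 m rfl
  · obtain ⟨c, lc⟩ := h1.exists_lab h
    obtain ⟨j, hj⟩ := W.dj_label D lc.mem_CC
    have hcm : c ∈ closure S := by rw [hj]; exact mul_mem m1 (mul_mem m2 (m4 j))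
    obtain ⟨i, hi | hi⟩ := W.lab_cases D.P lc
    · rw [hi]; exact mul_mem (mul_mem m1 (m3 i)) hcm
    · rw [hi]; exact mul_mem (m3 i) hcm

theorem dj_comm (hd : DJ Om z v) (hs : InZ Om s) (hsz : s * z = z * s) (hs' : InZ Om s') (hsz' : s' * z = z * s') :
    s * s' = s' * s := by
  obtain ⟨K, x, L, l, D⟩ := hd
  exact comm_of_closure (W.dj_S D) (W.dj_mem D hs hsz) (W.dj_mem D hs' hsz')

/-- there are no disjoint pairs -/
theorem no_dj (hSC : SCe Om) (hd : DJ Om z v) : False := by
  have h := W.w
  have hall : ∀ u, InZ Om u → ∃ w, DJ Om u w := by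
    intro u hu
    obtain ⟨g, hg⟩ := W.cls z u hd.pr.hz hu
    refine ⟨g * v * g⁻¹, ?_⟩
    have := hd.conj h g
    rwa [hg] at this
  have hcomm : ∀ u, InZ Om u → ∀ s s', InZ Om s → s * u = u * s → InZ Om s' → s' * u = u * s' → s * s' = s' * s := by
    intro u hu s s' hs hsu hs' hsu'
    obtain ⟨w, hw⟩ := hall u hu
    exact W.dj_comm hw hs hsu hs' hsu'
  obtain ⟨N, hN⟩ : ∃ N : G → Subgroup G, N = fun u => closure {s | InZ Om s ∧ s * u = u * s} := ⟨_, rfl⟩
  have hbot : N z = ⊥ := by
    refine hSC N ?_ ?_ ?_ z hd.pr.hz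
    · intro g u hu
      rw [hN]
      show closure {s | InZ Om s ∧ s * (g * u * g⁻¹) = g * u * g⁻¹ * s} = cj g (closure {s | InZ Om s ∧ s * u = u * s})
      rw [cj_closureU]
      congr 1
      ext s
      constructor
      · rintro ⟨h1, h2⟩
        refine ⟨g⁻¹ * s * g, ⟨?_, ?_⟩, ?_⟩
        · have := h1.conj h g⁻¹
          rwa [inv_inv] at this
        · calc g⁻¹ * s * g * u = g⁻¹ * (s * (g * u * g⁻¹)) * g := by group
            _ = g⁻¹ * (g * u * g⁻¹ * s) * g := by rw [h2]
            _ = _ := by group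
        · show g * (g⁻¹ * s * g) * g⁻¹ = s
          group
      · rintro ⟨r, ⟨h1, h2⟩, rfl⟩
        refine ⟨h1.conj h g, ?_⟩
        show g * r * g⁻¹ * (g * u * g⁻¹) = g * u * g⁻¹ * (g * r * g⁻¹)
        calc g * r * g⁻¹ * (g * u * g⁻¹) = g * (r * u) * g⁻¹ := by group
          _ = g * (u * r) * g⁻¹ := by rw [h2]
          _ = _ := by group
    · intro u hu
      rw [hN]
      show closure {s | InZ Om s ∧ s * u = u * s} ≤ centralizer {u}
      rw [closure_le]
      rintro s ⟨h1, h2⟩
      show s ∈ centralizer {u}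
      rw [mem_centralizer_singleton_iff]
      first
        | exact h2
        | exact h2.symm
    · intro u w hu hw huw
      rw [hN]
      show closure {s | InZ Om s ∧ s * u = u * s} = closure {s | InZ Om s ∧ s * w = w * s}
      congr 1
      ext s
      constructor
      · rintro ⟨h1, h2⟩
        exact ⟨h1, hcomm u hu s w h1 h2 hw huw.symm⟩
      · rintro ⟨h1, h2⟩
        exact ⟨h1, hcomm w hw s u h1 h2 hu huw⟩
  have hz : z ∈ N z := by
    rw [hN]
    exact subset_closure ⟨hd.pr.hz, rfl⟩
  rw [hbot, mem_bot] at hz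
  exact hd.pr.hz.z1 h hz

end UW

end

end Cfsg.Agent.Cit.Nil.RTwo
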