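import Cfsg.Agent.Cit.Nil.RTwo.UJoin
import Cfsg.Agent.Cit.Nil.RTwo.Trans
import Cfsg.Agent.Cit.Nil.RTwo.TLine

/-!
# The case (U), `k = 1`: U3(2) and section U4 of `CIT-6b-r2m1-U-helper141.md`

* `UW Om` : the world (U), `k = 1`;
* `FP.exists_tra` : an element of `⟨R_z, R_t⟩ ∩ C(z) ∩ C(t)` translating along the graph of `t`;
* `UW.dc_iff` : in coordinates adapted to a p-neighbour `t` of `z` the directions of all labels are `(i, i)`;
* `UW.no_ft` : no pairs of type f;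
* `UW.exists_conj` : two p-neighbours of `z` are congruent modulo `R_z X_z`.
-/

set_option autoImplicit false
set_option linter.style.haveILetI false
set_option linter.unusedSectionVars false
set_option maxHeartbeats 400000

namespace Cfsg.Agent.Cit.Nil.RTwo

open Subgroup Cfsg Cit

variable {G : Type*} [Group G]

section

variable [Finite G] {Om : Set (Subgroup G)} {K K1 K2 L M L1 L2 : Subgroup G} {z t u g r s s' y w c c' : G}
  {a b p q x l : Fin 3 → G} {i j : Fin 3}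

/-! ### Translations -/

/-- directions `p`, `q` of any two labels: `q - p` is a translation -/
theorem tra_of_dir (h : W2 Om) (F : Frame Om z K1 K2 a b) {p q : Fin 3 × Fin 3} (hp : p ∈ DC Om z a b c)
    (hq : q ∈ DC Om z a b c') : ∃ g, Tra z a b g (q - p) := by
  obtain ⟨s, l, hd⟩ := hp
  obtain ⟨s', l', hd'⟩ := hq
  obtain ⟨e1, -, z1, -, -, a1, b1, -⟩ := l.exists_theta h F hd
  obtain ⟨e2, -, z2, -, -, a2, b2, -⟩ := l'.exists_theta h F hd'
  have hz2 := l.z2 h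
  refine ⟨e1 * e2, ?_, ?_, ?_⟩
  · rw [mul_assoc, z2, ← mul_assoc, z1, mul_assoc]
  · have h1 := a2.comp hz2 a1 z1
    have e : rf p.1 * rf q.1 = Equiv.addRight (q - p).1 := by
      apply Equiv.ext
      intro i
      show rf p.1 (rf q.1 i) = i + (q - p).1
      rw [rf_apply, rf_apply]
      show -p.1 - (-q.1 - i) = i + (q.1 - p.1)
      abel
    rwa [e] at h1
  · have h1 := b2.comp hz2 b1 z1
    have e : rf p.2 * rf q.2 = Equiv.addRight (q - p).2 := by
      apply Equiv.ext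
      intro i
      show rf p.2 (rf q.2 i) = i + (q - p).2
      rw [rf_apply, rf_apply]
      show -p.2 - (-q.2 - i) = i + (q.2 - p.2)
      abel
    rwa [e] at h1

theorem HP.uframe (P : HP Om z t K x) (h : W2 Om) : Frame Om z K (cj t K) x (fun i => t * x i * t⁻¹) :=
  ⟨P.hK, P.hK' h, P.ne', P.q, P.q'⟩

theorem perm_affine : ∀ (τ : Equiv.Perm (Fin 3)) (y w : Fin 3), τ (y + w) - τ y = τ w - τ 0 := by decide

theorem D0.uswap (h : W2 Om) (F : Frame Om z K1 K2 a b) (hg : g * z = z * g) {σ τ : Equiv.Perm (Fin 3)}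
    (h1 : Act z a b g σ) (h2 : Act z b a g τ) {v : Fin 3 × Fin 3} (hv : v ∈ D0 Om z a b) :
    (τ v.2 - τ 0, σ v.1 - σ 0) ∈ D0 Om z a b := by
  obtain ⟨c, p, hp, hp'⟩ := hv
  have key : ∀ {p : Fin 3 × Fin 3}, p ∈ DC Om z a b c → (τ p.2, σ p.1) ∈ DC Om z a b (g * c * g⁻¹) := by
    rintro p ⟨s, ls, hd⟩
    refine ⟨_, ls.conj_comm h hg, ?_⟩
    have h3 := F.dir_conj' h hg h1 h2 hd
    have e : g * s * g⁻¹ * (g * c * g⁻¹) = g * (s * c) * g⁻¹ := by group
    rw [e]; exact h3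
  have h4 := D0.sub_mem (key hp) (key hp')
  have e : ((τ (p + v).2, σ (p + v).1) : Fin 3 × Fin 3) - (τ p.2, σ p.1) = (τ v.2 - τ 0, σ v.1 - σ 0) := by
    apply Prod.ext
    · exact perm_affine τ p.2 v.2
    · exact perm_affine σ p.1 v.1
  rwa [e] at h4

end

/-- the case (U), `k = 1` -/
structure UW [Finite G] (Om : Set (Subgroup G)) : Prop where
  w : W2 Om
  cf : CF Om
  no : NoOne Om
  cls : ∀ z t, InZ Om z → InZ Om t → ∃ g, g * z * g⁻¹ = t
  ti : ∃ z t, TI Om z t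
  tra : ∀ {z : G} {K1 K2 : Subgroup G} {a b : Fin 3 → G}, Frame Om z K1 K2 a b →
    ∀ g v, Tra z a b g v → v ∈ D0 Om z a b
  one : ∀ {z : G} {K1 K2 : Subgroup G} {a b : Fin 3 → G}, Frame Om z K1 K2 a b → ∃ v, v ∉ D0 Om z a b

section

variable [Finite G] {Om : Set (Subgroup G)} {K K1 K2 L M L1 L2 : Subgroup G} {z t u g r s s' y w c c' : G}
  {a b p q x l : Fin 3 → G} {i j : Fin 3}

namespace UW

variable (W : UW Om)

include W

theorem lab (hz : InZ Om z) : (CC Om z).Nonempty := by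
  obtain ⟨u, t, ht⟩ := W.ti
  obtain ⟨g, hg⟩ := W.cls u z ht.1 hz
  obtain ⟨c, l⟩ := (ht.conj W.w g).exists_lab W.w
  rw [hg] at l
  exact ⟨c, l.mem_CC⟩

theorem exists_sw (hz : InZ Om z) : ∃ g, g * z = z * g ∧ Sw Om z g := by
  obtain ⟨u, t, ht⟩ := W.ti
  obtain ⟨c, l⟩ := ht.exists_lab W.w
  have h2 : PTwo Om u t := by
    by_contra h2
    exact W.no u c l.mem_CC (l.eq_one W.w h2)
  obtain ⟨r, hr, hrt, hs⟩ := h2
  obtain ⟨g, hg⟩ := W.cls t z ht.2.1 hz
  refine ⟨g * r * g⁻¹, ?_, ?_⟩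
  · rw [← hg]
    calc g * r * g⁻¹ * (g * t * g⁻¹) = g * (r * t) * g⁻¹ := by group
      _ = g * (t * r) * g⁻¹ := by rw [hrt]
      _ = _ := by group
  · have := hs.conj W.w g
    rwa [hg] at this

theorem full {F : Frame Om z K1 K2 a b} {u v : Fin 3 × Fin 3} (hu : u ∈ D0 Om z a b) (hv : v ∈ D0 Om z a b)
    (hu2 : u.2 = 0) (hu1 : u.1 ≠ 0) (hv1 : v.1 = 0) (hv2 : v.2 ≠ 0) : False := by
  obtain ⟨w, hw⟩ := W.one F
  apply hw
  have h := W.w
  have h0 := D0.zero h F (W.lab F.k1.inZ)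
  have k1 : (w.1, (0 : Fin 3)) ∈ D0 Om z a b := by
    have key : ∀ u w : Fin 3 × Fin 3, u.2 = 0 → u.1 ≠ 0 → (w.1, (0 : Fin 3)) = 0 ∨ (w.1, (0 : Fin 3)) = u ∨
        (w.1, (0 : Fin 3)) = -u := by decide
    rcases key u w hu2 hu1 with e | e | e <;> rw [e]
    · exact h0
    · exact hu
    · exact D0.neg hu
  have k2 : ((0 : Fin 3), w.2) ∈ D0 Om z a b := by
    have key : ∀ v w : Fin 3 × Fin 3, v.1 = 0 → v.2 ≠ 0 → ((0 : Fin 3), w.2) = 0 ∨ ((0 : Fin 3), w.2) = v ∨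
        ((0 : Fin 3), w.2) = -v := by decide
    rcases key v w hv1 hv2 with e | e | e <;> rw [e]
    · exact h0
    · exact hv
    · exact D0.neg hv
  have k3 := D0.add h F k1 k2
  have e : (w.1, (0 : Fin 3)) + ((0 : Fin 3), w.2) = w := by
    apply Prod.ext
    · exact add_zero _
    · exact zero_add _
  rwa [e] at k3

/-- no translation of weight one -/
theorem no_weight (F : Frame Om z K1 K2 a b) {v : Fin 3 × Fin 3} (hv : v ∈ D0 Om z a b) :
    (v.1 = 0 → v.2 = 0) ∧ (v.2 = 0 → v.1 = 0) := by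
  have h := W.w
  obtain ⟨g, hg, hs⟩ := W.exists_sw F.k1.inZ
  rcases F.act_cases h hg with ⟨h1, -⟩ | ⟨-, -, σ, τ, h1, h2⟩
  · exact absurd h1 (hs K1 F.k1)
  have h3 := D0.uswap h F hg h1 h2 hv
  constructor
  · intro hv1
    by_contra hv2
    rw [hv1, sub_self] at h3
    exact W.full (F := F) h3 hv rfl (fun e => hv2 (τ.injective (sub_eq_zero.1 e))) hv1 hv2
  · intro hv2
    by_contra hv1
    rw [hv2, sub_self] at h3
    exact W.full (F := F) hv h3 hv2 hv1 rfl (fun e => hv1 (σ.injective (sub_eq_zero.1 e)))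

theorem diag_iff (F : Frame Om z K1 K2 a b) (h11 : ((1 : Fin 3), (1 : Fin 3)) ∈ D0 Om z a b) (v : Fin 3 × Fin 3) :
    v ∈ D0 Om z a b ↔ v.1 = v.2 := by
  have h := W.w
  have hii : ∀ i : Fin 3, (i, i) ∈ D0 Om z a b := by
    intro i
    have key : ∀ i : Fin 3, ((i, i) : Fin 3 × Fin 3) = 0 ∨ ((i, i) : Fin 3 × Fin 3) = (1, 1) ∨
        ((i, i) : Fin 3 × Fin 3) = -(1, 1) := by decide
    rcases key i with e | e | e <;> rw [e]
    · exact D0.zero h F (W.lab F.k1.inZ)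
    · exact h11
    · exact D0.neg h11
  constructor
  · intro hv
    have h1 := D0.add h F hv (D0.neg (hii v.1))
    have h2 := (W.no_weight F h1).1 (by show v.1 + -v.1 = 0; exact add_neg_cancel _)
    have h3 : v.2 + -v.1 = 0 := h2
    exact (sub_eq_zero.1 (by rw [sub_eq_add_neg]; exact h3)).symm
  · intro hv
    have e : v = (v.1, v.1) := Prod.ext rfl hv.symm
    rw [e]; exact hii _

/-- all labels have the same directions -/
theorem dc_eq (F : Frame Om z K1 K2 a b) {p : Fin 3 × Fin 3} (hp : p ∈ DC Om z a b c) (hc' : c' ∈ CC Om z) :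
    p ∈ DC Om z a b c' := by
  have h := W.w
  obtain ⟨q, hq⟩ := CC.exists_dir h F hc'
  obtain ⟨g, hg⟩ := tra_of_dir h F hq hp
  have h1 := (D0.iff h F hq).1 (W.tra F g _ hg)
  rwa [add_sub_cancel] at h1

end UW

theorem DC.swap_mem (h : W2 Om) (P : HP Om z s K x) {p : Fin 3 × Fin 3}
    (hp : p ∈ DC Om z x (fun i => s * x i * s⁻¹) c) :
    (p.2, p.1) ∈ DC Om z x (fun i => s * x i * s⁻¹) (s * c * s⁻¹) := by
  obtain ⟨t, lt, hd⟩ := hp
  have hsz : s * z = z * s := P.pr.comm.symm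
  refine ⟨_, lt.conj_comm h hsz, ?_⟩
  have h1 : Act z x (fun i => s * x i * s⁻¹) s 1 := fun i => Or.inl rfl
  have h2 : Act z (fun i => s * x i * s⁻¹) x s 1 := fun i => Or.inl (by
    show s * (s * x i * s⁻¹) * s⁻¹ = x i
    exact P.tt h _)
  have h3 := (P.uframe h).dir_conj' h hsz h1 h2 hd
  have e : s * t * s⁻¹ * (s * c * s⁻¹) = s * (t * c) * s⁻¹ := by group
  rw [e]; exact h3

/-- in coordinates adapted to `s` the directions of all labels are `(i, i)` -/
theorem UW.dc_iff_of (W : UW Om) (P : HP Om z s K x)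
    (h11 : ((1 : Fin 3), (1 : Fin 3)) ∈ D0 Om z x (fun i => s * x i * s⁻¹)) (hc : c ∈ CC Om z) (p : Fin 3 × Fin 3) :
    p ∈ DC Om z x (fun i => s * x i * s⁻¹) c ↔ p.1 = p.2 := by
  have h := W.w
  have F := P.uframe h
  obtain ⟨p0, hp0⟩ := CC.exists_dir h F hc
  have h1 := W.dc_eq F (DC.swap_mem h P hp0) hc
  have h2 := (W.diag_iff F h11 _).1 (D0.sub_mem hp0 h1)
  have h3 : p0.1 = p0.2 := by
    have key : ∀ p : Fin 3 × Fin 3, p.2 - p.1 = p.1 - p.2 → p.1 = p.2 := by decide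
    exact key p0 h2
  have e : p0 + (p - p0) = p := add_sub_cancel _ _
  rw [← e, ← D0.iff h F hp0, W.diag_iff F h11, e]
  show p.1 - p0.1 = p.2 - p0.2 ↔ _
  rw [h3]
  exact sub_left_inj

/-! ### U3 (2): the translation of a joined pair -/

namespace FP

theorem xS (F : FP Om z t K x L l) (h : W2 Om) (hij : i ≠ j) :
    x i * (t * ee z t x j) * (x i)⁻¹ = t * ee z t x (th3 i j) := by
  calc x i * (t * ee z t x j) * (x i)⁻¹ = (x i * t * (x i)⁻¹) * (x i * ee z t x j * (x i)⁻¹) := by group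
    _ = t * ee z t x i * (z * ee z t x j) := by rw [F.P.conj_t h, F.P.x_e_ne h hij]
    _ = t * (ee z t x i * z) * ee z t x j := by group
    _ = t * z * (ee z t x i * ee z t x j) := by rw [F.P.e_z h]; group
    _ = t * (z * (z * ee z t x (th3 i j))) := by rw [F.P.ee_ne h hij]; group
    _ = _ := by rw [F.P.q.zzx]

theorem xS_self (F : FP Om z t K x L l) (h : W2 Om) (i : Fin 3) :
    x i * (t * ee z t x i) * (x i)⁻¹ = t := by
  calc x i * (t * ee z t x i) * (x i)⁻¹ = (x i * t * (x i)⁻¹) * (x i * ee z t x i * (x i)⁻¹) := by group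
    _ = t * (ee z t x i * ee z t x i) := by rw [F.P.conj_t h, F.P.x_e_self h, mul_assoc]
    _ = t := by rw [F.P.e_sq h, mul_one]

theorem lS (F : FP Om z t K x L l) (h : W2 Om) (hij : i ≠ j) :
    l i * (t * ee z t x j) * (l i)⁻¹ = t * ee z t x (th3 i j) := by
  rw [F.eq, F.eq]; exact F.symm.xS h hij

theorem lS_self (F : FP Om z t K x L l) (h : W2 Om) (i : Fin 3) :
    l i * (t * ee z t x i) * (l i)⁻¹ = z := by
  rw [F.eq]; exact F.symm.xS_self h i

/-- U3 (2) -/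
theorem exists_tra (F : FP Om z t K x L l) (h : W2 Om) :
    ∃ g, g * t = t * g ∧ Tra z x (fun i => t * x i * t⁻¹) g (1, 1) := by
  have hzt : z * t = t * z := F.P.pr.comm
  obtain ⟨g, hg⟩ : ∃ g, g = x 1 * l 0 * x 0 * x 1 * l 1 := ⟨_, rfl⟩
  have hc : ∀ y : G, g * y * g⁻¹ = x 1 * (l 0 * (x 0 * (x 1 * (l 1 * y * (l 1)⁻¹) * (x 1)⁻¹) * (x 0)⁻¹) * (l 0)⁻¹) *
      (x 1)⁻¹ := by
    intro y; rw [hg]; group
  have xz : ∀ i, x i * z * (x i)⁻¹ = z := fun i => by rw [← F.P.q.zc i, mul_inv_cancel_right]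
  have lt : ∀ i, l i * t * (l i)⁻¹ = t := fun i => by rw [← F.Q.q.zc i, mul_inv_cancel_right]
  have xt : ∀ i, x i * t * (x i)⁻¹ = t * ee z t x i := F.P.conj_t h
  have lz : ∀ i, l i * z * (l i)⁻¹ = t * ee z t x i := F.conj_z h
  have gz : g * z * g⁻¹ = z := by
    rw [hc, lz, F.xS_self h, xt, F.lS_self h, xz]
  have gt : g * t * g⁻¹ = t := by
    rw [hc, lt, xt, F.xS h (i := 0) (j := 1) (by decide), F.lS h (i := 0) (by decide)]
    exact F.xS_self h 1
  have gs : ∀ i, g * (t * ee z t x i) * g⁻¹ = t * ee z t x (i + 1) := by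
    intro i
    rw [hc]
    fin_cases i
    · show x 1 * (l 0 * (x 0 * (x 1 * (l 1 * (t * ee z t x 0) * (l 1)⁻¹) * (x 1)⁻¹) * (x 0)⁻¹) * (l 0)⁻¹) * (x 1)⁻¹ =
        t * ee z t x 1
      rw [F.lS h (i := 1) (by decide), F.xS h (i := 1) (by decide)]
      have e : th3 1 (th3 1 0) = 0 := by decide
      rw [e, F.xS_self h, lt, xt]
    · show x 1 * (l 0 * (x 0 * (x 1 * (l 1 * (t * ee z t x 1) * (l 1)⁻¹) * (x 1)⁻¹) * (x 0)⁻¹) * (l 0)⁻¹) * (x 1)⁻¹ =
        t * ee z t x 2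
      rw [F.lS_self h, xz, xz, lz, F.xS h (i := 1) (by decide)]
      rfl
    · show x 1 * (l 0 * (x 0 * (x 1 * (l 1 * (t * ee z t x 2) * (l 1)⁻¹) * (x 1)⁻¹) * (x 0)⁻¹) * (l 0)⁻¹) * (x 1)⁻¹ =
        t * ee z t x 0
      rw [F.lS h (i := 1) (by decide), F.xS h (i := 1) (by decide)]
      have e : th3 1 (th3 1 2) = 2 := by decide
      rw [e, F.xS h (i := 0) (by decide), F.lS h (i := 0) (by decide), F.xS h (i := 1) (by decide)]
      rfl
  -- the action on `K`
  have key : ∀ g, g * z * g⁻¹ = z → g * t * g⁻¹ = t → (∀ i, g * (t * ee z t x i) * g⁻¹ = t * ee z t x (i + 1)) →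
      cj g K = K → g * t = t * g ∧ Tra z x (fun i => t * x i * t⁻¹) g (1, 1) := by
    intro g gz gt gs hK
    rw [mul_inv_eq_iff_eq_mul] at gz gt
    obtain ⟨σ, hσ⟩ := F.P.q.exists_act F.P.q hK gz
    have e1 : ∀ i, σ i = i + 1 := by
      intro i
      apply F.P.e_inj h
      rw [← F.P.act_ee gz gt hσ i]
      have h1 := gs i
      have e : g * (t * ee z t x i) * g⁻¹ = t * (g * ee z t x i * g⁻¹) := by
        calc g * (t * ee z t x i) * g⁻¹ = (g * t) * ee z t x i * g⁻¹ := by group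
          _ = _ := by rw [gt]; group
      rw [e] at h1
      exact mul_left_cancel h1
    refine ⟨gt, gz, ?_, ?_⟩
    · intro i
      have h1 := hσ i
      rw [e1] at h1
      exact h1
    · intro i
      have h1 := hσ i
      rw [e1] at h1
      have e : g * (t * x i * t⁻¹) * g⁻¹ = t * (g * x i * g⁻¹) * t⁻¹ := by
        have e2 : t⁻¹ * g⁻¹ = g⁻¹ * t⁻¹ := by rw [← mul_inv_rev, ← mul_inv_rev, gt]
        calc g * (t * x i * t⁻¹) * g⁻¹ = (g * t) * x i * (t⁻¹ * g⁻¹) := by group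
          _ = (t * g) * x i * (g⁻¹ * t⁻¹) := by rw [gt, e2]
          _ = _ := by group
      show g * (t * x i * t⁻¹) * g⁻¹ = t * x (i + 1) * t⁻¹ ∨ g * (t * x i * t⁻¹) * g⁻¹ = z * (t * x (i + 1) * t⁻¹)
      rw [e]
      rcases h1 with h1 | h1 <;> rw [h1]
      · left; rfl
      · right
        calc t * (z * x (i + 1)) * t⁻¹ = (t * z) * x (i + 1) * t⁻¹ := by group
          _ = _ := by rw [← hzt]; group
  have hgz : g * z = z * g := by rwa [mul_inv_eq_iff_eq_mul] at gz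
  rcases F.P.cases h (F.P.hK.cj_comm h hgz) with h1 | h1
  · exact ⟨g, key g gz gt gs h1⟩
  · have t2 : t * t = 1 := F.P.t2 h
    refine ⟨t * g, key (t * g) ?_ ?_ ?_ ?_⟩
    · calc t * g * z * (t * g)⁻¹ = t * (g * z * g⁻¹) * t⁻¹ := by group
        _ = z := by rw [gz, ← hzt, mul_inv_cancel_right]
    · calc t * g * t * (t * g)⁻¹ = t * (g * t * g⁻¹) * t⁻¹ := by group
        _ = t := by rw [gt, mul_inv_cancel_right]
    · intro i
      calc t * g * (t * ee z t x i) * (t * g)⁻¹ = t * (g * (t * ee z t x i) * g⁻¹) * t⁻¹ := by group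
        _ = t * (t * ee z t x (i + 1)) * t⁻¹ := by rw [gs]
        _ = t * (ee z t x (i + 1) * t) * t⁻¹ := by rw [F.P.e_t h]
        _ = _ := by group
    · rw [cj_mul, h1, ← cj_mul, t2, cj_one]

end FP

/-! ### U4 -/

namespace UW

variable (W : UW Om)

include W

theorem h11 (P : HP Om z s K x) : ((1 : Fin 3), (1 : Fin 3)) ∈ D0 Om z x (fun i => s * x i * s⁻¹) := by
  have h := W.w
  obtain ⟨L, l, Q⟩ := (P.pr.symm' h W.no).exists_hp h
  rcases P.joined_or Q h W.no with ⟨l', F⟩ | D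
  · obtain ⟨g, -, hg⟩ := F.exists_tra h
    exact W.tra (P.uframe h) g _ hg
  · have key : ∀ i, ((i, i) : Fin 3 × Fin 3) ∈ DC Om z x (fun i => s * x i * s⁻¹) (z * (s * ee s z l 0)) := by
      intro i
      have hl := D.lab h i 0
      refine ⟨_, hl, ?_⟩
      left
      show z * (z * ee z s x i) * (s * ee s z l 0) * (z * (s * ee s z l 0)) = x i * (s * x i * s⁻¹)
      rw [D.P.xx_eq]
      have hzT : z * ee z s x i * z = z * (z * ee z s x i) := D.P.c_z h i
      have hzT' : s * ee s z l 0 * z = z * (s * ee s z l 0) := D.Q.c_t h 0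
      have hTT' : s * ee s z l 0 * (s * ee s z l 0) = 1 := D.Q.c_sq h 0
      calc z * (z * ee z s x i) * (s * ee s z l 0) * (z * (s * ee s z l 0)) =
          z * (z * ee z s x i) * ((s * ee s z l 0) * z) * (s * ee s z l 0) := by group
        _ = z * ((z * ee z s x i) * z) * ((s * ee s z l 0) * (s * ee s z l 0)) := by rw [hzT']; group
        _ = (z * z) * (z * ee z s x i) := by rw [hTT', hzT]; group
        _ = _ := by rw [D.P.q.z2, one_mul]
    have h1 := D0.sub_mem (key 0) (key 1)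
    exact h1

/-- U4: in coordinates adapted to a p-neighbour `s` of `z` the directions of all labels are `(i, i)` -/
theorem dc_iff (P : HP Om z s K x) (hc : c ∈ CC Om z) (p : Fin 3 × Fin 3) :
    p ∈ DC Om z x (fun i => s * x i * s⁻¹) c ↔ p.1 = p.2 := W.dc_iff_of P (W.h11 P) hc p

theorem lab_e (P : HP Om z s K x) (hc : c ∈ CC Om z) (i : Fin 3) :
    Lab Om z (z * ee z s x i * c) c ∧ Lab Om z (ee z s x i * c) c := by
  have h := W.w
  obtain ⟨t, lt, hd⟩ := (W.dc_iff P hc (i, i)).2 rfl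
  have hd' : t * c = z * ee z s x i ∨ t * c = ee z s x i := by
    rcases hd with h1 | h1
    · left; rw [h1]; exact P.xx_eq i
    · right
      rw [h1]
      show z * (x i * (s * x i * s⁻¹)) = ee z s x i
      rw [P.xx_eq, P.q.zzx]
  have lz := lt.mul h
  have ht : t = t * c * c := by rw [mul_assoc, lt.sq, mul_one]
  rcases hd' with h1 | h1
  · rw [h1] at ht
    have h2 : z * t = ee z s x i * c := by rw [ht, ← mul_assoc, P.q.zzx]
    rw [h2] at lz
    rw [ht] at lt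
    exact ⟨lt, lz⟩
  · rw [h1] at ht
    have h2 : z * t = z * ee z s x i * c := by rw [ht, ← mul_assoc]
    rw [h2] at lz
    rw [ht] at lt
    exact ⟨lz, lt⟩

theorem lab_cases (P : HP Om z s K x) (lt : Lab Om z t c) :
    ∃ i, t = z * ee z s x i * c ∨ t = ee z s x i * c := by
  have h := W.w
  obtain ⟨th, i, j, -, -, -, -, hd, -⟩ := lt.theta h (P.uframe h)
  have h1 : (i, j) ∈ DC Om z x (fun i => s * x i * s⁻¹) c := ⟨t, lt, hd⟩
  have h2 : i = j := (W.dc_iff P lt.mem_CC _).1 h1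
  subst h2
  have ht : t = t * c * c := by rw [mul_assoc, lt.sq, mul_one]
  refine ⟨i, ?_⟩
  rcases hd with h1 | h1
  · left
    rw [ht, h1]
    show x i * (s * x i * s⁻¹) * c = _
    rw [P.xx_eq]
  · right
    rw [ht, h1]
    show z * (x i * (s * x i * s⁻¹)) * c = _
    rw [P.xx_eq, P.q.zzx]

/-- two p-neighbours of `z` act in the same way on the axes -/
theorem act_eq (P : HP Om z s K x) (hp' : PR Om z s') (i : Fin 3) :
    s' * x i * s'⁻¹ = s * x i * s⁻¹ ∨ s' * x i * s'⁻¹ = z * (s * x i * s⁻¹) := by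
  have h := W.w
  have P' : HP Om z s' K x := ⟨hp', P.hK, P.q⟩
  obtain ⟨c, hc⟩ := W.lab P.pr.hz
  obtain ⟨j, hj⟩ := W.lab_cases P (W.lab_e P' hc i).1
  have hzz := P.q.zzx
  have e1 : ∃ e, (e = 1 ∨ e = z) ∧ x i * (s' * x i * s'⁻¹) = e * (x j * (s * x j * s⁻¹)) := by
    rw [P'.xx_eq, P.xx_eq]
    rcases hj with h1 | h1
    · exact ⟨1, Or.inl rfl, by rw [mul_right_cancel h1, one_mul]⟩
    · exact ⟨z, Or.inr rfl, by rw [mul_right_cancel h1, hzz]⟩
  obtain ⟨e, he, h1⟩ := e1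
  have heK : e ∈ K := by rcases he with rfl | rfl; exacts [one_mem _, P.q.zmem]
  have heK' : e ∈ cj s K := by rcases he with rfl | rfl; exacts [one_mem _, P.q'.zmem]
  have hec : ∀ k ∈ K, e * k = k * e := by
    intro k hk
    rcases he with rfl | rfl
    · rw [one_mul, mul_one]
    · exact P.q.zcomm hk
  have hs'K : s' * x i * s'⁻¹ ∈ cj s K := by
    have h2 : s' * x i * s'⁻¹ ∈ cj s' K := conj_mem_cj (P.q.mem i)
    have h3 : cj s' K = cj s K := by
      rcases P.cases h (P'.hK' h) with h4 | h4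
      · exact absurd h4 (hp'.sw K P.hK)
      · exact h4
    rwa [h3] at h2
  -- `(x j)⁻¹ x i ∈ K ∩ K^s`
  have h2 : (x j)⁻¹ * x i = e * (s * x j * s⁻¹) * (s' * x i * s'⁻¹)⁻¹ := by
    rw [eq_mul_inv_iff_mul_eq, mul_assoc, h1, ← mul_assoc, ← hec _ (inv_mem (P.q.mem j)), mul_assoc, inv_mul_cancel_left]
  have h3 : (x j)⁻¹ * x i = 1 ∨ (x j)⁻¹ * x i = z := by
    refine P.hK.inf (P.hK' h) h P.ne' (mul_mem (inv_mem (P.q.mem j)) (P.q.mem i)) ?_
    rw [h2]
    exact mul_mem (mul_mem heK' (P.q'.mem j)) (inv_mem hs'K)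
  have h4 : i = j := by
    apply P.q.inj
    rcases h3 with h3 | h3
    · left; exact (inv_mul_eq_one.1 h3).symm
    · right
      rw [inv_mul_eq_iff_eq_mul] at h3
      rw [h3, P.q.zc]
  subst h4
  rcases he with rfl | rfl
  · left
    rw [one_mul] at h1
    exact mul_left_cancel h1
  · right
    have e5 : ∀ Y : G, e * (x i * Y) = x i * (e * Y) := fun Y => by rw [← mul_assoc, P.q.zc, mul_assoc]
    rw [e5] at h1
    exact mul_left_cancel h1

theorem cx_of_cent (P : HP Om z s K x) (hp' : PR Om z s') (hk : ∀ k ∈ K, s * s' * k * (s * s')⁻¹ = k) :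
    s * s' ∈ CX Om z := by
  have h := W.w
  have s2 : s * s = 1 := P.t2 h
  have si : s⁻¹ = s := P.tinv h
  have s2' : s' * s' = 1 := hp'.t2 h
  have si' : s'⁻¹ = s' := hp'.tinv h
  have hmm : ∀ m ∈ K, s' * m * s'⁻¹ = s * m * s⁻¹ := by
    intro m hm
    have h1 := hk m hm
    calc s' * m * s'⁻¹ = s⁻¹ * (s * s' * m * (s * s')⁻¹) * s := by group
      _ = s⁻¹ * m * s := by rw [h1]
      _ = s * m * s⁻¹ := by rw [si]
  rw [mem_CX]
  intro M hM k hkM
  rcases P.cases h hM with rfl | rfl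
  · have := hk k hkM
    rwa [mul_inv_eq_iff_eq_mul] at this
  · obtain ⟨m, hm, rfl⟩ : ∃ m ∈ K, s * m * s⁻¹ = k := by
      obtain ⟨m, hm, rfl⟩ := hkM; exact ⟨m, hm, rfl⟩
    have h1 : s * s' * (s * m * s⁻¹) * (s * s')⁻¹ = s * m * s⁻¹ := by
      rw [← hmm m hm]
      calc s * s' * (s' * m * s'⁻¹) * (s * s')⁻¹ = s * (s' * s') * m * (s * (s' * s'))⁻¹ := by group
        _ = s' * m * s'⁻¹ := by rw [s2', mul_one, hmm m hm]
    rwa [mul_inv_eq_iff_eq_mul] at h1

/-- U4: two p-neighbours of `z` are congruent modulo `K X_z` -/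
theorem exists_conj (P : HP Om z s K x) (hp' : PR Om z s') :
    s * s' ∈ CX Om z ∨ ∃ j, s * (x j * s' * (x j)⁻¹) ∈ CX Om z := by
  have h := W.w
  have hyz : s * s' * z = z * (s * s') := by
    rw [mul_assoc, ← hp'.comm, ← mul_assoc, ← P.pr.comm, mul_assoc]
  have hact : Act z x x (s * s') 1 := by
    intro i
    have e : s * s' * x i * (s * s')⁻¹ = s * (s' * x i * s'⁻¹) * s⁻¹ := by group
    rw [e]
    rcases W.act_eq P hp' i with h1 | h1
    · left; rw [h1]; exact P.tt h _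
    · right
      rw [h1]
      calc s * (z * (s * x i * s⁻¹)) * s⁻¹ = (s * z) * (s * x i * s⁻¹) * s⁻¹ := by group
        _ = z * (s * (s * x i * s⁻¹) * s⁻¹) := by rw [← P.pr.comm]; group
        _ = _ := by rw [P.tt h]; rfl
  rcases P.q.inner_cases (hact.inner P.q hyz) with h1 | ⟨j, h1⟩
  · exact Or.inl (W.cx_of_cent P hp' h1)
  · right
    refine ⟨j, W.cx_of_cent P (hp'.conj_comm h (P.q.zc j).symm) ?_⟩
    intro k hk
    have e : s * (x j * s' * (x j)⁻¹) * k * (s * (x j * s' * (x j)⁻¹))⁻¹ =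
        (s * x j * s⁻¹) * (s * s' * ((x j)⁻¹ * k * x j) * (s * s')⁻¹) * (s * x j * s⁻¹)⁻¹ := by group
    have hk' : (x j)⁻¹ * k * x j ∈ K := mul_mem (mul_mem (inv_mem (P.q.mem j)) hk) (P.q.mem j)
    rw [e, h1 _ hk']
    have e2 : x j * ((x j)⁻¹ * k * x j) * (x j)⁻¹ = k := by group
    rw [e2, mul_inv_eq_iff_eq_mul]
    exact (P.hK.comm (P.hK' h) h P.ne' hk (P.q'.mem j)).symm

/-- no pairs of type f -/
theorem no_ft (hf : FT Om z t) : False := by
  have h := W.w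
  have hn := W.no
  -- `z` is of type f with respect to `t`
  have hf' : FT Om t z := by
    rcases tcases h hf.fr.ht hf.fr.hz hf.fr.ne.symm hf.fr.comm.symm with h1 | h1 | h1
    · exact ((h1.symm' h hn).not_fr hf.fr).elim
    · exact h1
    · exact (hf.ninn (h1.symm h).2.2.2.2).elim
  obtain ⟨K1, h1⟩ := hf.fr.hz
  obtain ⟨K2, h2, hne, -⟩ := h1.other h
  obtain ⟨a, qa, -, -, ha⟩ := hf.coord h h1
  obtain ⟨b, qb, -, -, hb⟩ := hf.coord h h2
  obtain ⟨-, r2, hr2, e2⟩ := hf.inv_axis h h2 (qb.mem 2) (qb.sq 2) (Or.inr hb)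
  obtain ⟨-, r1, hr1, e1⟩ := hf.inv_axis h h1 (qa.mem 2) (qa.sq 2) (Or.inr ha)
  have hza : z * a 2 * (z * a 2) = z := by
    calc z * a 2 * (z * a 2) = z * (a 2 * z) * a 2 := by group
      _ = z * (z * a 2) * a 2 := by rw [qa.zc]
      _ = z := by rw [qa.zzx, qa.sq]
  have htz : t * z = z * t := hf.fr.comm.symm
  obtain ⟨-, r3, hr3, e3⟩ := hf.inv_axis h h1 (mul_mem qa.zmem (qa.mem 2)) hza (Or.inr (by
    calc t * (z * a 2) * t⁻¹ = (t * z) * a 2 * t⁻¹ := by group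
      _ = z * (t * a 2 * t⁻¹) := by rw [htz]; group
      _ = _ := by rw [ha]))
  obtain ⟨w, hw⟩ : ∃ w, w = a 2 * b 2 := ⟨_, rfl⟩
  have hwR : w ∈ RZ Om z := by rw [hw]; exact mul_mem (h1.le_RZ (qa.mem 2)) (h2.le_RZ (qb.mem 2))
  have hab : a 2 * b 2 = b 2 * a 2 := h1.comm h2 h hne (qa.mem 2) (qb.mem 2)
  have hws : w * w = 1 := by
    rw [hw]
    calc a 2 * b 2 * (a 2 * b 2) = a 2 * (b 2 * a 2) * b 2 := by group
      _ = (a 2 * a 2) * (b 2 * b 2) := by rw [← hab]; group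
      _ = 1 := by rw [qa.sq, qb.sq, qa.z2]
  have hwt : w * t = t * w := by
    have e : t * w * t⁻¹ = w := by
      rw [hw]
      calc t * (a 2 * b 2) * t⁻¹ = (t * a 2 * t⁻¹) * (t * b 2 * t⁻¹) := by group
        _ = z * a 2 * (z * b 2) := by rw [ha, hb]
        _ = z * (a 2 * z) * b 2 := by group
        _ = z * (z * a 2) * b 2 := by rw [qa.zc]
        _ = _ := by rw [qa.zzx]
    rw [mul_inv_eq_iff_eq_mul] at e
    exact e.symm
  have hwz : w * z = z * w := RZ_le_centralizer h hwR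
  have hconj : ∀ r ∈ K1, ∀ y ∈ K1, r * t * r⁻¹ = t * y → InZ Om (t * (y * b 2)) := by
    intro r hr y hy e
    have e4 : r * r2 * t * (r * r2)⁻¹ = t * (y * b 2) := by
      have h5 : r * b 2 * r⁻¹ = b 2 := by
        rw [h1.comm h2 h hne hr (qb.mem 2), mul_inv_cancel_right]
      calc r * r2 * t * (r * r2)⁻¹ = r * (r2 * t * r2⁻¹) * r⁻¹ := by group
        _ = (r * t * r⁻¹) * (r * b 2 * r⁻¹) := by rw [e2]; group
        _ = _ := by rw [e, h5]; group
    rw [← e4]; exact hf.fr.ht.conj h _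
  have hs : InZ Om (t * w) := by rw [hw]; exact hconj r1 hr1 _ (qa.mem 2) e1
  have hs' : InZ Om (t * (z * w)) := by
    have := hconj r3 hr3 _ (mul_mem qa.zmem (qa.mem 2)) e3
    rw [hw, ← mul_assoc z]; exact this
  have hw1 : w ≠ 1 := by
    rw [hw]; intro h5
    have h6 : a 2 = (b 2)⁻¹ := eq_inv_of_mul_eq_one_left h5
    rcases h1.inf h2 h hne (qa.mem 2) (by rw [h6]; exact inv_mem (qb.mem 2)) with h7 | h7
    · exact qa.ne_one 2 h7
    · exact qa.ne_z 2 h7
  have hwz' : w ≠ z := by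
    rw [hw]; intro h5
    have h6 : a 2 = z * (b 2)⁻¹ := by rw [← h5]; group
    rcases h1.inf h2 h hne (qa.mem 2) (by rw [h6]; exact mul_mem qb.zmem (inv_mem (qb.mem 2))) with h7 | h7
    · exact qa.ne_one 2 h7
    · exact qa.ne_z 2 h7
  have t2 : t * t = 1 := hf.fr.ht.z2 h
  have z2 : z * z = 1 := qa.z2
  have hzwt : z * w * t = t * (z * w) := by rw [mul_assoc, hwt, ← mul_assoc, ← htz, mul_assoc]
  have p1 : PR Om t (t * w) := by
    refine pr_of_not h hf.fr.ht hs (fun e => hw1 (mul_eq_left.1 e.symm)) ?_ ?_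
    · rw [mul_assoc, hwt]
    · rw [← mul_assoc, t2, one_mul]
      intro h5; exact hwz' (hn.eq_of_RZ h hf.fr.hz h5 hwR)
  have hzw1 : z * w ≠ 1 := by
    intro h5
    apply hwz'
    have := eq_inv_of_mul_eq_one_right h5
    rw [this, qa.zinv]
  have p2 : PR Om t (t * (z * w)) := by
    refine pr_of_not h hf.fr.ht hs' (fun e => hzw1 (mul_eq_left.1 e.symm)) ?_ ?_
    · rw [mul_assoc, hzwt]
    · rw [← mul_assoc, t2, one_mul]
      intro h5
      have h6 := hn.eq_of_RZ h hf.fr.hz h5 (mul_mem (z_mem_RZ hf.fr.hz h) hwR)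
      exact hw1 (mul_eq_left.1 h6)
  obtain ⟨L, l, P⟩ := p1.exists_hp h
  -- `z` acts on `L` modulo `t` trivially
  have hzs : z = (t * (z * w)) * (t * w) := by
    calc z = z * (w * w) := by rw [hws, mul_one]
      _ = z * w * w * (t * t) := by rw [t2]; group
      _ = z * w * (w * t) * t := by group
      _ = z * w * (t * w) * t := by rw [hwt]
      _ = (z * w * t) * (w * t) := by group
      _ = _ := by rw [hzwt, hwt]
  obtain ⟨σ, hσ, -, hσ1⟩ := hf'.act h P.hK P.q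
  apply hσ1
  refine hσ.unique P.q ?_
  intro i
  rw [hzs]
  have e4 : t * (z * w) * (t * w) * l i * (t * (z * w) * (t * w))⁻¹ =
      (t * (z * w)) * ((t * w) * l i * (t * w)⁻¹) * (t * (z * w))⁻¹ := by group
  rw [e4]
  have P2 : HP Om t (t * (z * w)) L l := ⟨p2, P.hK, P.q⟩
  rcases W.act_eq P2 p1 i with h5 | h5
  · left; rw [h5]; exact P2.tt h _
  · right
    rw [h5]
    have hct : t * (z * w) * t = t * (t * (z * w)) := by
      rw [mul_assoc, hzwt]
    calc t * (z * w) * (t * (t * (z * w) * l i * (t * (z * w))⁻¹)) * (t * (z * w))⁻¹ =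
        (t * (z * w) * t) * ((t * (z * w)) * l i * (t * (z * w))⁻¹) * (t * (z * w))⁻¹ := by group
      _ = t * ((t * (z * w)) * ((t * (z * w)) * l i * (t * (z * w))⁻¹) * (t * (z * w))⁻¹) := by rw [hct]; group
      _ = _ := by rw [P2.tt h]; rfl

/-- commuting elements of `Z` are of type p or I -/
theorem pr_or_ti (hz : InZ Om z) (ht : InZ Om t) (hne : z ≠ t) (hc : z * t = t * z) : PR Om z t ∨ TI Om z t := by
  rcases tcases W.w hz ht hne hc with h1 | h1 | h1
  · exact Or.inl h1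
  · exact (W.no_ft h1).elim
  · exact Or.inr h1

end UW

end

end Cfsg.Agent.Cit.Nil.RTwo
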