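import Cfsg.Agent.Cit.Nil.RTwo.UOne

/-!
# The KINDS LEMMA: section U2 of `CIT-6b-r2m1-U-helper141.md`

For a pair of type p (coordinates `P : HP Om z t K x`, `Q : HP Om t z L l`), the elements `z e_i = x_i x_i^t`
lie all in `X_t` or are all of the form `t f_j = l_j l_j^z`.
-/

set_option autoImplicit false
set_option linter.style.haveILetI false
set_option linter.unusedSectionVars false
set_option maxHeartbeats 400000

namespace Cfsg.Agent.Cit.Nil.RTwo

open Subgroup Cfsg Cit

variable {G : Type*} [Group G]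

/-- the third index -/
def th3 (i j : Fin 3) : Fin 3 := -i - j

theorem th3_cases {i j : Fin 3} (h : i ≠ j) : (j = i + 1 ∧ th3 i j = i + 2) ∨ (j = i + 2 ∧ th3 i j = i + 1) := by
  revert i j; decide

theorem th3_ne {i j : Fin 3} (h : i ≠ j) : th3 i j ≠ i ∧ th3 i j ≠ j := by revert i j; decide

theorem perm_inv_fix (σ : Equiv.Perm (Fin 3)) (h : σ * σ = 1) (i : Fin 3) (hi : σ i ≠ i) :
    σ (th3 i (σ i)) = th3 i (σ i) ∧ σ (σ i) = i := by
  revert i; revert σ; decide

theorem perm_exists_move (σ : Equiv.Perm (Fin 3)) (h : σ ≠ 1) : ∃ j, σ j ≠ j := by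
  revert σ; decide

theorem Q3.outer_inv {K : Subgroup G} {z g : G} {x : Fin 3 → G} (q : Q3 K z x) (hg : g * z = z * g)
    (hgg : g * g = 1) {σ : Equiv.Perm (Fin 3)} (hact : Act z x x g σ) (h1 : σ ≠ 1) {k : Fin 3} (h2 : σ k = k) :
    g * x k * g⁻¹ = z * x k := by
  have key : ∀ (σ : Equiv.Perm (Fin 3)) (k : Fin 3), σ ≠ 1 → σ k = k → σ (k + 1) = k + 2 ∧ σ (k + 2) = k + 1 := by
    decide
  obtain ⟨k1, k2⟩ := key σ k h1 h2
  have hgz : g * z * g⁻¹ = z := by rw [hg, mul_inv_cancel_right]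
  have hm : ∀ y : G, g * (z * y) * g⁻¹ = z * (g * y * g⁻¹) := by
    intro y
    calc g * (z * y) * g⁻¹ = (g * z * g⁻¹) * (g * y * g⁻¹) := by group
      _ = _ := by rw [hgz]
  have hgg' : ∀ y : G, g * (g * y * g⁻¹) * g⁻¹ = y := by
    intro y
    calc g * (g * y * g⁻¹) * g⁻¹ = (g * g) * y * (g * g)⁻¹ := by group
      _ = y := by rw [hgg]; group
  have e : g * x k * g⁻¹ = (g * x (k + 1) * g⁻¹) * (g * x (k + 2) * g⁻¹) := by
    rw [← q.mul12 k]; group
  have e21 : x (k + 2) * x (k + 1) = z * x k := q.mul21 k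
  have a1 := hact (k + 1)
  have a2 := hact (k + 2)
  rw [k1] at a1
  rw [k2] at a2
  have hsq := hgg' (x (k + 1))
  rcases a1 with a1 | a1 <;> rcases a2 with a2 | a2
  · rw [e, a1, a2, e21]
  · rw [a1, a2] at hsq
    exact absurd hsq (q.zne _)
  · rw [a1, hm, a2] at hsq
    exact absurd hsq (q.zne _)
  · rw [e, a1, a2, mul_assoc, ← mul_assoc (x (k + 2)), ← q.zc, mul_assoc z (x (k + 2)), q.zzx, e21]

section

variable [Finite G] {Om : Set (Subgroup G)} {K K1 K2 L M L1 L2 : Subgroup G} {z t u v g r s x y w c c' : G}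
  {a b p q : Fin 3 → G}

theorem RZ_comm_or (h : W2 Om) (hz : InZ Om z) (hr : r ∈ RZ Om z) (hs : s ∈ RZ Om z) :
    r * s = s * r ∨ r * s = z * (s * r) := by
  obtain ⟨K1, h1⟩ := hz
  obtain ⟨K2, h2, hne, -⟩ := h1.other h
  obtain ⟨k, hk, l, hl, rfl⟩ := (mem_RZ h1 h2 h hne).1 hs
  have hi := Inn.of_RZ h1.inZ h hr
  have hz2 := h1.inZ.z2 h
  have e : r * (k * l) = (r * k * r⁻¹) * (r * l * r⁻¹) * r := by group
  rcases hi K1 h1 k hk with e1 | e1 <;> rcases hi K2 h2 l hl with e2 | e2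
  · left; rw [e, e1, e2]
  · right
    rw [e, e1, e2, ← mul_assoc k, h1.comm_z h hk]
    simp only [mul_assoc]
  · right
    rw [e, e1, e2]
    simp only [mul_assoc]
  · left
    rw [e, e1, e2]
    calc z * k * (z * l) * r = z * (k * z) * l * r := by group
      _ = (z * z) * (k * l) * r := by rw [h1.comm_z h hk]; group
      _ = _ := by rw [hz2, one_mul]

namespace HP

variable {x l : Fin 3 → G} {i j : Fin 3} {σ τ : Equiv.Perm (Fin 3)}

theorem ee_ne (P : HP Om z t K x) (h : W2 Om) (hij : i ≠ j) : ee z t x i * ee z t x j = z * ee z t x (th3 i j) := by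
  rcases th3_cases hij with ⟨e1, e2⟩ | ⟨e1, e2⟩
  · rw [e1, ← e1, e2, e1, P.e_mul h]
  · have h1 := P.e_mul' h j
    rw [e1, i21, i22, ← e1] at h1
    rw [e2, ← h1]

theorem c_ne (P : HP Om z t K x) (h : W2 Om) (hij : i ≠ j) :
    z * ee z t x i * (z * ee z t x j) = z * ee z t x (th3 i j) := by
  rw [P.c_mul h, P.ee_ne h hij]

theorem c_z (P : HP Om z t K x) (h : W2 Om) (i : Fin 3) : z * ee z t x i * z = z * (z * ee z t x i) := by
  rw [mul_assoc, P.e_z h]

theorem c_ne_one (P : HP Om z t K x) (h : W2 Om) (i : Fin 3) : z * ee z t x i ≠ 1 := by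
  intro h1
  apply P.e_ne_z h i
  have h2 := P.q.zzx (ee z t x i)
  rw [h1, mul_one] at h2
  exact h2.symm

theorem c_mem (P : HP Om z t K x) (h : W2 Om) (i : Fin 3) : z * ee z t x i ∈ RZ Om z :=
  mul_mem (z_mem_RZ P.pr.hz h) (P.e_mem h i)

/-- `g` commuting with `z`, `t` and acting as `σ` on the axes -/
theorem act_ee (P : HP Om z t K x) (hgz : g * z = z * g) (hgt : g * t = t * g) (hact : Act z x x g σ)
    (i : Fin 3) : g * ee z t x i * g⁻¹ = ee z t x (σ i) := by
  have hgz' : g * z * g⁻¹ = z := by rw [hgz, mul_inv_cancel_right]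
  have hgt' : g * t * g⁻¹ = t := by rw [hgt, mul_inv_cancel_right]
  have e : g * ee z t x i * g⁻¹ = (g * z * g⁻¹) * (g * x i * g⁻¹) *
      ((g * t * g⁻¹) * (g * x i * g⁻¹) * (g * t * g⁻¹)⁻¹) := by rw [ee]; group
  rw [e, hgz', hgt']
  rcases hact i with h1 | h1 <;> rw [h1]
  · rfl
  · have htz : t * z = z * t := P.pr.comm.symm
    have hz2 := P.q.z2
    rw [ee]
    calc z * (z * x (σ i)) * (t * (z * x (σ i)) * t⁻¹) = z * z * (x (σ i) * (t * z)) * x (σ i) * t⁻¹ := by group
      _ = z * z * (x (σ i) * z) * t * x (σ i) * t⁻¹ := by rw [htz]; group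
      _ = z * z * (z * x (σ i)) * t * x (σ i) * t⁻¹ := by rw [P.q.zc]
      _ = (z * z) * (z * x (σ i) * (t * x (σ i) * t⁻¹)) := by group
      _ = _ := by rw [hz2, one_mul]

theorem act_cc (P : HP Om z t K x) (hgz : g * z = z * g) (hgt : g * t = t * g) (hact : Act z x x g σ)
    (i : Fin 3) : g * (z * ee z t x i) * g⁻¹ = z * ee z t x (σ i) := by
  rw [← P.act_ee hgz hgt hact i]
  calc g * (z * ee z t x i) * g⁻¹ = (g * z) * ee z t x i * g⁻¹ := by group
    _ = _ := by rw [hgz]; group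

theorem exists_actN (P : HP Om z t K x) (Q : HP Om t z L l) (h : W2 Om) (hn : NoOne Om) (i : Fin 3) :
    ∃ σ, Act t l l (z * ee z t x i) σ ∧ σ * σ = 1 := by
  obtain ⟨σ, hσ⟩ := Q.q.exists_act Q.q (P.fx_ze h hn i L Q.hK) (P.c_t h i)
  refine ⟨σ, hσ, ?_⟩
  have h2 := hσ.comp Q.q.z2 hσ (P.c_t h i)
  rw [P.c_sq h] at h2
  exact h2.unique Q.q (Act.one l t)

/-- U2 (1): the crossed case is impossible -/
theorem act_one (P : HP Om z t K x) (Q : HP Om t z L l) (h : W2 Om) (hn : NoOne Om)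
    (hσ : Act t l l (z * ee z t x i) σ) : σ = 1 := by
  by_contra hne
  have hσσ : σ * σ = 1 := by
    have h2 := hσ.comp Q.q.z2 hσ (P.c_t h i)
    rw [P.c_sq h] at h2
    exact h2.unique Q.q (Act.one l t)
  obtain ⟨j, hj⟩ := perm_exists_move σ hne
  obtain ⟨hm, hjj⟩ := perm_inv_fix σ hσσ j hj
  set m := th3 j (σ j) with hmdef
  set g := z * ee z t x i with hg
  have hzt : z * t = t * z := P.pr.comm
  have hgz : g * z = z * g := P.c_z h i
  have hgt : g * t = t * g := P.c_t h i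
  have hgg : g * g = 1 := P.c_sq h i
  -- `T'`
  have ht'z : ∀ k, (t * ee t z l k) * z = z * (t * ee t z l k) := Q.c_t h
  have ht't : ∀ k, (t * ee t z l k) * t = t * (t * ee t z l k) := Q.c_z h
  have ht'2 : ∀ k, (t * ee t z l k) * (t * ee t z l k) = 1 := Q.c_sq h
  have e1 : g * (t * ee t z l j) * g⁻¹ = t * ee t z l (σ j) := Q.act_cc hgt hgz hσ j
  have e2 : (t * ee t z l j) * (t * ee t z l (σ j)) = t * ee t z l m := Q.c_ne h (Ne.symm hj)
  set f := t * ee t z l j with hf
  have hfi : f⁻¹ = f := inv_eq_of_mul_eq_one_right (ht'2 j)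
  have e3 : g * f = t * ee t z l (σ j) * g := by rwa [mul_inv_eq_iff_eq_mul] at e1
  have e4 : f * g * f = t * ee t z l m * g := by
    rw [mul_assoc, e3, ← mul_assoc, e2]
  -- the action of `f` on `K`
  obtain ⟨τ, hτ, hττ⟩ := Q.exists_actN P h hn j
  rw [← hf] at hτ
  have e5 : f * (z * ee z t x i) * f⁻¹ = z * ee z t x (τ i) := P.act_cc (ht'z j) (ht't j) hτ i
  rw [← hg, hfi, e4] at e5
  have hτi : τ i ≠ i := by
    intro h1
    rw [h1, ← hg] at e5
    exact Q.c_ne_one h m (mul_eq_right.1 e5)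
  obtain ⟨hk, -⟩ := perm_inv_fix τ hττ i hτi
  set k := th3 i (τ i) with hkdef
  have hτ1 : τ ≠ 1 := by rintro rfl; exact hτi rfl
  -- `t'_m = t_k`
  have e6 : t * ee t z l m = z * ee z t x k := by
    have h1 : t * ee t z l m = z * ee z t x (τ i) * g := by
      rw [← e5, mul_assoc, hgg, mul_one]
    rw [h1, hg, P.c_mul h, ← P.c_ne h (Ne.symm hτi), P.c_mul h, P.e_comm h]
  have o1 : f * x k * f⁻¹ = z * x k := P.q.outer_inv (ht'z j) (ht'2 j) hτ hτ1 hk
  have o2 : g * l m * g⁻¹ = t * l m := Q.q.outer_inv hgt hgg hσ hne hm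
  rw [mul_inv_eq_iff_eq_mul] at o1 o2
  have A1 : x k * f * (x k)⁻¹ = z * f := by
    rw [mul_inv_eq_iff_eq_mul]
    calc x k * f = z * (z * x k * f) := by rw [mul_assoc z (x k), P.q.zzx]
      _ = z * (f * x k) := by rw [o1]
      _ = _ := by group
  have B1 : l m * g * (l m)⁻¹ = t * g := by
    rw [mul_inv_eq_iff_eq_mul]
    calc l m * g = t * (t * l m * g) := by rw [mul_assoc t (l m), Q.q.zzx]
      _ = t * (g * l m) := by rw [o2]
      _ = _ := by group
  have hs : l m * z * (l m)⁻¹ = x k * t * (x k)⁻¹ := by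
    rw [Q.conj_t h, P.conj_t h]
    have h1 : ee t z l m = t * (z * ee z t x k) := by rw [← e6, Q.q.zzx]
    rw [h1, ← mul_assoc, hzt, mul_assoc, P.q.zzx]
  have hA : z * f ∈ RZ Om (x k * t * (x k)⁻¹) := by
    rw [← A1]; exact RZ_conj h _ (Q.c_mem h j)
  have hB : t * g ∈ RZ Om (x k * t * (x k)⁻¹) := by
    rw [← B1, ← hs]; exact RZ_conj h _ (P.c_mem h i)
  have hZ : InZ Om (x k * t * (x k)⁻¹) := P.pr.ht.conj h _
  -- `f g = t'_m g f`
  have hff : f * f = 1 := ht'2 j
  have e7 : f * g = t * ee t z l m * (g * f) := by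
    calc f * g = f * g * (f * f) := by rw [hff, mul_one]
      _ = f * g * f * f := by group
      _ = t * ee t z l m * g * f := by rw [e4]
      _ = _ := by group
  have e8 : z * f * (t * g) = t * ee t z l m * (t * g * (z * f)) := by
    have hft : f * t = t * f := ht't j
    have hmz := ht'z m
    have hmt := ht't m
    generalize t * ee t z l m = n at e7 hmz hmt
    calc z * f * (t * g) = z * (f * t) * g := by group
      _ = z * (t * f) * g := by rw [hft]
      _ = (z * t) * (f * g) := by group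
      _ = (z * t) * (n * (g * f)) := by rw [e7]
      _ = z * (t * n) * (g * f) := by group
      _ = z * (n * t) * (g * f) := by rw [hmt]
      _ = (z * n) * t * (g * f) := by group
      _ = (n * z) * t * (g * f) := by rw [hmz]
      _ = n * (z * t) * g * f := by group
      _ = n * (t * z) * g * f := by rw [hzt]
      _ = n * t * (z * g) * f := by group
      _ = n * t * (g * z) * f := by rw [hgz]
      _ = _ := by group
  rcases RZ_comm_or h hZ hA hB with h1 | h1
  · rw [e8] at h1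
    exact Q.c_ne_one h m (mul_eq_right.1 h1)
  · rw [e8, P.conj_t h] at h1
    have h2 := mul_right_cancel h1
    rw [e6] at h2
    exact P.pr.ne (mul_right_cancel h2)

/-- U2 (2) -/
theorem kind_one (P : HP Om z t K x) (Q : HP Om t z L l) (h : W2 Om) (hn : NoOne Om) (i : Fin 3) :
    z * ee z t x i ∈ CX Om t ∨ ∃ j, z * ee z t x i = t * ee t z l j := by
  obtain ⟨σ, hσ, -⟩ := P.exists_actN Q h hn i
  have h1 := P.act_one Q h hn hσ
  subst h1
  set g := z * ee z t x i with hg
  have hzt : z * t = t * z := P.pr.comm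
  have hgz : g * z = z * g := P.c_z h i
  have hgt : g * t = t * g := P.c_t h i
  have hgg : g * g = 1 := P.c_sq h i
  rcases Q.q.inner_cases (hσ.inner Q.q hgt) with h1 | ⟨j, h1⟩
  · exact Or.inl (Q.mem_CX_of h hgz h1)
  · right
    refine ⟨j, ?_⟩
    have ht'z : (t * ee t z l j) * z = z * (t * ee t z l j) := Q.c_t h j
    have ht't : (t * ee t z l j) * t = t * (t * ee t z l j) := Q.c_z h j
    have ht'2 : (t * ee t z l j) * (t * ee t z l j) = 1 := Q.c_sq h j
    have hmem : g * (t * ee t z l j) ∈ CX Om t := by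
      have h2 := mul_mem (Q.mul_e_mem h hgz h1) (z_mem_CX (Om := Om) (z := t) h)
      have e : g * ee t z l j * t = g * (t * ee t z l j) := by rw [mul_assoc, Q.e_z h]
      rwa [e] at h2
    -- `g` commutes with `l j`
    have hgl : g * l j * g⁻¹ = l j := by rw [h1 _ (Q.q.mem j), mul_inv_cancel_right]
    have hgl' : l j * g * (l j)⁻¹ = g := by
      rw [mul_inv_eq_iff_eq_mul] at hgl ⊢; exact hgl.symm
    set q0 := l j * z * (l j)⁻¹ with hq0
    have hq1 : q0 = z * ee t z l j := Q.conj_t h j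
    have hq2 : q0 = z * t * (t * ee t z l j) := by
      rw [hq1, mul_assoc, Q.q.zzx]
    have hqZ : InZ Om q0 := P.pr.hz.conj h _
    have hgq : g ∈ RZ Om q0 := by
      rw [← hgl']; exact RZ_conj h _ (P.c_mem h i)
    have hqz : z * q0 = q0 * z := by
      rw [hq1, mul_assoc, Q.e_t h]
    have hqne : z ≠ q0 := by
      rw [hq1]; exact fun h2 => Q.e_ne_one h j (mul_eq_left.1 h2.symm)
    have hsw : Sw Om z q0 := by
      rw [hq2, mul_assoc]
      exact Fx.mul_sw ((Inn.of_CX (z_mem_CX h)).fx h) (P.pr.sw'.mul_fx (Q.fx_ze h hn j))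
    have P' : HP Om z q0 K x := ⟨⟨P.pr.hz, hqZ, hqne, hqz, hsw⟩, P.hK, P.q⟩
    -- the action of `t'_j` on `x i`
    obtain ⟨τ, hτ, -⟩ := Q.exists_actN P h hn j
    have hτ1 := Q.act_one P h hn hτ
    subst hτ1
    have hqx : q0 * x i * q0⁻¹ = t * ((t * ee t z l j) * x i * (t * ee t z l j)⁻¹) * t⁻¹ := by
      rw [hq2]
      have e : ∀ f : G, z * t * f * x i * (z * t * f)⁻¹ = z * (t * (f * x i * f⁻¹) * t⁻¹) * z⁻¹ := by
        intro f; group
      rw [e, mul_inv_eq_iff_eq_mul]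
      have h5 : t * ((t * ee t z l j) * x i * (t * ee t z l j)⁻¹) * t⁻¹ ∈ cj t K :=
        conj_mem_cj (by
          have := hτ i
          rcases this with h6 | h6 <;> rw [h6]
          · exact P.q.mem _
          · exact mul_mem P.q.zmem (P.q.mem _))
      exact ((P.hK' h).comm_z h h5).symm
    rcases hτ i with h2 | h2
    · -- commuting
      simp only [Equiv.Perm.coe_one, id_eq] at h2
      have h3 : x i * (t * ee t z l j) * (x i)⁻¹ = t * ee t z l j := by
        rw [mul_inv_eq_iff_eq_mul] at h2 ⊢; exact h2.symm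
      have hxz : x i * z * (x i)⁻¹ = z := by rw [← P.q.zc i, mul_inv_cancel_right]
      have h4 : x i * q0 * (x i)⁻¹ = t * (g * (t * ee t z l j)) := by
        rw [hq2]
        calc x i * (z * t * (t * ee t z l j)) * (x i)⁻¹ =
            (x i * z * (x i)⁻¹) * (x i * t * (x i)⁻¹) * (x i * (t * ee t z l j) * (x i)⁻¹) := by group
          _ = z * (t * ee z t x i) * (t * ee t z l j) := by rw [hxz, P.conj_t h, h3]
          _ = (z * t) * ee z t x i * (t * ee t z l j) := by group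
          _ = _ := by rw [hzt, hg]; group
      have h5 : InZ Om (t * (g * (t * ee t z l j))) := by rw [← h4]; exact hqZ.conj h _
      have h6 := eq_of_CX' h P.pr.ht h5 (mul_mem (z_mem_CX h) hmem)
      have h7 : g * (t * ee t z l j) = 1 := mul_eq_left.1 h6
      rw [mul_eq_one_iff_eq_inv] at h7
      rw [h7, inv_eq_of_mul_eq_one_right ht'2]
    · exfalso
      simp only [Equiv.Perm.coe_one, id_eq] at h2
      have h3 : z * ee z q0 x i = z * g := by
        rw [← P'.xx_eq, hqx, h2]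
        have e : t * (z * x i) * t⁻¹ = z * (t * x i * t⁻¹) := by
          calc t * (z * x i) * t⁻¹ = (t * z) * x i * t⁻¹ := by group
            _ = _ := by rw [← hzt]; group
        rw [e, ← mul_assoc, ← P.q.zc, mul_assoc, P.xx_eq]
      have h4 := P'.fx_ze h hn i
      rw [h3] at h4
      have h5 : Fx Om q0 g := (Inn.of_RZ hqZ h hgq).fx h
      have h6 : Sw Om q0 (z * g) := (P'.sw_z h hn).mul_fx h5
      exact fx_sw_false hqZ h4 h6

/-- **KINDS LEMMA** -/
theorem kinds (P : HP Om z t K x) (Q : HP Om t z L l) (h : W2 Om) (hn : NoOne Om) :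
    (∀ i, z * ee z t x i ∈ CX Om t) ∨ (∀ i, ∃ j, z * ee z t x i = t * ee t z l j) := by
  have ht : ¬ InZ Om (t * z) := by
    rw [← P.pr.comm]; exact P.pr.not_inZ h hn
  -- an element of `R_z ∩ R_t ∩ X_t`
  have key : ∀ i k, z * ee z t x k = t * ee t z l i → z * ee z t x k ∈ CX Om t → False := by
    intro i k h1 h2
    rcases RTwo.RZ_inf_CX h P.pr.ht (by rw [h1]; exact Q.c_mem h i) h2 with h3 | h3
    · exact P.c_ne_one h k h3
    · exact P.pr.ne (hn.eq_of_RZ h P.pr.hz P.pr.ht (by rw [← h3]; exact P.c_mem h k)).symm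
  have hall : ∀ i k, i ≠ k → z * ee z t x i ∈ CX Om t → z * ee z t x k ∈ CX Om t := by
    intro i k hik h1
    rcases P.kind_one Q h hn k with h2 | ⟨j, h2⟩
    · exact h2
    exfalso
    have h3 := P.c_ne h hik
    rcases P.kind_one Q h hn (th3 i k) with h4 | ⟨m, h4⟩
    · apply key j k h2
      rw [← h3] at h4
      exact (mul_mem_cancel_left h1).1 h4
    · have h5 : z * ee z t x i ∈ RZ Om t := by
        have h6 : z * ee z t x i * (z * ee z t x k) ∈ RZ Om t := by rw [h3, h4]; exact Q.c_mem h m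
        exact (mul_mem_cancel_right (by rw [h2]; exact Q.c_mem h j)).1 h6
      rcases RTwo.RZ_inf_CX h P.pr.ht h5 h1 with h6 | h6
      · exact P.c_ne_one h i h6
      · exact P.pr.ne (hn.eq_of_RZ h P.pr.hz P.pr.ht (by rw [← h6]; exact P.c_mem h i)).symm
  by_cases h0 : z * ee z t x 0 ∈ CX Om t
  · left
    intro i
    by_cases hi : (0 : Fin 3) = i
    · rw [← hi]; exact h0
    · exact hall 0 i hi h0
  · right
    intro i
    rcases P.kind_one Q h hn i with h1 | h1
    · exfalso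
      by_cases hi : i = 0
      · rw [hi] at h1; exact h0 h1
      · exact h0 (hall i 0 hi h1)
    · exact h1

end HP

end

end Cfsg.Agent.Cit.Nil.RTwo
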